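import Cfsg.Agent.Mrg.Omega.ML.ExLow.NumX_m3
import Cfsg.Agent.Mrg.Omega.ML.InOf
import Cfsg.Agent.Mrg.Omega.Quasithin.Row.E27
import Cfsg.Agent.Omega.Lie.CenTwo
import Cfsg.Agent.Fischer.Fi22Order
import Cfsg.Agent.R08.X4Gamma_m3
import Cfsg.Agent.KFacts.FiTT.Final
import Cfsg.Agent.Mrg.Omega.ML.RowsList_m3
import Cfsg.Agent.Mrg.Omega.Lie.Cen.Fi22
import Cfsg.Agent.Mrg.Omega.NOThree.NoOver
import Cfsg.Agent.Omega.Lie.HeisCover
import Cfsg.Agent.KFacts.FiTF.RQ
import Cfsg.Agent.Omega.TwoF.RowM12_m3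
import Cfsg.Agent.Lib.ElemAbGL
import Cfsg.Agent.OddHalf.D8.SheetMap_m3
import Cfsg.Agent.KFacts.FiTF.QuasiBInst_mg_m3
import Cfsg.Agent.Mrg.Omega.NO3b.Closed.Base_m3
import Cfsg.Agent.SectRankFour.AutM11
import Cfsg.Agent.Mrg.Omega.TwoF.LargeRk_m3
import Cfsg.Agent.Mrg.Omega.ML.MinIrr
import Cfsg.Agent.SporadicA.OctadFix
import Cfsg.Agent.SporadicA.MathieuRecog
import Cfsg.Agent.SporadicStructure.M24IndexMain
import Cfsg.Agent.SporadicA.GolayCount
import Cfsg.Agent.OddHalf.D4.Spor.J1Out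
import Cfsg.Agent.Lib.PermCode
import Cfsg.Agent.KFacts.Co3.Sheet
import Cfsg.Agent.Lib.ComponentSolvable
import Cfsg.Agent.KFacts.Co1.CaseM_m3
import Cfsg.Agent.LieClassical.SympCount
import Cfsg.Agent.LieClassical.FieldTransfer
import Cfsg.Agent.Lib.FieldThree
import Cfsg.Agent.ClassicalGeometry.SympGamma
import Cfsg.Agent.ClassicalGeometry.SympAutExists
import Cfsg.Agent.ClassicalGeometry.SympAutRecog
import Cfsg.Agent.S0814
import Cfsg.Agent.S0269
import Cfsg.Agent.S0270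
import Cfsg.Agent.Mrg.Omega.Lie.PairRee_m3
import Cfsg.Agent.OddHalf.D8.JTwo.Sheet
import Cfsg.Agent.KFacts.CoTwo.QuotInst
import Mathlib
import Cfsg.Agent.Mrg.Omega.TwoF.Tits
import Cfsg.Agent.Omega.TwoF.TitsAut
import Cfsg.Agent.Omega.KFacts_m3
import Cfsg.Agent.TitsK.ParC_m3
import Cfsg.Agent.Mrg.Omega.TwoF.RowTh_m3
import Cfsg.Agent.Omega.KFactsZS_m3
import Cfsg.Agent.S0253
import Cfsg.Agent.S0255
import Cfsg.Agent.Mrg.Omega.ML.Ex.RedDef
import Cfsg.Prelude.Def_Classification2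
import Cfsg.Agent.FastGrp
import Cfsg.Agent.Prune
set_option linter.all false

section
prune_inst 0x7ff4bcf90db82ddeffff7e7ffef5dffe39d4dfffefdffb4bffe8e3ffaf9f23063dc5aba59de058ff0ef662b630b87813f97eca3fee6bdc7ffffd5ff45ffbee1fe5f7bd0c51d6a8340fbc6fffe3f07f8e7f3fffffffffffffffffffffffffffbeffffffffffff

-- part: Mrg/Omega/ML/RowM23
section
set_option linter.all false
open scoped Cfsg.Agent.FastGrp

-- merged: Cfsg.Agent.Mrg.Omega.ML.RowsOdd
section

/-!
# (ML), the K-list end: a subgroup of odd index of `S = X` (helper809)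

* `exists_conj_le` : a 2-subgroup `T` lies in a conjugate of every subgroup of odd index;
* `AS.card_le_of_odd_index` : `S = X`, `R < S` of odd index; if the 2-subgroups of `R` which are normal in `R` have order
  at most `n` then `|A| ≤ n`;
* `AS.card_le_of_odd_index_simple` : `R` simple and not a 2-group: `|A| ≤ 1`.
-/

set_option autoImplicit false

namespace Cfsg.Agent.Omega.ML.Rows

open Subgroup Cfsg Cfsg.Agent.ZN Cfsg.Agent.Omega.TwoF
open Cfsg.Agent.MinSimple.VModule (o2_isPGroup o2_le le_o2 le_normalizer_o2)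

universe u

variable {X : Type u} [Group X] {S T A : Subgroup X}

/-- A 2-subgroup lies in a conjugate of a subgroup of odd index. -/
theorem exists_conj_le [Finite X] {T R : Subgroup X} (hT : IsPGroup 2 T) (hR : ¬ 2 ∣ R.index) :
    ∃ g : X, ∀ t ∈ T, g⁻¹ * t * g ∈ R := by
  have hp : Fact (Nat.Prime 2) := ⟨Nat.prime_two⟩
  have h1 : (MulAction.fixedPoints T (X ⧸ R)).Nonempty :=
    hT.nonempty_fixed_point_of_prime_not_dvd_card _ hR
  obtain ⟨x, hx⟩ := h1
  obtain ⟨g, rfl⟩ := QuotientGroup.mk_surjective x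
  refine ⟨g, fun t ht => ?_⟩
  have h2 : (QuotientGroup.mk (t * g) : X ⧸ R) = QuotientGroup.mk g := hx ⟨t, ht⟩
  have h3 := QuotientGroup.eq.1 h2.symm
  rwa [← mul_assoc] at h3

/-- **A subgroup of odd index of `S = X`.** -/
theorem AS.card_le_of_odd_index [Finite X] (h : AS S T A) (hS : S = ⊤) {R : Subgroup S} (hR : ¬ 2 ∣ R.index)
    (hR1 : R ≠ ⊤) {n : ℕ} (hn : ∀ Q : Subgroup S, Q ≤ R → IsPGroup 2 Q → R ≤ normalizer (Q : Set S) → Nat.card Q ≤ n) :
    Nat.card A ≤ n := by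
  have hall : ∀ x : X, x ∈ S := fun x => hS ▸ mem_top x
  have h1 : ¬ 2 ∣ (R.map S.subtype).index := by
    have h0 : S.index = 1 := by rw [hS, index_top]
    rwa [index_map_subtype, h0, mul_one]
  obtain ⟨g, hg⟩ := exists_conj_le h.two h1
  -- the conjugate
  set R' : Subgroup X := (R.map S.subtype).comap (MulAut.conj g⁻¹).toMonoidHom with hR'
  have hmem : ∀ x : X, x ∈ R' ↔ (⟨g⁻¹ * x * g, hall _⟩ : S) ∈ R := by
    intro x
    rw [hR', mem_comap]
    constructor
    · rintro ⟨r, hr, hrx⟩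
      have h2 : (⟨g⁻¹ * x * g, hall _⟩ : S) = r := by
        apply Subtype.ext
        change (r : X) = g⁻¹ * x * g⁻¹⁻¹ at hrx
        rw [hrx, inv_inv]
      rwa [h2]
    · intro hr
      refine ⟨_, hr, ?_⟩
      show g⁻¹ * x * g = g⁻¹ * x * g⁻¹⁻¹
      rw [inv_inv]
  have hT : T ≤ R' := by
    intro t ht
    rw [hmem]
    obtain ⟨r, hr, hrx⟩ := hg t ht
    have h2 : (⟨g⁻¹ * t * g, hall _⟩ : S) = r := Subtype.ext hrx.symm
    rwa [h2]
  have hne : R' ≠ ⊤ := by
    intro h2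
    apply hR1
    rw [eq_top_iff]
    intro x _
    have h3 : g * x * g⁻¹ ∈ R' := h2 ▸ mem_top _
    rw [hmem] at h3
    have h4 : (⟨g⁻¹ * (g * x * g⁻¹) * g, hall _⟩ : S) = x := Subtype.ext (by group)
    rwa [h4] at h3
  have h2 := h.low R' hT hne
  -- the subgroup `Q`
  let f : S →* X := (MulAut.conj g).toMonoidHom.comp S.subtype
  have hf : Function.Injective f := (MulAut.conj g).injective.comp S.subtype_injective
  have hfa : ∀ x : S, f x = g * x * g⁻¹ := fun x => rfl
  have h3 : Nat.card ((o2 R').comap f) ≤ n := by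
    apply hn
    · intro x hx
      have h4 : f x ∈ R' := o2_le R' hx
      rw [hmem] at h4
      have h5 : (⟨g⁻¹ * f x * g, hall _⟩ : S) = x := Subtype.ext (by rw [hfa]; group)
      rwa [h5] at h4
    · exact (o2_isPGroup R').comap_of_injective _ hf
    · intro r hr
      have h4 : f r ∈ R' := by
        rw [hmem]
        have h5 : (⟨g⁻¹ * f r * g, hall _⟩ : S) = r := Subtype.ext (by rw [hfa]; group)
        rwa [h5]
      have h5 := mem_normalizer_iff.1 (le_normalizer_o2 R' h4)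
      rw [mem_normalizer_iff]
      intro y
      rw [mem_comap, mem_comap, map_mul, map_mul, map_inv]
      exact h5 (f y)
  have h4 : ((o2 R').comap f).map f = o2 R' := by
    refine map_comap_eq_self fun x _ => ?_
    exact ⟨⟨g⁻¹ * x * g, hall _⟩, by rw [hfa]; group⟩
  have h5 : Nat.card (o2 R') = Nat.card ((o2 R').comap f) := by
    rw [← card_map_of_injective hf, h4]
  exact (card_le_of_le h2).trans (h5 ▸ h3)

/-- **A simple subgroup of odd index.** -/
theorem AS.card_le_of_odd_index_simple [Finite X] (h : AS S T A) (hS : S = ⊤) {R : Subgroup S} (hR : ¬ 2 ∣ R.index)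
    (hR1 : R ≠ ⊤) (hs : IsSimpleGroup R) (h2 : ¬ IsPGroup 2 R) : Nat.card A ≤ 1 := by
  refine h.card_le_of_odd_index hS hR hR1 fun Q hQR hQ hN => ?_
  have h3 : (Q.subgroupOf R).Normal := by
    refine ⟨fun q hq g => ?_⟩
    exact (mem_normalizer_iff.1 (hN g.2) q).1 hq
  rcases hs.eq_bot_or_eq_top_of_normal _ h3 with h4 | h4
  · have h5 : Q = ⊥ := by
      rw [eq_bot_iff]
      intro q hq
      have h6 : (⟨q, hQR hq⟩ : R) ∈ Q.subgroupOf R := hq
      rw [h4, mem_bot] at h6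
      exact mem_bot.2 (congrArg Subtype.val h6)
    rw [h5, card_bot]
  · exact absurd (hQ.to_le (subgroupOf_eq_top.1 h4)) h2

end Cfsg.Agent.Omega.ML.Rows

end

-- merged: Cfsg.Agent.Mrg.Omega.ML.RowM23
section

/-!
# (ML), the K-list end: the row M23 (helper809)

`Aut(M23) = M23` and `M22` is a simple subgroup of index 23.
-/

set_option autoImplicit false

namespace Cfsg.Agent.Omega.ML.RowM23

open Subgroup Cfsg Cfsg.Agent.ZN Cfsg.Agent.Omega.TwoF Cfsg.Agent.Omega.ML.Rows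

universe u v

theorem exists_M22 : ∃ R : Subgroup Spor.M23, IsSimpleGroup R ∧ R.index = 23 ∧ Nat.card R = 443520 := by
  have hle : Spor.M22 ≤ Spor.M23 := Cfsg.Agent.SporadicA.MathieuRecog.M22_le
  have e := subgroupOfEquivOfLe hle
  have hs : IsSimpleGroup Spor.M22 := Cfsg.Agent.SporadicA.MathieuRecog.simple_M22
  have hc : Nat.card (Spor.M22.subgroupOf Spor.M23) = 443520 := by
    rw [Nat.card_congr e.toEquiv]
    exact Cfsg.Agent.SporadicA.MathieuRecog.card_M22
  refine ⟨Spor.M22.subgroupOf Spor.M23, e.isSimpleGroup, ?_, hc⟩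
  have h1 := (Spor.M22.subgroupOf Spor.M23).card_mul_index
  rw [hc, Cfsg.Agent.SporadicA.MathieuRecog.card_M23] at h1
  omega

/-- **The row `M23`.** -/
theorem deadG : DeadG.{u} (fun S _ => Spor.IsoM23 S) := by
  intro X _ _ S T A h hS
  have hp : Fact (Nat.Prime 2) := ⟨Nat.prime_two⟩
  have htop : S = ⊤ := h.top_of_inner fun α _ => by
    obtain ⟨k, hk⟩ := Cfsg.Agent.KFacts.M23.OutOne.exists_conj' hS α
    exact ⟨k, MulEquiv.ext fun x => hk x⟩
  obtain ⟨e⟩ := hS
  obtain ⟨R, hs, hi, hc⟩ := exists_M22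
  have e' : R.comap e.toMonoidHom ≃* R :=
    ((R.comap e.toMonoidHom).equivMapOfInjective _ e.injective).trans
      (MulEquiv.subgroupCongr (map_comap_eq_self_of_surjective e.surjective R))
  refine (h.card_le_of_odd_index_simple htop (R := R.comap e.toMonoidHom) ?_ ?_ e'.isSimpleGroup ?_).trans (by norm_num)
  · rw [index_comap_of_surjective _ e.surjective, hi]
    norm_num
  · intro h1
    have h2 := index_comap_of_surjective R (f := e.toMonoidHom) e.surjective
    rw [h1, index_top, hi] at h2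
    omega
  · intro h1
    obtain ⟨n, hn⟩ := IsPGroup.iff_card.1 h1
    rw [Nat.card_congr e'.toEquiv, hc] at hn
    have h3 : (3 : ℕ) ∣ 2 ^ n := hn ▸ by norm_num
    have h4 := Nat.Prime.dvd_of_dvd_pow Nat.prime_three h3
    omega

theorem dead : Dead.{u, v} (fun S _ => Spor.IsoM23 S) :=
  deadG.dead fun _ _ _ _ e ⟨f⟩ => ⟨e.symm.trans f⟩

end Cfsg.Agent.Omega.ML.RowM23

end
end

-- part: Mrg/Omega/ML/RowFi22
section
prune_inst 0x84202a24090000000000001080000040000001000040000151800106000690220500a00040000c000800000000000020024c00100000000000000000000000008028100001400104000001803007100000000000000000000000000000041000000000000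
set_option linter.all false
open scoped Cfsg.Agent.FastGrp

section


/-!
# (ML), the K-list end: the row `Fi22` (helper178)

* `card_le_of` : in the situation `AS S T A`: `|A| ≤ n |X : S|` if the normal 2-subgroups of `C_S(z)` have order at
  most `n`, `⟨z⟩ = Z(S₀)`, `S₀` a Sylow 2-subgroup of `S`;
* `false_of_card` : the numerical criterion with a bound `|A| ≤ 2 ^ a`;
* `dead` : the row `Fi22` (`|A| ≤ 2 ^ 12`, `|M| ≥ 2 ^ 54`).
-/

set_option autoImplicit false

namespace Cfsg.Agent.Omega.ML.RowFi22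

open Subgroup Cfsg Cfsg.Agent.ZN Cfsg.Agent.Omega.ML.Rows Cfsg.Agent.Omega.TwoF Cfsg.Agent.Omega.Lie
open Cfsg.Agent.MinSimple.VModule (o2_isPGroup o2_le le_o2 le_normalizer_o2)

universe u v w

/-! ### The bound -/

/-- **`|A| ≤ n |X : S|`.** -/
theorem card_le_of {X : Type u} [Group X] [Finite X] {S T A : Subgroup X} (h : AS S T A) {z : S} (hz1 : z ≠ 1)
    (hz : ∃ S₀ : Sylow 2 S, z ∈ S₀ ∧ (∀ x ∈ S₀, x * z = z * x) ∧ ∀ y ∈ S₀, (∀ x ∈ S₀, x * y = y * x) → y = 1 ∨ y = z)
    {n : ℕ} (hD : ∀ D : Subgroup S, (∀ y ∈ D, y * z = z * y) →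
      (∀ x : S, x * z = z * x → ∀ y ∈ D, x * y * x⁻¹ ∈ D) → IsPGroup 2 D → Nat.card D ≤ n) :
    Nat.card A ≤ n * S.index := by
  have hS := h.norm
  obtain ⟨g, hg⟩ := ShE.exists_conj hS h.two h.syl hz
  have hne : centralizer ({((g : X) * z * (g : X)⁻¹)} : Set X) ≠ ⊤ := by
    intro h1
    have h2 : (z : X) ∈ centralizer (S : Set X) := by
      rw [mem_centralizer_iff]
      intro y _
      have h3 : (g * y * (g : X)⁻¹) * (g * z * (g : X)⁻¹) = (g * z * (g : X)⁻¹) * (g * y * (g : X)⁻¹) :=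
        mem_centralizer_singleton_iff.1 (h1 ▸ mem_top _)
      calc y * (z : X) = (g : X)⁻¹ * ((g * y * (g : X)⁻¹) * (g * z * (g : X)⁻¹)) * g := by group
        _ = (g : X)⁻¹ * ((g * z * (g : X)⁻¹) * (g * y * (g : X)⁻¹)) * g := by rw [h3]
        _ = z * y := by group
    rw [h.cen, mem_bot] at h2
    exact hz1 (Subtype.ext h2)
  have hle := h.low _ hg hne
  set C := centralizer ({((g : X) * z * (g : X)⁻¹)} : Set X) with hC
  let f : S →* X := (MulAut.conj (g : X)).toMonoidHom.comp S.subtype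
  have hf : Function.Injective f := (MulAut.conj (g : X)).injective.comp S.subtype_injective
  have hfx : ∀ x : S, f x = g * x * (g : X)⁻¹ := fun x => rfl
  set D : Subgroup S := (o2 C).comap f with hDd
  have h1 : Nat.card D ≤ n := by
    apply hD
    · intro y hy
      have h2 : f y ∈ C := o2_le _ hy
      rw [hC, mem_centralizer_singleton_iff] at h2
      apply hf
      rw [map_mul, map_mul]
      exact h2
    · intro x hx y hy
      have h2 : f x ∈ C := by
        rw [hC, mem_centralizer_singleton_iff]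
        have h3 := congrArg f hx
        rw [map_mul, map_mul] at h3
        exact h3
      show f (x * y * x⁻¹) ∈ o2 C
      rw [map_mul, map_mul, map_inv]
      exact (mem_normalizer_iff.1 (le_normalizer_o2 _ h2) (f y)).1 hy
    · exact (o2_isPGroup C).comap_of_injective f hf
  have h2 : Nat.card (S ⊓ A : Subgroup X) ≤ n := by
    refine le_trans ?_ h1
    rw [← card_map_of_injective (K := D) hf]
    refine card_le_of_le ?_
    rintro a ⟨haS, haA⟩
    refine ⟨g⁻¹ * ⟨a, haS⟩ * g, ?_, ?_⟩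
    · show f (g⁻¹ * ⟨a, haS⟩ * g) ∈ o2 C
      have h3 : f (g⁻¹ * ⟨a, haS⟩ * g) = a := by
        rw [hfx]
        simp only [Subgroup.coe_mul, Subgroup.coe_inv]
        group
      rw [h3]
      exact hle haA
    · rw [hfx]
      simp only [Subgroup.coe_mul, Subgroup.coe_inv]
      group
  have h3 : S.relIndex A ≤ S.index := by
    have h4 : S.relIndex A ≤ S.relIndex ⊤ :=
      relIndex_le_of_le_right le_top (by rw [relIndex_top_right]; exact index_ne_zero_of_finite)
    rwa [relIndex_top_right] at h4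
  have h4 : S.relIndex A * Nat.card (S ⊓ A : Subgroup X) = Nat.card A := by
    have h5 := relIndex_mul_relIndex ⊥ (S ⊓ A) A bot_le inf_le_right
    rw [relIndex_bot_left, relIndex_bot_left, inf_relIndex_right, mul_comm] at h5
    exact h5
  rw [← h4, mul_comm]
  exact Nat.mul_le_mul h2 h3

/-- **The numerical criterion with a given bound for `|A|`.** -/
theorem false_of_card {H : Type u} [Group H] [Finite H] {M : Type v} [Group M] [Finite M] [MulDistribMulAction H M]
    {K T A : Subgroup H} (h : In H M K T A) {n a b : ℕ} (hA : Nat.card A ≤ 2 ^ a)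
    (hl : Heis.LB.{u, u, v} (K ⧸ center K) n) (ho : Num.OutB.{u} (K ⧸ center K) b)
    (hn : Nat.card (K ⧸ center K) ^ (a - 1) * 2 ^ ((a - 1) * (a - 1 + b)) < 2 ^ (a * n)) : False := by
  obtain ⟨a', ha'⟩ := IsPGroup.iff_card.1 (Num.isPGroup_A h)
  have h1 : a' ≤ a := by
    rwa [ha', Nat.pow_le_pow_iff_right (by norm_num)] at hA
  have h2 : 1 ≤ a' := by
    rcases Nat.eq_zero_or_pos a' with h3 | h3
    · subst h3
      have := h.eight
      rw [ha'] at this
      norm_num at this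
    · exact h3
  have hp : IsPGroup 2 M := fun m => ⟨1, by rw [pow_one, pow_two]; exact h.sq m⟩
  have h3 := Glob.over_off Nat.prime_two hp h.faith h.irr ha' (Num.overOff h)
  have h4 := Num.card_H_le h ha' ho
  have h5 := Num.lb_le h hl
  have hs : 1 ≤ Nat.card (K ⧸ center K) := Nat.card_pos
  refine Num.num hs h2 h1 (n := n) (b := b) ?_ hn
  rw [pow_mul]
  exact (Nat.pow_le_pow_left h5 _).trans (h3.trans (Nat.pow_le_pow_left h4 _))

/-! ### `Fi22` -/

/-- if the product of two elements outside `I` lies in `I` then `|A : I| ≤ 2` -/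
theorem index_le_two {B : Type*} [Group B] (I : Subgroup B) (h : ∀ a b : B, a ∉ I → b ∉ I → a * b ∈ I) :
    I.index ≤ 2 := by
  by_cases hI : I = ⊤
  · rw [hI, index_top]
    norm_num
  · obtain ⟨a, ha⟩ : ∃ a, a ∉ I := by
      by_contra hcon
      push Not at hcon
      exact hI (eq_top_iff.2 fun x _ => hcon x)
    have h2 : I.index = 2 := by
      rw [index_eq_two_iff]
      refine ⟨a, fun b => ?_⟩
      by_cases hb : b ∈ I
      · exact Or.inr ⟨hb, fun h3 => ha ((I.mul_mem_cancel_left hb).1 h3)⟩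
      · exact Or.inl ⟨h b a hb ha, hb⟩
    rw [h2]

theorem isFi22 : Cfsg.IsFi22 Spor.Fi22 :=
  ⟨Cfsg.Agent.Fischer.Fi22Order.isSimple, Cfsg.Agent.Fischer.Fi22Order.card_fi22⟩

/-- `|Out(Fi22)| ≤ 2` -/
theorem index_le {X : Type u} [Group X] (N : Subgroup X) [N.Normal] (e : N ≃* Spor.Fi22)
    (hc : centralizer (N : Set X) = ⊥) : N.index ≤ 2 := by
  have key : ∀ a : X, ∀ n : N, (MulAut.conjNormal a : MulAut N) = MulAut.conj n → a = n := by
    intro a n han
    have h1 : (n : X)⁻¹ * a ∈ centralizer (N : Set X) := by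
      rw [mem_centralizer_iff]
      intro y hy
      have h2 : a * y * a⁻¹ = (n : X) * y * (n : X)⁻¹ := by
        have h3 := congrArg (fun β : MulAut N => ((β ⟨y, hy⟩ : N) : X)) han
        exact (MulAut.conjNormal_apply a (⟨y, hy⟩ : N)).symm.trans h3
      calc y * ((n : X)⁻¹ * a) = (n : X)⁻¹ * (n * y * (n : X)⁻¹) * a := by group
        _ = (n : X)⁻¹ * (a * y * a⁻¹) * a := by rw [h2]
        _ = (n : X)⁻¹ * a * y := by group
    rw [hc, mem_bot, inv_mul_eq_one] at h1
    exact h1.symm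
  refine index_le_two N fun a b ha hb => ?_
  obtain ⟨n, hn⟩ := Cfsg.Agent.OddHalf.D8.Fi22.SylAut.mul_outer' e (MulAut.conjNormal a) (MulAut.conjNormal b)
    (fun x hx => ha (by rw [key a x hx]; exact x.2)) (fun x hx => hb (by rw [key b x hx]; exact x.2))
  rw [← map_mul] at hn
  rw [key _ n hn]
  exact n.2

theorem outB {S : Type w} [Group S] (e : S ≃* Spor.Fi22) : Num.OutB.{u} S 1 := by
  rintro X _ _ N hN ⟨f⟩ hc A - -
  exact index_le N (f.trans e) hc

/-- the normal 2-subgroups of `C(z)` have order at most `2 ^ 11` -/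
theorem card_D {S : Type u} [Group S] [Finite S] {d d' : S} {R : Subgroup S} (F : KFacts.FiTT.Facts S d d' R)
    (D : Subgroup S) (h1 : ∀ y ∈ D, y * (d * d') = d * d' * y)
    (h2 : ∀ x : S, x * (d * d') = d * d' * x → ∀ y ∈ D, x * y * x⁻¹ ∈ D) (h3 : IsPGroup 2 D) :
    Nat.card D ≤ 2 ^ 11 := by
  set P := centralizer ({d, d'} : Set S) with hP
  have mem_P : ∀ {x : S}, x ∈ P ↔ x * d = d * x ∧ x * d' = d' * x := by
    intro x
    rw [hP, mem_centralizer_iff]
    constructor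
    · intro h
      exact ⟨(h d (by simp)).symm, (h d' (by simp)).symm⟩
    · rintro ⟨h1, h2⟩ y hy
      rcases hy with rfl | hy
      · exact h1.symm
      · rw [Set.mem_singleton_iff.1 hy]
        exact h2.symm
  have h4 : D ⊓ P ≤ R := by
    apply F.O2 _ inf_le_right
    · intro g hg hg' x hx
      have hgP : g ∈ P := mem_P.2 ⟨hg, hg'⟩
      refine ⟨h2 g ?_ x hx.1, P.mul_mem (P.mul_mem hgP hx.2) (P.inv_mem hgP)⟩
      calc g * (d * d') = (g * d) * d' := by group
        _ = d * (g * d') := by rw [hg]; group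
        _ = d * d' * g := by rw [hg']; group
    · exact h3.to_le inf_le_left
  have h5 : Nat.card (D ⊓ P : Subgroup S) ≤ 2 ^ 10 := by
    rw [← F.R_card]
    exact card_le_of_le h4
  have h6 : P.relIndex D ≤ 2 := by
    apply index_le_two
    intro a b ha hb
    rw [mem_subgroupOf] at ha hb ⊢
    have ha' := (F.cz a (h1 a a.2)).resolve_left fun h => ha (mem_P.2 h)
    have hb' := (F.cz b (h1 b b.2)).resolve_left fun h => hb (mem_P.2 h)
    have e : ∀ x y w : S, x * y * x⁻¹ = w → x * y = w * x := fun x y w h => by rw [← h]; group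
    rw [mem_P, Subgroup.coe_mul]
    constructor
    · rw [mul_assoc, e _ _ _ hb'.1, ← mul_assoc, e _ _ _ ha'.2, mul_assoc]
    · rw [mul_assoc, e _ _ _ hb'.2, ← mul_assoc, e _ _ _ ha'.1, mul_assoc]
  have h7 : P.relIndex D * Nat.card (D ⊓ P : Subgroup S) = Nat.card D := by
    have h5 := relIndex_mul_relIndex ⊥ (D ⊓ P) D bot_le inf_le_left
    rw [relIndex_bot_left, relIndex_bot_left, inf_relIndex_left, mul_comm] at h5
    exact h5
  calc Nat.card D = P.relIndex D * Nat.card (D ⊓ P : Subgroup S) := h7.symm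
    _ ≤ 2 * 2 ^ 10 := Nat.mul_le_mul h6 h5
    _ = 2 ^ 11 := by norm_num

/-- the Sylow 2-subgroups of `C(z)` -/
theorem exists_syl {S : Type u} [Group S] [Finite S] {d d' : S} {R : Subgroup S} (F : KFacts.FiTT.Facts S d d' R) :
    ∃ S₀ : Sylow 2 S, d * d' ∈ S₀ ∧ (∀ x ∈ S₀, x * (d * d') = d * d' * x) ∧
      ∀ y ∈ S₀, (∀ x ∈ S₀, x * y = y * x) → y = 1 ∨ y = d * d' := by
  obtain ⟨S₀, hS₀⟩ := CenTwo.exists_sylow_le (C := centralizer ({d * d'} : Set S)) F.odd.not_two_dvd_nat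
  have hz : ∀ x ∈ S₀, x * (d * d') = d * d' * x := fun x hx => mem_centralizer_singleton_iff.1 (hS₀ hx)
  refine ⟨S₀, ?_, hz, fun y hy h => F.center_S S₀ hS₀ y hy fun x hx => (h x hx).symm⟩
  have hsq : d * d' * (d * d') = 1 := by
    calc d * d' * (d * d') = d * (d' * d) * d' := by group
      _ = d * (d * d') * d' := by rw [F.comm]
      _ = (d * d) * (d' * d') := by group
      _ = 1 := by rw [F.dd, F.dd', one_mul]
  have hz2 : IsPGroup 2 (zpowers (d * d')) := by
    rintro ⟨x, hx⟩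
    obtain ⟨i, rfl⟩ := mem_zpowers_iff.1 hx
    refine ⟨1, Subtype.ext ?_⟩
    show ((d * d') ^ i) ^ (2 ^ 1) = 1
    rw [pow_one, pow_two, ← (Commute.refl (d * d')).mul_zpow, hsq, one_zpow]
  have hcen : (S₀ : Subgroup S) ≤ normalizer (zpowers (d * d') : Set S) := by
    intro x hx
    have h1 : Commute x (d * d') := hz x hx
    rw [mem_normalizer_iff]
    intro y
    constructor
    · rintro ⟨i, rfl⟩
      refine ⟨i, ?_⟩
      have := (h1.zpow_right i).eq
      show (d * d') ^ i = x * (d * d') ^ i * x⁻¹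
      rw [this, mul_inv_cancel_right]
    · rintro ⟨i, hi⟩
      refine ⟨i, ?_⟩
      have h2 := (h1.zpow_right i).eq
      have hi' : (d * d') ^ i = x * y * x⁻¹ := hi
      show (d * d') ^ i = y
      calc (d * d') ^ i = x⁻¹ * (x * (d * d') ^ i) := by group
        _ = x⁻¹ * ((d * d') ^ i * x) := by rw [h2]
        _ = x⁻¹ * (x * y * x⁻¹ * x) := by rw [hi']
        _ = y := by group
  have hsup : IsPGroup 2 ((S₀ : Subgroup S) ⊔ zpowers (d * d') : Subgroup S) :=
    IsPGroup.to_sup_of_normal_right' S₀.isPGroup' hz2 hcen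
  have h3 := S₀.is_maximal' hsup le_sup_left
  have h4 : d * d' ∈ (S₀ : Subgroup S) ⊔ zpowers (d * d') :=
    (le_sup_right : zpowers (d * d') ≤ _) (mem_zpowers _)
  rw [h3] at h4
  exact h4

/-- **`|A| ≤ 2 ^ 12`.** -/
theorem card_le {X : Type u} [Group X] [Finite X] {S T A : Subgroup X} (h : AS S T A) (hS : Spor.IsoFi22 S) :
    Nat.card A ≤ 2 ^ 12 := by
  obtain ⟨e⟩ := hS
  obtain ⟨d, d', R, F⟩ := KFacts.FiTT.has_of_iso (K := S) ⟨e⟩
  have hz1 : d * d' ≠ 1 := by
    intro h1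
    apply F.ne
    calc d = d * (d' * d') := by rw [F.dd', mul_one]
      _ = d * d' * d' := by group
      _ = d' := by rw [h1, one_mul]
  have h1 := card_le_of h hz1 (exists_syl F) (n := 2 ^ 11) fun D hD1 hD2 hD3 => card_D F D hD1 hD2 hD3
  have := h.norm
  have h2 : S.index ≤ 2 := index_le S e h.cen
  calc Nat.card A ≤ 2 ^ 11 * S.index := h1
    _ ≤ 2 ^ 11 * 2 := Nat.mul_le_mul_left _ h2
    _ = 2 ^ 12 := by norm_num

theorem isoClosed : IsoClosed.{u} fun S _ => Spor.IsoFi22 S := by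
  rintro S S' _ _ e ⟨f⟩
  exact ⟨e.symm.trans f⟩

/-- `|M| ≥ 2 ^ 54` -/
theorem lb {S : Type u} [Group S] (hS : Spor.IsoFi22 S) : Heis.LB.{u, u, v} S 54 := by
  obtain ⟨e⟩ := hS
  have := isFi22.1
  exact (RowFiLB.lb_fi22.{u, v} (Quasithin.Row.Cox.not_comm isFi22.1 (by rw [isFi22.2]; norm_num))).congr e.symm

set_option exponentiation.threshold 1000 in
/-- **The row `Fi22`.** -/
theorem dead : Dead.{u, v} fun S _ => Spor.IsoFi22 S := by
  intro H _ _ M _ _ _ K T A h hS
  have hZ := h.normalZ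
  have h1 := card_le (h.as hZ) (isoClosed _ _ (equivZ hZ) hS)
  rw [h.card_map hZ] at h1
  have hc : Nat.card (K ⧸ center K) = 64561751654400 := by
    obtain ⟨e⟩ := hS
    rw [Nat.card_congr e.toEquiv]
    exact isFi22.2
  refine false_of_card h h1 (lb hS) ?_ (b := 1) ?_
  · obtain ⟨e⟩ := hS
    exact outB e
  · rw [hc]
    norm_num

end Cfsg.Agent.Omega.ML.RowFi22

end

section


/-!
# (ML), the K-list end: the row `Fi23` (helper702)

* `card_le_of_sub`, `deadG_of_sub` : **one overgroup of odd index**: the involutory automorphisms of `S` are inner and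
  `S ≅ Y` has a proper subgroup `C` of odd index such that every normal 2-subgroup `D` of `C` has elementary abelian
  subgroups of order at most 4 only.
* `deadG`, `dead`, `deadZ` : `Fi23`, `C = C(d) = 2.Fi22`.
-/

set_option autoImplicit false

namespace Cfsg.Agent.Omega.ML.RowFi23

open Subgroup Cfsg Cfsg.Agent.ZN Cfsg.Agent.Omega.ML.Rows
open Cfsg.Agent.MinSimple.VModule (o2_isPGroup o2_le le_o2 le_normalizer_o2)

universe u v w

/-- Sylow: an isomorphism may be chosen such that `T` is mapped into `C`. -/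
theorem exists_equiv {X : Type*} [Group X] [Finite X] {Y : Type*} [Group Y] (e : X ≃* Y) {T : Subgroup X}
    (hT : IsPGroup 2 T) {C : Subgroup Y} (hC : ¬ 2 ∣ C.index) :
    ∃ f : X ≃* Y, T ≤ C.comap f.toMonoidHom := by
  have : Fact (Nat.Prime 2) := ⟨Nat.prime_two⟩
  have h1 : ¬ 2 ∣ (C.comap e.toMonoidHom).index := by
    rwa [index_comap_of_surjective _ e.surjective]
  obtain ⟨S, hS⟩ := Cfsg.Agent.Omega.Lie.CenTwo.exists_sylow_le h1
  obtain ⟨P, hP⟩ := hT.exists_le_sylow
  obtain ⟨g, hg⟩ := MulAction.exists_smul_eq X P S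
  refine ⟨(MulAut.conj g).trans e, fun t ht => ?_⟩
  have h2 : g * t * g⁻¹ ∈ (S : Subgroup X) := by
    rw [← hg]
    exact ⟨t, hP ht, rfl⟩
  exact hS h2

/-- **One overgroup of odd index.** -/
theorem card_le_of_sub {X : Type u} [Group X] [Finite X] {S T A : Subgroup X} (h : AS S T A)
    (hi : ∀ α : MulAut S, α ^ 2 = 1 → ∃ v : S, α = MulAut.conj v) {Y : Type w} [Group Y] (e : S ≃* Y) {C : Subgroup Y}
    (hC : ¬ 2 ∣ C.index) (hC1 : C ≠ ⊤)
    (hD : ∀ D : Subgroup Y, D ≤ C → IsPGroup 2 D → (∀ c ∈ C, ∀ d ∈ D, c * d * c⁻¹ ∈ D) → ∀ B ≤ D,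
      (∀ b ∈ B, b * b = 1) → Nat.card B ≤ 4) : Nat.card A ≤ 4 := by
  have h1 : S = ⊤ := h.top_of_inner hi
  have e1 : X ≃* Y := (Subgroup.topEquiv.symm.trans (MulEquiv.subgroupCongr h1.symm)).trans e
  obtain ⟨f, hf⟩ := exists_equiv e1 h.two hC
  have h2 : C.comap f.toMonoidHom ≠ ⊤ := by
    intro h3
    apply hC1
    have h4 : (C.comap f.toMonoidHom).map f.toMonoidHom = C :=
      map_comap_eq_self_of_surjective (f := f.toMonoidHom) f.surjective C
    rw [← h4, h3]
    exact map_top_of_surjective f.toMonoidHom f.surjective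
  have h3 := h.low _ hf h2
  rw [← card_map_of_injective (K := A) (f := f.toMonoidHom) f.injective]
  refine hD ((o2 (C.comap f.toMonoidHom)).map f.toMonoidHom) ?_ ((o2_isPGroup _).map _) ?_ _ (map_mono h3) ?_
  · rw [map_le_iff_le_comap]
    exact o2_le _
  · rintro c hc _ ⟨d, hd, rfl⟩
    obtain ⟨x, rfl⟩ := f.surjective c
    have h4 := le_normalizer_o2 (C.comap f.toMonoidHom) (show x ∈ C.comap f.toMonoidHom from hc)
    exact ⟨x * d * x⁻¹, (mem_normalizer_iff.1 h4 d).1 hd, by simp only [_root_.MulEquiv.toMonoidHom_eq_coe, _root_.MonoidHom.coe_coe, _root_.map_mul, _root_.map_inv]⟩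
  · rintro _ ⟨a, ha, rfl⟩
    rw [← map_mul, h.el a ha, map_one]

theorem deadG_of_sub {𝒮 : ∀ (S : Type u) [Group S], Prop}
    (hs : ∀ (S : Type u) [Group S], Finite S → 𝒮 S →
      (∀ α : MulAut S, α ^ 2 = 1 → ∃ v : S, α = MulAut.conj v) ∧
      ∃ (Y : Type w) (_ : Group Y) (_ : S ≃* Y) (C : Subgroup Y), ¬ 2 ∣ C.index ∧ C ≠ ⊤ ∧
        ∀ D : Subgroup Y, D ≤ C → IsPGroup 2 D → (∀ c ∈ C, ∀ d ∈ D, c * d * c⁻¹ ∈ D) → ∀ B ≤ D,
          (∀ b ∈ B, b * b = 1) → Nat.card B ≤ 4) : DeadG.{u} 𝒮 := by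
  intro X _ _ S T A h hS
  obtain ⟨hi, Y, _, e, C, hC, hC1, hD⟩ := hs S inferInstance hS
  exact card_le_of_sub h hi e hC hC1 hD

/-- A normal 2-subgroup of a quasisimple group lies in the centre. -/
theorem le_center_of_quasi {G : Type*} [Group G] [Finite G] (h : IsQuasisimple G) {D : Subgroup G} [hn : D.Normal]
    (h2 : IsPGroup 2 D) : D ≤ center G := by
  have : Fact (Nat.Prime 2) := ⟨Nat.prime_two⟩
  have hs : IsSimpleGroup (G ⧸ center G) := h.2
  have h3 : (D.map (QuotientGroup.mk' (center G))).Normal := hn.map _ (QuotientGroup.mk'_surjective _)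
  rcases h3.eq_bot_or_eq_top with h4 | h4
  · rwa [Subgroup.map_eq_bot_iff, QuotientGroup.ker_mk'] at h4
  · exfalso
    have h5 : IsPGroup 2 (⊤ : Subgroup (G ⧸ center G)) := h4 ▸ h2.map _
    have h6 : IsPGroup 2 (G ⧸ center G) := h5.of_equiv Subgroup.topEquiv
    have h7 : Nontrivial (center (G ⧸ center G)) := h6.center_nontrivial
    have h8 : center (G ⧸ center G) = ⊤ :=
      (hs.eq_bot_or_eq_top_of_normal _ inferInstance).resolve_left ((nontrivial_iff_ne_bot _).1 h7)
    have h9 : _root_.commutator G ≤ center G := by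
      rw [_root_.commutator_def, commutator_le]
      intro a _ b _
      rw [← QuotientGroup.eq_one_iff, ← QuotientGroup.mk'_apply (center G), map_commutatorElement,
        commutatorElement_eq_one_iff_mul_comm]
      have h10 : (QuotientGroup.mk' (center G)) b ∈ center (G ⧸ center G) := h8 ▸ mem_top _
      exact mem_center_iff.1 h10 _
    rw [h.1.commutator_eq_top] at h9
    obtain ⟨x, hx⟩ := exists_ne (1 : G ⧸ center G)
    obtain ⟨g, rfl⟩ := QuotientGroup.mk_surjective x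
    exact hx ((QuotientGroup.eq_one_iff g).2 (h9 (mem_top g)))

/-- The subgroup form of `hD` for a quasisimple subgroup with a centre of order at most 4. -/
theorem card_le_of_quasi {Y : Type*} [Group Y] [Finite Y] {C : Subgroup Y} (h : IsQuasisimple C)
    (hz : Nat.card (center C) ≤ 4) (D : Subgroup Y) (hDC : D ≤ C) (hD2 : IsPGroup 2 D)
    (hDn : ∀ c ∈ C, ∀ d ∈ D, c * d * c⁻¹ ∈ D) (B : Subgroup Y) (hB : B ≤ D) : Nat.card B ≤ 4 := by
  have h1 : (D.subgroupOf C).Normal := ⟨fun d hd c => hDn c c.2 d hd⟩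
  have h2 : IsPGroup 2 (D.subgroupOf C) := hD2.comap_subtype
  have h3 := le_center_of_quasi h h2
  have h4 : Nat.card (D.subgroupOf C) = Nat.card D := Nat.card_congr (subgroupOfEquivOfLe hDC).toEquiv
  calc Nat.card B ≤ Nat.card D := card_le_of_le hB
    _ = Nat.card (D.subgroupOf C) := h4.symm
    _ ≤ Nat.card (center C) := card_le_of_le h3
    _ ≤ 4 := hz

theorem iso : IsoClosed.{u} (fun S _ => Spor.IsoFi23 S) := by
  rintro S S' _ _ e ⟨f⟩
  exact ⟨e.symm.trans f⟩

open Cfsg.Agent.Fischer Cfsg.Agent.Fischer.Fi23Hom Cfsg.Agent.Fischer.Fi23Class Cfsg.Agent.Fischer.Fi23Z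
open Cfsg.Agent.KFacts.FiTTh

/-- **The group-theoretic row `Fi23`.** -/
theorem deadG : DeadG.{u} (fun S _ => Spor.IsoFi23 S) := by
  refine deadG_of_sub.{u, 0} ?_
  rintro S _ _ ⟨e⟩
  have hf : Finite Spor.Fi23 := Cfsg.Agent.Omega.Lie.Cen.finite_fi23
  refine ⟨fun α _ => ?_, Spor.Fi23, inferInstance, e, K,
    Cfsg.Agent.Omega.Lie.Cen.index_K, ?_, fun D h1 h2 h3 B h4 _ => ?_⟩
  · obtain ⟨g, hg⟩ := Has.inn ((e.symm.trans α).trans e)
    refine ⟨e.symm g, ?_⟩
    ext s
    have h1 := congrArg (fun β : MulAut Spor.Fi23 => e.symm (β (e s))) hg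
    simpa only [_root_.MulAut.conj_apply, _root_.MulEquiv.trans_apply, _root_.MulEquiv.symm_apply_apply, _root_.map_mul, _root_.map_inv] using h1
  · intro h1
    have h2 := Cfsg.Agent.SporRec.Fi23Index.index_H
    rw [show Cfsg.Agent.SporRec.Fi23Index.H = ⊤ from h1, index_top] at h2
    norm_num at h2
  · exact card_le_of_quasi Quasi.qs_K (by rw [Quasi.cover.1]; norm_num) D h1 h2 h3 B h4

/-- **field `fi23` of `RowsML`** -/
theorem deadZ : Cfsg.Agent.Omega.ML.LocRow.DeadZ.{u, v} @Spor.IsoFi23 := DeadG.deadZ iso deadG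

end Cfsg.Agent.Omega.ML.RowFi23

end

section


/-!
# (ML), the K-list end: THEOREM EX, the module part (helper987)

* `TrivOn G E n` : `E ≤ G` acts trivially on all `G`-modules (elementary abelian 2-groups) of order at most `n`;
* `core` : a 2-group `Q` normal in `G`, all of whose proper `E`-invariant subgroups have index at least `2 ^ (2w)`, acts
  trivially on every `G`-module of order at most `2 ^ (2w)` if `TrivOn G E (2 ^ w)`;
* `trivOn_of_lb` : `TrivOn L ⊤` for a perfect group `L` which is a cover of a simple group modulo a normal 2-subgroup.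
-/

set_option autoImplicit false

namespace Cfsg.Agent.Omega.ML.ExCore

open Subgroup Cfsg.Agent.Omega.NOThree.NoOver

universe u v w u'

/-- `E` acts trivially on all elementary abelian 2-groups of order at most `n` with an action of `L` -/
def TrivOn (L : Type u) [Group L] (E : Subgroup L) (n : ℕ) : Prop :=
  ∀ (V : Type v) [Group V] [Finite V] [MulDistribMulAction L V], (∀ x : V, x * x = 1) → Nat.card V ≤ n →
    ∀ l ∈ E, ∀ x : V, l • x = x

section act

variable {L : Type u} [Group L] {N : Type v} [Group N] [MulDistribMulAction L N]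

/-- the action on an invariant subgroup -/
abbrev subA (V : Subgroup N) (hV : ∀ (l : L), ∀ x ∈ V, l • x ∈ V) : MulDistribMulAction L V where
  smul l x := ⟨l • (x : N), hV l x x.2⟩
  one_smul x := Subtype.ext (one_smul L (x : N))
  mul_smul l k x := Subtype.ext (mul_smul l k (x : N))
  smul_mul l x y := Subtype.ext (smul_mul' l (x : N) y)
  smul_one l := Subtype.ext (smul_one l)

/-- the action on a quotient -/
abbrev quoA (U : Subgroup N) [U.Normal] (hU : ∀ (l : L), ∀ x ∈ U, l • x ∈ U) : MulDistribMulAction L (N ⧸ U) where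
  smul l := QuotientGroup.map U U (MulDistribMulAction.toMonoidHom N l) fun x hx => hU l x hx
  one_smul q := by
    obtain ⟨x, rfl⟩ := QuotientGroup.mk_surjective q
    exact congrArg (QuotientGroup.mk (s := U)) (one_smul L x)
  mul_smul l k q := by
    obtain ⟨x, rfl⟩ := QuotientGroup.mk_surjective q
    exact congrArg (QuotientGroup.mk (s := U)) (mul_smul l k x)
  smul_mul l p q := map_mul (QuotientGroup.map U U (MulDistribMulAction.toMonoidHom N l) fun x hx => hU l x hx) p q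
  smul_one l := map_one (QuotientGroup.map U U (MulDistribMulAction.toMonoidHom N l) fun x hx => hU l x hx)

theorem comm_of_sq (sq : ∀ x : N, x * x = 1) (a b : N) : a * b = b * a := by
  have h1 := sq (a * b)
  have h2 : a⁻¹ = a := inv_eq_of_mul_eq_one_right (sq a)
  have h3 : b⁻¹ = b := inv_eq_of_mul_eq_one_right (sq b)
  calc a * b = (a * b)⁻¹ := (inv_eq_of_mul_eq_one_right h1).symm
    _ = b⁻¹ * a⁻¹ := mul_inv_rev a b
    _ = b * a := by rw [h2, h3]

theorem normal_of_sq (sq : ∀ x : N, x * x = 1) (U : Subgroup N) : U.Normal :=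
  ⟨fun u hu g => by rwa [comm_of_sq sq g u, mul_inv_cancel_right]⟩

theorem TrivOn.mono {E : Subgroup L} {m n : ℕ} (h : TrivOn.{u, v} L E n) (hmn : m ≤ n) : TrivOn.{u, v} L E m :=
  fun V _ _ _ h2 hc => h V h2 (hc.trans hmn)

/-- the property for sections -/
theorem TrivOn.sec [Finite N] {E : Subgroup L} {n : ℕ} (h : TrivOn.{u, v} L E n) (sq : ∀ x : N, x * x = 1)
    {U V : Subgroup N} (hU : ∀ (l : L), ∀ x ∈ U, l • x ∈ U) (hV : ∀ (l : L), ∀ x ∈ V, l • x ∈ V) (hc : U.relIndex V ≤ n)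
    {l : L} (hl : l ∈ E) {x : N} (hx : x ∈ V) : l • x * x⁻¹ ∈ U := by
  let _ := subA V hV
  have hn : (U.subgroupOf V).Normal := normal_of_sq (fun x => Subtype.ext (sq x)) _
  let _ := quoA (L := L) (U.subgroupOf V) (fun l x hx => hU l x hx)
  have h1 := h (V ⧸ U.subgroupOf V) (by
    intro q
    obtain ⟨y, rfl⟩ := QuotientGroup.mk_surjective q
    exact congrArg (QuotientGroup.mk (s := U.subgroupOf V)) (Subtype.ext (sq y))) hc l hl
    (QuotientGroup.mk (⟨x, hx⟩ : V))
  have h2 : (QuotientGroup.mk (l • (⟨x, hx⟩ : V)) : V ⧸ U.subgroupOf V) = QuotientGroup.mk (⟨x, hx⟩ : V) := h1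
  rw [eq_comm, QuotientGroup.eq] at h2
  have h3 : x⁻¹ * l • x ∈ U := h2
  rwa [comm_of_sq sq] at h3

/-- `[V, Q]` -/
def br (N : Type v) [Group N] [MulDistribMulAction L N] (Q : Subgroup L) (V : Subgroup N) : Subgroup N :=
  _root_.Subgroup.closure {x | ∃ q ∈ Q, ∃ y ∈ V, x = q • y * y⁻¹}

theorem mem_br {Q : Subgroup L} {V : Subgroup N} {q : L} (hq : q ∈ Q) {y : N} (hy : y ∈ V) :
    q • y * y⁻¹ ∈ br N Q V := subset_closure ⟨q, hq, y, hy, rfl⟩

theorem br_le_iff {Q : Subgroup L} {V W : Subgroup N} : br N Q V ≤ W ↔ ∀ q ∈ Q, ∀ y ∈ V, q • y * y⁻¹ ∈ W := by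
  rw [br, closure_le]
  constructor
  · intro h q hq y hy
    exact h ⟨q, hq, y, hy, rfl⟩
  · rintro h _ ⟨q, hq, y, hy, rfl⟩
    exact h q hq y hy

theorem br_le {Q : Subgroup L} {V : Subgroup N} (hV : ∀ q ∈ Q, ∀ x ∈ V, q • x ∈ V) : br N Q V ≤ V :=
  br_le_iff.2 fun q hq y hy => V.mul_mem (hV q hq y hy) (V.inv_mem hy)

theorem smul_mem_br {Q : Subgroup L} (hQ : Q.Normal) {V : Subgroup N} (hV : ∀ (l : L), ∀ x ∈ V, l • x ∈ V) (l : L)
    {x : N} (hx : x ∈ br N Q V) : l • x ∈ br N Q V := by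
  have h1 : br N Q V ≤ (br N Q V).comap (MulDistribMulAction.toMonoidHom N l) := by
    rw [br_le_iff]
    intro q hq y hy
    rw [mem_comap]
    have h2 := mem_br (hQ.conj_mem q hq l) (hV l y hy)
    have h3 : (l * q * l⁻¹) • (l • y) = l • (q • y) := by rw [mul_smul, mul_smul, inv_smul_smul]
    rw [h3] at h2
    change l • (q • y * y⁻¹) ∈ _
    rwa [smul_mul', smul_inv']
  exact h1 hx

/-- the elements `q ∈ Q` with `[n, q] ∈ U` -/
def dn (Q : Subgroup L) (U : Subgroup N) (hU : ∀ q ∈ Q, ∀ x ∈ U, q • x ∈ U) (n : N) : Subgroup L where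
  carrier := {q | q ∈ Q ∧ q • n * n⁻¹ ∈ U}
  one_mem' := ⟨Q.one_mem, by rw [one_smul, mul_inv_cancel]; exact U.one_mem⟩
  mul_mem' := fun {a b} ha hb => ⟨Q.mul_mem ha.1 hb.1, by
    have h1 := U.mul_mem (hU a ha.1 _ hb.2) ha.2
    rwa [smul_mul', smul_inv', ← mul_assoc, inv_mul_cancel_right, ← mul_smul] at h1⟩
  inv_mem' := fun {a} ha => ⟨Q.inv_mem ha.1, by
    have h1 := U.inv_mem (hU a⁻¹ (Q.inv_mem ha.1) _ ha.2)
    rwa [smul_mul', smul_inv', inv_smul_smul, mul_inv_rev, inv_inv] at h1⟩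

theorem mem_dn {Q : Subgroup L} {U : Subgroup N} {hU : ∀ q ∈ Q, ∀ x ∈ U, q • x ∈ U} {n : N} {q : L} :
    q ∈ dn Q U hU n ↔ q ∈ Q ∧ q • n * n⁻¹ ∈ U := Iff.rfl

/-- `[n, Q] ≤ W` implies `|Q : dn| ≤ |W : U|` -/
theorem relIndex_dn_le [Finite L] [Finite N] (sq : ∀ x : N, x * x = 1) {Q : Subgroup L} {U W : Subgroup N}
    (hU : ∀ q ∈ Q, ∀ x ∈ U, q • x ∈ U) {n : N} (hn : ∀ q ∈ Q, q • n * n⁻¹ ∈ W)
    (hW : ∀ q ∈ Q, ∀ x ∈ W, q • x * x⁻¹ ∈ U) : (dn Q U hU n).relIndex Q ≤ U.relIndex W := by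
  have hUn := normal_of_sq sq U
  let f : Q →* N ⧸ U :=
    { toFun := fun q => QuotientGroup.mk ((q : L) • n * n⁻¹)
      map_one' := by
        change (QuotientGroup.mk ((1 : L) • n * n⁻¹) : N ⧸ U) = 1
        rw [one_smul, mul_inv_cancel]
        rfl
      map_mul' := fun a b => by
        change (QuotientGroup.mk (((a : L) * (b : L)) • n * n⁻¹) : N ⧸ U) =
          QuotientGroup.mk ((a : L) • n * n⁻¹) * QuotientGroup.mk ((b : L) • n * n⁻¹)
        have h1 := hW a a.2 _ (hn b b.2)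
        have h2 : ((a : L) * (b : L)) • n * n⁻¹ =
            ((a : L) • ((b : L) • n * n⁻¹) * ((b : L) • n * n⁻¹)⁻¹) *
              (((a : L) • n * n⁻¹) * ((b : L) • n * n⁻¹)) := by
          rw [comm_of_sq sq ((a : L) • n * n⁻¹), ← mul_assoc, inv_mul_cancel_right, smul_mul', smul_inv', ← mul_assoc,
            inv_mul_cancel_right, ← mul_smul]
        rw [h2, QuotientGroup.mk_mul, (QuotientGroup.eq_one_iff _).2 h1, one_mul, QuotientGroup.mk_mul] }
  have hk : f.ker = (dn Q U hU n).subgroupOf Q := by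
    ext q
    rw [MonoidHom.mem_ker, mem_subgroupOf, mem_dn]
    change (QuotientGroup.mk ((q : L) • n * n⁻¹) : N ⧸ U) = 1 ↔ _
    rw [QuotientGroup.eq_one_iff]
    exact ⟨fun h => ⟨q.2, h⟩, fun h => h.2⟩
  have h3 : (dn Q U hU n).relIndex Q = Nat.card f.range := by
    rw [relIndex, ← hk, index_ker]
  have h4 : f.range ≤ W.map (QuotientGroup.mk' U) := by
    rintro _ ⟨q, rfl⟩
    exact ⟨(q : L) • n * n⁻¹, hn q q.2, rfl⟩
  rw [h3]
  refine (card_le_of_le h4).trans ?_
  have h5 := relIndex_ker W (QuotientGroup.mk' U)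
  rw [QuotientGroup.ker_mk'] at h5
  exact h5.ge

/-- the elements `n` with `[n, q] ∈ U` -/
def cn (sq : ∀ x : N, x * x = 1) (q : L) (U : Subgroup N) : Subgroup N where
  carrier := {n | q • n * n⁻¹ ∈ U}
  one_mem' := by
    change q • (1 : N) * 1⁻¹ ∈ U
    rw [smul_one, one_mul, inv_one]
    exact U.one_mem
  mul_mem' := fun {a b} ha hb => by
    change q • (a * b) * (a * b)⁻¹ ∈ U
    have h1 : q • (a * b) * (a * b)⁻¹ = (q • a * a⁻¹) * (q • b * b⁻¹) := by
      rw [smul_mul', mul_inv_rev, comm_of_sq sq b⁻¹, mul_assoc, mul_assoc, ← mul_assoc (q • b),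
        comm_of_sq sq (q • b), mul_assoc]
    rw [h1]
    exact U.mul_mem ha hb
  inv_mem' := fun {a} ha => by
    change q • a⁻¹ * a⁻¹⁻¹ ∈ U
    have h1 := U.inv_mem ha
    rw [mul_inv_rev, ← smul_inv', comm_of_sq sq] at h1
    exact h1

/-- a fixed point in a section -/
theorem exists_fix [Finite N] (sq : ∀ x : N, x * x = 1) {Q : Subgroup L} (h2 : IsPGroup 2 Q) {X V : Subgroup N}
    (hX : ∀ q ∈ Q, ∀ x ∈ X, q • x ∈ X) (hV : ∀ q ∈ Q, ∀ x ∈ V, q • x ∈ V) (hlt : X < V) :
    ∃ v ∈ V, v ∉ X ∧ ∀ q ∈ Q, q • v * v⁻¹ ∈ X := by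
  have : Fact (Nat.Prime 2) := ⟨Nat.prime_two⟩
  let _ : MulDistribMulAction Q V := subA (L := Q) V fun q x hx => hV q q.2 x hx
  have hn : (X.subgroupOf V).Normal := normal_of_sq (fun x => Subtype.ext (sq x)) _
  let _ : MulDistribMulAction Q (V ⧸ X.subgroupOf V) :=
    quoA (L := Q) (X.subgroupOf V) (fun q x hx => hX q q.2 x hx)
  have hsq : ∀ q : V ⧸ X.subgroupOf V, q ^ 2 = 1 := by
    intro q
    obtain ⟨y, rfl⟩ := QuotientGroup.mk_surjective q
    rw [pow_two]
    exact congrArg (QuotientGroup.mk (s := X.subgroupOf V)) (Subtype.ext (sq y))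
  have hne : Nat.card (V ⧸ X.subgroupOf V) ≠ 1 := by
    intro h
    have h1 : X.relIndex V = 1 := h
    rw [relIndex_eq_one] at h1
    exact absurd h1 (not_le_of_gt hlt)
  have hcard : 2 ∣ Nat.card (V ⧸ X.subgroupOf V) := by
    have hp : IsPGroup 2 (V ⧸ X.subgroupOf V) := fun q => ⟨1, by rw [pow_one]; exact hsq q⟩
    obtain ⟨k, hk⟩ := IsPGroup.iff_card.1 hp
    rw [hk]
    refine dvd_pow_self 2 ?_
    rintro rfl
    exact hne (by rw [hk, pow_zero])
  obtain ⟨b, hb1, hb2⟩ := h2.exists_fixed_point_of_prime_dvd_card_of_fixed_point (α := V ⧸ X.subgroupOf V) hcard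
    (a := 1) (fun q => smul_one q)
  obtain ⟨v, rfl⟩ := QuotientGroup.mk_surjective b
  refine ⟨v, v.2, fun hv => hb2 ?_, fun q hq => ?_⟩
  · exact ((QuotientGroup.eq_one_iff v).2 hv).symm
  · have h3 := hb1 ⟨q, hq⟩
    have h4 : (QuotientGroup.mk ((⟨q, hq⟩ : Q) • v) : V ⧸ X.subgroupOf V) = QuotientGroup.mk v := h3
    rw [eq_comm, QuotientGroup.eq] at h4
    have h5 : (v : N)⁻¹ * q • (v : N) ∈ X := h4
    rwa [comm_of_sq sq] at h5

/-- a maximal invariant subgroup -/
theorem exists_max [Finite N] {p : Subgroup N → Prop} {X₀ V : Subgroup N} (h0 : p X₀) (hlt : X₀ < V) :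
    ∃ X, X₀ ≤ X ∧ p X ∧ X < V ∧ ∀ Y, X < Y → p Y → ¬ Y < V := by
  obtain ⟨X, hX, hm⟩ := Set.exists_max_image {X : Subgroup N | X₀ ≤ X ∧ p X ∧ X < V} (fun X => Nat.card X)
    (Set.toFinite _) ⟨X₀, le_rfl, h0, hlt⟩
  refine ⟨X, hX.1, hX.2.1, hX.2.2, fun Y hXY hpY hYV => ?_⟩
  have h1 := hm Y ⟨hX.1.trans hXY.le, hpY, hYV⟩
  exact absurd (eq_of_le_of_card_ge hXY.le h1) hXY.ne

theorem le_sup_zpowers (X : Subgroup N) (v : N) : v ∈ X ⊔ zpowers v := (le_sup_right : zpowers v ≤ _) (mem_zpowers v)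

/-- `[V, Q] < V` -/
theorem br_ne [Finite N] (sq : ∀ x : N, x * x = 1) {Q : Subgroup L} (h2 : IsPGroup 2 Q) {V : Subgroup N}
    (hV : ∀ q ∈ Q, ∀ x ∈ V, q • x ∈ V) (hne : V ≠ ⊥) : br N Q V ≠ V := by
  obtain ⟨X, -, hX, hXV, hmax⟩ := exists_max (p := fun X : Subgroup N => ∀ q ∈ Q, ∀ x ∈ X, q • x ∈ X) (X₀ := ⊥) (V := V)
    (fun q _ x hx => by rw [mem_bot.1 hx, smul_one]; exact one_mem _) (bot_lt_iff_ne_bot.2 hne)
  obtain ⟨v, hv, hvX, hf⟩ := exists_fix sq h2 hX hV hXV
  have hlt : X < X ⊔ zpowers v := lt_of_le_of_ne le_sup_left fun h => hvX (h ▸ le_sup_zpowers X v)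
  have hle : X ⊔ zpowers v ≤ V := sup_le hXV.le (zpowers_le.2 hv)
  have hcn : ∀ q ∈ Q, X ⊔ zpowers v ≤ cn sq q X := fun q hq =>
    sup_le (fun x hx => X.mul_mem (hX q hq x hx) (X.inv_mem hx)) (zpowers_le.2 (hf q hq))
  have hinv : ∀ q ∈ Q, ∀ x ∈ X ⊔ zpowers v, q • x ∈ X ⊔ zpowers v := by
    intro q hq x hx
    have h1 : q • x * x⁻¹ ∈ X ⊔ zpowers v := hlt.le (hcn q hq hx)
    have h2 := mul_mem h1 hx
    rwa [inv_mul_cancel_right] at h2
  have hV' : X ⊔ zpowers v = V := by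
    by_contra h
    exact hmax _ hlt hinv (lt_of_le_of_ne hle h)
  intro h
  have h3 : br N Q V ≤ X := by
    rw [br_le_iff, ← hV']
    exact fun q hq y hy => hcn q hq hy
  rw [h] at h3
  exact absurd h3 (not_le_of_gt hXV)

/-- the elements `q ∈ Q` with `[V, q] ≤ U` -/
def dv (Q : Subgroup L) (U : Subgroup N) (hU : ∀ q ∈ Q, ∀ x ∈ U, q • x ∈ U) (V : Subgroup N) : Subgroup L :=
  Q ⊓ ⨅ n ∈ V, dn Q U hU n

theorem mem_dv {Q : Subgroup L} {U : Subgroup N} {hU : ∀ q ∈ Q, ∀ x ∈ U, q • x ∈ U} {V : Subgroup N} {q : L} :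
    q ∈ dv Q U hU V ↔ q ∈ Q ∧ ∀ n ∈ V, q • n * n⁻¹ ∈ U := by
  simp only [dv, mem_inf, mem_iInf, mem_dn]
  exact ⟨fun h => ⟨h.1, fun n hn => (h.2 n hn).2⟩, fun h => ⟨h.1, fun n hn => ⟨h.1, h.2 n hn⟩⟩⟩

/-- the bound `|Q : dv| ≤ |V : N₁|` -/
theorem relIndex_dv_le [Finite L] [Finite N] (sq : ∀ x : N, x * x = 1) {Q : Subgroup L} {Y N₁ : Subgroup N}
    (hY : ∀ q ∈ Q, ∀ x ∈ Y, q • x ∈ Y) (hN : ∀ (n : N), ∀ q ∈ Q, q • n * n⁻¹ ∈ N₁)
    (h1 : ∀ q ∈ Q, ∀ x ∈ N₁, q • x * x⁻¹ ∈ Y) (hY2 : Y.relIndex N₁ ≤ 2) (V : Subgroup N) (hV : N₁ ≤ V) :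
    (dv Q Y hY V).relIndex Q ≤ N₁.relIndex V := by
  induction h : Nat.card V using Nat.strong_induction_on generalizing V with
  | _ k ih =>
    rcases hV.eq_or_lt with rfl | hlt
    · rw [relIndex_self]
      have h2 : Q ≤ dv Q Y hY N₁ := fun q hq => mem_dv.2 ⟨hq, h1 q hq⟩
      rw [relIndex_eq_one.2 h2]
    · obtain ⟨V₀, h0, -, h0V, hmax⟩ := exists_max (p := fun _ => True) (X₀ := N₁) (V := V) trivial hlt
      obtain ⟨v, hv, hv0⟩ := SetLike.exists_of_lt h0V
      have hsup : V ≤ V₀ ⊔ zpowers v := by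
        by_contra hc
        have h2 : V₀ < V₀ ⊔ zpowers v := lt_of_le_of_ne le_sup_left fun h => hv0 (h ▸ le_sup_zpowers V₀ v)
        have h3 : V₀ ⊔ zpowers v ≤ V := sup_le h0V.le (zpowers_le.2 hv)
        exact hmax _ h2 trivial (lt_of_le_of_ne h3 fun h4 => hc h4.ge)
      have hc : Nat.card V₀ < k := by
        rw [← h]
        by_contra hc
        exact absurd (eq_of_le_of_card_ge h0V.le (not_lt.1 hc)) h0V.ne
      have h2 := ih _ hc V₀ h0 rfl
      have h3 : (dn Q Y hY v).relIndex Q ≤ 2 := (relIndex_dn_le sq hY (hN v) h1).trans hY2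
      have h4 : dv Q Y hY V₀ ⊓ dn Q Y hY v ≤ dv Q Y hY V := by
        intro q hq
        have hq0 := (mem_dv.1 hq.1).1
        refine mem_dv.2 ⟨hq0, fun n hn => ?_⟩
        have h5 : V₀ ⊔ zpowers v ≤ cn sq q Y := sup_le (fun x hx => (mem_dv.1 hq.1).2 x hx)
          (zpowers_le.2 hq.2.2)
        exact h5 (hsup hn)
      have h5 : 2 ≤ V₀.relIndex V := by
        have h6 : V₀.relIndex V ≠ 0 := relIndex_ne V₀ V
        have h7 : V₀.relIndex V ≠ 1 := fun h8 => absurd (relIndex_eq_one.1 h8) (not_le_of_gt h0V)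
        omega
      calc (dv Q Y hY V).relIndex Q ≤ (dv Q Y hY V₀ ⊓ dn Q Y hY v).relIndex Q := by
            exact relIndex_le_of_le_left h4 (relIndex_ne _ _)
        _ ≤ (dv Q Y hY V₀).relIndex Q * (dn Q Y hY v).relIndex Q := relIndex_inf_le
        _ ≤ N₁.relIndex V₀ * V₀.relIndex V := Nat.mul_le_mul h2 (h3.trans h5)
        _ = N₁.relIndex V := relIndex_mul_relIndex _ _ _ h0 h0V.le

/-- **The module part of THEOREM EX** -/
theorem core [Finite L] [Finite N] (sq : ∀ x : N, x * x = 1) {Q E : Subgroup L} (hQ : Q.Normal) (h2 : IsPGroup 2 Q)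
    {w : ℕ} (hN : Nat.card N ≤ 2 ^ (2 * w))
    (irr : ∀ D ≤ Q, (∀ l ∈ E, ∀ q ∈ D, l * q * l⁻¹ ∈ D) → 2 ^ (2 * w) ≤ D.relIndex Q ∨ D = Q)
    (tr : TrivOn.{u, v} L E (2 ^ w)) : ∀ q ∈ Q, ∀ n : N, q • n = n := by
  by_contra hcon
  push Not at hcon
  obtain ⟨q₀, hq₀, n₀, hn₀⟩ := hcon
  obtain ⟨N₁, hN₁⟩ : ∃ N₁, N₁ = br N Q ⊤ := ⟨_, rfl⟩
  have hinv1 : ∀ (l : L), ∀ x ∈ N₁, l • x ∈ N₁ := by
    rw [hN₁]
    exact fun l x hx => smul_mem_br hQ (fun _ _ _ => mem_top _) l hx
  obtain ⟨N₂, hN₂⟩ : ∃ N₂, N₂ = br N Q N₁ := ⟨_, rfl⟩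
  have hinv2 : ∀ (l : L), ∀ x ∈ N₂, l • x ∈ N₂ := by
    rw [hN₂]
    exact fun l x hx => smul_mem_br hQ hinv1 l hx
  have hb1 : ∀ q ∈ Q, ∀ n : N, q • n * n⁻¹ ∈ N₁ := fun q hq n => by
    rw [hN₁]; exact mem_br hq (mem_top n)
  have hb2 : ∀ q ∈ Q, ∀ n ∈ N₁, q • n * n⁻¹ ∈ N₂ := fun q hq n hn => by
    rw [hN₂]; exact mem_br hq hn
  have hne1 : N₁ ≠ ⊥ := by
    intro h
    have h1 := hb1 q₀ hq₀ n₀
    rw [h, mem_bot, mul_inv_eq_one] at h1
    exact hn₀ h1
  have htop : (⊤ : Subgroup N) ≠ ⊥ := fun h => hne1 (le_bot_iff.1 (h ▸ le_top))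
  have hne2 : N₁ ≠ ⊤ := by
    rw [hN₁]
    exact br_ne sq h2 (fun _ _ _ _ => mem_top _) htop
  have hlt2 : N₂ < N₁ := by
    refine lt_of_le_of_ne ?_ ?_
    · rw [hN₂]
      exact br_le fun q _ x hx => hinv1 q x hx
    · rw [hN₂]
      exact br_ne sq h2 (fun q _ x hx => hinv1 q x hx) hne1
  have hcard := card_mul_index N₁
  have hi : 2 ≤ N₁.index := by
    have h3 : N₁.index ≠ 0 := index_ne_zero_of_finite
    have h4 : N₁.index ≠ 1 := fun e => hne2 (index_eq_one.1 e)
    omega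
  have hc : 2 ≤ Nat.card N₁ := (one_lt_card_iff_ne_bot N₁).2 hne1
  have hc1 : Nat.card N₁ < 2 ^ (2 * w) := by
    refine lt_of_lt_of_le ?_ hN
    rw [← hcard]
    nlinarith only [hi, hc]
  have hi1 : N₁.index < 2 ^ (2 * w) := by
    refine lt_of_lt_of_le ?_ hN
    rw [← hcard]
    nlinarith only [hi, hc]
  by_cases hcase : N₁.index ≤ 2 ^ w
  · -- `L` is trivial on `N / N₁`
    have htr : ∀ l ∈ E, ∀ x : N, l • x * x⁻¹ ∈ N₁ := fun l hl x =>
      tr.sec sq hinv1 (V := ⊤) (fun _ _ _ => mem_top _) (by rwa [relIndex_top_right]) hl (mem_top x)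
    obtain ⟨n, q₁, hq₁, hn⟩ : ∃ n : N, ∃ q ∈ Q, q • n * n⁻¹ ∉ N₂ := by
      by_contra hc
      push Not at hc
      have h3 : N₁ ≤ N₂ := by
        rw [hN₁, br_le_iff]
        exact fun q hq y _ => hc y q hq
      exact absurd h3 (not_le_of_gt hlt2)
    have hU : ∀ q ∈ Q, ∀ x ∈ N₂, q • x ∈ N₂ := fun q _ x hx => hinv2 q x hx
    have hD : ∀ l ∈ E, ∀ q ∈ dn Q N₂ hU n, l * q * l⁻¹ ∈ dn Q N₂ hU n := by
      refine fun l hl q hq => ⟨hQ.conj_mem q hq.1 l, ?_⟩
      have h3 := hb2 q hq.1 _ (htr l⁻¹ (E.inv_mem hl) n)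
      have h4 : l⁻¹ • n = (l⁻¹ • n * n⁻¹) * n := by group
      have h5 : q • (l⁻¹ • n) * (l⁻¹ • n)⁻¹ ∈ N₂ := by
        have h6 : (l⁻¹ • n * n⁻¹) * n ∈ cn sq q N₂ := mul_mem h3 hq.2
        rw [← h4] at h6
        exact h6
      have h7 := hinv2 l _ h5
      rw [smul_mul', smul_inv', smul_inv_smul, ← mul_smul, ← mul_smul] at h7
      exact h7
    rcases irr (dn Q N₂ hU n) (fun q hq => hq.1) hD with h3 | h3
    · have h4 := relIndex_dn_le sq hU (W := N₁) (fun q hq => hb1 q hq n) hb2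
      have h5 : N₂.relIndex N₁ ≤ Nat.card N₁ := Nat.le_of_dvd Nat.card_pos (relIndex_dvd_card _ _)
      omega
    · have h4 : q₁ ∈ dn Q N₂ hU n := by rw [h3]; exact hq₁
      exact hn h4.2
  · -- `L` is trivial on `N₁`
    have hcase' : Nat.card N₁ ≤ 2 ^ w := by
      by_contra hc'
      rw [not_le] at hcase hc'
      have h3 : 2 ^ w * 2 ^ w < Nat.card N₁ * N₁.index := Nat.mul_lt_mul'' hc' hcase
      rw [hcard, ← pow_add, ← two_mul] at h3
      omega
    have htr : ∀ l ∈ E, ∀ x ∈ N₁, l • x = x := by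
      intro l hl x hx
      have h3 := tr.sec sq (U := ⊥) (V := N₁) (fun l x hx => by rw [mem_bot.1 hx, smul_one]; exact one_mem _)
        hinv1 (by rwa [relIndex_bot_left]) hl hx
      rwa [mem_bot, mul_inv_eq_one] at h3
    obtain ⟨Y, hY1, -, hY2, hY3⟩ := exists_max (p := fun _ => True) trivial hlt2
    obtain ⟨v, hv, hvY⟩ := SetLike.exists_of_lt hY2
    have hsup : N₁ = Y ⊔ zpowers v := by
      by_contra hc
      have h2 : Y < Y ⊔ zpowers v := lt_of_le_of_ne le_sup_left fun h => hvY (h ▸ le_sup_zpowers Y v)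
      have h3 : Y ⊔ zpowers v ≤ N₁ := sup_le hY2.le (zpowers_le.2 hv)
      exact hY3 _ h2 trivial (lt_of_le_of_ne h3 (Ne.symm hc))
    have hYi : Y.relIndex N₁ ≤ 2 := by
      have hn := normal_of_sq sq Y
      rw [hsup, sup_comm, relIndex_sup_right]
      have h3 : Y.relIndex (zpowers v) ≤ Nat.card (zpowers v) := Nat.le_of_dvd Nat.card_pos (relIndex_dvd_card _ _)
      rw [Nat.card_zpowers] at h3
      exact h3.trans (orderOf_le_of_pow_eq_one (by norm_num) (by rw [pow_two]; exact sq v))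
    have hYinv : ∀ l ∈ E, ∀ x ∈ Y, l • x ∈ Y := fun l hl x hx => by rwa [htr l hl x (hY2.le hx)]
    have hU : ∀ q ∈ Q, ∀ x ∈ Y, q • x ∈ Y := fun q hq x hx => by
      have h3 := Y.mul_mem (hY1 (hb2 q hq x (hY2.le hx))) hx
      rwa [inv_mul_cancel_right] at h3
    have hD : ∀ l ∈ E, ∀ q ∈ dv Q Y hU ⊤, l * q * l⁻¹ ∈ dv Q Y hU ⊤ := by
      intro l hl q hq
      rw [mem_dv] at hq ⊢
      refine ⟨hQ.conj_mem q hq.1 l, fun n _ => ?_⟩
      have h7 := hYinv l hl _ (hq.2 (l⁻¹ • n) (mem_top _))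
      rwa [smul_mul', smul_inv', smul_inv_smul, ← mul_smul, ← mul_smul] at h7
    rcases irr (dv Q Y hU ⊤) (fun q hq => (mem_dv.1 hq).1) hD with h3 | h3
    · have h4 := relIndex_dv_le sq hU (N₁ := N₁) (fun n q hq => hb1 q hq n) (fun q hq x hx => hY1 (hb2 q hq x hx)) hYi ⊤
        le_top
      rw [relIndex_top_right] at h4
      omega
    · have h4 : N₁ ≤ Y := by
        rw [hN₁, br_le_iff]
        intro q hq n _
        rw [← h3] at hq
        exact (mem_dv.1 hq).2 n (mem_top n)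
      exact absurd h4 (not_le_of_gt hY2)

end act

/-! ### `TrivOn` from the lower bound `LB` -/

section lb

open Cfsg.Agent.Omega.Lie.Heis

variable {K : Type u'} [Group K] {L : Type u} [Group L] [Finite L]

/-- `TrivOn L ⊤` for a perfect group which is a cover of `K` modulo a normal 2-subgroup -/
theorem trivOn_of_lb {m n : ℕ} (hlb : LB.{u', u, v} K m) (hnm : n < m) (hL : commutator L = ⊤) {Q : Subgroup L}
    (hQ : Q.Normal) (h2 : IsPGroup 2 Q) (π : L →* K) (hπ : Function.Surjective π) (hQπ : Q ≤ π.ker)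
    (hc : ∀ x ∈ π.ker, ∀ y : L, x * y * x⁻¹ * y⁻¹ ∈ Q) (ho : Odd (Q.relIndex π.ker)) :
    TrivOn.{u, v} L ⊤ (2 ^ n) := by
  intro V _ _ _ sq hV l _ x
  have hcomm : ∀ a b : V, a * b = b * a := comm_of_sq sq
  let _ : CommGroup V := { (inferInstance : Group V) with mul_comm := hcomm }
  by_contra hne
  let φ : L →* MulAut V := MulDistribMulAction.toMulAut L V
  have hφ : φ ≠ 1 := fun h => hne (by
    have h1 := DFunLike.congr_fun (DFunLike.congr_fun h l) x
    exact h1)
  have hp : IsPGroup 2 V := fun y => ⟨1, by rw [pow_one, pow_two]; exact sq y⟩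
  obtain ⟨W, _, _, ψ, h3, h4, h5, h6⟩ := exists_irr hL φ hφ hp
  -- `Q` is trivial on `W`
  have hWne : Nontrivial W := by
    by_contra hc
    rw [not_nontrivial_iff_subsingleton] at hc
    exact h4 (by ext g y; exact Subsingleton.elim _ _)
  have hQ1 : ∀ q ∈ Q, ψ q = 1 := by
    let _ : MulDistribMulAction L W := MulDistribMulAction.compHom W ψ
    have hsm : ∀ (g : L) (y : W), g • y = ψ g y := fun _ _ => rfl
    have : Fact (Nat.Prime 2) := ⟨Nat.prime_two⟩
    have hcard : 2 ∣ Nat.card W := by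
      obtain ⟨k, hk⟩ := IsPGroup.iff_card.1 h3
      rw [hk]
      refine dvd_pow_self 2 ?_
      rintro rfl
      have h7 : 1 < Nat.card W := Finite.one_lt_card
      rw [hk, pow_zero] at h7
      omega
    obtain ⟨b, hb1, hb2⟩ := h2.exists_fixed_point_of_prime_dvd_card_of_fixed_point (α := W) hcard (a := 1)
      (fun q => smul_one (q : L))
    let U : Subgroup W :=
      { carrier := {y | ∀ q ∈ Q, ψ q y = y}
        one_mem' := fun q _ => map_one _
        mul_mem' := fun {a b} ha hb q hq => by rw [map_mul, ha q hq, hb q hq]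
        inv_mem' := fun {a} ha q hq => by rw [map_inv, ha q hq] }
    have hU : ∀ g, ∀ y ∈ U, ψ g y ∈ U := by
      intro g y hy q hq
      have h7 := hy (g⁻¹ * q * g) (by
        have h8 := hQ.conj_mem q hq g⁻¹
        rwa [inv_inv] at h8)
      have h8 : q * g = g * (g⁻¹ * q * g) := by group
      rw [← MulAut.mul_apply, ← map_mul, h8, map_mul, MulAut.mul_apply, h7]
    rcases h5 U hU with h7 | h7
    · exfalso
      have h8 : b ∈ U := fun q hq => hb1 ⟨q, hq⟩
      rw [h7, mem_bot] at h8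
      exact hb2 h8.symm
    · intro q hq
      ext y
      have h8 : y ∈ U := h7 ▸ mem_top y
      exact h8 q hq
  let ψ' : L ⧸ Q →* MulAut W := QuotientGroup.lift Q ψ hQ1
  let π' : L ⧸ Q →* K := QuotientGroup.lift Q π fun q hq => hQπ hq
  have hk : π'.ker = π.ker.map (QuotientGroup.mk' Q) := by
    ext y
    obtain ⟨g, rfl⟩ := QuotientGroup.mk_surjective y
    constructor
    · intro hg
      exact ⟨g, hg, rfl⟩
    · rintro ⟨a, ha, hag⟩
      have h8 : (a : L ⧸ Q) = (g : L ⧸ Q) := hag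
      rw [MonoidHom.mem_ker, ← h8]
      exact ha
  have h7 := hlb (L ⧸ Q) π' (by
      intro k
      obtain ⟨g, rfl⟩ := hπ k
      exact ⟨g, rfl⟩) (by
      rw [hk]
      rintro _ ⟨a, ha, rfl⟩
      rw [mem_center_iff]
      intro y
      obtain ⟨g, rfl⟩ := QuotientGroup.mk_surjective y
      change (QuotientGroup.mk (g * a) : L ⧸ Q) = QuotientGroup.mk (a * g)
      rw [eq_comm, QuotientGroup.eq]
      have h9 := hQ.conj_mem _ (hc a⁻¹ (π.ker.inv_mem ha) g) g⁻¹
      have h10 : (a * g)⁻¹ * (g * a) = g⁻¹ * (a⁻¹ * g * a⁻¹⁻¹ * g⁻¹) * g⁻¹⁻¹ := by group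
      rwa [h10]) (by
      rw [hk]
      have h8 := relIndex_ker π.ker (QuotientGroup.mk' Q)
      rw [QuotientGroup.ker_mk'] at h8
      rwa [h8] at ho) (by
      rw [eq_top_iff]
      rintro y -
      obtain ⟨g, rfl⟩ := QuotientGroup.mk_surjective y
      have h8 : g ∈ commutator L := hL ▸ mem_top g
      have h9 : (commutator L).map (QuotientGroup.mk' Q) ≤ commutator (L ⧸ Q) := by
        rw [_root_.commutator_def, _root_.commutator_def, map_commutator]
        exact commutator_mono le_top le_top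
      exact h9 ⟨g, h8, rfl⟩) W h3 ψ' (by
      intro h8
      apply h4
      ext g y
      have h9 := DFunLike.congr_fun (DFunLike.congr_fun h8 (QuotientGroup.mk g)) y
      exact h9)
  have h8 : 2 ^ n < 2 ^ m := Nat.pow_lt_pow_right (by norm_num) hnm
  omega

end lb

end Cfsg.Agent.Omega.ML.ExCore

end

section


/-!
# (ML), the K-list end: THEOREM EX, the record (helper987)

* `Rec C P R w` : `R` is a nonabelian group of order `2 ^ (2w + 1)`, normal in `C`, `P ≤ C` perfect, irreducible on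
  `R` modulo a subgroup of order 2, and for every odd central cover `G` of `C` the group `⁅P̂, P̂⁆` (`P̂` the preimage of
  `P`) acts trivially on the elementary abelian `G`-modules of order at most `2 ^ w`;
* `Rec.of_sheet` : `Rec` from helper915's sheet `SheetX z P R` (`C = C_S(z)`);
* `TrivC C P w` : the last field;  `trivC_of_lb` : it follows from `LB P (w + 1)`, also from `LB L (w + 1)` for a
  quotient `L` of `P` by a 2-subgroup.
-/

set_option autoImplicit false

namespace Cfsg.Agent.Omega.ML.ExRec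

open Subgroup Cfsg Cfsg.Agent.OddHalf.D8.Sheet Cfsg.Agent.OddHalf.D8.JTwo.Sheet Cfsg.Agent.Omega.ML.ExCore

universe u v w

/-- the modules of order at most `2 ^ n` of the odd central covers of `C` are trivial for `⁅P̂, P̂⁆` -/
def TrivC {X : Type w} [Group X] (C P : Subgroup X) (n : ℕ) : Prop :=
  ∀ (G : Type u) [Group G] [Finite G] (p : G →* C), Function.Surjective p → p.ker ≤ center G →
    Odd (Nat.card p.ker) →
    TrivOn.{u, v} G ⁅(P.subgroupOf C).comap p, (P.subgroupOf C).comap p⁆ (2 ^ n)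

/-- the record of THEOREM EX -/
structure Rec {X : Type w} [Group X] (C P R : Subgroup X) (n : ℕ) : Prop where
  PC : P ≤ C
  RC : R ≤ C
  nR : ∀ c ∈ C, ∀ r ∈ R, c * r * c⁻¹ ∈ R
  card : Nat.card R = 2 ^ (2 * n + 1)
  nab : ∃ a ∈ R, ∃ b ∈ R, a * b ≠ b * a
  perf : ⁅P, P⁆ = P
  irr : ∀ B : Subgroup X, B ≤ R → (∀ x ∈ P, ∀ b ∈ B, x * b * x⁻¹ ∈ B) → Nat.card B ≤ 2 ∨ B = R
  triv : TrivC.{u, v, w} C P n

end Cfsg.Agent.Omega.ML.ExRec

end

section


/-!
# (ML), the K-list end: the facts of THEOREM EX for `Fi24'`, abstract part (helper39)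

`C = C_K(z) = 2^{1+12}.3.U₄(3).2`, `P = E = C^∞`, `R = 2^{1+12}`, `w = 6`.

* `not27` : a subgroup of `E` which centralises `E/R` has order not divisible by 27 (an element of order 3 acts
  fixed point freely on `R/⟨z⟩`);
* `E_le` : a normal subgroup of `E` of index not divisible by `3^5` is `E`;
* `trivC` : `TrivC C P 6` (`3^5` does not divide `|GL_6(2)|`).
-/

set_option autoImplicit false

namespace Cfsg.Agent.Omega.ML.ExFi24

open Subgroup Cfsg Cfsg.Agent.KFacts.FiTF Cfsg.Agent.Omega.ML.ExCore Cfsg.Agent.Omega.ML.ExRec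

universe u v w w'

section gen

theorem card_dvd_of_free {E X : Type*} [Group E] [Finite E] [MulAction E X] [Finite X]
    (h : ∀ (z : E) (x : X), z • x = x → z = 1) : Nat.card E ∣ Nat.card X := by
  classical
  have _ := Fintype.ofFinite E
  have _ := Fintype.ofFinite X
  have e := MulAction.selfEquivSigmaOrbits E X
  rw [Nat.card_congr e, Nat.card_sigma]
  refine Finset.dvd_sum fun ω _ => ?_
  have h1 : Nat.card (MulAction.orbit E (Quotient.out ω : X)) = Nat.card E := by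
    refine (Nat.card_congr (Equiv.ofBijective
      (fun z : E => (⟨z • (Quotient.out ω : X), MulAction.mem_orbit _ z⟩ :
        MulAction.orbit E (Quotient.out ω : X))) ⟨?_, ?_⟩)).symm
    · intro z w hzw
      have h2 : z • (Quotient.out ω : X) = w • (Quotient.out ω : X) := congrArg Subtype.val hzw
      have h3 : (w⁻¹ * z) • (Quotient.out ω : X) = Quotient.out ω := by
        rw [mul_smul, h2, ← mul_smul, inv_mul_cancel, one_smul]
      have h4 := h _ _ h3
      exact (inv_mul_eq_one.1 h4).symm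
    · rintro ⟨y, z, rfl⟩
      exact ⟨z, rfl⟩
  rw [h1]

/-- the order of `GL_n(2)` -/
theorem card_mulAut {V : Type v} [Group V] [Finite V] (sq : ∀ x : V, x * x = 1) {n : ℕ} (hc : Nat.card V = 2 ^ n) :
    Nat.card (MulAut V) = ∏ i ∈ Finset.range n, (2 ^ n - 2 ^ i) := by
  have : Fact (Nat.Prime 2) := ⟨Nat.prime_two⟩
  let _ : CommGroup V := { (inferInstance : Group V) with mul_comm := comm_of_sq sq }
  obtain ⟨e⟩ := Cfsg.Agent.Lib.ElemAbGL.mulAut_equiv_GL (V := V) 2 n (fun x => by rw [pow_two]; exact sq x) hc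
  have h := Matrix.card_GL_field (𝔽 := ZMod 2) (n := n)
  rw [ZMod.card, Fin.prod_univ_eq_prod_range (fun i => 2 ^ n - 2 ^ i) n] at h
  rw [← h]
  exact Nat.card_congr e.toEquiv

/-- `3^5` does not divide `|GL_n(2)|`, `n ≤ 6` -/
theorem not_dvd {V : Type v} [Group V] [Finite V] (sq : ∀ x : V, x * x = 1) (hV : Nat.card V ≤ 2 ^ 6) :
    ¬ 243 ∣ Nat.card (MulAut V) := by
  have : Fact (Nat.Prime 2) := ⟨Nat.prime_two⟩
  have hp : IsPGroup 2 V := fun x => ⟨1, by rw [pow_one, pow_two]; exact sq x⟩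
  obtain ⟨n, hn⟩ := IsPGroup.iff_card.1 hp
  have hn6 : n ≤ 6 := by
    rw [hn] at hV
    exact (Nat.pow_le_pow_iff_right (by norm_num)).1 hV
  rw [card_mulAut sq hn]
  interval_cases n <;> decide +kernel

variable {G : Type u} [Group G] {P : Type w} [Group P] {f : G →* P}

/-- the index of the image of the kernel of an action divides `|Aut V|` -/
theorem relIndex_dvd {A : Type v} [Group A] (φ : G →* A) (hf : Function.Surjective f) (M : Subgroup P) :
    (φ.ker.map f).relIndex M ∣ Nat.card A := by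
  have h1 : (φ.ker.map f).relIndex M = ((φ.ker.map f).comap f).relIndex (M.comap f) := by
    rw [relIndex_comap, map_comap_eq_self_of_surjective hf]
  have h2 : ((φ.ker.map f).comap f).relIndex (M.comap f) ∣ φ.ker.relIndex (M.comap f) :=
    relIndex_dvd_of_le_left _ (le_comap_map f φ.ker)
  rw [h1]
  refine h2.trans ?_
  rw [relIndex_ker]
  exact card_subgroup_dvd_card _

/-- commutators of the preimage of a subgroup covered by the kernel -/
theorem comm_le {A : Type v} [Group A] {φ : G →* A} (hc : f.ker ≤ center G) {M : Subgroup P} (hM : M ≤ φ.ker.map f) :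
    ⁅M.comap f, M.comap f⁆ ≤ φ.ker := by
  rw [commutator_le]
  intro a ha b hb
  obtain ⟨a', ha', hfa⟩ := hM ha
  obtain ⟨b', hb', hfb⟩ := hM hb
  have h1 : a * a'⁻¹ ∈ center G := hc (by
    rw [MonoidHom.mem_ker, map_mul, map_inv, hfa]
    exact mul_inv_cancel _)
  have h2 : b * b'⁻¹ ∈ center G := hc (by
    rw [MonoidHom.mem_ker, map_mul, map_inv, hfb]
    exact mul_inv_cancel _)
  have ha1 : φ a' = 1 := ha'
  have e1 : φ a = φ (a * a'⁻¹) := by rw [map_mul, map_inv, ha1, inv_one, mul_one]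
  rw [MonoidHom.mem_ker]
  rw [map_commutatorElement, commutatorElement_eq_one_iff_mul_comm, e1, ← map_mul, ← map_mul]
  congr 1
  exact (mem_center_iff.1 h1 b).symm

/-- **`TrivC` from indices**: `m ∤ |Aut V|` for `|V| ≤ 2 ^ n`, and a normal subgroup of `P` of index not divisible by `m`
is `P` -/
theorem trivC_of_index {X : Type w} [Group X] {C P : Subgroup X} {n m : ℕ} (hPC : P ≤ C)
    (hm : ∀ (V : Type v) [Group V] [Finite V], (∀ x : V, x * x = 1) → Nat.card V ≤ 2 ^ n → ¬ m ∣ Nat.card (MulAut V))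
    (hN : ∀ N ≤ P, (∀ x ∈ P, ∀ y ∈ N, x * y * x⁻¹ ∈ N) → ¬ m ∣ N.relIndex P → N = P) : TrivC.{u, v, w} C P n := by
  intro G _ _ p hp hc _ V _ _ _ sq hV l hl x
  let φ : G →* MulAut V := MulDistribMulAction.toMulAut G V
  have hNn : (φ.ker.map p).Normal := (MonoidHom.normal_ker φ).map p hp
  set N : Subgroup C := φ.ker.map p with hNdef
  have h1 : ((N ⊓ P.subgroupOf C).map C.subtype) = P := by
    refine hN _ ?_ ?_ ?_
    · rintro _ ⟨y, hy, rfl⟩
      exact hy.2
    · rintro x hx _ ⟨y, hy, rfl⟩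
      exact ⟨(⟨x, hPC hx⟩ : C) * y * (⟨x, hPC hx⟩ : C)⁻¹, ⟨hNn.conj_mem _ hy.1 _,
        P.mul_mem (P.mul_mem hx hy.2) (P.inv_mem hx)⟩, rfl⟩
    · have h2 : ((N ⊓ P.subgroupOf C).map C.subtype).relIndex P = N.relIndex (P.subgroupOf C) := by
        have h3 : (P.subgroupOf C).map C.subtype = P := by
          rw [subgroupOf_map_subtype, inf_of_le_left hPC]
        conv_lhs => rw [← h3]
        rw [relIndex_map_map_of_injective _ _ C.subtype_injective, h3, inf_relIndex_right]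
      rw [h2]
      exact fun h3 => hm V sq hV (h3.trans (relIndex_dvd φ hp _))
  have h2 : P.subgroupOf C ≤ N := by
    intro y hy
    have h3 : (y : X) ∈ (N ⊓ P.subgroupOf C).map C.subtype := by rw [h1]; exact hy
    obtain ⟨y', hy', he⟩ := h3
    have h4 : y' = y := Subtype.ext he
    rw [← h4]
    exact hy'.1
  have h5 : φ l = 1 := comm_le hc h2 hl
  exact DFunLike.congr_fun h5 x

/-- transport -/
theorem TrivC.map {X : Type w} [Group X] {Y : Type w'} [Group Y] (e : X ≃* Y) {C P : Subgroup X} {n : ℕ}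
    (h : TrivC.{u, v, w} C P n) : TrivC.{u, v, w'} (C.map e.toMonoidHom) (P.map e.toMonoidHom) n := by
  intro G _ _ p hp hc ho
  let f : C ≃* C.map e.toMonoidHom := C.equivMapOfInjective e.toMonoidHom e.injective
  have hf : ∀ c : C, ((f c : C.map e.toMonoidHom) : Y) = e c := fun _ => rfl
  have hk : (f.symm.toMonoidHom.comp p).ker = p.ker := by
    ext g
    rw [MonoidHom.mem_ker, MonoidHom.mem_ker, MonoidHom.comp_apply]
    exact f.symm.map_eq_one_iff
  have h1 := h G (f.symm.toMonoidHom.comp p) (f.symm.surjective.comp hp) (by rw [hk]; exact hc) (by rw [hk]; exact ho)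
  have h2 : (P.subgroupOf C).comap (f.symm.toMonoidHom.comp p) =
      ((P.map e.toMonoidHom).subgroupOf (C.map e.toMonoidHom)).comap p := by
    ext g
    rw [mem_comap, mem_comap, mem_subgroupOf, mem_subgroupOf]
    change ((f.symm (p g) : C) : X) ∈ P ↔ _
    obtain ⟨c, hc⟩ := f.surjective (p g)
    rw [← hc, f.symm_apply_apply, hf]
    constructor
    · intro h3
      exact ⟨_, h3, rfl⟩
    · rintro ⟨y, hy, he⟩
      have h4 : y = c := e.injective he
      rwa [← h4]
  rwa [h2] at h1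

end gen

section abs

variable {F : Type*} [Group F] {K : Subgroup F} {z : F} {R E : Subgroup F} {Om : Set F}

/-- an element of order 3 centralising `E/R` acts fixed point freely on `R/⟨z⟩` -/
theorem free (h : Frame K z R E Om) {t : F} (htE : t ∈ E) (ht3 : t * t * t = 1) (ht1 : t ≠ 1)
    (hc : ∀ g ∈ E, t * g * t⁻¹ * g⁻¹ ∈ R) {r : F} (hr : r ∈ R) (hf : t * r * t⁻¹ = r) : r = 1 ∨ r = z := by
  have htz : t * z = z * t := h.Ez t htE
  have hz2 : z⁻¹ = z := inv_eq_of_mul_eq_one_right h.zz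
  have hRz : ∀ s ∈ R, s * z = z * s := fun s hs => h.Ez s (h.RE hs)
  let B : Subgroup F :=
    { carrier := {s | s ∈ R ∧ (t * s * t⁻¹ = s ∨ t * s * t⁻¹ = s * z)}
      one_mem' := ⟨R.one_mem, Or.inl (by group)⟩
      mul_mem' := by
        rintro a b ⟨ha, ha'⟩ ⟨hb, hb'⟩
        refine ⟨R.mul_mem ha hb, ?_⟩
        have e1 : t * (a * b) * t⁻¹ = (t * a * t⁻¹) * (t * b * t⁻¹) := by group
        rw [e1]
        rcases ha' with ha' | ha' <;> rcases hb' with hb' | hb' <;> rw [ha', hb']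
        · exact Or.inl rfl
        · exact Or.inr (by group)
        · right
          rw [mul_assoc, mul_assoc, ← hRz b hb]
        · left
          calc a * z * (b * z) = a * (z * b) * z := by group
            _ = a * (b * z) * z := by rw [hRz b hb]
            _ = a * b * (z * z) := by group
            _ = a * b := by rw [h.zz, mul_one]
      inv_mem' := by
        rintro a ⟨ha, ha'⟩
        refine ⟨R.inv_mem ha, ?_⟩
        have e1 : t * a⁻¹ * t⁻¹ = (t * a * t⁻¹)⁻¹ := by group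
        rw [e1]
        rcases ha' with ha' | ha' <;> rw [ha']
        · exact Or.inl rfl
        · right
          rw [mul_inv_rev, hz2, ← hRz a⁻¹ (R.inv_mem ha)] }
  have hB : ∀ s, s ∈ B ↔ s ∈ R ∧ (t * s * t⁻¹ = s ∨ t * s * t⁻¹ = s * z) := fun _ => Iff.rfl
  rcases h.irr B (fun s hs => hs.1) (by
      rintro g hg b ⟨hb, hb'⟩
      have hgz := h.Ez g hg
      have hgb : g * b * g⁻¹ ∈ R := h.norm g hgz b hb
      refine ⟨hgb, ?_⟩
      have hs := hc g hg
      set s := t * g * t⁻¹ * g⁻¹ with hsdef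
      have e1 : t * (g * b * g⁻¹) * t⁻¹ = s * (g * (t * b * t⁻¹) * g⁻¹) * s⁻¹ := by
        rw [hsdef]; group
      have e2 : g * (t * b * t⁻¹) * g⁻¹ = g * b * g⁻¹ ∨ g * (t * b * t⁻¹) * g⁻¹ = g * b * g⁻¹ * z := by
        rcases hb' with hb' | hb' <;> rw [hb']
        · exact Or.inl rfl
        · right
          have h1 : g⁻¹ * z = z * g⁻¹ := h.Ez g⁻¹ (E.inv_mem hg)
          calc g * (b * z) * g⁻¹ = g * b * (z * g⁻¹) := by group
            _ = g * b * (g⁻¹ * z) := by rw [h1]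
            _ = g * b * g⁻¹ * z := by group
      have e3 : ∀ y ∈ R, s * y * s⁻¹ = y ∨ s * y * s⁻¹ = y * z := by
        intro y hy
        rcases h.com s hs y hy with h1 | h1
        · left; rw [h1, mul_inv_cancel_right]
        · right; rw [h1, ← mul_assoc, mul_inv_cancel_right, hRz y hy]
      rw [e1]
      rcases e2 with e2 | e2 <;> rw [e2]
      · exact e3 _ hgb
      · have h1 : s * (g * b * g⁻¹ * z) * s⁻¹ = (s * (g * b * g⁻¹) * s⁻¹) * z := by
          have h2 : z * s⁻¹ = s⁻¹ * z := (hRz s⁻¹ (R.inv_mem hs)).symm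
          calc s * (g * b * g⁻¹ * z) * s⁻¹ = s * (g * b * g⁻¹) * (z * s⁻¹) := by group
            _ = s * (g * b * g⁻¹) * (s⁻¹ * z) := by rw [h2]
            _ = _ := by group
        rw [h1]
        rcases e3 _ hgb with h2 | h2 <;> rw [h2]
        · exact Or.inr rfl
        · left
          rw [mul_assoc (g * b * g⁻¹), h.zz, mul_one]) with h1 | h1
  · exact h1 r ((hB r).2 ⟨hr, Or.inl hf⟩)
  · exfalso
    have hcen : ∀ s ∈ R, t * s = s * t := by
      intro s hs
      rw [← h1, hB] at hs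
      rcases hs.2 with h2 | h2
      · exact mul_inv_eq_iff_eq_mul.1 h2
      · exfalso
        have h3 : t * s = s * z * t := mul_inv_eq_iff_eq_mul.1 h2
        have h4 : t * t * t * s = s * z * (t * t * t) := by
          calc t * t * t * s = t * t * (t * s) := by group
            _ = t * t * (s * z * t) := by rw [h3]
            _ = t * (t * s) * z * t := by group
            _ = t * (s * z * t) * z * t := by rw [h3]
            _ = (t * s) * z * (t * z) * t := by group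
            _ = (s * z * t) * z * (z * t) * t := by rw [h3, htz]
            _ = s * z * t * (z * z) * t * t := by group
            _ = s * z * (t * t * t) := by rw [h.zz]; group
        rw [ht3, one_mul, mul_one] at h4
        have h5 : s * 1 = s * z := by rw [mul_one]; exact h4
        exact h.z1 (mul_left_cancel h5).symm
    rcases h.cent t hcen with h2 | h2
    · exact ht1 h2
    · rw [h2, h.zz, one_mul] at ht3
      exact h.z1 ht3

/-- a subgroup of `E` centralising `E/R` has order not divisible by 27 -/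
theorem not27 [Finite F] (h : Frame K z R E Om) {N : Subgroup F} (hN : N ≤ E)
    (hc : ∀ n ∈ N, ∀ g ∈ E, n * g * n⁻¹ * g⁻¹ ∈ R) : ¬ 27 ∣ Nat.card N := by
  intro h27
  have : Fact (Nat.Prime 3) := ⟨Nat.prime_three⟩
  obtain ⟨T, hT⟩ := Sylow.exists_subgroup_card_pow_prime (G := N) 3 (n := 3) (by norm_num only []; exact h27)
  let Ω : Type _ := {r : F // r ∈ (R : Set F) \ {1, z}}
  have hmem : ∀ (t : T) (r : Ω), ((t : N) : F) * r.1 * ((t : N) : F)⁻¹ ∈ (R : Set F) \ {1, z} := by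
    intro t r
    have htE : ((t : N) : F) ∈ E := hN t.1.2
    have htz := h.Ez _ htE
    refine ⟨h.norm _ htz _ r.2.1, ?_⟩
    rintro (h1 | h1)
    · have h2 : r.1 = 1 := by
        rw [mul_inv_eq_one] at h1
        exact mul_left_cancel (a := ((t : N) : F)) (by rw [h1, mul_one])
      exact r.2.2 (Or.inl h2)
    · have h1' : ((t : N) : F) * r.1 * ((t : N) : F)⁻¹ = z := h1
      have h2 : ((t : N) : F) * r.1 = ((t : N) : F) * z := by
        rw [htz]; exact mul_inv_eq_iff_eq_mul.1 h1'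
      exact r.2.2 (Or.inr (mul_left_cancel h2))
  let _ : MulAction T Ω :=
    { smul := fun t r => ⟨_, hmem t r⟩
      one_smul := fun r => Subtype.ext (by
        show ((1 : N) : F) * r.1 * ((1 : N) : F)⁻¹ = r.1
        rw [Subgroup.coe_one, one_mul, inv_one, mul_one])
      mul_smul := fun a b r => Subtype.ext (by
        show (((a : N) * (b : N) : N) : F) * r.1 * (((a : N) * (b : N) : N) : F)⁻¹ =
          ((a : N) : F) * (((b : N) : F) * r.1 * ((b : N) : F)⁻¹) * ((a : N) : F)⁻¹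
        rw [Subgroup.coe_mul]; group) }
  have hsm : ∀ (t : T) (r : Ω), ((t • r : Ω) : F) = ((t : N) : F) * r.1 * ((t : N) : F)⁻¹ := fun _ _ => rfl
  have hfree : ∀ (t : T) (r : Ω), t • r = r → t = 1 := by
    intro t r htr
    by_contra ht
    have hord : orderOf t ∣ 3 ^ 3 := by rw [← hT]; exact _root_.orderOf_dvd_natCard t
    obtain ⟨k, _, hk⟩ := (Nat.dvd_prime_pow Nat.prime_three).1 hord
    have hk0 : k ≠ 0 := by
      rintro rfl
      rw [pow_zero, orderOf_eq_one_iff] at hk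
      exact ht hk
    obtain ⟨j, rfl⟩ := Nat.exists_eq_succ_of_ne_zero hk0
    set s : T := t ^ (3 ^ j) with hs
    have hs3 : s * s * s = 1 := by
      have h1 : s ^ 3 = 1 := by
        rw [hs, ← pow_mul, ← pow_succ, ← hk]
        exact pow_orderOf_eq_one t
      rw [pow_succ, pow_two] at h1
      exact h1
    have hs1 : s ≠ 1 := by
      intro h1
      have h2 := orderOf_dvd_of_pow_eq_one h1
      rw [hk] at h2
      have h3 := Nat.le_of_dvd (by positivity) h2
      exact absurd h3 (not_le_of_gt (Nat.pow_lt_pow_right (by norm_num) (Nat.lt_succ_self j)))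
    have hsr : s • r = r := by
      have h1 : ∀ n : ℕ, t ^ n • r = r := by
        intro n
        induction n with
        | zero => rw [pow_zero, one_smul]
        | succ n ih => rw [pow_succ, mul_smul, htr, ih]
      exact h1 _
    have h1 : ((s : N) : F) * r.1 * ((s : N) : F)⁻¹ = r.1 := by rw [← hsm, hsr]
    rcases free h (hN s.1.2) (t := ((s : N) : F)) (by
        have h2 := congrArg (fun x : T => ((x : N) : F)) hs3
        exact h2) (fun h2 => hs1 (Subtype.ext (Subtype.ext h2)))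
        (fun g hg => hc _ s.1.2 g hg) r.2.1 h1 with h2 | h2
    · exact r.2.2 (Or.inl h2)
    · exact r.2.2 (Or.inr h2)
  have hdvd := card_dvd_of_free hfree
  have hΩ : Nat.card Ω = 8190 := by
    have h1 : Nat.card Ω = ((R : Set F) \ {1, z}).ncard := Nat.card_coe_set_eq _
    have h2 : ({1, z} : Set F) ⊆ (R : Set F) := by
      rintro x (rfl | rfl)
      · exact R.one_mem
      · exact h.zR
    have h3 : ({1, z} : Set F).ncard = 2 := Set.ncard_pair h.z1.symm
    have h4 : (R : Set F).ncard = 8192 := by rw [← h.cardR]; rfl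
    rw [h1, Set.ncard_diff h2 (Set.toFinite _), h3, h4]
  rw [hT, hΩ] at hdvd
  norm_num at hdvd

/-- **a normal subgroup of `E` of index not divisible by `3^5` is `E`** -/
theorem E_le [Finite F] (h : Frame K z R E Om) (hE : 3 ^ 7 ∣ Nat.card E)
    (hd : ∀ N : Subgroup F, N ≤ E → R ≤ N → (∀ e ∈ E, ∀ n ∈ N, e * n * e⁻¹ ∈ N) →
      (∀ n ∈ N, ∀ g ∈ E, n * g * n⁻¹ * g⁻¹ ∈ R) ∨ N = E)
    {N : Subgroup F} (hN : N ≤ E) (hn : ∀ e ∈ E, ∀ n ∈ N, e * n * e⁻¹ ∈ N) (hi : ¬ 243 ∣ N.relIndex E) : N = E := by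
  have hRn : ∀ e ∈ E, ∀ r ∈ R, e * r * e⁻¹ ∈ R := fun e he r hr => h.norm e (h.Ez e he) r hr
  rcases hd (N ⊔ R) (sup_le hN h.RE) le_sup_right (by
      intro e he
      have h1 : N ⊔ R ≤ (N ⊔ R).comap (MulAut.conj e).toMonoidHom :=
        sup_le (fun n hn' => mem_sup_left (hn e he n hn')) (fun r hr => mem_sup_right (hRn e he r hr))
      exact fun n hn' => h1 hn') with h1 | h1
  · exfalso
    have h2 := not27 h (sup_le hN h.RE) h1
    apply hi
    have h3 : (N ⊔ R).relIndex E ∣ N.relIndex E := relIndex_dvd_of_le_left _ le_sup_left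
    refine dvd_trans ?_ h3
    have h4 : Nat.card (N ⊔ R : Subgroup F) * (N ⊔ R).relIndex E = Nat.card E := by
      have h5 := relIndex_mul_relIndex ⊥ (N ⊔ R) E bot_le (sup_le hN h.RE)
      rwa [relIndex_bot_left, relIndex_bot_left] at h5
    rw [← h4] at hE
    have hp : Fact (Nat.Prime 3) := ⟨Nat.prime_three⟩
    have ha : Nat.card (N ⊔ R : Subgroup F) ≠ 0 := Nat.card_pos.ne'
    have hb : (N ⊔ R).relIndex E ≠ 0 := by
      intro h5
      rw [h5, mul_zero] at h4
      exact Nat.card_pos.ne h4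
    rw [padicValNat_dvd_iff_le (mul_ne_zero ha hb), padicValNat.mul ha hb] at hE
    have h5 : ¬ 3 ≤ padicValNat 3 (Nat.card (N ⊔ R : Subgroup F)) := by
      rw [← padicValNat_dvd_iff_le ha]
      norm_num only []
      exact h2
    have h6 : 3 ^ 5 ∣ (N ⊔ R).relIndex E := by
      rw [padicValNat_dvd_iff_le hb]
      omega
    norm_num at h6
    exact h6
  · apply le_antisymm hN
    have hR2 : IsPGroup 2 R := by
      have : Fact (Nat.Prime 2) := ⟨Nat.prime_two⟩
      exact IsPGroup.iff_card.2 ⟨13, by rw [h.cardR]; norm_num⟩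
    have hsol : Group.IsSolvable R := by
      have : Fact (Nat.Prime 2) := ⟨Nat.prime_two⟩
      have h2 : Group.IsNilpotent R := hR2.isNilpotent
      infer_instance
    refine Cfsg.Agent.OddHalf.D7Out.Cz.le_of_perfect_of_le_sup h.perf hsol ?_ (by rw [sup_comm, h1])
    intro r hr
    rw [mem_normalizer_iff]
    intro x
    refine ⟨fun hx => hn r (h.RE hr) x hx, fun hx => ?_⟩
    have h2 := hn r⁻¹ (E.inv_mem (h.RE hr)) _ hx
    have e1 : r⁻¹ * (r * x * r⁻¹) * r⁻¹⁻¹ = x := by group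
    rwa [e1] at h2

/-- **`TrivC C P 6`** -/
theorem trivC {F : Type w} [Group F] [Finite F] {K : Subgroup F} {z : F} {R E : Subgroup F} {Om : Set F}
    (h : Frame K z R E Om) (hE : 3 ^ 7 ∣ Nat.card E)
    (hd : ∀ N : Subgroup F, N ≤ E → R ≤ N → (∀ e ∈ E, ∀ n ∈ N, e * n * e⁻¹ ∈ N) →
      (∀ n ∈ N, ∀ g ∈ E, n * g * n⁻¹ * g⁻¹ ∈ R) ∨ N = E) {C : Subgroup K} (hC : E.subgroupOf K ≤ C) :
    TrivC.{u, v, w} C (E.subgroupOf K) 6 := by
  refine trivC_of_index (m := 243) hC (fun V _ _ sq hV => not_dvd sq hV) fun N hN hn hi => ?_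
  have h1 := E_le h hE hd (N := N.map K.subtype) (by
      rintro _ ⟨x, hx, rfl⟩
      exact hN hx) (by
      rintro e he _ ⟨x, hx, rfl⟩
      exact ⟨(⟨e, h.EK he⟩ : K) * x * (⟨e, h.EK he⟩ : K)⁻¹, hn _ he _ hx, rfl⟩) (by
      have h2 : (N.map K.subtype).relIndex E = N.relIndex (E.subgroupOf K) := by
        have h3 : (E.subgroupOf K).map K.subtype = E := by
          rw [subgroupOf_map_subtype, inf_of_le_left h.EK]
        conv_lhs => rw [← h3]
        exact relIndex_map_map_of_injective _ _ K.subtype_injective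
      rw [h2]; exact hi)
  apply le_antisymm hN
  intro x hx
  have h2 : (x : F) ∈ N.map K.subtype := by rw [h1]; exact hx
  obtain ⟨y, hy, he⟩ := h2
  have h3 : y = x := Subtype.ext he
  rwa [← h3]

end abs

end Cfsg.Agent.Omega.ML.ExFi24

end

section


/-!
# (ML), the K-list end: THEOREM EX (helper987)

* `Dat H M G E Q n` : the situation in `H`;  `Dat.false` : **THEOREM EX**: no strict subgroup `A ≤ Q` with `|A| > 2`;
* `lift2` : the 2-part of the preimage of a 2-group under a cover with central kernel of odd order;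
* `false_of_rec` : the record `Rec` (in a central quotient of `H`) excludes the strict group `A`;
* `dead_of_rec`, `dead_of_sheet` : the rows.
-/

set_option autoImplicit false

namespace Cfsg.Agent.Omega.ML.ExRow

open Subgroup Cfsg Cfsg.Agent.ClassTwoFusion.Quad Cfsg.Agent.Omega.NOThree.NoOver Cfsg.Agent.Omega.ML.CD
open Cfsg.Agent.ZN (o2)
open Cfsg.Agent.Omega.ML.Rows Cfsg.Agent.Omega.ML.ExCore Cfsg.Agent.Omega.ML.ExRec
open Cfsg.Agent.MinSimple.VModule (o2_isPGroup o2_le le_o2 le_normalizer_o2)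

universe u v w

/-- The situation in `H`. -/
structure Dat (H : Type u) [Group H] (G E Q : Subgroup H) (n : ℕ) : Prop where
  QG : Q ≤ G
  EG : E ≤ G
  nQ : ∀ g ∈ G, ∀ q ∈ Q, g * q * g⁻¹ ∈ Q
  card : Nat.card Q = 2 ^ (2 * n + 1)
  nab : ∃ a ∈ Q, ∃ b ∈ Q, a * b ≠ b * a
  irr : ∀ D : Subgroup H, D ≤ Q → (∀ l ∈ E, ∀ x ∈ D, l * x * l⁻¹ ∈ D) → Nat.card D ≤ 2 ∨ D = Q
  triv : TrivOn.{u, v} G (E.subgroupOf G) (2 ^ n)

section

variable {H : Type u} [Group H] [Finite H] {M : Type v} [Group M] [Finite M] [MulDistribMulAction H M]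
  {G E Q A : Subgroup H} {n : ℕ}

omit [Finite H] in
theorem Dat.two (D : Dat.{u, v} H G E Q n) : IsPGroup 2 Q := IsPGroup.of_card D.card

omit [Finite H] in
/-- subgroups of order at most 2 have index at least `2 ^ (2n)` -/
theorem Dat.le_relIndex (D : Dat.{u, v} H G E Q n) {B : Subgroup H} (hB : B ≤ Q) (h2 : Nat.card B ≤ 2) :
    2 ^ (2 * n) ≤ B.relIndex Q := by
  have h1 : Nat.card B * B.relIndex Q = Nat.card Q := by
    rw [← relIndex_bot_left, ← relIndex_bot_left Q]
    exact relIndex_mul_relIndex _ _ _ bot_le hB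
  rw [D.card, pow_succ] at h1
  by_contra hc
  rw [not_le] at hc
  have h3 : Nat.card B * B.relIndex Q < 2 * 2 ^ (2 * n) := by
    calc Nat.card B * B.relIndex Q ≤ 2 * B.relIndex Q := Nat.mul_le_mul_right _ h2
      _ < 2 * 2 ^ (2 * n) := by omega
  omega

/-- **THEOREM EX** -/
theorem Dat.false (D : Dat.{u, v} H G E Q n) (sq : ∀ m : M, m * m = 1) (faith : ∀ h : H, (∀ m : M, h • m = m) → h = 1)
    (hAQ : A ≤ Q) (hs : Strict (fab M 1 1) A) (h2 : 2 < Nat.card A) : False := by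
  have hf := ls_fab (H := H) M 1 1
  have hcomm := ExCore.comm_of_sq (N := M) sq
  -- `Q` is strict
  have hlo : lo (fab M 1 1) Q = Q := by
    have h3 : A ≤ lo (fab M 1 1) Q := hs.le_lo hf hAQ
    have h4 : G ≤ normalizer (Q : Set H) := by
      intro g hg
      rw [mem_normalizer_iff]
      intro x
      refine ⟨fun hx => D.nQ g hg x hx, fun hx => ?_⟩
      have h5 := D.nQ g⁻¹ (G.inv_mem hg) _ hx
      have h6 : g⁻¹ * (g * x * g⁻¹) * g⁻¹⁻¹ = x := by group
      rwa [h6] at h5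
    have h5 := h4.trans (hf.normalizer_le_lo Q)
    refine (D.irr _ (hf.lo_le_self Q) fun l hl x hx => ?_).resolve_left fun h6 => ?_
    · exact (mem_normalizer_iff.1 (h5 (D.EG hl)) x).1 hx
    · have h7 := card_le_of_le h3
      omega
  have hQs : Strict (fab M 1 1) Q := by
    have := hf.strict_lo Q
    rwa [hlo] at this
  have hQne : Q ≠ ⊥ := by
    rintro rfl
    obtain ⟨a, ha, b, hb, hab⟩ := D.nab
    rw [mem_bot.1 ha, mem_bot.1 hb] at hab
    exact hab rfl
  obtain ⟨F, hF⟩ : ∃ F : Subgroup M, F = cv M (Q : Set H) := ⟨_, rfl⟩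
  have hmF : ∀ {m : M}, m ∈ F ↔ ∀ q ∈ Q, q • m = m := by
    intro m
    rw [hF]
    exact Iff.rfl
  have hidx : F.index < 2 ^ (2 * n + 1) := by
    have h1 := hQs ⊥ (bot_lt_iff_ne_bot.2 hQne)
    rwa [fab_lt_iff bot_le, pow_one, pow_one, relIndex_bot_left, cv_bot, relIndex_top_right, ← hF, D.card] at h1
  have hFn : F.Normal := normal_of_sq sq F
  have hMp : IsPGroup 2 (M ⧸ F) := by
    intro x
    obtain ⟨m, rfl⟩ := QuotientGroup.mk_surjective x
    refine ⟨1, ?_⟩
    rw [pow_one, pow_two]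
    exact congrArg (QuotientGroup.mk (s := F)) (sq m)
  have hidx' : Nat.card (M ⧸ F) ≤ 2 ^ (2 * n) := by
    obtain ⟨k, hk⟩ := (IsPGroup.iff_card (p := 2)).1 hMp
    have h1 : F.index = 2 ^ k := hk
    rw [h1] at hidx
    have h2 : k < 2 * n + 1 := (Nat.pow_lt_pow_iff_right (by norm_num)).1 hidx
    rw [hk]
    exact Nat.pow_le_pow_right (by norm_num) (by omega)
  -- `G` acts on `M / F`
  have hFG : ∀ (g : G), ∀ x ∈ F, g • x ∈ F := by
    intro g x hx
    rw [hmF] at hx ⊢
    intro q hq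
    have h1 := D.nQ _ (G.inv_mem g.2) q hq
    rw [inv_inv] at h1
    have h2 := hx _ h1
    change q • (g : H) • x = (g : H) • x
    rw [mul_smul, mul_smul, inv_smul_eq_iff] at h2
    exact h2
  let _ : MulDistribMulAction G (M ⧸ F) := quoA (L := G) F hFG
  have hQn : (Q.subgroupOf G).Normal := ⟨fun q hq g => D.nQ g g.2 q hq⟩
  have hcore := _root_.Cfsg.Agent.Omega.ML.ExCore.core (L := G) (N := M ⧸ F) (fun x => by
      obtain ⟨m, rfl⟩ := QuotientGroup.mk_surjective x
      exact congrArg (QuotientGroup.mk (s := F)) (sq m)) (Q := Q.subgroupOf G) (E := E.subgroupOf G) hQn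
    (D.two.comap_of_injective _ G.subtype_injective) hidx' (by
      intro B hB hBE
      have h1 : B.map G.subtype ≤ Q := by
        rintro _ ⟨b, hb, rfl⟩
        exact hB hb
      have h3 : Nat.card (B.map G.subtype) = Nat.card B := card_map_of_injective G.subtype_injective
      have h4 : B.relIndex (Q.subgroupOf G) = (B.map G.subtype).relIndex Q := by
        have h5 : (Q.subgroupOf G).map G.subtype = Q := by rw [subgroupOf_map_subtype, inf_eq_left.2 D.QG]
        rw [← relIndex_map_map_of_injective B (Q.subgroupOf G) G.subtype_injective, h5]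
      rcases D.irr _ h1 (by
        rintro l hl _ ⟨b, hb, rfl⟩
        exact ⟨⟨l, D.EG hl⟩ * b * ⟨l, D.EG hl⟩⁻¹, hBE ⟨l, D.EG hl⟩ hl b hb, rfl⟩) with h6 | h6
      · left
        rw [h4]
        exact D.le_relIndex h1 h6
      · right
        ext x
        rw [mem_subgroupOf, ← h6]
        constructor
        · intro hx
          exact ⟨x, hx, rfl⟩
        · rintro ⟨y, hy, hyx⟩
          rwa [← Subtype.ext hyx]) D.triv
  have hQF : ∀ q ∈ Q, ∀ m : M, q • m * m⁻¹ ∈ F := by
    intro q hq m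
    have h1 := hcore ⟨q, D.QG hq⟩ hq (QuotientGroup.mk m)
    have h2 : (QuotientGroup.mk (q • m) : M ⧸ F) = QuotientGroup.mk m := h1
    rw [eq_comm, QuotientGroup.eq] at h2
    rwa [hcomm] at h2
  obtain ⟨a, ha, b, hb, hab⟩ := D.nab
  apply hab
  have key : ∀ a ∈ Q, ∀ b ∈ Q, ∀ m : M, (a * b) • m = (b • m * m⁻¹) * ((a • m * m⁻¹) * m) := by
    intro a ha b hb m
    have h1 := hmF.1 (hQF b hb m) a ha
    have h3 : b • m = (b • m * m⁻¹) * m := by rw [inv_mul_cancel_right]
    rw [mul_smul]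
    conv_lhs => rw [h3, smul_mul', h1]
    rw [inv_mul_cancel_right]
  have h1 : (b * a)⁻¹ * (a * b) = 1 := by
    apply faith
    intro m
    rw [mul_smul, inv_smul_eq_iff, key a ha b hb, key b hb a ha, ← mul_assoc (b • m * m⁻¹),
      hcomm (b • m * m⁻¹) (a • m * m⁻¹), mul_assoc]
  exact (inv_mul_eq_one.1 h1).symm

end

/-! ### The 2-part of the preimage of a 2-group -/

section lift2

variable {G : Type*} [Group G] [Finite G]

/-- in a nilpotent subgroup the 2-elements lie in `O₂` -/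
theorem mem_o2_of_nilp {N : Subgroup G} (hN : Group.IsNilpotent N) {x : G} (hx : x ∈ N) {k : ℕ} (hk : x ^ 2 ^ k = 1) :
    x ∈ o2 N := by
  have : Fact (Nat.Prime 2) := ⟨Nat.prime_two⟩
  have h1 : IsPGroup 2 (zpowers (⟨x, hx⟩ : N)) := by
    intro y
    refine ⟨k, ?_⟩
    obtain ⟨y, hy⟩ := y
    obtain ⟨m, rfl⟩ := mem_zpowers_iff.1 hy
    apply Subtype.ext
    apply Subtype.ext
    change ((x ^ m) ^ 2 ^ k : G) = 1
    rw [← zpow_natCast, ← zpow_mul, mul_comm, zpow_mul, zpow_natCast, hk, one_zpow]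
  obtain ⟨P, hP⟩ := h1.exists_le_sylow
  have hPn : (P : Subgroup N).Normal := inferInstance
  have h2 : (P : Subgroup N).map N.subtype ≤ o2 N := by
    refine le_o2 (map_subtype_le _) (P.2.map _) ?_
    intro n hn
    rw [mem_normalizer_iff]
    intro y
    constructor
    · rintro ⟨z, hz, rfl⟩
      exact ⟨(⟨n, hn⟩ * z * ⟨n, hn⟩⁻¹ :), hPn.conj_mem z hz _, rfl⟩
    · rintro ⟨z, hz, hzy⟩
      refine ⟨(⟨n, hn⟩⁻¹ * z * ⟨n, hn⟩⁻¹⁻¹ :), hPn.conj_mem z hz _, ?_⟩
      change n⁻¹ * (z : G) * n⁻¹⁻¹ = y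
      have h3 : (z : G) = n * y * n⁻¹ := hzy
      rw [h3]
      group
  exact h2 ⟨⟨x, hx⟩, hP (mem_zpowers _), rfl⟩

omit [Finite G] in
theorem exists_pow_of_mem_o2 {N : Subgroup G} {x : G} (hx : x ∈ o2 N) : ∃ k : ℕ, x ^ 2 ^ k = 1 := by
  obtain ⟨k, hk⟩ := o2_isPGroup N ⟨x, hx⟩
  exact ⟨k, congrArg Subtype.val hk⟩

variable {X : Type*} [Group X] {f : G →* X}

omit [Finite G] in
theorem nilp_comap (hc : f.ker ≤ center G) {R : Subgroup X} (hR : IsPGroup 2 R) [Finite R] :
    Group.IsNilpotent (R.comap f) := by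
  have : Fact (Nat.Prime 2) := ⟨Nat.prime_two⟩
  have hRn := hR.isNilpotent
  refine Subgroup.isNilpotent_of_ker_le_center (f.subgroupComap R) ?_
  intro x hx
  have h1 : (x : G) ∈ f.ker := congrArg Subtype.val hx
  rw [mem_center_iff]
  intro y
  exact Subtype.ext (mem_center_iff.1 (hc h1) y)

/-- membership in the lift of `R` -/
theorem mem_lift2 (hc : f.ker ≤ center G) {R : Subgroup X} (hR : IsPGroup 2 R) [Finite R] {x : G} :
    x ∈ o2 (R.comap f) ↔ f x ∈ R ∧ ∃ k : ℕ, x ^ 2 ^ k = 1 :=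
  ⟨fun h => ⟨o2_le (R.comap f) h, exists_pow_of_mem_o2 h⟩, fun h => h.2.elim fun _ hk => mem_o2_of_nilp (nilp_comap hc hR) h.1 hk⟩

omit [Finite G] in
theorem eq_one_of_two (ho : Odd (Nat.card f.ker)) {x : G} (hx : f x = 1) {k : ℕ} (hk : x ^ 2 ^ k = 1) : x = 1 := by
  have h1 : orderOf x ∣ 2 ^ k := orderOf_dvd_of_pow_eq_one hk
  have h2 : orderOf x ∣ Nat.card f.ker := by
    have h3 := _root_.orderOf_dvd_natCard (⟨x, hx⟩ : f.ker)
    rwa [← Subgroup.orderOf_coe] at h3
  have h3 : Nat.Coprime (2 ^ k) (Nat.card f.ker) := (Nat.coprime_two_left.2 ho).pow_left k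
  exact orderOf_eq_one_iff.1 (Nat.eq_one_of_dvd_coprimes h3 h1 h2)

omit [Finite G] in
/-- `f` is injective on the lift -/
theorem lift2_inj (ho : Odd (Nat.card f.ker)) {N : Subgroup G} {x y : G} (hx : x ∈ o2 N) (hy : y ∈ o2 N)
    (h : f x = f y) : x = y := by
  obtain ⟨k, hk⟩ := exists_pow_of_mem_o2 (mul_mem hx (inv_mem hy))
  exact mul_inv_eq_one.1 (eq_one_of_two ho (by rw [map_mul, map_inv, h, mul_inv_cancel]) hk)

omit [Finite G] in
theorem card_map_lift2 (ho : Odd (Nat.card f.ker)) {N D : Subgroup G} (hD : D ≤ o2 N) :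
    Nat.card (D.map f) = Nat.card D := by
  have h1 : Function.Injective (f.comp D.subtype) := by
    intro x y hxy
    exact Subtype.ext (lift2_inj ho (hD x.2) (hD y.2) hxy)
  have h2 : D.map f = (f.comp D.subtype).range := by
    rw [MonoidHom.range_comp, range_subtype]
  rw [h2]
  exact (Nat.card_congr (MonoidHom.ofInjective h1).toEquiv).symm

/-- the lift maps onto `R` -/
theorem map_lift2 (hf : Function.Surjective f) (hc : f.ker ≤ center G) (ho : Odd (Nat.card f.ker)) {R : Subgroup X}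
    (hR : IsPGroup 2 R) [Finite R] : (o2 (R.comap f)).map f = R := by
  refine le_antisymm ?_ ?_
  · rintro _ ⟨x, hx, rfl⟩
    exact o2_le (R.comap f) hx
  · intro r hr
    obtain ⟨k, hk⟩ := hR ⟨r, hr⟩
    have hk' : r ^ 2 ^ k = 1 := congrArg Subtype.val hk
    obtain ⟨x, hx, hx1⟩ := Cfsg.Agent.Omega.Lie.Heis.exists_lift hf hc
      ((Nat.coprime_two_left.2 ho).pow_left k : Nat.Coprime (2 ^ k) (Nat.card f.ker)) hk'
    refine ⟨x, (mem_lift2 hc hR).2 ⟨?_, k, hx1⟩, hx⟩
    rw [hx]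
    exact hr

theorem card_lift2 (hf : Function.Surjective f) (hc : f.ker ≤ center G) (ho : Odd (Nat.card f.ker)) {R : Subgroup X}
    (hR : IsPGroup 2 R) [Finite R] : Nat.card (o2 (R.comap f)) = Nat.card R := by
  rw [← card_map_lift2 ho le_rfl, map_lift2 hf hc ho hR]

/-- the lift is normalised by the preimage of `N_X(R)` -/
theorem conj_lift2 (hc : f.ker ≤ center G) {R : Subgroup X} (hR : IsPGroup 2 R) [Finite R] {g x : G}
    (hg : ∀ r ∈ R, f g * r * (f g)⁻¹ ∈ R) (hx : x ∈ o2 (R.comap f)) : g * x * g⁻¹ ∈ o2 (R.comap f) := by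
  rw [mem_lift2 hc hR] at hx ⊢
  obtain ⟨h1, k, hk⟩ := hx
  refine ⟨?_, k, ?_⟩
  · rw [map_mul, map_mul, map_inv]
    exact hg _ h1
  · rw [conj_pow, hk, mul_one, mul_inv_cancel]

end lift2

/-! ### From the record to the situation -/

section record

variable {H : Type u} [Group H] [Finite H] {X : Type w} [Group X] {π : H →* X} {C P R : Subgroup X} {n : ℕ}

/-- the lift of `P` -/
def ee (π : H →* X) (C P : Subgroup X) : Subgroup H :=
  (⁅(P.subgroupOf C).comap (π.subgroupComap C), (P.subgroupOf C).comap (π.subgroupComap C)⁆).map (C.comap π).subtype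

omit [Finite H] in
theorem map_ee (hf : Function.Surjective π) (hPC : P ≤ C) (hP : ⁅P, P⁆ = P) : (ee π C P).map π = P := by
  have h1 : π.comp (C.comap π).subtype = C.subtype.comp (π.subgroupComap C) := rfl
  have h2 : Function.Surjective (π.subgroupComap C) := MonoidHom.subgroupComap_surjective_of_surjective π C hf
  rw [ee, map_map, h1, ← map_map, map_commutator, map_comap_eq_self_of_surjective h2, map_commutator,
    subgroupOf_map_subtype, inf_eq_left.2 hPC, hP]

/-- the situation in `H` -/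
theorem dat_of_rec (hf : Function.Surjective π) (hc : π.ker ≤ center H) (ho : Odd (Nat.card π.ker))
    (h : Rec.{u, v, w} C P R n) : Dat.{u, v} H (C.comap π) (ee π C P) (o2 (R.comap π)) n := by
  have hR : IsPGroup 2 R := IsPGroup.of_card h.card
  have hX : Finite X := Finite.of_surjective π hf
  have h2 : Function.Surjective (π.subgroupComap C) := MonoidHom.subgroupComap_surjective_of_surjective π C hf
  refine ⟨?_, map_subtype_le _, ?_, ?_, ?_, ?_, ?_⟩
  · intro x hx
    exact h.RC (o2_le (R.comap π) hx)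
  · intro g hg q hq
    exact conj_lift2 hc hR (fun r hr => h.nR _ hg r hr) hq
  · rw [card_lift2 hf hc ho hR, h.card]
  · obtain ⟨a, ha, b, hb, hab⟩ := h.nab
    rw [← map_lift2 hf hc ho hR] at ha hb
    obtain ⟨a', ha', rfl⟩ := ha
    obtain ⟨b', hb', rfl⟩ := hb
    refine ⟨a', ha', b', hb', fun h1 => hab ?_⟩
    rw [← map_mul, h1, map_mul]
  · intro D hD hE
    have h3 : D.map π ≤ R := by
      rw [← map_lift2 hf hc ho hR]
      exact Subgroup.map_mono hD
    rcases h.irr _ h3 (by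
      rintro x hx _ ⟨d, hd, rfl⟩
      rw [← map_ee hf h.PC h.perf] at hx
      obtain ⟨l, hl, rfl⟩ := hx
      exact ⟨_, hE l hl d hd, by rw [map_mul, map_mul, map_inv]⟩) with h4 | h4
    · left
      rwa [card_map_lift2 ho hD] at h4
    · right
      refine eq_of_le_of_card_ge hD ?_
      rw [card_lift2 hf hc ho hR, ← h4, card_map_lift2 ho hD]
  · have h3 : (ee π C P).subgroupOf (C.comap π) =
        ⁅(P.subgroupOf C).comap (π.subgroupComap C), (P.subgroupOf C).comap (π.subgroupComap C)⁆ :=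
      comap_map_eq_self_of_injective (C.comap π).subtype_injective _
    rw [h3]
    refine h.triv _ _ h2 ?_ ?_
    · intro x hx
      have h4 : (x : H) ∈ π.ker := congrArg Subtype.val hx
      rw [mem_center_iff]
      intro y
      exact Subtype.ext (mem_center_iff.1 (hc h4) y)
    · have h4 : ((π.subgroupComap C).ker).map (C.comap π).subtype ≤ π.ker := by
        rintro _ ⟨x, hx, rfl⟩
        exact congrArg Subtype.val hx
      have h5 := card_dvd_of_le h4
      rw [card_map_of_injective (C.comap π).subtype_injective] at h5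
      exact Odd.of_dvd_nat ho h5

/-- **the record excludes the strict group** -/
theorem false_of_rec {M : Type v} [Group M] [Finite M] [MulDistribMulAction H M] {A : Subgroup H}
    (sq : ∀ m : M, m * m = 1) (faith : ∀ h : H, (∀ m : M, h • m = m) → h = 1) (hs : Strict (fab M 1 1) A)
    (el : ∀ a ∈ A, a * a = 1) (hA2 : 2 < Nat.card A) (hf : Function.Surjective π) (hc : π.ker ≤ center H)
    (ho : Odd (Nat.card π.ker)) (h : Rec.{u, v, w} C P R n) {g : X} (hg : ∀ a ∈ A, g * π a * g⁻¹ ∈ R) : False := by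
  have hR : IsPGroup 2 R := IsPGroup.of_card h.card
  have hX : Finite X := Finite.of_surjective π hf
  obtain ⟨g, rfl⟩ := hf g
  refine (dat_of_rec hf hc ho h).false (A := cj g A) sq faith ?_ (hs.cj (ls_fab (H := H) M 1 1) g) ?_
  · rintro _ ⟨a, ha, rfl⟩
    rw [mem_lift2 hc hR]
    refine ⟨?_, 1, ?_⟩
    · change π (g * a * g⁻¹) ∈ R
      rw [map_mul, map_mul, map_inv]
      exact hg a ha
    · change (g * a * g⁻¹) ^ 2 ^ 1 = 1
      rw [pow_one, pow_two]
      have h1 : g * a * g⁻¹ * (g * a * g⁻¹) = g * (a * a) * g⁻¹ := by group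
      rw [h1, el a ha, mul_one, mul_inv_cancel]
  · rw [cj, card_map_of_injective (MulAut.conj g).injective]
    exact hA2

end record

section rows

open Cfsg.Agent.OddHalf.D8.Sheet Cfsg.Agent.OddHalf.D8.JTwo.Sheet

/-- the record from helper915's sheet -/
theorem _root_.Cfsg.Agent.Omega.ML.ExRec.Rec.of_sheet {S : Type w} [Group S] {z : S} {P R : Subgroup S} {n : ℕ}
    (h : SheetX z P R) (hcard : Nat.card R = 2 ^ (2 * n + 1)) (ht : TrivC.{u, v, w} (centralizer ({z} : Set S)) P n) :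
    Rec.{u, v, w} (centralizer ({z} : Set S)) P R n where
  PC := fun x hx => mem_centralizer_singleton_iff.2 (h.cen x hx)
  RC := fun x hx => mem_centralizer_singleton_iff.2 (h.cen x (h.RP hx))
  nR := by
    intro c hc r hr
    have hcz : c * z = z * c := mem_centralizer_singleton_iff.1 hc
    -- `c` normalises `P` and so `R`
    have hα : (MulAut.conj c) z = z := by rw [MulAut.conj_apply, hcz, mul_inv_cancel_right]
    have hP : ∀ x ∈ P, c * x * c⁻¹ ∈ P := fun x hx => map_P h.perf h.cen h.der (MulAut.conj c) hα hx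
    have hα' : (MulAut.conj c⁻¹) z = z := by
      rw [MulAut.conj_apply, inv_inv, mul_assoc, ← hcz, ← mul_assoc, inv_mul_cancel, one_mul]
    have hP' : ∀ x ∈ P, c⁻¹ * x * c ∈ P := fun x hx => by
      have h1 := map_P h.perf h.cen h.der (MulAut.conj c⁻¹) hα' hx
      rwa [MulAut.conj_apply, inv_inv] at h1
    have h1 : R.map (MulAut.conj c).toMonoidHom ≤ R := by
      apply h.Rmax
      · rintro _ ⟨x, hx, rfl⟩
        exact hP x (h.RP hx)
      · exact h.R2.map _
      · rintro x hx _ ⟨b, hb, rfl⟩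
        refine ⟨c⁻¹ * x * c * b * (c⁻¹ * x * c)⁻¹, h.Rn _ (hP' x hx) b hb, ?_⟩
        change c * (c⁻¹ * x * c * b * (c⁻¹ * x * c)⁻¹) * c⁻¹ = x * (c * b * c⁻¹) * x⁻¹
        group
    exact h1 ⟨r, hr, rfl⟩
  card := hcard
  nab := h.Rna
  perf := h.perf
  irr := by
    intro B hB hP
    rcases h.Rmin B hB hP with h1 | h1
    · left
      have h2 : (B : Set S) ⊆ {1, z} := fun b hb => by
        rcases h1 b hb with h3 | h3
        · exact Or.inl h3
        · exact Or.inr h3
      have h3 := Set.ncard_le_ncard h2 (Set.toFinite _)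
      have h4 : ({1, z} : Set S).ncard ≤ 2 := (Set.ncard_insert_le _ _).trans (by rw [Set.ncard_singleton])
      exact h3.trans h4
    · exact Or.inr h1
  triv := ht

/-- **The row of a class of groups with a sheet of type (E).** -/
theorem dead_of_sheet {𝒮 : ∀ (S : Type u) [Group S], Prop} (h𝒮 : IsoClosed.{u} 𝒮)
    (hS : ∀ (S : Type u) [Group S] [Finite S], 𝒮 S → ∃ (z : S) (P R : Subgroup S) (n : ℕ), SheetX z P R ∧
      Nat.card R = 2 ^ (2 * n + 1) ∧ TrivC.{u, v, u} (centralizer ({z} : Set S)) P n) : Dead.{u, v} 𝒮 := by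
  intro H _ _ M _ _ _ K T A h hK
  have hZ := h.normalZ
  have has := h.as hZ
  obtain ⟨z, P, R, n, hsh, hcard, ht⟩ := hS _ (h𝒮 _ _ (equivZ hZ) hK)
  have htop := ShE.eq_top has hsh
  obtain ⟨g, hg⟩ := ShE.le_conj has hsh
  -- `H → S`
  have hmem : ∀ x : H, QuotientGroup.mk' (centralizer (K : Set H)) x ∈
      K.map (QuotientGroup.mk' (centralizer (K : Set H))) := fun x => by
    rw [htop]; exact mem_top _
  let π : H →* (K.map (QuotientGroup.mk' (centralizer (K : Set H))) : Subgroup _) :=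
    (QuotientGroup.mk' (centralizer (K : Set H))).codRestrict _ hmem
  have hker : π.ker = centralizer (K : Set H) := by
    ext x
    rw [MonoidHom.mem_ker]
    constructor
    · intro h1
      exact (QuotientGroup.eq_one_iff x).1 (congrArg Subtype.val h1)
    · intro h1
      exact Subtype.ext ((QuotientGroup.eq_one_iff x).2 h1)
  have hf : Function.Surjective π := by
    rintro ⟨y, hy⟩
    obtain ⟨x, rfl⟩ := QuotientGroup.mk_surjective y
    exact ⟨x, rfl⟩
  have hgm : g ∈ K.map (QuotientGroup.mk' (centralizer (K : Set H))) := by rw [htop]; exact mem_top g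
  refine false_of_rec (π := π) h.sq h.faith h.strict h.el (lt_of_lt_of_le (by norm_num) h.eight) hf ?_ ?_
    (Rec.of_sheet hsh hcard ht) (g := ⟨g, hgm⟩⁻¹) ?_
  · intro x hx
    rw [hker] at hx
    rw [mem_center_iff]
    intro y
    exact h.zen x hx y
  · rw [hker, h.card_centralizer]
    exact h.odd
  · intro a ha
    obtain ⟨r, hr, hr'⟩ := hg _ ⟨a, ha, rfl⟩
    have h1 : (⟨g, hgm⟩ : (K.map (QuotientGroup.mk' (centralizer (K : Set H))) : Subgroup _))⁻¹ * π a *
        (⟨g, hgm⟩⁻¹)⁻¹ = r := by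
      apply Subtype.ext
      rw [inv_inv]
      exact hr'.symm
    rw [h1]
    exact hr

end rows

end Cfsg.Agent.Omega.ML.ExRow

end

section


/-!
# (ML), the K-list end: the row `Fi24'` by THEOREM EX (helper39)

* `facts` : the sheet, `|R| = 2^13`, `TrivC` for all `S ≅ Fi24'`;
* `dead` : the row.
-/

set_option autoImplicit false

namespace Cfsg.Agent.Omega.ML.RowFi24

open Subgroup Cfsg Cfsg.Agent.Omega.ML.Rows Cfsg.Agent.Omega.ML.ExRec Cfsg.Agent.Omega.ML.ExFi24
open Cfsg.Agent.OddHalf Cfsg.Agent.OddHalf.D8.JTwo.Sheet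
open Cfsg.Agent.KFacts.FiTF Cfsg.Agent.KFacts.FiTF.Defs

universe u v

/-- normal subgroups of `E` containing `R` -/
theorem dich (N : Subgroup Spor.Fi24) (hN : N ≤ E) (hR : R ≤ N) (hn : ∀ e ∈ E, ∀ n ∈ N, e * n * e⁻¹ ∈ N) :
    (∀ n ∈ N, QuasiA.Fixes n) ∨ N = E := by
  have : Finite Spor.Fi24 := Cfsg.Agent.R08.FiTwentyFour.finite_Fi24
  exact (QuasiBInst.hyp FixZ.tran FixZ.ncard_Dz Order.card (Cent.cent FixZ.tran) (PerfE.perf FixZ.tran)
    (fun M h1 h2 h3 => QuasiA.dichW h2 h3 FixZ.tran SubOrb.quasi1 SubOrb.quasi2 h1)).dich_E hN hR hn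

theorem three_dvd : 3 ^ 7 ∣ Nat.card E := by
  have : Finite Spor.Fi24 := Cfsg.Agent.R08.FiTwentyFour.finite_Fi24
  have h1 := Abs.card_CK frame
  have h2 := Abs.rel_mul frame
  rw [Order.card] at h1
  rcases Abs.relIndex_E frame Order.card SheetMFi.card_E with h3 | h3
  · rw [h3] at h2
    exact ⟨73400320, by norm_num only []; omega⟩
  · rw [h3] at h2
    exact ⟨36700160, by norm_num only []; omega⟩

/-- `TrivC` in `Fi24'` -/
theorem triv : TrivC.{u, v, 0} (centralizer ({Abs.zK frame} : Set (commutator Spor.Fi24)))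
    (E.subgroupOf (commutator Spor.Fi24)) 6 := by
  have : Finite Spor.Fi24 := Cfsg.Agent.R08.FiTwentyFour.finite_Fi24
  refine trivC frame three_dvd (fun N h1 h2 h3 => ?_) (Abs.E_le_CK frame)
  exact (dich N h1 h2 h3).imp (fun h4 n hn e he => SheetMFi.fixes_R FixZ.tran (h4 n hn) e he) id

/-- **the facts of THEOREM EX for `Fi24'`** -/
theorem facts (S : Type u) [Group S] (e : Spor.IsoFi24' S) :
    ∃ (z : S) (P R : Subgroup S) (n : ℕ), SheetX z P R ∧ Nat.card R = 2 ^ (2 * n + 1) ∧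
      TrivC.{u, v, u} (centralizer ({z} : Set S)) P n := by
  have : Finite Spor.Fi24 := Cfsg.Agent.R08.FiTwentyFour.finite_Fi24
  obtain ⟨e⟩ := e
  refine ⟨_, _, _, 6, of_sheetE (D8.SheetMap.sheetE_map e.symm sheetE), ?_, ?_⟩
  · have h1 := Abs.card_RK frame
    rw [← Nat.card_congr (equivMapOfInjective _ e.symm.toMonoidHom e.symm.injective).toEquiv]
    rw [h1]; norm_num
  · rw [D8.SheetMap.centralizer_map]
    exact TrivC.map e.symm triv

/-- **the row `Fi24'` (`Fi24`, `3.Fi24'`)** -/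
theorem dead : Dead.{u, v} (fun S _ => Spor.IsoFi24' S) :=
  ExRow.dead_of_sheet (fun _ _ _ _ e h => h.map fun f => e.symm.trans f) fun S _ _ h => facts S h

end Cfsg.Agent.Omega.ML.RowFi24

end

section


/-!
# (ML), the K-list end: `TrivC` from the lower bound `LB` (helper987)

* `trivC_of_lb` : `P ≤ C` perfect, `R` a normal 2-subgroup of `P`, `ρ : P → L` onto with kernel central modulo `R` and
  containing `R` with odd index: `LB L (n + 1)` implies `TrivC C P n`.
-/

set_option autoImplicit false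

namespace Cfsg.Agent.Omega.ML.ExTriv

open Subgroup Cfsg
open Cfsg.Agent.ZN (o2)
open Cfsg.Agent.Omega.ML.ExCore Cfsg.Agent.Omega.ML.ExRec Cfsg.Agent.Omega.ML.ExRow
open Cfsg.Agent.MinSimple.VModule (o2_isPGroup o2_le le_o2 le_normalizer_o2)

open scoped commutatorElement

universe u v w u'

/-- a perfect subgroup is perfect as a group -/
theorem commutator_coe_eq_top {G : Type*} [Group G] {E : Subgroup G} (h : ⁅E, E⁆ = E) :
    _root_.commutator E = ⊤ := by
  rw [eq_top_iff]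
  rintro ⟨x, hx⟩ -
  have h1 : (_root_.commutator E).map E.subtype = E := by
    rw [_root_.commutator_def, map_commutator, ← MonoidHom.range_eq_map, range_subtype, h]
  have h2 : x ∈ (_root_.commutator E).map E.subtype := by rw [h1]; exact hx
  obtain ⟨y, hy, hyx⟩ := h2
  have h3 : y = ⟨x, hx⟩ := Subtype.ext hyx
  rwa [← h3]

/-- Grün: an element of the second centre of a perfect group is central (modulo the normal subgroup `Q`). -/
theorem gruen {E : Type*} [Group E] (hE : _root_.commutator E = ⊤) {Q : Subgroup E} (hQ : Q.Normal) {x : E}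
    (h : ∀ y : E, ∃ z ∈ center E, x * y * x⁻¹ * y⁻¹ * z ∈ Q) (y : E) : x * y * x⁻¹ * y⁻¹ ∈ Q := by
  have hcen : ∀ y g : E, (QuotientGroup.mk (x * y * x⁻¹ * y⁻¹) : E ⧸ Q) * QuotientGroup.mk g =
      QuotientGroup.mk g * QuotientGroup.mk (x * y * x⁻¹ * y⁻¹) := by
    intro y g
    obtain ⟨z, hz, h1⟩ := h y
    have h2 : (QuotientGroup.mk (x * y * x⁻¹ * y⁻¹) : E ⧸ Q) = QuotientGroup.mk z⁻¹ := by
      rw [eq_comm, QuotientGroup.eq, inv_inv]
      have h3 := hQ.conj_mem _ h1 z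
      have h4 : z * (x * y * x⁻¹ * y⁻¹ * z) * z⁻¹ = z * (x * y * x⁻¹ * y⁻¹) := by group
      rwa [h4] at h3
    rw [h2, ← QuotientGroup.mk_mul, ← QuotientGroup.mk_mul, mem_center_iff.1 ((center E).inv_mem hz) g]
  let f : E →* E ⧸ Q :=
    { toFun := fun y => QuotientGroup.mk (x * y * x⁻¹ * y⁻¹)
      map_one' := by
        change (QuotientGroup.mk (x * 1 * x⁻¹ * 1⁻¹) : E ⧸ Q) = 1
        rw [mul_one, mul_inv_cancel, inv_one, mul_one, QuotientGroup.mk_one]
      map_mul' := fun a b => by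
        have h1 : x * (a * b) * x⁻¹ * (a * b)⁻¹ = (x * a * x⁻¹ * a⁻¹) * (a * (x * b * x⁻¹ * b⁻¹) * a⁻¹) := by group
        have h2 : (QuotientGroup.mk (a * (x * b * x⁻¹ * b⁻¹) * a⁻¹) : E ⧸ Q) = QuotientGroup.mk (x * b * x⁻¹ * b⁻¹) := by
          change (QuotientGroup.mk a : E ⧸ Q) * QuotientGroup.mk (x * b * x⁻¹ * b⁻¹) * (QuotientGroup.mk a)⁻¹ = _
          rw [← hcen b a, mul_inv_cancel_right]
        rw [h1, QuotientGroup.mk_mul, h2] }
  have hk : _root_.commutator E ≤ f.ker := by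
    rw [_root_.commutator_def, commutator_le]
    intro a _ b _
    rw [MonoidHom.mem_ker, map_commutatorElement, commutatorElement_eq_one_iff_mul_comm]
    obtain ⟨c, hc⟩ := QuotientGroup.mk_surjective (f b)
    rw [← hc]
    exact hcen a c
  have h1 : y ∈ f.ker := hk (hE ▸ mem_top y)
  exact (QuotientGroup.eq_one_iff _).1 h1

/-- **`TrivC` from `LB`** -/
theorem trivC_of_lb {X : Type w} [Group X] {C P R : Subgroup X} {n : ℕ} (hPC : P ≤ C) (hR2 : IsPGroup 2 R)
    [Finite R] (hRn : ∀ x ∈ P, ∀ r ∈ R, x * r * x⁻¹ ∈ R) (hP : ⁅P, P⁆ = P) {L : Type u'} [Group L] (ρ : P →* L)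
    (hρ : Function.Surjective ρ) (hρR : ∀ x : P, (x : X) ∈ R → ρ x = 1)
    (hcen : ∀ x : P, ρ x = 1 → ∀ y : P, (x * y * x⁻¹ * y⁻¹ : X) ∈ R)
    (hodd : Odd ((R.subgroupOf P).relIndex ρ.ker)) (hlb : Cfsg.Agent.Omega.Lie.Heis.LB.{u', u, v} L (n + 1)) :
    TrivC.{u, v, w} C P n := by
  intro G _ _ p hp hc ho V _ _ _ sq hV l hl x
  obtain ⟨Ph, hPh⟩ : ∃ Ph : Subgroup G, Ph = (P.subgroupOf C).comap p := ⟨_, rfl⟩
  rw [← hPh] at hl
  obtain ⟨E, hE⟩ : ∃ E : Subgroup G, E = ⁅Ph, Ph⁆ := ⟨_, rfl⟩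
  rw [← hE] at hl
  have hEP : E ≤ Ph := by rw [hE]; exact commutator_le_self Ph
  have hEp : E.map p = P.subgroupOf C := by
    have h1 : (E.map p).map C.subtype = P := by
      rw [hE, map_commutator, hPh, map_comap_eq_self_of_surjective hp, map_commutator, subgroupOf_map_subtype,
        inf_eq_left.2 hPC, hP]
    have h2 := congrArg (comap C.subtype) h1
    rwa [comap_map_eq_self_of_injective C.subtype_injective] at h2
  -- `E` is perfect
  have hEE : ⁅E, E⁆ = E := by
    refine le_antisymm (commutator_le_self E) ?_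
    conv_lhs => rw [hE]
    rw [commutator_le]
    have key : ∀ y ∈ Ph, ∃ e ∈ E, ∃ z ∈ center G, y = e * z := by
      intro y hy
      have h1 : p y ∈ E.map p := by
        rw [hEp]
        rw [hPh] at hy
        exact hy
      obtain ⟨e, he, hey⟩ := h1
      exact ⟨e, he, e⁻¹ * y, hc (by rw [MonoidHom.mem_ker, map_mul, map_inv, hey, inv_mul_cancel]), by group⟩
    intro a ha b hb
    obtain ⟨e, he, z, hz, rfl⟩ := key a ha
    obtain ⟨e', he', z', hz', rfl⟩ := key b hb
    have h1 : ⁅e * z, e' * z'⁆ = ⁅e, e'⁆ := by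
      have hz1 := mem_center_iff.1 hz
      have hz2 := mem_center_iff.1 hz'
      have hz3 := mem_center_iff.1 ((center G).inv_mem hz)
      have hz4 := mem_center_iff.1 ((center G).inv_mem hz')
      rw [commutatorElement_def, commutatorElement_def, mul_inv_rev, mul_inv_rev]
      calc e * z * (e' * z') * (z⁻¹ * e⁻¹) * (z'⁻¹ * e'⁻¹)
          = e * (z * (e' * z')) * (z⁻¹ * e⁻¹) * (z'⁻¹ * e'⁻¹) := by group
        _ = e * (e' * z' * z) * (z⁻¹ * e⁻¹) * (z'⁻¹ * e'⁻¹) := by rw [hz1 (e' * z')]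
        _ = e * e' * (z' * (e⁻¹ * z'⁻¹)) * e'⁻¹ := by group
        _ = e * e' * (e⁻¹ * z'⁻¹ * z') * e'⁻¹ := by rw [hz2 (e⁻¹ * z'⁻¹)]
        _ = _ := by group
    rw [h1]
    exact commutator_mem_commutator he he'
  have hEc := commutator_coe_eq_top hEE
  -- `E → P`
  let f : E →* P :=
    { toFun := fun e => ⟨(p e : X), by
        have h1 := hEP e.2
        rw [hPh] at h1
        exact h1⟩
      map_one' := Subtype.ext (by
        change ((p (1 : G) : C) : X) = 1
        rw [map_one]; rfl)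
      map_mul' := fun a b => Subtype.ext (by
        change ((p ((a : G) * b) : C) : X) = (p a : X) * (p b : X)
        rw [map_mul]; rfl) }
  have hfp : ∀ e : E, ((f e : P) : X) = (p e : X) := fun _ => rfl
  have hfk : ∀ {e : E}, f e = 1 → (e : G) ∈ p.ker := by
    intro e he
    have h1 : ((p e : C) : X) = 1 := congrArg Subtype.val he
    exact Subtype.ext h1
  have hf : Function.Surjective f := by
    rintro ⟨y, hy⟩
    have h1 : (⟨y, hPC hy⟩ : C) ∈ E.map p := by rw [hEp]; exact hy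
    obtain ⟨e, he, hey⟩ := h1
    exact ⟨⟨e, he⟩, Subtype.ext (show (p e : X) = y from congrArg Subtype.val hey)⟩
  have hfc : f.ker ≤ center E := by
    intro e he
    rw [mem_center_iff]
    intro y
    exact Subtype.ext (mem_center_iff.1 (hc (hfk he)) y)
  have hfo : Odd (Nat.card f.ker) := by
    have h4 : f.ker.map E.subtype ≤ p.ker := by
      rintro _ ⟨y, hy, rfl⟩
      exact hfk hy
    have h5 := card_dvd_of_le h4
    rw [card_map_of_injective E.subtype_injective] at h5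
    exact Odd.of_dvd_nat ho h5
  -- the lift of `R`
  have hR' : IsPGroup 2 (R.subgroupOf P) := hR2.comap_of_injective _ P.subtype_injective
  have hRf : Finite (R.subgroupOf P) := Finite.of_injective (fun x => (⟨((x : P) : X), x.2⟩ : R)) fun a b hab =>
    Subtype.ext (Subtype.ext (show ((a : P) : X) = ((b : P) : X) from congrArg (fun r : R => (r : X)) hab))
  obtain ⟨Q, hQ⟩ : ∃ Q : Subgroup E, Q = o2 ((R.subgroupOf P).comap f) := ⟨_, rfl⟩
  have hQR : ∀ q ∈ Q, f q ∈ R.subgroupOf P := fun q hq => by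
    rw [hQ] at hq
    exact o2_le ((R.subgroupOf P).comap f) hq
  have hQn : Q.Normal := ⟨fun q hq g => by
    rw [hQ] at hq ⊢
    exact conj_lift2 hfc hR' (fun r hr => hRn _ (f g).2 _ hr) hq⟩
  have hQm : Q.map f = R.subgroupOf P := by rw [hQ]; exact map_lift2 hf hfc hfo hR'
  have hQk : Q ≤ (ρ.comp f).ker := fun q hq => hρR _ (hQR q hq)
  have h1 := trivOn_of_lb (K := L) (L := E) hlb (Nat.lt_succ_self n) hEc hQn (by rw [hQ]; exact o2_isPGroup _) (ρ.comp f)
    (hρ.comp hf) hQk ?_ ?_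
  · exact h1 V sq hV ⟨l, hl⟩ (mem_top _) x
  · intro y hy e
    refine gruen hEc hQn (fun e => ?_) e
    have h2 : f (y * e * y⁻¹ * e⁻¹) ∈ Q.map f := by
      rw [hQm, map_mul, map_mul, map_mul, map_inv, map_inv]
      exact hcen (f y) hy (f e)
    obtain ⟨q, hq, hq'⟩ := h2
    refine ⟨(y * e * y⁻¹ * e⁻¹)⁻¹ * q, hfc ?_, ?_⟩
    · rw [MonoidHom.mem_ker, map_mul, map_inv, hq', inv_mul_cancel]
    · rwa [mul_inv_cancel_left]
  · have hQle : Q ≤ (R.subgroupOf P).comap f := hQR
    have hle : (R.subgroupOf P).comap f ≤ (ρ.comp f).ker := fun e he => hρR _ he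
    rw [← relIndex_mul_relIndex _ _ _ hQle hle]
    refine Odd.mul ?_ ?_
    · have hk : f.ker ≤ (R.subgroupOf P).comap f := fun e he => by
        rw [mem_comap, MonoidHom.mem_ker.1 he]; exact one_mem _
      have h2 : Nat.card f.ker * f.ker.relIndex ((R.subgroupOf P).comap f) = Nat.card ((R.subgroupOf P).comap f) := by
        rw [← relIndex_bot_left, ← relIndex_bot_left ((R.subgroupOf P).comap f)]
        exact relIndex_mul_relIndex _ _ _ bot_le hk
      have h3 : Nat.card Q * Q.relIndex ((R.subgroupOf P).comap f) = Nat.card ((R.subgroupOf P).comap f) := by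
        rw [← relIndex_bot_left, ← relIndex_bot_left ((R.subgroupOf P).comap f)]
        exact relIndex_mul_relIndex _ _ _ bot_le hQle
      have h4 : f.ker.relIndex ((R.subgroupOf P).comap f) = Nat.card Q := by
        rw [relIndex_ker, map_comap_eq_self_of_surjective hf, hQ, card_lift2 hf hfc hfo hR']
      rw [h4, ← h3, mul_comm] at h2
      have h5 := Nat.eq_of_mul_eq_mul_left Nat.card_pos h2
      rw [← h5]
      exact hfo
    · have h2 : (ρ.comp f).ker = ρ.ker.comap f := by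
        ext e
        rfl
      rw [h2, relIndex_comap, map_comap_eq_self_of_surjective hf]
      exact hodd

end Cfsg.Agent.Omega.ML.ExTriv

end

private theorem dce_7c3b893b1c77 : _root_.True := by
  try have : _root_.True := by simp only [_root_.Cfsg.Agent.Omega.ML.ExCore.dv.eq_1]
  try have : _root_.True := by simp only [_root_.Cfsg.Agent.Omega.ML.ExRow.ee.eq_1]
  try have : _root_.True := by simp only [_root_.Cfsg.Agent.Omega.NOThree.NoOver.cj.eq_1]
  try have : _root_.True := by simp only [_root_.Cfsg.Agent.Omega.ML.ExCore.dn.congr_simp]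
  try have : _root_.True := by simp only [_root_.Cfsg.Agent.Omega.ML.ExCore.br.eq_1]
  exact _root_.True.intro
end

-- part: Mrg/Omega/ML/ExEx/Core
section
prune_inst 0x4200820090000000000001080000020000001000000000051800004000614220500a000480008000800800000040000004c0010000000000000000000000120802a120001400104000001801000000000000000000000000000000000041000000000000
set_option linter.all false
open scoped Cfsg.Agent.FastGrp

-- part: Mrg/Omega/ML/Ex/RkX
section
section


/-!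
# Exact and low configurations: group-theoretic tools over `ASx` (helper333; ports of RowsRk, RowsCent, RowsSyl, RowsOdd, ShE)

`ASx S T A` is `Rows.AS S T A` with `gen : S ⊔ T = ⊤` instead of `S ⊔ A = ⊤`.
-/

set_option autoImplicit false

namespace Cfsg.Agent.Omega.ML.Ex

open Subgroup Cfsg Cfsg.Agent.ZN Cfsg.Agent.Omega.TwoF Cfsg.Agent.Omega.ML.Rows
open Cfsg.Agent.MinSimple.VModule (o2_isPGroup o2_le le_o2 le_normalizer_o2)

universe u v w

/-- The group-theoretic row of the class `𝒮`, bound `n`. -/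
def DeadGx (n : ℕ) (𝒮 : ∀ (S : Type u) [Group S], Prop) : Prop :=
  ∀ (X : Type u) [Group X] [Finite X] (S T A : Subgroup X), ASx S T A → 𝒮 S → Nat.card A ≤ n

/-- transport of 'all automorphisms are inner' -/
theorem inner_of_equiv {S : Type*} [Group S] {Y : Type*} [Group Y] (e : S ≃* Y)
    (hi : ∀ α : MulAut Y, ∃ k : Y, α = MulAut.conj k) (α : MulAut S) : ∃ v : S, α = MulAut.conj v := by
  obtain ⟨g, hg⟩ := hi ((e.symm.trans α).trans e)
  refine ⟨e.symm g, ?_⟩
  ext s
  have h1 := congrArg (fun β : MulAut Y => e.symm (β (e s))) hg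
  simpa only [_root_.MulAut.conj_apply, _root_.MulEquiv.trans_apply, _root_.MulEquiv.symm_apply_apply, _root_.map_mul, _root_.map_inv] using h1

/-- bound 4 -/
theorem DeadGx.four {n : ℕ} {𝒮 : ∀ (S : Type u) [Group S], Prop} (h : DeadGx.{u} n 𝒮) (hn : n ≤ 4) :
    DeadGX.{u} 𝒮 := fun X _ _ S T A hA hS => (h X S T A hA hS).trans hn

/-- **A bound `< 4` kills the row.** -/
theorem DeadGx.deadX {n : ℕ} {𝒮 : ∀ (S : Type u) [Group S], Prop} (h : DeadGx.{u} n 𝒮) (hn : n < 4) :
    DeadX.{u, v} 𝒮 := by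
  intro H _ _ M _ _ _ K T A hI hS
  have h1 := h H K T A hI.asx hS
  have h2 := hI.four
  omega

theorem DeadGx.mono {n m : ℕ} {𝒮 : ∀ (S : Type u) [Group S], Prop} (h : DeadGx.{u} n 𝒮) (hnm : n ≤ m) :
    DeadGx.{u} m 𝒮 := fun X _ _ S T A hA hS => (h X S T A hA hS).trans hnm

variable {X : Type u} [Group X] {S T A : Subgroup X}

/-- One overgroup. -/
theorem ASx.card_le_of (h : ASx S T A) {n : ℕ} {R : Subgroup X} (hT : T ≤ R) (hR : R ≠ ⊤)
    (hc : ∀ B ≤ o2 R, (∀ b ∈ B, b * b = 1) → Nat.card B ≤ n) : Nat.card A ≤ n :=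
  hc A (h.low R hT hR) h.el

/-- An overgroup with `|O₂(R)| ≤ n`. -/
theorem ASx.card_le_of_o2 [Finite X] (h : ASx S T A) {n : ℕ} {R : Subgroup X} (hT : T ≤ R) (hR : R ≠ ⊤)
    (hc : Nat.card (o2 R) ≤ n) : Nat.card A ≤ n :=
  (card_le_of_le (h.low R hT hR)).trans hc

/-- `X` acts faithfully on `S`. -/
theorem ASx.conj_inj (h : ASx S T A) :
    Function.Injective (@MulAut.conjNormal X _ S h.norm) := by
  have hn := h.norm
  rw [injective_iff_map_eq_one]
  intro x hx
  have h1 : x ∈ centralizer (S : Set X) := by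
    refine mem_centralizer_iff.2 fun s hs => ?_
    have h2 : ((MulAut.conjNormal x : MulAut S) ⟨s, hs⟩ : X) = s := by rw [hx]; rfl
    rw [MulAut.conjNormal_apply] at h2
    calc s * x = (x * s * x⁻¹) * x := by rw [h2]
      _ = x * s := by group
  rw [h.cen] at h1
  exact mem_bot.1 h1

/-- **The rank bound.** -/
theorem ASx.card_le_of_rk (h : ASx S T A) {a : ℕ} (hr : RK S a) : Nat.card A ≤ 2 ^ a := by
  have hn := h.norm
  refine hr.card_le_of_injective ((MulAut.conjNormal : X →* MulAut S).comp A.subtype) ?_ fun x =>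
    Subtype.ext (by
      rw [pow_two]
      exact h.el x x.2)
  exact h.conj_inj.comp A.subtype_injective

theorem ASx.le_two (h : ASx S T A) : A ≤ T := h.AT

/-- `T` is a maximal 2-subgroup. -/
theorem ASx.le_of_two [Finite X] (h : ASx S T A) {Q : Subgroup X} (hQ : IsPGroup 2 Q) (hT : T ≤ Q) : Q ≤ T := by
  have hp : Fact (Nat.Prime 2) := ⟨Nat.prime_two⟩
  have h3 : ¬ 2 ∣ T.relIndex Q := fun h4 => h.syl (h4.trans (relIndex_dvd_index_of_le hT))
  obtain ⟨n, hn⟩ := (IsPGroup.iff_card.1 hQ)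
  have h4 : T.relIndex Q ∣ 2 ^ n := hn ▸ (T.subgroupOf Q).index_dvd_card
  obtain ⟨k, -, hk⟩ := (Nat.dvd_prime_pow Nat.prime_two).1 h4
  have h5 : k = 0 := by
    by_contra hk0
    exact h3 (hk ▸ dvd_pow_self 2 hk0)
  rw [h5, pow_zero] at hk
  exact relIndex_eq_one.1 hk

/-- `O₂(R) ≤ T` for overgroups of `T`. -/
theorem ASx.o2_le_two [Finite X] (h : ASx S T A) {R : Subgroup X} (hT : T ≤ R) : o2 R ≤ T := by
  have h2 : T ≤ normalizer (o2 R : Set X) := hT.trans (le_normalizer_o2 R)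
  exact le_sup_left.trans (h.le_of_two ((o2_isPGroup R).to_sup_of_normal_left' h.two h2) le_sup_right)

/-- **`A` is not a Sylow 2-subgroup.** -/
theorem ASx.ne_two [Finite X] (h : ASx S T A) (hA : A ≠ ⊥) : A ≠ T := by
  intro hAT
  have hp : Fact (Nat.Prime 2) := ⟨Nat.prime_two⟩
  have hn := h.norm
  have hsim := h.simple
  apply h.nmax
  refine ⟨normalizer (T : Set X), ?_, fun R hTR hR => ?_⟩
  · intro h1
    have h2 : T.Normal := normalizer_eq_top_iff.1 h1
    -- `T ∩ S` is normal in `S`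
    have h3 : (T.subgroupOf S).Normal := inferInstance
    rcases hsim.eq_bot_or_eq_top_of_normal _ h3 with h4 | h4
    · -- `T ∩ S = 1`: `[T, S] = 1`
      have h5 : T ≤ centralizer (S : Set X) := by
        rw [← commutator_eq_bot_iff_le_centralizer, eq_bot_iff]
        refine (commutator_le_inf T S).trans ?_
        rw [subgroupOf_eq_bot, disjoint_iff] at h4
        exact h4.le
      rw [h.cen] at h5
      exact hA (eq_bot_iff.2 (h.le_two.trans h5))
    · -- `S` is a simple 2-group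
      have h5 : S ≤ T := subgroupOf_eq_top.1 h4
      have h6 : IsPGroup 2 S := h.two.to_le h5
      have h7 : center S ≠ ⊥ := by
        have := h6.center_nontrivial
        exact (nontrivial_iff_ne_bot _).1 this
      have h8 : center S = ⊤ := (hsim.eq_bot_or_eq_top_of_normal _ inferInstance).resolve_left h7
      have h9 : S ≤ centralizer (S : Set X) := by
        intro s hs
        refine mem_centralizer_iff.2 fun y hy => ?_
        have h10 : (⟨s, hs⟩ : S) ∈ center S := h8 ▸ mem_top _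
        exact congrArg Subtype.val (mem_center_iff.1 h10 ⟨y, hy⟩)
      rw [h.cen] at h9
      obtain ⟨x, hx⟩ := exists_ne (1 : S)
      exact hx (Subtype.ext (mem_bot.1 (h9 x.2)))
  · have h1 : o2 R = T := le_antisymm (h.o2_le_two hTR) (hAT ▸ h.low R hTR hR)
    have h2 := le_normalizer_o2 R
    rwa [h1] at h2

/-- **Inner automorphisms of 2-power order.** -/
theorem ASx.top_of_inner (h : ASx S T A)
    (hi : ∀ α : MulAut S, (∃ k : ℕ, α ^ 2 ^ k = 1) → ∃ v : S, α = MulAut.conj v) : S = ⊤ := by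
  have hn := h.norm
  rw [← h.gen]
  refine (sup_eq_left.2 fun a ha => ?_).symm
  obtain ⟨k, hk⟩ := h.two ⟨a, ha⟩
  obtain ⟨v, hv⟩ := hi (MulAut.conjNormal a) ⟨k, by
    rw [← map_pow, show a ^ 2 ^ k = 1 from congrArg Subtype.val hk, map_one]⟩
  have h1 : a = v := by
    apply h.conj_inj
    rw [hv]
    ext s
    rw [MulAut.conjNormal_apply, MulAut.conj_apply]
    simp only [_root_.Subgroup.coe_mul, _root_.InvMemClass.coe_inv]
  rw [h1]
  exact v.2

/-- **All automorphisms inner.** -/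
theorem ASx.top_of_inn (h : ASx S T A) (hi : ∀ α : MulAut S, ∃ v : S, α = MulAut.conj v) : S = ⊤ :=
  h.top_of_inner fun α _ => hi α

/-- The centraliser of a nontrivial element is proper. -/
theorem ASx.cent_ne_top (h : ASx S T A) {z : X} (hz1 : z ≠ 1) : centralizer ({z} : Set X) ≠ ⊤ := by
  intro h1
  have h2 : z ∈ centralizer (S : Set X) := mem_centralizer_iff.2 fun y _ =>
    mem_centralizer_singleton_iff.1 (h1 ▸ mem_top y)
  rw [h.cen] at h2
  exact hz1 (mem_bot.1 h2)

/-- **An involution of `S` centralised by `T`.** -/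
theorem ASx.exists_inv [Finite X] (h : ASx S T A) (h2 : 2 ∣ Nat.card S) :
    ∃ z ∈ S, z * z = 1 ∧ z ≠ 1 ∧ T ≤ centralizer ({z} : Set X) := by
  have hp : Fact (Nat.Prime 2) := ⟨Nat.prime_two⟩
  have hn := h.norm
  have h3 : S.subgroupOf T ≠ ⊥ := by
    intro h4
    rw [subgroupOf_eq_bot, disjoint_iff] at h4
    let T' : Sylow 2 X := h.two.toSylow h.syl
    have h5 : ¬ 2 ∣ (T' : Subgroup X).relIndex S := Cfsg.Agent.Lib.SylowNormalInf.not_dvd_relIndex T' S
    have h6 : (T' : Subgroup X).relIndex S = Nat.card S := by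
      show T.relIndex S = _
      rw [← inf_relIndex_right, inf_comm, h4, relIndex_bot_left]
    exact h5 (h6 ▸ h2)
  obtain ⟨z, hz, hzc, hzo⟩ := Cfsg.Agent.Involutions.NormalFour.exists_mem_center_of_normal h.two (S.subgroupOf T) h3
  have h4 : z * z = 1 := by rw [← pow_two, ← hzo, pow_orderOf_eq_one]
  have h5 : z ≠ 1 := by
    rintro rfl
    rw [orderOf_one] at hzo
    omega
  refine ⟨z, hz, congrArg Subtype.val h4, fun h6 => h5 (Subtype.ext h6), fun t ht => ?_⟩
  exact mem_centralizer_singleton_iff.2 (congrArg Subtype.val (mem_center_iff.1 hzc ⟨t, ht⟩))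

/-- `|X : S| ≤ |Aut(S) : Inn(S)|`. -/
theorem ASx.index_le [Finite X] (h : ASx S T A) : S.index ≤ (MulAut.conj : S →* MulAut S).range.index := by
  have hn := h.norm
  have h1 : S = ((MulAut.conj : S →* MulAut S).range).comap (MulAut.conjNormal : X →* MulAut S) := by
    ext x
    rw [mem_comap]
    constructor
    · intro hx
      refine ⟨⟨x, hx⟩, ?_⟩
      ext s
      rw [MulAut.conjNormal_apply, MulAut.conj_apply]
      simp only [_root_.Subgroup.coe_mul, _root_.InvMemClass.coe_inv]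
    · rintro ⟨v, hv⟩
      have h1 : x = v := by
        apply h.conj_inj
        rw [← hv]
        ext s
        rw [MulAut.conjNormal_apply, MulAut.conj_apply]
        simp only [_root_.Subgroup.coe_mul, _root_.InvMemClass.coe_inv]
      rw [h1]
      exact v.2
  have hfin : Finite (MulAut S) := Finite.of_injective (fun φ => (φ : S → S)) DFunLike.coe_injective
  have h2 : S.index = ((MulAut.conj : S →* MulAut S).range).relIndex (MulAut.conjNormal : X →* MulAut S).range := by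
    rw [← index_comap, ← h1]
  have hI : ((MulAut.conj : S →* MulAut S).range).Normal := by
    refine ⟨?_⟩
    rintro _ ⟨x, rfl⟩ φ
    refine ⟨φ x, ?_⟩
    ext y
    simp only [MulAut.conj_apply, _root_.Subgroup.coe_mul, _root_.InvMemClass.coe_inv, _root_.MulAut.mul_apply, _root_.MulAut.inv_apply, _root_.map_mul, _root_.MulEquiv.apply_symm_apply, _root_.map_inv]
  rw [h2]
  exact Nat.le_of_dvd (Nat.pos_of_ne_zero FiniteIndex.index_ne_zero) (relIndex_dvd_index_of_normal _ _)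

theorem ASx.card_le_mul_index [Finite X] (h : ASx S T A) (Q : Subgroup X) :
    Nat.card Q ≤ Nat.card (Q.subgroupOf S) * S.index := by
  have hn := h.norm
  have h1 : Nat.card (S.subgroupOf Q) * (S.subgroupOf Q).index = Nat.card Q := (S.subgroupOf Q).card_mul_index
  have h2 : (S.subgroupOf Q).index ≤ S.index :=
    Nat.le_of_dvd (Nat.pos_of_ne_zero FiniteIndex.index_ne_zero) (relIndex_dvd_index_of_normal _ _)
  have h3 : Nat.card (S.subgroupOf Q) = Nat.card (Q.subgroupOf S) := by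
    have h4 : Nat.card (S.subgroupOf Q) = Nat.card (Q ⊓ S : Subgroup X) := by
      rw [← card_map_of_injective Q.subtype_injective, subgroupOf_map_subtype, inf_comm]
    have h5 : Nat.card (Q.subgroupOf S) = Nat.card (Q ⊓ S : Subgroup X) := by
      rw [← card_map_of_injective S.subtype_injective, subgroupOf_map_subtype]
    rw [h4, h5]
  rw [← h1, h3]
  exact Nat.mul_le_mul_left _ h2

/-- **Centralisers of involutions of `S`.** -/
theorem ASx.card_le_of_inv [Finite X] (h : ASx S T A) (h2 : 2 ∣ Nat.card S) {n k : ℕ}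
    (hO : ∀ z : S, z * z = 1 → z ≠ 1 → ∀ Q : Subgroup S, Q ≤ centralizer ({z} : Set S) → IsPGroup 2 Q →
      centralizer ({z} : Set S) ≤ normalizer (Q : Set S) → Nat.card Q ≤ n)
    (hk : (MulAut.conj : S →* MulAut S).range.index ≤ k) : Nat.card A ≤ n * k := by
  obtain ⟨z, hz, hzz, hz1, hT⟩ := h.exists_inv h2
  have hR := h.cent_ne_top hz1
  set R := centralizer ({z} : Set X) with hRd
  have h3 : Nat.card ((o2 R).subgroupOf S) ≤ n := by
    refine hO ⟨z, hz⟩ (Subtype.ext hzz) (fun h4 => hz1 (congrArg Subtype.val h4)) _ ?_ ?_ ?_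
    · intro x hx
      exact mem_centralizer_singleton_iff.2 (Subtype.ext (mem_centralizer_singleton_iff.1 (o2_le R hx)))
    · exact (o2_isPGroup R).comap_subtype
    · intro c hc
      have h4 : (c : X) ∈ R := mem_centralizer_singleton_iff.2
        (congrArg Subtype.val (mem_centralizer_singleton_iff.1 hc))
      have h5 := mem_normalizer_iff.1 (le_normalizer_o2 R h4)
      rw [mem_normalizer_iff]
      intro y
      exact h5 (y : X)
  refine (card_le_of_le (h.low R hT hR)).trans ((h.card_le_mul_index _).trans ?_)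
  exact Nat.mul_le_mul h3 (h.index_le.trans hk)

/-- **A conjugate of `A` lies in `O₂(C_X(z))`.** -/
theorem ASx.conj_of_syl [Finite X] (h : ASx S T A) {z : S} (hz1 : z ≠ 1)
    (hz : ∃ S₀ : Sylow 2 S, z ∈ S₀ ∧ (∀ x ∈ S₀, x * z = z * x) ∧ ∀ y ∈ S₀, (∀ x ∈ S₀, x * y = y * x) → y = 1 ∨ y = z) :
    ∃ g : S, ∀ a ∈ A, (g : X)⁻¹ * a * g ∈ o2 (centralizer ({(z : X)} : Set X)) := by
  obtain ⟨g, hg⟩ := ShE.exists_conj h.norm h.two h.syl hz
  have hgz : (g : X) * z * (g : X)⁻¹ ≠ 1 := by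
    intro h1
    apply hz1
    apply Subtype.ext
    calc (z : X) = (g : X)⁻¹ * ((g : X) * z * (g : X)⁻¹) * g := by group
      _ = 1 := by rw [h1]; group
  have h1 := h.low _ hg (h.cent_ne_top hgz)
  refine ⟨g, fun a ha => ?_⟩
  apply conj_o2_mem (R := centralizer ({(z : X)} : Set X))
    (R' := centralizer ({(g : X) * z * (g : X)⁻¹} : Set X)) (g : X)
  · intro x
    rw [mem_centralizer_singleton_iff, mem_centralizer_singleton_iff]
    constructor
    · intro h2
      calc g * x * (g : X)⁻¹ * (g * z * (g : X)⁻¹) = g * (x * z) * (g : X)⁻¹ := by group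
        _ = g * (z * x) * (g : X)⁻¹ := by rw [h2]
        _ = _ := by group
    · intro h2
      calc x * z = (g : X)⁻¹ * (g * x * (g : X)⁻¹ * (g * z * (g : X)⁻¹)) * g := by group
        _ = (g : X)⁻¹ * (g * z * (g : X)⁻¹ * (g * x * (g : X)⁻¹)) * g := by rw [h2]
        _ = _ := by group
  · rw [mem_comap]
    show (g : X) * ((g : X)⁻¹ * a * g) * (g : X)⁻¹ ∈ _
    have h2 : (g : X) * ((g : X)⁻¹ * a * g) * (g : X)⁻¹ = a := by group
    rw [h2]
    exact h1 ha

/-- **Elementary abelian subgroups of `O₂(C_X(z))`.** -/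
theorem ASx.card_le_of_syl [Finite X] (h : ASx S T A) {z : S} (hz1 : z ≠ 1)
    (hz : ∃ S₀ : Sylow 2 S, z ∈ S₀ ∧ (∀ x ∈ S₀, x * z = z * x) ∧ ∀ y ∈ S₀, (∀ x ∈ S₀, x * y = y * x) → y = 1 ∨ y = z)
    {n : ℕ} (hn : ∀ B ≤ o2 (centralizer ({(z : X)} : Set X)), (∀ b ∈ B, b * b = 1) → Nat.card B ≤ n) :
    Nat.card A ≤ n := by
  obtain ⟨g, hg⟩ := h.conj_of_syl hz1 hz
  have h1 : A.map (MulAut.conj (g : X)⁻¹).toMonoidHom ≤ o2 (centralizer ({(z : X)} : Set X)) := by
    rintro _ ⟨a, ha, rfl⟩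
    have h2 := hg a ha
    rw [MulEquiv.toMonoidHom_eq_coe, MonoidHom.coe_coe, MulAut.conj_apply, inv_inv]
    exact h2
  have h2 := hn _ h1 (by
    rintro _ ⟨a, ha, rfl⟩
    rw [← map_mul, h.el a ha, map_one])
  rwa [card_map_of_injective (MulAut.conj (g : X)⁻¹).injective] at h2

/-- **A subgroup of odd index of `S = X`.** -/
theorem ASx.card_le_of_odd_index [Finite X] (h : ASx S T A) (hS : S = ⊤) {R : Subgroup S} (hR : ¬ 2 ∣ R.index)
    (hR1 : R ≠ ⊤) {n : ℕ} (hn : ∀ Q : Subgroup S, Q ≤ R → IsPGroup 2 Q → R ≤ normalizer (Q : Set S) → Nat.card Q ≤ n) :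
    Nat.card A ≤ n := by
  have hall : ∀ x : X, x ∈ S := fun x => hS ▸ mem_top x
  have h1 : ¬ 2 ∣ (R.map S.subtype).index := by
    have h0 : S.index = 1 := by rw [hS, index_top]
    rwa [index_map_subtype, h0, mul_one]
  obtain ⟨g, hg⟩ := exists_conj_le h.two h1
  -- the conjugate
  set R' : Subgroup X := (R.map S.subtype).comap (MulAut.conj g⁻¹).toMonoidHom with hR'
  have hmem : ∀ x : X, x ∈ R' ↔ (⟨g⁻¹ * x * g, hall _⟩ : S) ∈ R := by
    intro x
    rw [hR', mem_comap]
    constructor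
    · rintro ⟨r, hr, hrx⟩
      have h2 : (⟨g⁻¹ * x * g, hall _⟩ : S) = r := by
        apply Subtype.ext
        change (r : X) = g⁻¹ * x * g⁻¹⁻¹ at hrx
        rw [hrx, inv_inv]
      rwa [h2]
    · intro hr
      refine ⟨_, hr, ?_⟩
      show g⁻¹ * x * g = g⁻¹ * x * g⁻¹⁻¹
      rw [inv_inv]
  have hT : T ≤ R' := by
    intro t ht
    rw [hmem]
    obtain ⟨r, hr, hrx⟩ := hg t ht
    have h2 : (⟨g⁻¹ * t * g, hall _⟩ : S) = r := Subtype.ext hrx.symm
    rwa [h2]
  have hne : R' ≠ ⊤ := by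
    intro h2
    apply hR1
    rw [eq_top_iff]
    intro x _
    have h3 : g * x * g⁻¹ ∈ R' := h2 ▸ mem_top _
    rw [hmem] at h3
    have h4 : (⟨g⁻¹ * (g * x * g⁻¹) * g, hall _⟩ : S) = x := Subtype.ext (by group)
    rwa [h4] at h3
  have h2 := h.low R' hT hne
  -- the subgroup `Q`
  let f : S →* X := (MulAut.conj g).toMonoidHom.comp S.subtype
  have hf : Function.Injective f := (MulAut.conj g).injective.comp S.subtype_injective
  have hfa : ∀ x : S, f x = g * x * g⁻¹ := fun x => rfl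
  have h3 : Nat.card ((o2 R').comap f) ≤ n := by
    apply hn
    · intro x hx
      have h4 : f x ∈ R' := o2_le R' hx
      rw [hmem] at h4
      have h5 : (⟨g⁻¹ * f x * g, hall _⟩ : S) = x := Subtype.ext (by rw [hfa]; group)
      rwa [h5] at h4
    · exact (o2_isPGroup R').comap_of_injective _ hf
    · intro r hr
      have h4 : f r ∈ R' := by
        rw [hmem]
        have h5 : (⟨g⁻¹ * f r * g, hall _⟩ : S) = r := Subtype.ext (by rw [hfa]; group)
        rwa [h5]
      have h5 := mem_normalizer_iff.1 (le_normalizer_o2 R' h4)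
      rw [mem_normalizer_iff]
      intro y
      rw [mem_comap, mem_comap, map_mul, map_mul, map_inv]
      exact h5 (f y)
  have h4 : ((o2 R').comap f).map f = o2 R' := by
    refine map_comap_eq_self fun x _ => ?_
    exact ⟨⟨g⁻¹ * x * g, hall _⟩, by rw [hfa]; group⟩
  have h5 : Nat.card (o2 R') = Nat.card ((o2 R').comap f) := by
    rw [← card_map_of_injective hf, h4]
  exact (card_le_of_le h2).trans (h5 ▸ h3)

/-- **A simple subgroup of odd index.** -/
theorem ASx.card_le_of_odd_index_simple [Finite X] (h : ASx S T A) (hS : S = ⊤) {R : Subgroup S} (hR : ¬ 2 ∣ R.index)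
    (hR1 : R ≠ ⊤) (hs : IsSimpleGroup R) (h2 : ¬ IsPGroup 2 R) : Nat.card A ≤ 1 := by
  refine h.card_le_of_odd_index hS hR hR1 fun Q hQR hQ hN => ?_
  have h3 : (Q.subgroupOf R).Normal := by
    refine ⟨fun q hq g => ?_⟩
    exact (mem_normalizer_iff.1 (hN g.2) q).1 hq
  rcases hs.eq_bot_or_eq_top_of_normal _ h3 with h4 | h4
  · have h5 : Q = ⊥ := by
      rw [eq_bot_iff]
      intro q hq
      have h6 : (⟨q, hQR hq⟩ : R) ∈ Q.subgroupOf R := hq
      rw [h4, mem_bot] at h6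
      exact mem_bot.2 (congrArg Subtype.val h6)
    rw [h5, card_bot]
  · exact absurd (hQ.to_le (subgroupOf_eq_top.1 h4)) h2

section sheet

open Cfsg.Agent.OddHalf.D8.Sheet Cfsg.Agent.OddHalf.D8.JTwo.Sheet

/-- **`A ≤ R^g`.** -/
theorem ASx.le_conj [Finite X] (h : ASx S T A) {z : S} {P R : Subgroup S} (hz : SheetX z P R) :
    ∃ g : S, ∀ a ∈ A, (g : X)⁻¹ * a * g ∈ R.map S.subtype := by
  obtain ⟨g, hg⟩ := h.conj_of_syl hz.z1 hz.syl
  exact ⟨g, fun a ha => ShE.o2_le_R h.norm h.cen hz (hg a ha)⟩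

/-- `|A| ≤ n` if the elementary abelian subgroups of `R` have order at most `n`. -/
theorem ASx.card_le_of_sheet [Finite X] (h : ASx S T A) {z : S} {P R : Subgroup S} (hz : SheetX z P R) {n : ℕ}
    (hR : ∀ B ≤ R, (∀ b ∈ B, b * b = 1) → Nat.card B ≤ n) : Nat.card A ≤ n := by
  obtain ⟨g, hg⟩ := h.le_conj hz
  have h1 : A.map (MulAut.conj (g : X)⁻¹).toMonoidHom ≤ R.map S.subtype := by
    rintro _ ⟨a, ha, rfl⟩
    have h2 := hg a ha
    rw [MulEquiv.toMonoidHom_eq_coe, MonoidHom.coe_coe, MulAut.conj_apply, inv_inv]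
    exact h2
  obtain ⟨B, hB, hBA⟩ : ∃ B ≤ R, B.map S.subtype = A.map (MulAut.conj (g : X)⁻¹).toMonoidHom := by
    refine ⟨(A.map (MulAut.conj (g : X)⁻¹).toMonoidHom).comap S.subtype, ?_, ?_⟩
    · intro x hx
      obtain ⟨r, hr, hrx⟩ := h1 hx
      rwa [← S.subtype_injective hrx]
    · refine map_comap_eq_self ?_
      rw [range_subtype]
      exact h1.trans (map_subtype_le _)
  have h3 : Nat.card B = Nat.card A := by
    rw [← card_map_of_injective S.subtype_injective, hBA, card_map_of_injective (MulAut.conj (g : X)⁻¹).injective]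
  rw [← h3]
  refine hR B hB fun b hb => ?_
  have h4 : (b : X) ∈ A.map (MulAut.conj (g : X)⁻¹).toMonoidHom := by
    rw [← hBA]; exact ⟨b, hb, rfl⟩
  obtain ⟨a, ha, hab⟩ := h4
  apply Subtype.ext
  rw [Subgroup.coe_mul, Subgroup.coe_one, ← hab, ← map_mul, h.el a ha, map_one]

/-- **The row of a class of groups with a sheet of type (E), `R` of rank at most `log n`.** -/
theorem deadGx_of_sheet {n : ℕ} {𝒮 : ∀ (S : Type u) [Group S], Prop}
    (hs : ∀ (S : Type u) [Group S], Finite S → 𝒮 S → ∃ (z : S) (P R : Subgroup S), SheetX z P R ∧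
      ∀ B ≤ R, (∀ b ∈ B, b * b = 1) → Nat.card B ≤ n) : DeadGx.{u} n 𝒮 := by
  intro X _ _ S T A h hS
  obtain ⟨z, P, R, hz, hR⟩ := hs S inferInstance hS
  exact h.card_le_of_sheet hz hR

end sheet

end Cfsg.Agent.Omega.ML.Ex

end

section


/-!
# Exact and low configurations: the row M11 (helper333): `A = 1`

`M11` is sharply 4-transitive on 11 points; a 2-subgroup which is normal in the stabiliser (of odd index 11) of a point is
trivial: it is transitive on the ten other points or trivial.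
-/

set_option autoImplicit false

namespace Cfsg.Agent.Omega.ML.Ex.RowM11X

open Subgroup Cfsg Cfsg.Agent.ZN Cfsg.Agent.Omega.TwoF Cfsg.Agent.Omega.ML.Rows
open Cfsg.Agent.SporadicA.SharpFour

universe u v

theorem card_le_one {G : Type*} [Group G] [Finite G] {α : Type*} [Fintype α] [DecidableEq α] [MulAction G α]
    (h : Sharp4 G α) (h11 : Fintype.card α = 11) (ω : α) (Q : Subgroup G) (hQ : Q ≤ MulAction.stabilizer G ω)
    (hQ2 : IsPGroup 2 Q) (hN : MulAction.stabilizer G ω ≤ normalizer (Q : Set G)) : Nat.card Q ≤ 1 := by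
  by_contra hcon
  -- an element moving a point
  obtain ⟨d, hd, hd1⟩ : ∃ d ∈ Q, d ≠ 1 := by
    have h1 : Q ≠ ⊥ := by
      rintro rfl
      exact hcon (by rw [card_bot])
    obtain ⟨⟨d, hd⟩, hd1⟩ := Q.ne_bot_iff_exists_ne_one.1 h1
    exact ⟨d, hd, fun h2 => hd1 (Subtype.ext h2)⟩
  obtain ⟨a, ha⟩ : ∃ a : α, d • a ≠ a := by
    by_contra hc
    push Not at hc
    have hcard : (4 : ℕ) ≤ (Finset.univ : Finset α).card := by rw [Finset.card_univ, h11]; norm_num
    exact hd1 (Cfsg.Agent.SectRankFour.AutM11.eq_one_of_card h d Finset.univ hcard fun x _ => hc x)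
  set b := d • a with hb
  have hdω : d • ω = ω := hQ hd
  have haω : a ≠ ω := by
    rintro rfl
    exact ha hdω
  have hbω : b ≠ ω := by
    intro h1
    apply haω
    have h2 : d • a = d • ω := by rw [← hb, h1, hdω]
    exact smul_left_cancel d h2
  -- the orbit of `a` under `Q` contains every `c ≠ ω`
  have horb : ∀ c : α, c ≠ ω → c ∈ MulAction.orbit Q a := by
    intro c hc
    by_cases hca : c = a
    · rw [hca]; exact MulAction.mem_orbit_self a
    · -- a fourth point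
      have h4 : ∃ e : α, e ≠ ω ∧ e ≠ a ∧ e ≠ b := by
        have h5 : ({ω, a, b} : Finset α).card < (Finset.univ : Finset α).card := by
          rw [Finset.card_univ, h11]
          exact lt_of_le_of_lt (Finset.card_le_three) (by norm_num)
        obtain ⟨e, -, he⟩ := Finset.exists_mem_notMem_of_card_lt_card h5
        simp only [Finset.mem_insert, Finset.mem_singleton, not_or] at he
        exact ⟨e, he.1, he.2.1, he.2.2⟩
      have h4' : ∃ e : α, e ≠ ω ∧ e ≠ a ∧ e ≠ c := by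
        have h5 : ({ω, a, c} : Finset α).card < (Finset.univ : Finset α).card := by
          rw [Finset.card_univ, h11]
          exact lt_of_le_of_lt (Finset.card_le_three) (by norm_num)
        obtain ⟨e, -, he⟩ := Finset.exists_mem_notMem_of_card_lt_card h5
        simp only [Finset.mem_insert, Finset.mem_singleton, not_or] at he
        exact ⟨e, he.1, he.2.1, he.2.2⟩
      obtain ⟨e, he1, he2, he3⟩ := h4
      obtain ⟨e', he1', he2', he3'⟩ := h4'
      obtain ⟨r, hr1, hr2, hr3, -⟩ := h.exists_map ω a b e ω a c e'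
        (nodup4_iff.2 ⟨haω.symm, hbω.symm, he1.symm, ha.symm, he2.symm, he3.symm⟩)
        (nodup4_iff.2 ⟨haω.symm, hc.symm, he1'.symm, Ne.symm hca, he2'.symm, he3'.symm⟩)
      have h6 : r * d * r⁻¹ ∈ Q := (mem_normalizer_iff.1 (hN (show r ∈ MulAction.stabilizer G ω from hr1)) d).1 hd
      refine ⟨⟨r * d * r⁻¹, h6⟩, ?_⟩
      show (r * d * r⁻¹) • a = c
      have h7 : r⁻¹ • a = a := inv_smul_eq_iff.2 hr2.symm
      rw [mul_smul, mul_smul, h7, ← hb, hr3]
  have hnot : ω ∉ MulAction.orbit Q a := by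
    rintro ⟨q, hq⟩
    apply haω
    have h1 : (q : G) • ω = ω := hQ q.2
    have h2 : (q : G) • a = (q : G) • ω := by rw [h1]; exact hq
    exact smul_left_cancel _ h2
  have hset : MulAction.orbit Q a = {ω}ᶜ := by
    ext c
    rw [Set.mem_compl_singleton_iff]
    exact ⟨fun h1 h2 => hnot (h2 ▸ h1), horb c⟩
  have hcard : Nat.card (MulAction.orbit Q a) = 10 := by
    rw [hset, Nat.card_coe_set_eq, Set.ncard_compl, Set.ncard_singleton, Nat.card_eq_fintype_card, h11]
  have h1 : 10 ∣ Nat.card Q := by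
    rw [← hcard]
    exact Nat.card_congr (MulAction.orbitEquivQuotientStabilizer Q a) ▸
      (MulAction.stabilizer Q a).index_dvd_card
  obtain ⟨n, hn⟩ := IsPGroup.iff_card.1 hQ2
  rw [hn] at h1
  have h3 : 5 ∣ 2 ^ n := (by norm_num : (5 : ℕ) ∣ 10).trans h1
  have h4 := Nat.Prime.dvd_of_dvd_pow Nat.prime_five h3
  omega

/-- **The row `M11`**: `A = 1`. -/
theorem m11 : DeadGx.{u} 1 (fun S _ => Spor.IsoM11 S) := by
  intro X _ _ S T A h hS
  have hS' := hS
  obtain ⟨e⟩ := hS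
  have hM : Cfsg.IsM11 S := by
    have hs0 : IsSimpleGroup Spor.M11 := Cfsg.Agent.Omega.TwoF.isM11.1
    exact ⟨e.isSimpleGroup, (Nat.card_congr e.toEquiv).trans Cfsg.Agent.Omega.TwoF.isM11.2⟩
  have htop : S = ⊤ := h.top_of_inn fun α => Cfsg.Agent.SectRankFour.AutM11.exists_conj hM α
  obtain ⟨α, i1, i2, i3, h11, hsh⟩ := Cfsg.Agent.SectRankFour.AutM11.exists_sharp4 hM
  obtain ⟨ω⟩ : Nonempty α := Fintype.card_pos_iff.1 (by rw [h11]; norm_num)
  have htr : ∀ c : α, c ∈ MulAction.orbit S ω := by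
    intro c
    have hex : ∀ x : α, ∃ s t u : α, [x, s, t, u].Nodup := by
      intro x
      have h5 : (4 : ℕ) ≤ (Finset.univ : Finset α).card := by rw [Finset.card_univ, h11]; norm_num
      obtain ⟨s, hs1, hs2, hs3⟩ := Finset.exists_subsuperset_card_eq (s := {x}) (t := (Finset.univ : Finset α)) (n := 4)
        (Finset.subset_univ _) (by simp) h5
      have hx : x ∈ s := hs1 (Finset.mem_singleton_self x)
      have h6 : (s.erase x).card = 3 := by rw [Finset.card_erase_of_mem hx, hs3]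
      obtain ⟨p, q, r, hpq, hpr, hqr, hs⟩ := Finset.card_eq_three.1 h6
      have hp : p ∈ s.erase x := by rw [hs]; simp
      have hq : q ∈ s.erase x := by rw [hs]; simp
      have hr : r ∈ s.erase x := by rw [hs]; simp
      exact ⟨p, q, r, nodup4_iff.2 ⟨(Finset.ne_of_mem_erase hp).symm, (Finset.ne_of_mem_erase hq).symm,
        (Finset.ne_of_mem_erase hr).symm, hpq, hpr, hqr⟩⟩
    obtain ⟨s, t, u, h1⟩ := hex ω
    obtain ⟨s', t', u', h1'⟩ := hex c
    obtain ⟨g, hg, -⟩ := hsh.exists_map ω s t u c s' t' u' h1 h1'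
    exact ⟨g, hg⟩
  have hidx : (MulAction.stabilizer S ω).index = 11 := by
    have h1 : MulAction.orbit S ω = Set.univ := Set.eq_univ_of_forall htr
    have h2 : Nat.card (MulAction.orbit S ω) = 11 := by
      rw [h1, Nat.card_coe_set_eq, Set.ncard_univ, Nat.card_eq_fintype_card, h11]
    rw [← h2]
    exact (Nat.card_congr (MulAction.orbitEquivQuotientStabilizer S ω)).symm
  refine h.card_le_of_odd_index htop (R := MulAction.stabilizer S ω) (by rw [hidx]; norm_num) ?_
    fun Q hQ hQ2 hN => card_le_one hsh h11 ω Q hQ hQ2 hN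
  intro h1
  rw [h1, index_top] at hidx
  norm_num at hidx

/-- **The row is dead.** -/
theorem m11_dead : DeadX.{u, v} (fun S _ => Spor.IsoM11 S) := m11.deadX (by norm_num)

end Cfsg.Agent.Omega.ML.Ex.RowM11X

end

section


/-!
# Exact and low configurations: the row M12 (helper226)

`|A| ≤ 16` and `|M : C_M(x)| ≥ 16` for all involutions `x` of `K`, so `|A| = 16`, `C_M(x) = C_M(A)` for `x ∈ (A ∩ K)#`,
`E := A ∩ K` is of order 8 and normal in `C_K(x)` for all `x ∈ E#`.  There is no such `E` : no involution of `E` is in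
2A (`C(2A) = 2 × S_5`), so `|C_K(x)| = 192` and the orbits of `N_K(E)` on the 7 elements of `E#` have the same length,
so `N_K(E) = C_K(E)` contains a Sylow 2-subgroup, which has a centre of order 2.
-/

set_option autoImplicit false

namespace Cfsg.Agent.Omega.ML.Ex.RowM12X

open Subgroup Cfsg Cfsg.Agent.Omega.ML.Rows Cfsg.Agent.Omega.ML.InvChain Cfsg.Agent.Omega.ML.InvTool
open Cfsg.Agent.Omega.TwoF Cfsg.Agent.CoThreeStd Cfsg.Agent.CoThreeStd.MTwelve Cfsg.Agent.CoThreeStd.InvTwo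
open Cfsg.Agent.ClassTwoFusion.Quad Cfsg.Agent.Omega.ML.Ex.TIE

universe u v

/-! ### The group theory of `M12` -/

section group

/-- the 2-rank of `M12` is at most 3 -/
theorem card_le_eight (B : Subgroup Spor.M12) (hB : ∀ b ∈ B, b * b = 1) : Nat.card B ≤ 8 := by
  have hp : Fact (Nat.Prime 2) := ⟨Nat.prime_two⟩
  have hB2 : IsPGroup 2 B := fun b => ⟨1, by rw [pow_one, pow_two]; exact Subtype.ext (hB b b.2)⟩
  obtain ⟨P, hP⟩ := hB2.exists_le_sylow
  obtain ⟨e⟩ := Cfsg.Agent.MTwelveType.SylowModel.exists_equiv P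
  have h1 : Nat.card B = Nat.card ((B.subgroupOf (P : Subgroup Spor.M12)).map e.symm.toMonoidHom) := by
    rw [← Nat.card_congr ((B.subgroupOf _).equivMapOfInjective e.symm.toMonoidHom e.symm.injective).toEquiv]
    exact Nat.card_congr (subgroupOfEquivOfLe hP).symm.toEquiv
  rw [h1]
  apply TwoF.RowM12.card_le
  rintro _ ⟨b, hb, rfl⟩
  show e.symm b * e.symm b = 1
  rw [← map_mul, ← map_one e.symm]
  congr 1
  exact Subtype.ext (hB b hb)

theorem perm5 : ∀ σ : Equiv.Perm (Fin 5), σ * σ = 1 →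
    (∀ τ : Equiv.Perm (Fin 5), (σ * (τ * σ * τ⁻¹)) * (σ * (τ * σ * τ⁻¹)) = 1) → σ = 1 := by (simp only [↓Cfsg.Agent.PermCode.M, Cfsg.Agent.PermCode.P5.R, Cfsg.Agent.PermCode.B]; decide +kernel)

/-- a normal elementary abelian subgroup of `C(2A)` is `⟨x⟩` or `1` -/
theorem not_A {E : Subgroup Spor.M12} (hE : ∀ e ∈ E, e * e = 1) {x : Spor.M12} (hx : x ∈ E) (hA : InvTwo.IsA x)
    (hN : centralizer ({x} : Set Spor.M12) ≤ normalizer (E : Set Spor.M12)) {e : Spor.M12} (he : e ∈ E) :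
    e = 1 ∨ e = x := by
  obtain ⟨c, rfl⟩ := hA
  have hcomm : ∀ a ∈ E, ∀ b ∈ E, a * b = b * a := by
    intro a ha b hb
    have h1 : ∀ z ∈ E, z⁻¹ = z := fun z hz => (inv_eq_of_mul_eq_one_right (hE z hz) :)
    calc a * b = (a * b)⁻¹ := (h1 _ (E.mul_mem ha hb)).symm
      _ = b⁻¹ * a⁻¹ := mul_inv_rev _ _
      _ = b * a := by rw [h1 _ ha, h1 _ hb]
  have h1 : (c * e * c⁻¹) * y = y * (c * e * c⁻¹) := by
    have h2 := hcomm e he _ hx
    calc (c * e * c⁻¹) * y = c * (e * (c⁻¹ * y * c)) * c⁻¹ := by group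
      _ = c * ((c⁻¹ * y * c) * e) * c⁻¹ := by rw [h2]
      _ = y * (c * e * c⁻¹) := by group
  obtain ⟨σ, hσ⟩ := cent_y _ h1
  have hee : (c * e * c⁻¹) * (c * e * c⁻¹) = 1 := by
    calc (c * e * c⁻¹) * (c * e * c⁻¹) = c * (e * e) * c⁻¹ := by group
      _ = 1 := by rw [hE e he]; group
  -- the conjugates
  have hconj : ∀ τ, (c * e * c⁻¹ * (w τ * (c * e * c⁻¹) * (w τ)⁻¹)) * (c * e * c⁻¹ * (w τ * (c * e * c⁻¹) * (w τ)⁻¹)) = 1 := by
    intro τ
    have h2 : c⁻¹ * w τ * c ∈ centralizer ({c⁻¹ * y * c} : Set Spor.M12) := by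
      rw [mem_centralizer_singleton_iff]
      have h3 := y_comm τ
      calc (c⁻¹ * w τ * c) * (c⁻¹ * y * c) = c⁻¹ * (w τ * y) * c := by group
        _ = c⁻¹ * (y * w τ) * c := by rw [h3]
        _ = (c⁻¹ * y * c) * (c⁻¹ * w τ * c) := by group
    have h3 := (mem_normalizer_iff.1 (hN h2) e).1 he
    have h4 := hE _ (E.mul_mem he h3)
    calc (c * e * c⁻¹ * (w τ * (c * e * c⁻¹) * (w τ)⁻¹)) * (c * e * c⁻¹ * (w τ * (c * e * c⁻¹) * (w τ)⁻¹))
        = c * ((e * ((c⁻¹ * w τ * c) * e * (c⁻¹ * w τ * c)⁻¹)) * (e * ((c⁻¹ * w τ * c) * e * (c⁻¹ * w τ * c)⁻¹))) * c⁻¹ := by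
          group
      _ = 1 := by rw [h4]; group
  have hσ1 : σ = 1 := by
    refine perm5 σ ?_ fun τ => ?_
    · apply w_injective
      rw [map_mul, map_one]
      rcases hσ with h2 | h2
      · rw [← h2, hee]
      · have h3 := hee
        rw [h2] at h3
        calc w σ * w σ = y * y * w σ * w σ := by rw [y_sq, one_mul]
          _ = y * (y * w σ) * w σ := by group
          _ = y * (w σ * y) * w σ := by rw [y_comm]
          _ = (y * w σ) * (y * w σ) := by group
          _ = 1 := h3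
    · apply w_injective
      rw [map_mul, map_one, map_mul, map_mul, map_mul, map_inv]
      rcases hσ with h2 | h2
      · have h3 := hconj τ
        rwa [h2] at h3
      · have h3 := hconj τ
        rw [h2] at h3
        have h4 : y * w σ * (w τ * (y * w σ) * (w τ)⁻¹) = w σ * (w τ * w σ * (w τ)⁻¹) := by
          calc y * w σ * (w τ * (y * w σ) * (w τ)⁻¹) = (y * w σ) * ((w τ * y) * w σ * (w τ)⁻¹) := by group
            _ = (w σ * y) * ((y * w τ) * w σ * (w τ)⁻¹) := by rw [← y_comm τ, y_comm σ]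
            _ = w σ * (y * y) * (w τ * w σ * (w τ)⁻¹) := by group
            _ = _ := by rw [y_sq, mul_one]
        rwa [h4] at h3
  rw [hσ1, map_one, mul_one] at hσ
  rcases hσ with h2 | h2
  · left
    calc e = c⁻¹ * (c * e * c⁻¹) * c := by group
      _ = 1 := by rw [h2]; group
  · right
    calc e = c⁻¹ * (c * e * c⁻¹) * c := by group
      _ = c⁻¹ * y * c := by rw [h2]

/-- the centre of the Sylow 2-subgroup -/
theorem center_T4 : ∀ x : TwoF.RowM12.T4, (∀ y : TwoF.RowM12.T4, x * y = y * x) → x = 1 ∨ x = Cfsg.Agent.ClassificationK.GTwoModel.T.z 2 := by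
  decide +kernel

theorem card_cent_B {x : Spor.M12} (hx : InvTwo.IsB x) : Nat.card (centralizer ({x} : Set Spor.M12)) = 192 := by
  obtain ⟨c, rfl⟩ := hx
  rw [← card_cent_v]
  have h1 : centralizer ({c⁻¹ * (p * r) * c} : Set Spor.M12) =
      (centralizer ({p * r} : Set Spor.M12)).map (MulAut.conj c⁻¹).toMonoidHom := by
    ext g
    rw [mem_centralizer_singleton_iff]
    constructor
    · intro h
      refine ⟨c * g * c⁻¹, mem_centralizer_singleton_iff.2 ?_, ?_⟩
      · calc c * g * c⁻¹ * (p * r) = c * (g * (c⁻¹ * (p * r) * c)) * c⁻¹ := by group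
          _ = c * ((c⁻¹ * (p * r) * c) * g) * c⁻¹ := by rw [h]
          _ = p * r * (c * g * c⁻¹) := by group
      · show c⁻¹ * (c * g * c⁻¹) * c⁻¹⁻¹ = g
        group
    · rintro ⟨k, hk, rfl⟩
      have h2 := mem_centralizer_singleton_iff.1 hk
      show c⁻¹ * k * c⁻¹⁻¹ * (c⁻¹ * (p * r) * c) = c⁻¹ * (p * r) * c * (c⁻¹ * k * c⁻¹⁻¹)
      calc c⁻¹ * k * c⁻¹⁻¹ * (c⁻¹ * (p * r) * c) = c⁻¹ * (k * (p * r)) * c := by group
        _ = c⁻¹ * ((p * r) * k) * c := by rw [h2]
        _ = _ := by group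
  rw [h1]
  exact card_map_of_injective (MulAut.conj c⁻¹).injective

/-- **No `E` of order 8 is normal in the centralizers of its involutions.** -/
theorem no_eight {E : Subgroup Spor.M12} (hE : ∀ e ∈ E, e * e = 1) (h8 : Nat.card E = 8)
    (hN : ∀ x ∈ E, x ≠ 1 → centralizer ({x} : Set Spor.M12) ≤ normalizer (E : Set Spor.M12)) : False := by
  have hp : Fact (Nat.Prime 2) := ⟨Nat.prime_two⟩
  set N := normalizer (E : Set Spor.M12) with hNd
  -- all the involutions are in 2B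
  have hB : ∀ x ∈ E, x ≠ 1 → Nat.card (centralizer ({x} : Set Spor.M12)) = 192 := by
    intro x hx hx1
    rcases inv2.cases x (hE x hx) hx1 with hA | hB
    · exfalso
      have h1 : (E : Set Spor.M12) ⊆ {1, x} := fun e he => by
        rcases not_A hE hx hA (hN x hx hx1) he with h | h
        · exact Or.inl h
        · exact Or.inr h
      have h2 : Nat.card E ≤ 2 := by
        have h3 := Set.ncard_le_ncard h1 (Set.toFinite _)
        have h4 : ({1, x} : Set Spor.M12).ncard ≤ 2 := Set.ncard_insert_le _ _ |>.trans (by rw [Set.ncard_singleton])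
        exact le_trans (le_of_eq (Nat.card_coe_set_eq (E : Set Spor.M12))) (h3.trans h4)
      omega
    · exact card_cent_B hB
  -- the action of `N` on `E#`
  let Y : Type := {e : Spor.M12 // e ∈ E ∧ e ≠ 1}
  have hnm : ∀ (g : N) (e : Y), (g : Spor.M12) * e.1 * (g : Spor.M12)⁻¹ ∈ E ∧
      (g : Spor.M12) * e.1 * (g : Spor.M12)⁻¹ ≠ 1 := by
    intro g e
    refine ⟨(mem_normalizer_iff.1 g.2 e.1).1 e.2.1, fun h => e.2.2 ?_⟩
    calc e.1 = (g : Spor.M12)⁻¹ * ((g : Spor.M12) * e.1 * (g : Spor.M12)⁻¹) * g := by group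
      _ = 1 := by rw [h]; group
  letI : MulAction N Y :=
    { smul := fun g e => ⟨(g : Spor.M12) * e.1 * (g : Spor.M12)⁻¹, hnm g e⟩
      one_smul := fun e => Subtype.ext (by
        show ((1 : N) : Spor.M12) * e.1 * ((1 : N) : Spor.M12)⁻¹ = e.1
        simp only [_root_.OneMemClass.coe_one, _root_.ne_eq, _root_.one_mul, _root_.inv_one, _root_.mul_one])
      mul_smul := fun g g' e => Subtype.ext (by
        show ((g * g' : N) : Spor.M12) * e.1 * ((g * g' : N) : Spor.M12)⁻¹ = 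
          (g : Spor.M12) * ((g' : Spor.M12) * e.1 * (g' : Spor.M12)⁻¹) * (g : Spor.M12)⁻¹
        simp only [mul_assoc, _root_.Subgroup.coe_mul, _root_.ne_eq, _root_.mul_inv_rev]) }
  have hsm : ∀ (g : N) (e : Y), ((g • e : Y) : Spor.M12) = (g : Spor.M12) * e.1 * (g : Spor.M12)⁻¹ := fun _ _ => rfl
  have hstab : ∀ e : Y, Nat.card (MulAction.stabilizer N e) = 192 := by
    intro e
    rw [← hB e.1 e.2.1 e.2.2]
    have h1 : (MulAction.stabilizer N e).map N.subtype = centralizer ({e.1} : Set Spor.M12) := by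
      ext g
      rw [mem_centralizer_singleton_iff]
      constructor
      · rintro ⟨k, hk, rfl⟩
        have h2 := congrArg Subtype.val (MulAction.mem_stabilizer_iff.1 hk)
        rw [hsm] at h2
        exact mul_inv_eq_iff_eq_mul.1 h2
      · intro h
        refine ⟨⟨g, hN e.1 e.2.1 e.2.2 (mem_centralizer_singleton_iff.2 h)⟩, ?_, rfl⟩
        apply MulAction.mem_stabilizer_iff.2
        apply Subtype.ext
        rw [hsm]
        exact mul_inv_eq_iff_eq_mul.2 h
    rw [← h1]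
    exact (card_map_of_injective N.subtype_injective).symm
  have horb : ∀ e : Y, Nat.card (MulAction.orbit N e) * 192 = Nat.card N := by
    intro e
    have h1 := MulAction.index_stabilizer N e
    have h2 := (MulAction.stabilizer N e).card_mul_index
    rw [h1, hstab e, ← Nat.card_coe_set_eq, mul_comm] at h2
    exact h2
  -- the number of elements
  have h7 : Nat.card Y = 7 := by
    have h1 : Nat.card Y + 1 = Nat.card E := by
      have h2 : ({e : Spor.M12 | e ∈ E ∧ e ≠ 1} : Set Spor.M12) = (E : Set Spor.M12) \ {1} := by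
        ext e; simp only [_root_.ne_eq, _root_.Set.mem_ofPred_eq, _root_.Set.mem_sdiff, _root_.SetLike.mem_coe, _root_.Set.mem_singleton_iff]
      have h3 : Nat.card Y = ((E : Set Spor.M12) \ {1}).ncard := by
        rw [← h2]
        exact Nat.card_coe_set_eq _
      rw [h3, Set.ncard_diff_singleton_add_one (one_mem E) (Set.toFinite _)]
      exact (Nat.card_coe_set_eq _).symm
    omega
  have hfinY : Finite Y := Nat.finite_of_card_ne_zero (by rw [h7]; norm_num)
  obtain ⟨e₀⟩ : Nonempty Y := Finite.card_pos_iff.1 (by rw [h7]; norm_num)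
  set m := Nat.card (MulAction.orbit N e₀) with hm
  have hcard : Nat.card N = m * 192 := (horb e₀).symm
  have h1 : Nat.card Y = Nat.card (MulAction.orbitRel.Quotient N Y) * m := by
    have := Fintype.ofFinite (MulAction.orbitRel.Quotient N Y)
    rw [Nat.card_congr (MulAction.selfEquivSigmaOrbits' N Y), Nat.card_sigma]
    have h2 : ∀ ω : MulAction.orbitRel.Quotient N Y, Nat.card ω.orbit = m := by
      intro ω
      rw [MulAction.orbitRel.Quotient.orbit_eq_orbit_out ω Quotient.out_eq']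
      have h3 := horb ω.out
      rw [hcard] at h3
      exact Nat.eq_of_mul_eq_mul_right (by norm_num) h3
    rw [Finset.sum_congr rfl fun ω _ => h2 ω, Finset.sum_const, Finset.card_univ, smul_eq_mul, Nat.card_eq_fintype_card]
  have hm7 : m = 1 := by
    have h2 : m ∣ 7 := ⟨_, by rw [← h7, h1, mul_comm]⟩
    rcases (Nat.dvd_prime (by norm_num : Nat.Prime 7)).1 h2 with h | h
    · exact h
    · exfalso
      have h3 : Nat.card N ∣ Nat.card Spor.M12 := card_subgroup_dvd_card N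
      rw [hcard, h, TwoF.RowM12.card_M12] at h3
      norm_num at h3
  have hcN : Nat.card N = 192 := by rw [hcard, hm7, one_mul]
  -- `N` centralizes `E`
  have hcen : ∀ g ∈ N, ∀ e ∈ E, g * e = e * g := by
    intro g hg e he
    by_cases he1 : e = 1
    · rw [he1, mul_one, one_mul]
    · have h2 : centralizer ({e} : Set Spor.M12) = N :=
        Subgroup.eq_of_le_of_card_ge (hN e he he1) (by rw [hcN, hB e he he1])
      exact mem_centralizer_singleton_iff.1 (h2 ▸ hg)
  -- a Sylow 2-subgroup in `N`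
  have hidx : ¬ 2 ∣ N.index := by
    intro h2
    have h3 := N.card_mul_index
    rw [hcN, TwoF.RowM12.card_M12] at h3
    have h4 : N.index = 495 := by omega
    rw [h4] at h2
    norm_num at h2
  obtain ⟨P⟩ : Nonempty (Sylow 2 Spor.M12) := inferInstance
  obtain ⟨g, hg⟩ := exists_conj_le P.isPGroup' hidx
  -- `g E g⁻¹` centralizes `P`
  have hPE : ∀ t ∈ (P : Subgroup Spor.M12), ∀ e ∈ E, t * (g * e * g⁻¹) = g * e * g⁻¹ * t := by
    intro t ht e he
    have h2 := hcen _ (hg t ht) e he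
    calc t * (g * e * g⁻¹) = g * ((g⁻¹ * t * g) * e) * g⁻¹ := by group
      _ = g * (e * (g⁻¹ * t * g)) * g⁻¹ := by rw [h2]
      _ = _ := by group
  set E' : Subgroup Spor.M12 := E.map (MulAut.conj g).toMonoidHom with hE'
  have hE'2 : IsPGroup 2 E' := by
    rintro ⟨_, e, he, rfl⟩
    refine ⟨1, Subtype.ext ?_⟩
    show (g * e * g⁻¹) ^ 2 ^ 1 = 1
    rw [pow_one, conj_pow, pow_two, hE e he]
    group
  have hle : E' ≤ (P : Subgroup Spor.M12) := by
    have h2 : (P : Subgroup Spor.M12) ≤ normalizer (E' : Set Spor.M12) := by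
      refine le_trans ?_ (centralizer_le_normalizer _)
      intro t ht
      rw [mem_centralizer_iff]
      rintro _ ⟨e, he, rfl⟩
      exact (hPE t ht e he).symm
    have h3 : IsPGroup 2 ((E' ⊔ (P : Subgroup Spor.M12) : Subgroup Spor.M12)) :=
      hE'2.to_sup_of_normal_left' P.isPGroup' h2
    have h4 := P.is_maximal' h3 le_sup_right
    exact h4 ▸ le_sup_left
  obtain ⟨f⟩ := Cfsg.Agent.MTwelveType.SylowModel.exists_equiv P
  -- the centre
  have h5 : (E' : Set Spor.M12) ⊆ {1, ((f (Cfsg.Agent.ClassificationK.GTwoModel.T.z 2) : (P : Subgroup Spor.M12)) : Spor.M12)} := by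
    intro x hx
    have hxP := hle hx
    rcases center_T4 (f.symm ⟨x, hxP⟩) (fun t => by
      apply f.injective
      rw [map_mul, map_mul, f.apply_symm_apply]
      apply Subtype.ext
      obtain ⟨e, he, rfl⟩ := hx
      exact (hPE _ (f t).2 e he).symm) with h6 | h6
    · left
      have h7 := congrArg f h6
      rw [f.apply_symm_apply, map_one] at h7
      exact congrArg Subtype.val h7
    · right
      have h7 := congrArg f h6
      rw [f.apply_symm_apply] at h7
      exact congrArg Subtype.val h7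
  have h6 : Nat.card E' ≤ 2 := by
    have h7 := Set.ncard_le_ncard h5 (Set.toFinite _)
    have h8' := Set.ncard_insert_le (1 : Spor.M12) {((f (Cfsg.Agent.ClassificationK.GTwoModel.T.z 2) : (P : Subgroup Spor.M12)) : Spor.M12)}
    rw [Set.ncard_singleton] at h8'
    exact le_trans (le_of_eq (Nat.card_coe_set_eq (E' : Set Spor.M12))) (h7.trans h8')
  have h9 : Nat.card E' = 8 := by
    rw [← h8]
    exact card_map_of_injective (MulAut.conj g).injective
  omega

end group

/-! ### The module -/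

section module

variable {H : Type u} [Group H] [Finite H] {M : Type v} [Group M] [Finite M] [MulDistribMulAction H M]
  {K T A : Subgroup H}

omit [Finite H] in
theorem two_pow_le (h : InX H M K T A) {n : ℕ} {x : K} (hxx : x * x = 1) (hx : InvAt x n) :
    2 ^ n ≤ (cv M ({(x : H)} : Set H)).index :=
  InvRow.inv_big h.sq h.faith (congrArg Subtype.val hxx) (hx.map K.subtype K.subtype_injective)

omit [Finite H] in
/-- `C_M(x) = C_M(A)`, `|A| = 2 ^ n` -/
theorem cv_eq (h : InX H M K T A) {n : ℕ} (hn : Nat.card A ≤ 2 ^ n) {x : K} (hxA : (x : H) ∈ A) (hx : InvAt x n) :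
    cv M ({(x : H)} : Set H) = cv M (A : Set H) ∧ Nat.card A = 2 ^ n := by
  have hxx : x * x = 1 := Subtype.ext (h.el _ hxA)
  have h1 := two_pow_le h hxx hx
  have hle : cv M (A : Set H) ≤ cv M ({(x : H)} : Set H) := cv_anti (by simpa using hxA)
  have h4 : (cv M (A : Set H)).relIndex (cv M ({(x : H)} : Set H)) * (cv M ({(x : H)} : Set H)).index =
      (cv M (A : Set H)).index := relIndex_mul_index hle
  rw [h.exact] at h4
  have h5 : (cv M (A : Set H)).relIndex (cv M ({(x : H)} : Set H)) ≠ 0 := index_ne_zero_of_finite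
  have h6 : (cv M (A : Set H)).relIndex (cv M ({(x : H)} : Set H)) = 1 := by
    by_contra h7
    have h8 : 2 ≤ (cv M (A : Set H)).relIndex (cv M ({(x : H)} : Set H)) := by omega
    have h9 : 2 * (cv M ({(x : H)} : Set H)).index ≤ Nat.card A := by
      rw [← h4]
      exact Nat.mul_le_mul_right _ h8
    have h10 : 0 < 2 ^ n := by positivity
    omega
  refine ⟨le_antisymm (relIndex_eq_one.1 h6) hle, ?_⟩
  rw [h6, one_mul] at h4
  omega

/-- **The row M12.** -/
theorem deadX : DeadX.{u, v} (fun S _ => Spor.IsoM12 S) := by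
  rintro H _ _ M _ _ _ K T A h ⟨e⟩
  have hn := h.norm
  have h16 : Nat.card A ≤ 2 ^ 4 := h.asx.card_le_of_rk (TwoF.RowM12.rk.equiv e)
  have hinv : ∀ x : K, x * x = 1 → x ≠ 1 → InvAt x 4 := by
    intro x h2 h1
    have h3 := RowM12.invAt (x := e x) (by rw [← map_mul, h2, map_one])
      (fun h => h1 (e.injective (h.trans (map_one e).symm)))
    have h4 := h3.map e.symm.toMonoidHom e.symm.injective
    have h5 : e.symm.toMonoidHom (e x) = x := e.symm_apply_apply x
    rwa [h5] at h4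
  have hidx : K.index ≤ 2 := by
    refine h.asx.index_le.trans ?_
    rw [index_conj_eq e]
    exact Nat.le_of_dvd (by norm_num) TwoF.RowM12.index_dvd
  set E : Subgroup K := A.subgroupOf K with hEd
  have hcA : Nat.card A ≤ Nat.card E * 2 := (h.asx.card_le_mul_index A).trans (Nat.mul_le_mul_left _ hidx)
  have hEel : ∀ x ∈ E, x * x = 1 := fun x hx => Subtype.ext (h.el _ hx)
  have hrk : ∀ B : Subgroup K, (∀ b ∈ B, b * b = 1) → Nat.card B ≤ 8 := by
    intro B hB
    have h1 := card_le_eight (B.map e.toMonoidHom) (by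
      rintro _ ⟨b, hb, rfl⟩
      rw [← map_mul, hB b hb, map_one])
    rwa [card_map_of_injective e.injective] at h1
  -- `E ≠ 1`
  have hE1 : ∃ x ∈ E, x ≠ 1 := by
    by_contra hcon
    push Not at hcon
    have h1 : E = ⊥ := (eq_bot_iff_forall _).2 hcon
    rw [h1, card_bot] at hcA
    have := h.four
    omega
  have heq : ∀ x ∈ E, x ≠ 1 → cv M ({(x : H)} : Set H) = cv M (A : Set H) := fun x hx hx1 =>
    (cv_eq h h16 hx (hinv x (hEel x hx) hx1)).1
  have hA16 : Nat.card A = 16 := by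
    obtain ⟨x, hx, hx1⟩ := hE1
    exact (cv_eq h h16 hx (hinv x (hEel x hx) hx1)).2
  have hE8 : Nat.card E = 8 := by
    have := hrk E hEel
    omega
  set F := cv M (A : Set H) with hF
  -- `E = EE F ∩ K`
  have hEE : E = (EE F : Subgroup H).subgroupOf K := by
    apply Subgroup.eq_of_le_of_card_ge
    · intro x hx
      by_cases hx1 : x = 1
      · rw [hx1]
        exact one_mem _
      · have h1 := heq x hx hx1
        refine ⟨fun m hm => hm _ hx, fun m => ?_⟩
        show ((x : H) • m) * m⁻¹ ∈ F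
        have h2 : (x : H) * x = 1 := h.el _ hx
        rw [← h1, mem_cv_singleton, smul_mul', smul_inv', ← mul_smul, h2, one_smul]
        have h3 : m⁻¹ = m := inv_eq_of_mul_eq_one_left (h.sq m)
        have h4 : ((x : H) • m)⁻¹ = (x : H) • m := inv_eq_of_mul_eq_one_left (h.sq _)
        rw [h3, h4, h.comm]
    · rw [hE8]
      exact hrk _ fun b hb => Subtype.ext (EE_sq h.sq h.faith hb)
  -- the centralizers normalize `E`
  have hnE : ∀ x ∈ E, x ≠ 1 → centralizer ({x} : Set K) ≤ normalizer (E : Set K) := by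
    intro x hx hx1 g hg
    have h1 := heq x hx hx1
    have h2 : (g : H) * x = x * g := congrArg Subtype.val (mem_centralizer_singleton_iff.1 hg)
    have h3 : ∀ m, m ∈ F ↔ (g : H) • m ∈ F := by
      intro m
      rw [← h1, mem_cv_singleton, mem_cv_singleton, ← mul_smul, ← h2, mul_smul]
      exact ⟨fun h => by rw [h], fun h => smul_left_cancel _ h⟩
    have h3' : ∀ m, m ∈ F ↔ (g : H)⁻¹ • m ∈ F := fun m => by rw [h3 ((g : H)⁻¹ • m), smul_inv_smul]
    rw [mem_normalizer_iff]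
    intro y
    rw [hEE]
    constructor
    · intro hy
      exact smul_mem_EE h3 hy
    · intro hy
      have h4 := smul_mem_EE h3' hy
      have h5 : (g : H)⁻¹ * (K.subtype (g * y * g⁻¹)) * (g : H)⁻¹⁻¹ = K.subtype y := by
        rw [map_mul, map_mul, map_inv]
        show (g : H)⁻¹ * ((g : H) * y * (g : H)⁻¹) * (g : H)⁻¹⁻¹ = y
        group
      rw [h5] at h4
      exact h4
  -- transport to the model
  refine no_eight (E := E.map e.toMonoidHom) ?_ ?_ ?_
  · rintro _ ⟨b, hb, rfl⟩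
    rw [← map_mul, hEel b hb, map_one]
  · rw [← hE8]
    exact card_map_of_injective e.injective
  · rintro _ ⟨x, hx, rfl⟩ hx1 g hg
    have h1 : x ≠ 1 := fun h => hx1 (by rw [h, map_one])
    obtain ⟨k, rfl⟩ := e.surjective g
    have h2 : k ∈ centralizer ({x} : Set K) := by
      rw [mem_centralizer_singleton_iff] at hg ⊢
      apply e.injective
      rw [map_mul, map_mul]
      exact hg
    have h3 := mem_normalizer_iff.1 (hnE x hx h1 h2)
    rw [mem_normalizer_iff]
    intro y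
    obtain ⟨y, rfl⟩ := e.surjective y
    constructor
    · rintro ⟨z, hz, hzy⟩
      have h4 : z = y := e.injective hzy
      rw [h4] at hz
      exact ⟨k * y * k⁻¹, (h3 y).1 hz, by simp only [_root_.MulEquiv.toMonoidHom_eq_coe, _root_.MonoidHom.coe_coe, _root_.map_mul, _root_.map_inv]⟩
    · rintro ⟨z, hz, hzy⟩
      have h4 : z = k * y * k⁻¹ := e.injective (by
        rw [map_mul, map_mul, map_inv]
        exact hzy)
      rw [h4] at hz
      exact ⟨y, (h3 y).2 hz, rfl⟩

end module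

end Cfsg.Agent.Omega.ML.Ex.RowM12X

end

section


/-!
# EXACT + LOW rows: products of conjugates of an exact group (helper278)

`H` acts on the finite 2-group `M`; `fab M 1 1 X = |X| |C_M(X)|` is log-supermodular.

* `Off f A` : `f 1 ≤ f A` and `f C ≤ f 1` for all `C ≤ A` (exact and sub-exact);  `Off.of_exact`;  `Off.cj`;
* `Off.iSup` : **(P)** `f 1 ≤ f D` for every join `D` of such subgroups;  `index_le_of` : `|M : C_M(D)| ≤ |D|`;
* `index_iSup_le` : `|M : C_M(⟨D_1, .., D_k⟩)| ≤ ∏ |M : C_M(D_i)|`;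
* `false_of_prime_mem` : an element of odd prime order `r`, `r ∤ 2 ^ j - 1` for `0 < j ≤ m`, is not in a subgroup `L` with
  `|M : C_M(L)| ≤ 2 ^ m`;
* `index_le_of_loc` : the K-fact `Loc H E x p n` and a low exact `A ≠ 1` give `|M : C_M(E)| ≤ 2 ^ n`.
-/

set_option autoImplicit false

namespace Cfsg.Agent.Omega.ML.Ex.Prod

open Subgroup Cfsg Cfsg.Agent.ClassTwoFusion.Quad Cfsg.Agent.Omega.NOThree.NoOver Cfsg.Agent.Omega.ML.CD
open Cfsg.Agent.ZN Cfsg.Agent.Omega.ML.LocRow Cfsg.Agent.Omega.ML.LocPrime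
open Cfsg.Agent.MinSimple.VModule (o2_isPGroup o2_le le_o2 le_normalizer_o2)

universe u v

section ls

variable {H : Type*} [Group H] {f : Subgroup H → ℕ}

/-- exact and sub-exact -/
structure Off (f : Subgroup H → ℕ) (A : Subgroup H) : Prop where
  ge : f ⊥ ≤ f A
  sub : ∀ C ≤ A, f C ≤ f ⊥

theorem Off.cj (hf : LS f) {A : Subgroup H} (h : Off f A) (g : H) : Off f (cj g A) where
  ge := by rw [hf.conj]; exact h.ge
  sub := by
    intro C hC
    have h1 := h.sub (Cfsg.Agent.Omega.NOThree.NoOver.cj g⁻¹ C) (by rwa [cj_le_iff, inv_inv])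
    rwa [hf.conj] at h1

/-- **(P)** -/
theorem Off.iSup [Finite H] (hf : LS f) {ι : Sort*} {A : ι → Subgroup H} (h : ∀ i, Off f (A i)) :
    f ⊥ ≤ f (⨆ i, A i) := by
  obtain ⟨X, hX, hmax⟩ := Set.exists_max_image {X : Subgroup H | X ≤ ⨆ i, A i ∧ f ⊥ ≤ f X} (fun X => Nat.card X)
    (Set.toFinite _) ⟨⊥, bot_le, le_rfl⟩
  have hle : ∀ i, A i ≤ X := by
    intro i
    have h1 := hf.sup X (A i)
    have h2 : f ⊥ * f ⊥ ≤ f (X ⊔ A i) * f ⊥ :=
      (Nat.mul_le_mul hX.2 (h i).ge).trans (h1.trans (Nat.mul_le_mul_left _ ((h i).sub _ inf_le_right)))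
    have h3 : f ⊥ ≤ f (X ⊔ A i) := Nat.le_of_mul_le_mul_right h2 (hf.pos ⊥)
    have h4 := hmax (X ⊔ A i) ⟨sup_le hX.1 (le_iSup A i), h3⟩
    have h5 := eq_of_le_of_card_ge (le_sup_left : X ≤ X ⊔ A i) h4
    exact le_sup_right.trans h5.ge
  rw [show (⨆ i, A i) = X from le_antisymm (iSup_le hle) hX.1]
  exact hX.2

end ls

section action

variable {H : Type*} [Group H] {M : Type*} [Group M] [MulDistribMulAction H M]

/-- the form with indices -/
theorem Off.of_exact [Finite M] {A : Subgroup H} (exact : (cv M (A : Set H)).index = Nat.card A)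
    (sub : ∀ C ≤ A, Nat.card C ≤ (cv M (C : Set H)).index) : Off (fab M 1 1) A where
  ge := by
    have h1 := card_mul_index (cv M (A : Set H))
    unfold fab
    rw [cv_bot, card_bot, pow_one, pow_one, pow_one, pow_one, one_mul, card_top, ← h1, exact, mul_comm]
  sub := by
    intro C hC
    have h1 := card_mul_index (cv M (C : Set H))
    unfold fab
    rw [cv_bot, card_bot, pow_one, pow_one, pow_one, pow_one, one_mul, card_top, ← h1, mul_comm]
    exact Nat.mul_le_mul_left _ (sub C hC)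

theorem index_le_of [Finite M] {D : Subgroup H} (h : fab M 1 1 (⊥ : Subgroup H) ≤ fab M 1 1 D) :
    (cv M (D : Set H)).index ≤ Nat.card D := by
  have h1 := card_mul_index (cv M (D : Set H))
  unfold fab at h
  rw [cv_bot, card_bot, pow_one, pow_one, pow_one, pow_one, one_mul, card_top, ← h1, mul_comm] at h
  exact Nat.le_of_mul_le_mul_right h Nat.card_pos

/-- **(P)** for the action -/
theorem index_le_card [Finite H] [Finite M] {A : Subgroup H} (h : Off (fab M 1 1) A) {ι : Sort*} (g : ι → H) :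
    (cv M ((⨆ i, cj (g i) A : Subgroup H) : Set H)).index ≤ Nat.card (⨆ i, cj (g i) A : Subgroup H) :=
  index_le_of (Off.iSup (ls_fab M 1 1) fun i => h.cj (ls_fab M 1 1) (g i))

theorem cv_sup (A B : Subgroup H) : cv M ((A ⊔ B : Subgroup H) : Set H) = cv M (A : Set H) ⊓ cv M (B : Set H) := by
  ext m
  constructor
  · intro h
    exact ⟨fun a ha => h a (le_sup_left (a := A) (b := B) ha), fun b hb => h b (le_sup_right (a := A) (b := B) hb)⟩
  · rintro ⟨h1, h2⟩ x hx
    have h3 : A ⊔ B ≤ MulAction.stabilizer H m :=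
      sup_le (fun a ha => MulAction.mem_stabilizer_iff.2 (h1 a ha)) fun b hb => MulAction.mem_stabilizer_iff.2 (h2 b hb)
    exact MulAction.mem_stabilizer_iff.1 (h3 hx)

/-- two subgroups -/
theorem index_sup_le [Finite M] (A B : Subgroup H) : (cv M ((A ⊔ B : Subgroup H) : Set H)).index ≤
    (cv M (A : Set H)).index * (cv M (B : Set H)).index := by
  rw [cv_sup]
  exact index_inf_le

/-- `|M : C_M(A^g)| = |M : C_M(A)|` -/
theorem index_cj [Finite H] [Finite M] (g : H) (A : Subgroup H) :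
    (cv M ((cj g A : Subgroup H) : Set H)).index = (cv M (A : Set H)).index := by
  have h1 := (ls_fab (H := H) (M := M) 1 1).conj g A
  have h2 : Nat.card (cj g A) = Nat.card A :=
    (Nat.card_congr (A.equivMapOfInjective _ (MulAut.conj g).injective).toEquiv).symm
  unfold fab at h1
  rw [pow_one, pow_one, pow_one, pow_one, h2] at h1
  have h3 := Nat.eq_of_mul_eq_mul_left Nat.card_pos h1
  have h4 := card_mul_index (cv M ((cj g A : Subgroup H) : Set H))
  have h5 := card_mul_index (cv M (A : Set H))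
  rw [h3, ← h5] at h4
  exact Nat.eq_of_mul_eq_mul_left Nat.card_pos h4

/-- an element of odd prime order `r` with `r ∤ 2 ^ j - 1`, `0 < j ≤ m`, does not centralise a subgroup of index
`≤ 2 ^ m` -/
theorem false_of_prime_mem [Finite M] (sq : ∀ m : M, m * m = 1) (faith : ∀ h : H, (∀ m : M, h • m = m) → h = 1)
    {W : Subgroup M} {m r : ℕ} (hW : W.index ≤ 2 ^ m) (hr : r.Prime) (hr2 : r ≠ 2)
    (nd : ∀ j, 0 < j → j ≤ m → ¬ r ∣ 2 ^ j - 1) {y : H} (hy : orderOf y = r) (hc : ∀ w ∈ W, y • w = w) : False := by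
  have hrf : Fact r.Prime := ⟨hr⟩
  have hcomm := Cfsg.Agent.Omega.ML.LocPrime.smul_mul_inv_mem (C := zpowers y) (U := M) (p := r) (n := m + 1) hr hr2
    (fun k h1 h2 => nd k h1 (by omega)) (IsPGroup.of_card (n := 1) (by rw [Nat.card_zpowers, hy, pow_one])) sq
    (D := cv M ((zpowers y : Subgroup H) : Set H)) ?_ ?_
  · -- `y` acts trivially on `M / C_M(y)`, so on `M`
    have h1 : ∀ m : M, y • m = m := by
      intro m
      obtain ⟨d, hd⟩ : ∃ d, d = y • m * m⁻¹ := ⟨_, rfl⟩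
      have hdc : y • d = d := by
        rw [hd]
        exact hcomm ⟨y, mem_zpowers y⟩ m y (mem_zpowers y)
      have hm : y • m = d * m := by rw [hd, inv_mul_cancel_right]
      have hpow : ∀ i : ℕ, y ^ i • m = d ^ i * m := by
        intro i
        induction i with
        | zero => simp
        | succ i ih => rw [pow_succ', mul_smul, ih, smul_mul', smul_pow', hdc, hm, ← mul_assoc, pow_succ]
      have h2 := hpow r
      rw [← hy, pow_orderOf_eq_one, one_smul, hy] at h2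
      have h3 : d ^ r = 1 := (mul_eq_right.1 h2.symm)
      have h4 : d ^ 2 = 1 := by rw [pow_two]; exact sq d
      have h5 : d = 1 := by
        have h6 : Nat.Coprime r 2 := (Nat.coprime_primes hr Nat.prime_two).2 hr2
        exact orderOf_eq_one_iff.1 (Nat.eq_one_of_dvd_coprimes h6 (orderOf_dvd_of_pow_eq_one h3)
          (orderOf_dvd_of_pow_eq_one h4))
      rw [hm, h5, one_mul]
    have h2 := faith y h1
    rw [h2, orderOf_one] at hy
    exact hr.one_lt.ne hy
  · intro x d hd z hz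
    obtain ⟨i, hi⟩ := x.2
    obtain ⟨j, rfl⟩ := hz
    change (y ^ j) • ((x : H) • d) = (x : H) • d
    have h1 : (x : H) • d = d := hd _ x.2
    rw [h1]
    exact hd _ ⟨j, rfl⟩
  · have h1 : W ≤ cv M ((zpowers y : Subgroup H) : Set H) := by
      intro w hw z hz
      have h2 : zpowers y ≤ MulAction.stabilizer H w := by
        rw [zpowers_le]
        exact MulAction.mem_stabilizer_iff.2 (hc w hw)
      exact MulAction.mem_stabilizer_iff.1 (h2 hz)
    have h2 : (cv M ((zpowers y : Subgroup H) : Set H)).index ≤ 2 ^ m :=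
      (Nat.le_of_dvd (Nat.pos_of_ne_zero index_ne_zero_of_finite) (index_dvd_of_le h1)).trans hW
    exact lt_of_le_of_lt h2 (Nat.pow_lt_pow_right (by norm_num) (by omega))

end action

section loc

variable {H : Type u} [Group H] [Finite H] {M : Type v} [Group M] [Finite M] [MulDistribMulAction H M]
  {T A E : Subgroup H} {x : H} {p n : ℕ}

/-- **the K-fact and a low exact `A ≠ 1` give `|M : C_M(E)| ≤ 2 ^ n`** -/
theorem index_le_of_loc (L : LocK.Loc H E x p n) (two : IsPGroup 2 T) (syl : ¬ 2 ∣ T.index) (ne : A ≠ ⊥)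
    (hA : Off (fab M 1 1) A) (low : ∀ R : Subgroup H, T ≤ R → R ≠ ⊤ → A ≤ o2 R)
    (core : ∀ N : Subgroup H, N.Normal → IsPGroup 2 N → N = ⊥) : (cv M (E : Set H)).index ≤ 2 ^ n := by
  have hf2 : Fact (Nat.Prime 2) := ⟨Nat.prime_two⟩
  -- WLOG `T` normalises `F = E^g`
  obtain ⟨g, hg⟩ := exists_conj_le two syl L.odd
  have hFe : E.map (MulAut.conj g⁻¹).toMonoidHom = cj g⁻¹ E := rfl
  obtain ⟨F, y, L', hTF, hFi⟩ : ∃ (F : Subgroup H) (y : H), LocK.Loc H F y p n ∧ T ≤ normalizer (F : Set H) ∧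
      (cv M (F : Set H)).index = (cv M (E : Set H)).index := by
    refine ⟨_, _, L.map (MulAut.conj g⁻¹), fun t ht => ?_, ?_⟩
    · have key : ∀ s ∈ T, ∀ a ∈ E.map (MulAut.conj g⁻¹).toMonoidHom,
          s * a * s⁻¹ ∈ E.map (MulAut.conj g⁻¹).toMonoidHom := by
        rintro s hs _ ⟨e, he, rfl⟩
        have h1 := (mem_normalizer_iff.1 (hg s hs) e).1 he
        refine ⟨_, h1, ?_⟩
        change g⁻¹ * (g * s * g⁻¹ * e * (g * s * g⁻¹)⁻¹) * g⁻¹⁻¹ = s * (g⁻¹ * e * g⁻¹⁻¹) * s⁻¹
        group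
      refine LocK.mem_normalizer_of (fun a ha => key t ht a ha) fun a ha => ?_
      have h2 := key t⁻¹ (T.inv_mem ht) a ha
      rwa [inv_inv] at h2
    · exact index_cj g⁻¹ E
  rw [← hFi]
  clear hg L hFi hFe
  have hpf : Fact p.Prime := ⟨L'.prime⟩
  have hC : IsPGroup p (zpowers y) := IsPGroup.of_card (n := 1) (by rw [Nat.card_zpowers, L'.ord, pow_one])
  have hyN : y ∈ normalizer (F : Set H) := by
    rw [Subgroup.mem_normalizer_iff_map_conj_eq]
    refine eq_of_le_of_card_ge ?_ (Nat.card_congr (F.equivMapOfInjective _ (MulAut.conj y).injective).toEquiv).le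
    rintro _ ⟨b, hb, rfl⟩
    exact L'.norm b hb
  have hzN : zpowers y ≤ normalizer (F : Set H) := by rwa [zpowers_le]
  have hirr : ∀ E₁ ≤ F, (∀ l ∈ zpowers y, ∀ e ∈ E₁, l * e * l⁻¹ ∈ E₁) → E₁ = ⊥ ∨ E₁ = F := by
    intro E₁ h1 h2
    refine (irr_of L'.prime L'.p2 L'.nd hC L'.sq L'.card.le
      (fun c hc e he => (mem_normalizer_iff.1 (hzN hc) e).1 he) h1 h2).resolve_right fun h3 => ?_
    obtain ⟨e, he, hne⟩ := L'.ne
    exact hne (h3 y (mem_zpowers y) e he)
  have hF2 : IsPGroup 2 F := fun a => ⟨1, Subtype.ext (by rw [pow_one, pow_two]; exact L'.sq a a.2)⟩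
  have hFT : F ≤ T := le_of_norm two syl hF2 hTF
  have hFne : F ≠ ⊥ := by
    intro h
    obtain ⟨e, he, hne⟩ := L'.ne
    rw [h, mem_bot] at he
    rw [he] at hne
    exact hne (by group)
  obtain ⟨R, hR⟩ : ∃ R : Subgroup H, R = normalizer (F : Set H) := ⟨_, rfl⟩
  rw [← hR] at hTF hzN
  have hRne : R ≠ ⊤ := by
    intro h
    rw [hR] at h
    exact hFne (core F (normalizer_eq_top_iff.1 h) hF2)
  have hconj : ∀ r ∈ R, ∀ e ∈ F, r * e * r⁻¹ ∈ F := fun r hr e he => by
    rw [hR] at hr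
    exact (mem_normalizer_iff.1 hr e).1 he
  -- `O₂(R) ≤ F`
  have hoF : o2 R ≤ F := by
    have hZ : ∃ e ∈ F, e ≠ 1 ∧ ∀ q ∈ o2 R, q * e = e * q := by
      have h1 : Nontrivial F := (nontrivial_iff_ne_bot F).2 hFne
      -- `O₂(R)` acts on `F`
      let act : MulDistribMulAction (o2 R) F := cja (o2 R) F fun c hc e he => hconj c (o2_le R hc) e he
      have h2 := (o2_isPGroup R).card_modEq_card_fixedPoints F
      have h3 : 2 ∣ Nat.card F := by
        obtain ⟨k, hk⟩ := IsPGroup.iff_card.1 hF2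
        have h4 : 1 < Nat.card F := Finite.one_lt_card
        rw [hk] at h4 ⊢
        exact dvd_pow_self 2 (by rintro rfl; simp at h4)
      have h4 : 2 ∣ Nat.card (MulAction.fixedPoints (o2 R) F) := (Nat.modEq_zero_iff_dvd.1 (h2.symm.trans
        (Nat.modEq_zero_iff_dvd.2 h3)))
      have h5 : (1 : F) ∈ MulAction.fixedPoints (o2 R) F := fun q => smul_one q
      have h6 : 1 < Nat.card (MulAction.fixedPoints (o2 R) F) := by
        have h7 : Nat.card (MulAction.fixedPoints (o2 R) F) ≠ 0 := by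
          have : Nonempty (MulAction.fixedPoints (o2 R) F) := ⟨⟨1, h5⟩⟩
          exact Nat.card_pos.ne'
        omega
      have h7 : Nontrivial (MulAction.fixedPoints (o2 R) F) := Finite.one_lt_card_iff_nontrivial.1 h6
      obtain ⟨⟨e, he⟩, hne⟩ := exists_ne (⟨1, h5⟩ : MulAction.fixedPoints (o2 R) F)
      refine ⟨e, e.2, fun h8 => hne (Subtype.ext (Subtype.ext h8)), fun q hq => ?_⟩
      have h8 : (⟨q, hq⟩ : o2 R) • e = e := he ⟨q, hq⟩
      have h9 : q * (e : H) * q⁻¹ = e := congrArg Subtype.val h8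
      rwa [mul_inv_eq_iff_eq_mul] at h9
    have h1 := hirr (F ⊓ centralizer (o2 R : Set H)) inf_le_left (by
      intro l hl e he
      refine ⟨hconj l (hzN hl) e he.1, mem_centralizer_iff.2 fun q hq => ?_⟩
      have h2 : l⁻¹ * q * l ∈ o2 R := by
        have h3 := (mem_normalizer_iff.1 (le_normalizer_o2 R (R.inv_mem (hzN hl))) q).1 hq
        rwa [inv_inv] at h3
      have h4 := mem_centralizer_iff.1 he.2 _ h2
      calc q * (l * e * l⁻¹) = l * ((l⁻¹ * q * l) * e) * l⁻¹ := by group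
        _ = l * (e * (l⁻¹ * q * l)) * l⁻¹ := by rw [h4]
        _ = l * e * l⁻¹ * q := by group)
    rcases h1 with h1 | h1
    · obtain ⟨e, he, he1, heq⟩ := hZ
      have h2 : e ∈ F ⊓ centralizer (o2 R : Set H) := ⟨he, mem_centralizer_iff.2 fun q hq => heq q hq⟩
      rw [h1, mem_bot] at h2
      exact absurd h2 he1
    · intro q hq
      refine L'.cent q fun e he => ?_
      have h2 : e ∈ F ⊓ centralizer (o2 R : Set H) := by rw [h1]; exact he
      exact mem_centralizer_iff.1 h2.2 q hq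
  -- `D = ⟨A^R⟩`
  have hAF : A ≤ F := (low R hTF hRne).trans hoF
  obtain ⟨D, hD⟩ : ∃ D : Subgroup H, D = ⨆ r : R, cj (r : H) A := ⟨_, rfl⟩
  have hDle : D ≤ F := by
    rw [hD]
    refine iSup_le fun r => ?_
    rintro _ ⟨a, ha, rfl⟩
    exact hconj r r.2 a (hAF ha)
  have hAD : A ≤ D := by
    rw [hD]
    refine le_trans (le_of_eq (cj_one A).symm) (le_iSup (fun r : R => cj (r : H) A) 1)
  have hDF : D = F := by
    refine (hirr D hDle fun l hl => ?_).resolve_left fun h => ne (le_bot_iff.1 (h ▸ hAD))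
    have h1 : D ≤ D.comap (MulAut.conj l).toMonoidHom := by
      conv_lhs => rw [hD]
      refine iSup_le fun d => ?_
      rintro _ ⟨a, ha, rfl⟩
      rw [mem_comap, hD]
      refine (le_iSup (fun r : R => cj (r : H) A) (⟨l, hzN hl⟩ * d)) ⟨a, ha, ?_⟩
      change (l * (d : H)) * a * (l * (d : H))⁻¹ = l * ((d : H) * a * (d : H)⁻¹) * l⁻¹
      group
    exact fun x hx => h1 hx
  have h1 := index_le_card (M := M) hA (fun r : R => (r : H))
  rw [← hD, hDF, L'.card] at h1
  exact h1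

end loc

end Cfsg.Agent.Omega.ML.Ex.Prod

end

section


/-!
# An element of order 11 in the join of two conjugates of the translation group `2⁴` of `M22` (helper278)
-/

set_option autoImplicit false

namespace Cfsg.Agent.Omega.ML.Ex.Eleven

open Cfsg Cfsg.Agent.SporadicA.GolayBase Cfsg.Agent.SporadicA.GolayPerm
open Cfsg.Agent.SporadicA.OctadStab Cfsg.Agent.SporadicA.OctadFix
open Cfsg.Agent.Omega.NOThree.NoOver (cj)
open scoped Pointwise

/-- packed elements of the translation group of `oct0` -/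
def T₁ : ℕ := 971592882964418941354553515258775584
def T₂ : ℕ := 967812279691448225500382947153381408
def T₃ : ℕ := 975346028712660580592452217730074656
def T₄ : ℕ := 965128854020860192151391391390468128
/-- packed element of `M22` and its inverse -/
def G₀ : ℕ := 976203949472844401778415637369211552
def G₁ : ℕ := 961932971729804105739981527545385632

theorem T₁_ok : transOk T₁ = true := by decide +kernel
theorem T₂_ok : transOk T₂ = true := by decide +kernel
theorem T₃_ok : transOk T₃ = true := by decide +kernel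
theorem T₄_ok : transOk T₄ = true := by decide +kernel

/-- Check of the packed element of `M22`. -/
def gOk (P : ℕ) : Bool := isPerm P && isAut P && Nat.beq (papp P 0) 0 && Nat.beq (papp P 23) 23

theorem G₀_ok : gOk G₀ = true := by decide +kernel
theorem G₁_ok : gOk G₁ = true := by decide +kernel

theorem G_inv : ∀ i < 24, papp G₀ (papp G₁ i) = i := by decide +kernel

/-- the word, on indices -/
def w (i : ℕ) : ℕ := papp T₁ (papp G₀ (papp T₂ (papp G₁ (papp T₃ (papp G₀ (papp T₄ (papp G₁ i)))))))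

theorem w_eleven : ∀ i < 24, w (w (w (w (w (w (w (w (w (w (w i)))))))))) = i := by decide +kernel

theorem w_one : w 1 ≠ 1 := by decide +kernel

theorem exists_fix {P : ℕ} (h : transOk P = true) : ∃ g ∈ fixOct oct0, ∀ x, idx (g x) = papp P (idx x) := by
  unfold transOk at h
  simp only [Bool.and_eq_true, Nat.beq_eq, List.all_eq_true, List.mem_range] at h
  obtain ⟨⟨⟨⟨⟨⟨⟨⟨⟨⟨hperm, haut⟩, f0⟩, f1⟩, f2⟩, f3⟩, f5⟩, f14⟩, f17⟩, f23⟩, hinv⟩ := h
  refine ⟨permOf P hperm, mem_fixOct.2 ⟨permOf_mem_M24 hperm haut, ?_⟩, fun x => idx_permOf _ _⟩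
  intro x hx
  apply idx_injective
  rw [idx_permOf]
  rw [mem_oct0] at hx
  rcases mem_oct0_cases _ (idx_lt x) hx with h | h | h | h | h | h | h | h
  · rw [h, f0]
  · rw [h, f1]
  · rw [h, f2]
  · rw [h, f3]
  · rw [h, f5]
  · rw [h, f14]
  · rw [h, f17]
  · rw [h, f23]

theorem exists_g {P : ℕ} (h : gOk P = true) : ∃ g ∈ Spor.M22, ∀ x, idx (g x) = papp P (idx x) := by
  unfold gOk at h
  simp only [Bool.and_eq_true, Nat.beq_eq] at h
  obtain ⟨⟨⟨hperm, haut⟩, f0⟩, f23⟩ := h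
  refine ⟨permOf P hperm, (Cfsg.Agent.SporadicA.MathieuRecog.mem_M22_iff _).2
    ⟨permOf_mem_M24 hperm haut, ?_, ?_⟩, fun x => idx_permOf _ _⟩
  · apply idx_injective
    rw [idx_permOf]
    exact f23
  · apply idx_injective
    rw [idx_permOf]
    exact f0

/-- **The model fact.** -/
theorem exists_eleven : ∃ g ∈ Spor.M22, ∃ y ∈ (fixOct oct0 ⊔ cj g (fixOct oct0) : Subgroup (Equiv.Perm GolayPt)),
    orderOf y = 11 := by
  obtain ⟨t₁, h₁, e₁⟩ := exists_fix T₁_ok
  obtain ⟨t₂, h₂, e₂⟩ := exists_fix T₂_ok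
  obtain ⟨t₃, h₃, e₃⟩ := exists_fix T₃_ok
  obtain ⟨t₄, h₄, e₄⟩ := exists_fix T₄_ok
  obtain ⟨g, hg, e₅⟩ := exists_g G₀_ok
  obtain ⟨g', hg', e₆⟩ := exists_g G₁_ok
  have hgg : g * g' = 1 := by
    ext1 x
    rw [Equiv.Perm.mul_apply, Equiv.Perm.one_apply]
    apply idx_injective
    rw [e₅, e₆, G_inv _ (idx_lt x)]
  have hg1 : g' = g⁻¹ := (inv_eq_of_mul_eq_one_right hgg).symm
  obtain ⟨y, hy⟩ : ∃ y, y = t₁ * (g * t₂ * g⁻¹) * t₃ * (g * t₄ * g⁻¹) := ⟨_, rfl⟩
  have hyx : ∀ x, idx (y x) = w (idx x) := by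
    intro x
    have e : y x = t₁ (g (t₂ (g' (t₃ (g (t₄ (g' x))))))) := by
      rw [hy, ← hg1]
      simp only [Equiv.Perm.mul_apply]
    rw [e, e₁, e₅, e₂, e₆, e₃, e₅, e₄, e₆]
    rfl
  refine ⟨g, hg, y, ?_, ?_⟩
  · rw [hy]
    have hl : fixOct oct0 ≤ fixOct oct0 ⊔ cj g (fixOct oct0) := le_sup_left
    have hr : cj g (fixOct oct0) ≤ fixOct oct0 ⊔ cj g (fixOct oct0) := le_sup_right
    exact Subgroup.mul_mem _ (Subgroup.mul_mem _ (Subgroup.mul_mem _ (hl h₁) (hr ⟨t₂, h₂, rfl⟩)) (hl h₃))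
      (hr ⟨t₄, h₄, rfl⟩)
  · have : Fact (Nat.Prime 11) := ⟨by norm_num⟩
    apply orderOf_eq_prime
    · ext1 x
      rw [Equiv.Perm.one_apply]
      apply idx_injective
      rw [← w_eleven _ (idx_lt x)]
      simp only [pow_succ, pow_zero, one_mul, Equiv.Perm.mul_apply, hyx]
    · intro h
      have h1 := hyx (pt 1)
      rw [h, Equiv.Perm.one_apply, idx_pt (by norm_num)] at h1
      exact w_one h1.symm

end Cfsg.Agent.Omega.ML.Ex.Eleven

end

section


/-!
# EXACT + LOW rows: `M22`, `M22:2` (helper278)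

`|M : C_M(E)| ≤ 2⁴` for `E = 2⁴ = O₂(2⁴:A6)` (`Prod.index_le_of_loc`), and two conjugates of `E` generate a subgroup
which contains an element of order 11; but a nontrivial module of an element of order 11 has order at least `2¹⁰`.
-/

set_option autoImplicit false

namespace Cfsg.Agent.Omega.ML.Ex.RowM22X

open Subgroup Cfsg
open Cfsg.Agent.SporadicA.OctadFix
open Cfsg.Agent.UGT.End.Octad
open Cfsg.Agent.J4Type.Aut22
open Cfsg.Agent.Omega.NOThree.NoOver (cj)
open Cfsg.Agent.ClassTwoFusion.Quad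
open Cfsg.Agent.Omega.ML.LocK Cfsg.Agent.Omega.ML.LocExt
open Cfsg.Agent.Omega.ML.Ex.Prod
open scoped Pointwise

universe u v

/-- The K-fact of `LocM22` for a given octad. -/
theorem exists_loc_of {K : Subgroup (Equiv.Perm GolayPt)} (hK : K ≤ M24) {O : Finset GolayPt} (hO : O ∈ octads)
    (hE : fixOct O ≤ K) (hodd : ¬ 2 ∣ (MulAction.stabilizer K O).index)
    (h5 : 5 ∣ Nat.card (MulAction.stabilizer K O)) : ∃ x : K, Loc K ((fixOct O).subgroupOf K) x 5 4 := by
  have hcard := card_fixOct hO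
  have hconj : ∀ g : K, (g : Equiv.Perm GolayPt) • O = O → ∀ a ∈ (fixOct O).subgroupOf K,
      g * a * g⁻¹ ∈ (fixOct O).subgroupOf K := by
    intro g hg a ha
    rw [mem_subgroupOf] at ha ⊢
    exact conj_mem (hK g.2) hg ha
  have hinv : ∀ g : K, (g : Equiv.Perm GolayPt) • O = O → ((g⁻¹ : K) : Equiv.Perm GolayPt) • O = O := by
    intro g hg
    conv_lhs => rw [← hg]
    rw [Subgroup.coe_inv, inv_smul_smul]
  have hcent : ∀ g : K, (∀ a ∈ (fixOct O).subgroupOf K, g * a = a * g) → g ∈ (fixOct O).subgroupOf K := by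
    intro g hg
    have hc : ∀ b ∈ fixOct O, (g : Equiv.Perm GolayPt) * b = b * g := by
      intro b hb
      exact congrArg Subtype.val (hg ⟨b, hE hb⟩ (mem_subgroupOf.2 hb))
    have hne : ∃ v ∈ fixOct O, v ≠ 1 := by
      by_contra hcon
      push Not at hcon
      have h1 : fixOct O = ⊥ := (eq_bot_iff_forall _).2 hcon
      rw [h1, card_bot] at hcard
      omega
    obtain ⟨v, hv, hv1⟩ := hne
    rw [mem_subgroupOf]
    exact mem_fixOct_of_comm hO (hK g.2) (stab_of_comm hO hv hv1 (hc v hv)) hc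
  have : Fact (Nat.Prime 5) := ⟨by norm_num⟩
  obtain ⟨x, hx⟩ := exists_prime_orderOf_dvd_card' 5 h5
  have hxO : ((x : K) : Equiv.Perm GolayPt) • O = O := x.2
  have hx5 : orderOf (x : K) = 5 := by rw [Subgroup.orderOf_coe, hx]
  refine ⟨x, ?_⟩
  exact
    { comm := fun a ha b hb => Subtype.ext (mul_comm_fixOct hO (mem_subgroupOf.1 ha) (mem_subgroupOf.1 hb))
      sq := fun a ha => Subtype.ext (fixOct_sq hO (mem_subgroupOf.1 ha))
      card := by
        rw [Nat.card_congr (subgroupOfEquivOfLe hE).toEquiv, hcard]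
        norm_num
      odd := by
        intro h
        refine hodd (h.trans (index_dvd_of_le fun g hg => ?_))
        have hg' : (g : Equiv.Perm GolayPt) • O = O := hg
        refine mem_normalizer_of (hconj g hg') fun a ha => ?_
        have := hconj g⁻¹ (hinv g hg') a ha
        rwa [inv_inv] at this
      cent := hcent
      prime := by norm_num
      p2 := by norm_num
      ord := hx5
      nd := by
        intro k h0 h1
        interval_cases k <;> omega
      norm := hconj x hxO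
      ne := by
        by_contra hcon
        push Not at hcon
        have h1 := hcent _ hcon
        have h2 : (x : K) * x = 1 := Subtype.ext (fixOct_sq hO (mem_subgroupOf.1 h1))
        have h3 := orderOf_dvd_of_pow_eq_one (show (x : K) ^ 2 = 1 by rw [pow_two, h2])
        rw [hx5] at h3
        omega }

/-- the model fact -/
theorem eleven : ∃ O : Finset GolayPt, O ∈ octads ∧ none ∈ O ∧ some 0 ∈ O ∧ ∃ g ∈ Spor.M22,
    ∃ y ∈ (fixOct O ⊔ cj g (fixOct O) : Subgroup (Equiv.Perm GolayPt)), orderOf y = 11 :=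
  ⟨Cfsg.Agent.SporadicA.OctadStab.oct0,
    (Cfsg.Agent.SporadicA.GolayBase.fin_mem_octads_iff (by norm_num)).2 (by decide +kernel),
    Cfsg.Agent.SporadicA.OctadFix.mem_oct0.2 (by decide +kernel),
    Cfsg.Agent.SporadicA.OctadFix.mem_oct0.2 (by decide +kernel), Eleven.exists_eleven⟩

theorem exists_loc11 {K : Subgroup (Equiv.Perm GolayPt)} (hK : Spor.M22 ≤ K) (hK' : K ≤ D22) :
    ∃ (E : Subgroup K) (x g y : K), Loc K E x 5 4 ∧ orderOf y = 11 ∧ y ∈ E ⊔ cj g E := by
  obtain ⟨O, hO, h0, h1, g, hg, y, hy, hy11⟩ := eleven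
  have hi := LocM22X.index_stab hK hK' hO h0 h1
  have hE : fixOct O ≤ K := by
    intro g hg
    rw [mem_fixOct] at hg
    exact hK ((Cfsg.Agent.SporadicA.MathieuRecog.mem_M22_iff g).2 ⟨hg.1, hg.2 _ h0, hg.2 _ h1⟩)
  obtain ⟨x, hx⟩ := exists_loc_of (fun g hg => ((mem_D22_iff g).1 (hK' hg)).1) hO hE (by rw [hi]; omega) (by
    have h2 := card_mul_index (MulAction.stabilizer K O)
    have h3 := card_dvd_of_le hK
    rw [hi] at h2
    rw [Cfsg.Agent.SporadicA.MathieuRecog.card_M22] at h3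
    omega)
  have hle : (fixOct O ⊔ cj g (fixOct O) : Subgroup (Equiv.Perm GolayPt)) ≤
      ((fixOct O).subgroupOf K ⊔ cj ⟨g, hK hg⟩ ((fixOct O).subgroupOf K)).map K.subtype := by
    rw [Subgroup.map_sup]
    refine sup_le_sup ?_ ?_
    · intro a ha
      exact ⟨⟨a, hE ha⟩, mem_subgroupOf.2 ha, rfl⟩
    · rintro _ ⟨a, ha, rfl⟩
      exact ⟨_, ⟨⟨a, hE ha⟩, mem_subgroupOf.2 ha, rfl⟩, rfl⟩
  obtain ⟨y', hy', rfl⟩ := hle hy
  exact ⟨_, x, ⟨g, hK hg⟩, y', hx, by rw [← hy11]; exact (Subgroup.orderOf_coe y').symm, hy'⟩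

/-- `M22` and `M22:2` -/
theorem exists_locX {X : Type*} [Group X] {S : Subgroup X} [S.Normal]
    (hS : ∀ x : X, (∀ s ∈ S, x * s * x⁻¹ = s) → x = 1) (h : Spor.IsoM22 S) :
    ∃ (E : Subgroup X) (x g y : X), Loc X E x 5 4 ∧ orderOf y = 11 ∧ y ∈ E ⊔ cj g E := by
  obtain ⟨e⟩ := h
  obtain ⟨φ, hφ, h1, h2⟩ := exists_embed M22_le_D22 e hS exists_conj fun g hg hm => eq_one_of_centralizes hg hm
  obtain ⟨E, x, g, y, hE, hy, hyE⟩ := exists_loc11 h1 h2
  let f := (MonoidHom.ofInjective hφ).symm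
  refine ⟨_, _, f g, f y, hE.map f, ?_, ?_⟩
  · rw [← hy]
    exact orderOf_injective f.toMonoidHom f.injective y
  · have h3 : f y ∈ (E ⊔ cj g E).map f.toMonoidHom := ⟨y, hyE, rfl⟩
    rw [Subgroup.map_sup] at h3
    have h4 : (cj g E).map f.toMonoidHom ≤ cj (f g) (E.map f.toMonoidHom) := by
      rintro _ ⟨_, ⟨a, ha, rfl⟩, rfl⟩
      refine ⟨f a, ⟨a, ha, rfl⟩, ?_⟩
      change f g * f a * (f g)⁻¹ = f (g * a * g⁻¹)
      rw [map_mul, map_mul, map_inv]
    exact sup_le_sup le_rfl h4 h3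

/-- no normal 2-subgroups -/
theorem core_bot {H : Type u} [Group H] [Finite H] {M : Type v} [Group M] [Finite M] [MulDistribMulAction H M]
    {K T A : Subgroup H} (h : InX H M K T A) {N : Subgroup H} (hN : N.Normal) (hN2 : IsPGroup 2 N) : N = ⊥ := by
  have hf : Fact (Nat.Prime 2) := ⟨Nat.prime_two⟩
  have hall : (∀ m ∈ cv M (N : Set H), m = 1) ∨ ∀ m : M, m ∈ cv M (N : Set H) := by
    rcases h.irr (cv M (N : Set H)) (by
      intro x w hw a ha
      have h1 : x⁻¹ * a * x ∈ N := by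
        have := hN.conj_mem a ha x⁻¹
        rwa [inv_inv] at this
      have h2 := hw _ h1
      calc a • x • w = x • (x⁻¹ * a * x) • w := by rw [← mul_smul, ← mul_smul]; congr 1; group
        _ = x • w := by rw [h2]) with h1 | h1
    · left
      intro m hm
      rw [h1] at hm
      exact mem_bot.1 hm
    · right
      intro m
      rw [h1]
      exact mem_top m
  rw [eq_bot_iff]
  intro n hn
  refine mem_bot.2 (h.faith n fun m => ?_)
  rcases hall with h1 | h1
  · have h2 := hN2.card_modEq_card_fixedPoints M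
    have h3 : Nat.card (MulAction.fixedPoints N M) = 1 := by
      rw [Nat.card_eq_one_iff_unique]
      refine ⟨⟨fun a b => ?_⟩, ⟨⟨1, fun n => smul_one n⟩⟩⟩
      have ha := h1 a fun n hn => a.2 ⟨n, hn⟩
      have hb := h1 b fun n hn => b.2 ⟨n, hn⟩
      exact Subtype.ext (ha.trans hb.symm)
    rw [h3] at h2
    obtain ⟨k, hk⟩ := IsPGroup.iff_card.1 h.M_two
    have h4 : Nat.card M = 1 := by
      rw [hk] at h2 ⊢
      cases k with
      | zero => rfl
      | succ k =>
        exfalso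
        have h5 : 2 ^ (k + 1) % 2 = 1 % 2 := h2
        rw [pow_succ] at h5
        omega
    have h5 := (Nat.card_eq_one_iff_unique.1 h4).1
    exact Subsingleton.elim _ _
  · exact h1 m n hn

/-- **The row `M22`.** -/
theorem deadX : DeadX.{u, v} @Spor.IsoM22 := by
  intro H _ _ M _ _ _ K T A h hS
  have := h.norm
  obtain ⟨E, x, g, y, L, hy, hyE⟩ := exists_locX (X := H) (S := K) (by
    intro x hx
    have h1 : x ∈ centralizer (K : Set H) := by
      refine mem_centralizer_iff.2 fun s hs => ?_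
      have h2 := hx s hs
      rw [mul_inv_eq_iff_eq_mul] at h2
      exact h2.symm
    rw [h.cen] at h1
    exact mem_bot.1 h1) hS
  have hoff := Off.of_exact (M := M) h.exact fun C hC => h.sub C hC
  have hcore : ∀ N : Subgroup H, N.Normal → IsPGroup 2 N → N = ⊥ := by
    intro N hN hN2
    exact core_bot h hN hN2
  have hi := index_le_of_loc (M := M) L h.two h.syl h.A_ne_bot hoff h.low hcore
  have h8 : (cv M ((E ⊔ cj g E : Subgroup H) : Set H)).index ≤ 2 ^ 8 := by
    refine (index_sup_le E (cj g E)).trans ?_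
    rw [index_cj]
    calc _ ≤ 2 ^ 4 * 2 ^ 4 := Nat.mul_le_mul hi hi
      _ = 2 ^ 8 := by norm_num
  refine false_of_prime_mem (M := M) h.sq h.faith h8 (r := 11) (by norm_num) (by norm_num) ?_ hy fun w hw => hw y hyE
  intro j h1 h2
  interval_cases j <;> norm_num

end Cfsg.Agent.Omega.ML.Ex.RowM22X

end

section


/-!
# Exact and low configurations: the group-theoretic row M23 over `ASx` (helper333)
-/

set_option autoImplicit false

namespace Cfsg.Agent.Omega.ML.Ex.RowM23X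

open Subgroup Cfsg Cfsg.Agent.ZN Cfsg.Agent.Omega.TwoF Cfsg.Agent.Omega.ML.Rows

universe u v

/-- **The row `M23`**: `A = 1`. -/
theorem m23 : DeadGx.{u} 1 (fun S _ => Spor.IsoM23 S) := by
  intro X _ _ S T A h hS
  have hp : Fact (Nat.Prime 2) := ⟨Nat.prime_two⟩
  have htop : S = ⊤ := h.top_of_inn fun α => by
    obtain ⟨k, hk⟩ := Cfsg.Agent.KFacts.M23.OutOne.exists_conj' hS α
    exact ⟨k, MulEquiv.ext fun x => hk x⟩
  obtain ⟨e⟩ := hS
  obtain ⟨R, hs, hi, hc⟩ := RowM23.exists_M22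
  have e' : R.comap e.toMonoidHom ≃* R :=
    ((R.comap e.toMonoidHom).equivMapOfInjective _ e.injective).trans
      (MulEquiv.subgroupCongr (map_comap_eq_self_of_surjective e.surjective R))
  refine h.card_le_of_odd_index_simple htop (R := R.comap e.toMonoidHom) ?_ ?_ e'.isSimpleGroup ?_
  · rw [index_comap_of_surjective _ e.surjective, hi]
    norm_num
  · intro h1
    have h2 := index_comap_of_surjective R (f := e.toMonoidHom) e.surjective
    rw [h1, index_top, hi] at h2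
    omega
  · intro h1
    obtain ⟨n, hn⟩ := IsPGroup.iff_card.1 h1
    rw [Nat.card_congr e'.toEquiv, hc] at hn
    have h3 : (3 : ℕ) ∣ 2 ^ n := hn ▸ by norm_num
    have h4 := Nat.Prime.dvd_of_dvd_pow Nat.prime_three h3
    omega

/-- **The row is dead.** -/
theorem m23_dead : DeadX.{u, v} (fun S _ => Spor.IsoM23 S) := m23.deadX (by norm_num)

end Cfsg.Agent.Omega.ML.Ex.RowM23X

end

section


/-!
# EXACT + LOW rows: `M24` (helper278)

As for `M22`: `|M : C_M(E)| ≤ 2⁴` for `E = 2⁴ = O₂(2⁴:A8)`, and two conjugates of `E` generate a subgroup which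
contains an element of order 11.
-/

set_option autoImplicit false

namespace Cfsg.Agent.Omega.ML.Ex.RowM24X

open Subgroup Cfsg
open Cfsg.Agent.SporadicA.OctadFix
open Cfsg.Agent.UGT.End.Octad
open Cfsg.Agent.Omega.NOThree.NoOver (cj)
open Cfsg.Agent.ClassTwoFusion.Quad
open Cfsg.Agent.Omega.ML.LocK
open Cfsg.Agent.Omega.ML.Ex.Prod
open scoped Pointwise

universe u v

theorem index_stab {O : Finset GolayPt} (hO : O ∈ octads) : (MulAction.stabilizer M24 O).index = 759 := by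
  refine Cfsg.Agent.SporadicStructure.M24IndexMain.index_octad (fun o o' ho ho' => ?_)
    Cfsg.Agent.SporadicA.GolayCount.octads_ncard hO
  obtain ⟨g, hg, h⟩ := Cfsg.Agent.SporadicA.OctadStab.exists_smul_eq_oct0 ho
  obtain ⟨k, hk, h'⟩ := Cfsg.Agent.SporadicA.OctadStab.exists_smul_eq_oct0 ho'
  refine ⟨⟨k⁻¹ * g, M24.mul_mem (M24.inv_mem hk) hg⟩, ?_⟩
  change (k⁻¹ * g) • o = o'
  rw [mul_smul, h, ← h', inv_smul_smul]

theorem exists_loc11 : ∃ (E : Subgroup M24) (x g y : M24), Loc M24 E x 5 4 ∧ orderOf y = 11 ∧ y ∈ E ⊔ cj g E := by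
  obtain ⟨O, hO, h0, h1, g, hg, y, hy, hy11⟩ := RowM22X.eleven
  have hi := index_stab hO
  have hE : fixOct O ≤ M24 := fun g hg => (mem_fixOct.1 hg).1
  have hgM : g ∈ M24 := ((Cfsg.Agent.SporadicA.MathieuRecog.mem_M22_iff g).1 hg).1
  obtain ⟨x, hx⟩ := RowM22X.exists_loc_of le_rfl hO hE (by rw [hi]; omega) (by
    have h2 := card_mul_index (MulAction.stabilizer M24 O)
    rw [hi, SporadicA.M24Trans.card_M24] at h2
    omega)
  have hle : (fixOct O ⊔ cj g (fixOct O) : Subgroup (Equiv.Perm GolayPt)) ≤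
      ((fixOct O).subgroupOf M24 ⊔ cj ⟨g, hgM⟩ ((fixOct O).subgroupOf M24)).map M24.subtype := by
    rw [Subgroup.map_sup]
    refine sup_le_sup ?_ ?_
    · intro a ha
      exact ⟨⟨a, hE ha⟩, mem_subgroupOf.2 ha, rfl⟩
    · rintro _ ⟨a, ha, rfl⟩
      exact ⟨_, ⟨⟨a, hE ha⟩, mem_subgroupOf.2 ha, rfl⟩, rfl⟩
  obtain ⟨y', hy', rfl⟩ := hle hy
  exact ⟨_, x, ⟨g, hgM⟩, y', hx, by rw [← hy11]; exact (Subgroup.orderOf_coe y').symm, hy'⟩

/-- transport -/
theorem map_loc11 {X Y : Type*} [Group X] [Group Y] (f : X ≃* Y)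
    (h : ∃ (E : Subgroup X) (x g y : X), Loc X E x 5 4 ∧ orderOf y = 11 ∧ y ∈ E ⊔ cj g E) :
    ∃ (E : Subgroup Y) (x g y : Y), Loc Y E x 5 4 ∧ orderOf y = 11 ∧ y ∈ E ⊔ cj g E := by
  obtain ⟨E, x, g, y, hE, hy, hyE⟩ := h
  refine ⟨_, _, f g, f y, hE.map f, ?_, ?_⟩
  · rw [← hy]
    exact orderOf_injective f.toMonoidHom f.injective y
  · have h3 : f y ∈ (E ⊔ cj g E).map f.toMonoidHom := ⟨y, hyE, rfl⟩
    rw [Subgroup.map_sup] at h3
    have h4 : (cj g E).map f.toMonoidHom ≤ cj (f g) (E.map f.toMonoidHom) := by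
      rintro _ ⟨_, ⟨a, ha, rfl⟩, rfl⟩
      refine ⟨f a, ⟨a, ha, rfl⟩, ?_⟩
      change f g * f a * (f g)⁻¹ = f (g * a * g⁻¹)
      rw [map_mul, map_mul, map_inv]
    exact sup_le_sup le_rfl h4 h3

/-- no outer automorphisms -/
theorem eq_top_of_inner {X : Type*} [Group X] {S : Subgroup X} [S.Normal] (cen : centralizer (S : Set X) = ⊥)
    (inn : ∀ α : MulAut S, ∃ k, α = MulAut.conj k) : S = ⊤ := by
  rw [eq_top_iff]
  intro x _
  obtain ⟨k, hk⟩ := inn (MulAut.conjNormal x)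
  have h1 : (k : X)⁻¹ * x ∈ centralizer (S : Set X) := by
    refine mem_centralizer_iff.2 fun s hs => ?_
    have h2 := congrArg (fun f : MulAut S => ((f ⟨s, hs⟩ : S) : X)) hk
    change x * s * x⁻¹ = k * s * (k : X)⁻¹ at h2
    have h3 : x * s = k * s * (k : X)⁻¹ * x := by rw [← h2]; group
    calc s * ((k : X)⁻¹ * x) = (k : X)⁻¹ * (k * s * (k : X)⁻¹ * x) := by group
      _ = (k : X)⁻¹ * (x * s) := by rw [h3]
      _ = _ := by group
  rw [cen, mem_bot, inv_mul_eq_one] at h1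
  rw [← h1]
  exact k.2

/-- the end, for every group with the fact -/
theorem false_of {H : Type u} [Group H] [Finite H] {M : Type v} [Group M] [Finite M] [MulDistribMulAction H M]
    {K T A : Subgroup H} (h : InX H M K T A)
    (hf : ∃ (E : Subgroup H) (x g y : H), Loc H E x 5 4 ∧ orderOf y = 11 ∧ y ∈ E ⊔ cj g E) : False := by
  obtain ⟨E, x, g, y, L, hy, hyE⟩ := hf
  have hoff := Off.of_exact (M := M) h.exact fun C hC => h.sub C hC
  have hi := index_le_of_loc (M := M) L h.two h.syl h.A_ne_bot hoff h.low fun N hN hN2 => RowM22X.core_bot h hN hN2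
  have h8 : (cv M ((E ⊔ cj g E : Subgroup H) : Set H)).index ≤ 2 ^ 8 := by
    refine (index_sup_le E (cj g E)).trans ?_
    rw [index_cj]
    calc _ ≤ 2 ^ 4 * 2 ^ 4 := Nat.mul_le_mul hi hi
      _ = 2 ^ 8 := by norm_num
  refine false_of_prime_mem (M := M) h.sq h.faith h8 (r := 11) (by norm_num) (by norm_num) ?_ hy fun w hw => hw y hyE
  intro j h1 h2
  interval_cases j <;> norm_num

/-- **The row `M24`.** -/
theorem deadX : DeadX.{u, v} (fun S _ => Spor.IsoM24 S) := by
  intro H _ _ M _ _ _ K T A h hS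
  have := h.norm
  have htop := eq_top_of_inner h.cen (RowM24.inner hS)
  obtain ⟨e⟩ := hS
  refine false_of h (map_loc11 (e.symm.trans ((MulEquiv.subgroupCongr htop).trans Subgroup.topEquiv)) exists_loc11)

end Cfsg.Agent.Omega.ML.Ex.RowM24X

end

section


/-!
# Exact and low configurations: the rows `²G₂(q)` over `ASx` (helper661)

* `exists_conj` : automorphisms of 2-power order of a simple group with elementary abelian Sylow 2-subgroups of order 8
  are inner;
* `card_le_of_eight` : `|A| ≤ n` if `|O₂(C_S(t))| ≤ n` for an involution `t` of such a group `S`;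
* **`deadGx : DeadGx 2 IsoRee`**, `dead : DeadX IsoRee`.
-/

set_option autoImplicit false

namespace Cfsg.Agent.Omega.ML.Ex.RowReeX

open Subgroup Cfsg Cfsg.Agent.StdL2.G23Aut Cfsg.Agent.OddHalf.EightTorus
open Cfsg.Agent.Omega.ML.RowRee (card_o2_le_two comm_of_el)
open Cfsg.Agent.MinSimple.VModule (o2_isPGroup o2_le le_o2 le_normalizer_o2)
open Cfsg.Agent.ZN (o2)

universe u v

/-- **Automorphisms of 2-power order of a simple group with elementary abelian Sylow 2-subgroups of order 8 are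
inner.** -/
theorem exists_conj {K : Type u} [Group K] [Finite K] [IsSimpleGroup K] (hna : ∃ a b : K, a * b ≠ b * a)
    (hsyl : ∀ S : Sylow 2 K, Nat.card S = 8 ∧ ∀ x ∈ (S : Subgroup K), x * x = 1)
    (σ : MulAut K) (hpσ : IsPGroup 2 (zpowers σ)) : ∃ v : K, σ = MulAut.conj v := by
  classical
  have h2 : Fact (Nat.Prime 2) := ⟨Nat.prime_two⟩
  have hc : center K = ⊥ := by
    rcases (inferInstance : (center K).Normal).eq_bot_or_eq_top with h | h
    · exact h
    · exfalso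
      obtain ⟨a, b, hab⟩ := hna
      have h1 : b ∈ center K := by rw [h]; trivial
      exact hab (mem_center_iff.1 h1 a)
  have hinj := Cfsg.Agent.UGT.EndBase.conj_inj hc
  set R : Subgroup (MulAut K) := (MulAut.conj : K →* MulAut K).range with hR
  have hRn : R.Normal := by
    refine ⟨?_⟩
    rintro _ ⟨x, rfl⟩ φ
    exact ⟨φ x, Cfsg.Agent.UGT.EndBase.conj_app φ x⟩
  have e : K ≃* R := MonoidHom.ofInjective hinj
  have hRs : IsSimpleGroup R := e.symm.isSimpleGroup
  obtain ⟨P, hP⟩ := hpσ.exists_le_sylow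
  let V : Subgroup (MulAut K) := (P : Subgroup (MulAut K)) ⊓ R
  have hVR : V ≤ R := inf_le_right
  have hVodd : ¬ 2 ∣ V.relIndex R := by
    have h1 := Cfsg.Agent.Lib.SylowNormalInf.not_dvd_relIndex P R
    rwa [← inf_relIndex_right] at h1
  -- the Sylow subgroup of `K`
  have hSp : IsPGroup 2 (V.comap (MulAut.conj : K →* MulAut K)) :=
    (P.isPGroup'.to_le inf_le_left).comap_of_injective _ hinj
  have hidx : ¬ 2 ∣ (V.comap (MulAut.conj : K →* MulAut K)).index := by
    rw [index_comap]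
    exact hVodd
  let S : Sylow 2 K := hSp.toSylow hidx
  have hS : (S : Subgroup K) = V.comap (MulAut.conj : K →* MulAut K) := rfl
  have hmap : (S : Subgroup K).map (MulAut.conj : K →* MulAut K) = V := by
    rw [hS, map_comap_eq, inf_eq_right]
    exact hVR
  obtain ⟨h8, hsq⟩ := hsyl S
  have hoct : Oct V := by
    refine ⟨?_, ?_⟩
    · rw [← hmap, card_map_of_injective hinj]
      exact h8
    · intro v hv
      rw [← hmap] at hv
      obtain ⟨s, hs, rfl⟩ := hv
      rw [← map_mul, hsq s hs, map_one]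
  have hLoc : Auto.Loc R V (1 : MulAut K) := by
    refine ⟨hRs, ?_, hVR, hVodd, hoct, fun _ _ => by rw [mul_one, one_mul], fun g _ => ?_⟩
    · obtain ⟨a, b, hab⟩ := hna
      refine ⟨_, ⟨a, rfl⟩, _, ⟨b, rfl⟩, fun h => hab (hinj ?_)⟩
      rw [map_mul, map_mul, h]
    · rw [normalizer_eq_top_iff.2 hRn]
      exact mem_top g
  obtain ⟨-, -, -, -, hcomm⟩ := hLoc.main
  have hσN : zpowers σ ≤ normalizer (V : Set (MulAut K)) := by
    have hle : ∀ p ∈ (P : Subgroup (MulAut K)), ∀ v ∈ V, p * v * p⁻¹ ∈ V := by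
      intro p hp v hv
      exact ⟨(P : Subgroup (MulAut K)).mul_mem ((P : Subgroup (MulAut K)).mul_mem hp hv.1)
        ((P : Subgroup (MulAut K)).inv_mem hp), hRn.conj_mem v hv.2 p⟩
    intro p hp
    rw [mem_normalizer_iff]
    intro v
    constructor
    · exact hle p (hP hp) v
    · intro hv
      have h1 := hle p⁻¹ ((P : Subgroup (MulAut K)).inv_mem (hP hp)) _ hv
      have h3 : p⁻¹ * (p * v * p⁻¹) * p⁻¹⁻¹ = v := by group
      rwa [h3] at h1
  have hσV := hcomm (zpowers σ) hpσ (fun _ _ => by rw [mul_one, one_mul]) hσN σ (mem_zpowers σ)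
  have hfix : ∀ s ∈ (S : Subgroup K), σ s = s := by
    intro s hs
    apply hinj
    rw [Cfsg.Agent.UGT.EndBase.conj_app]
    have h1 := hσV (MulAut.conj s) (by rw [← hmap]; exact ⟨s, hs, rfl⟩)
    rw [h1, mul_inv_cancel_right]
  have hScomm : ∀ x ∈ (S : Subgroup K), ∀ y ∈ (S : Subgroup K), x * y = y * x := by
    intro x hx y hy
    have h1 := hsq x hx
    have h3 := hsq y hy
    have h4 := hsq _ ((S : Subgroup K).mul_mem hx hy)
    calc x * y = (x * y)⁻¹ := (inv_eq_of_mul_eq_one_right h4).symm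
      _ = y * x := by rw [mul_inv_rev, inv_eq_of_mul_eq_one_right h1, inv_eq_of_mul_eq_one_right h3]
  have hS1 : (S : Subgroup K) ≠ ⊥ := by
    intro h
    have h1 : Nat.card (S : Subgroup K) = 8 := h8
    rw [h, card_bot] at h1
    omega
  obtain ⟨v, -, hv⟩ := AbelAut.eq_conj hna S hScomm hS1 σ hpσ hfix
  refine ⟨v, ?_⟩
  ext x
  rw [hv x, MulAut.conj_apply]

/-- `S = X`. -/
theorem top_of_eight {X : Type u} [Group X] [Finite X] {S T A : Subgroup X} (h : ASx S T A)
    (hna : ∃ a b : S, a * b ≠ b * a)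
    (hsyl : ∀ P : Sylow 2 S, Nat.card P = 8 ∧ ∀ x ∈ (P : Subgroup S), x * x = 1) : S = ⊤ := by
  have hsim := h.simple
  refine h.top_of_inner fun α ⟨k, hk⟩ => exists_conj hna hsyl α ?_
  intro g
  obtain ⟨i, hi⟩ := mem_zpowers_iff.1 g.2
  refine ⟨k, Subtype.ext ?_⟩
  rw [SubgroupClass.coe_pow, ← hi, ← zpow_natCast, ← zpow_mul, mul_comm, zpow_mul, zpow_natCast, hk, one_zpow]
  rfl

/-- **Elementary abelian Sylow 2-subgroups of order 8.** -/
theorem card_le_of_eight {X : Type u} [Group X] [Finite X] {S T A : Subgroup X} (h : ASx S T A) {n : ℕ}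
    (hna : ∃ a b : S, a * b ≠ b * a)
    (hsyl : ∀ P : Sylow 2 S, Nat.card P = 8 ∧ ∀ x ∈ (P : Subgroup S), x * x = 1)
    (t : S) (ht1 : t ≠ 1) (ht2 : t * t = 1) (ho : Nat.card (o2 (centralizer ({t} : Set S))) ≤ n) :
    Nat.card A ≤ n := by
  classical
  have hsim := h.simple
  have h2 : Fact (Nat.Prime 2) := ⟨Nat.prime_two⟩
  have htop : S = ⊤ := top_of_eight h hna hsyl
  have hTS : T ≤ S := htop ▸ le_top
  -- `T` as a Sylow subgroup of `S`
  have hT' : IsPGroup 2 (T.subgroupOf S) := h.two.comap_subtype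
  have hTi : ¬ 2 ∣ (T.subgroupOf S).index := by
    intro h3
    apply h.syl
    have h4 : (T.subgroupOf S).index = T.index := by
      change T.relIndex S = T.index
      rw [htop, relIndex_top_right]
    rwa [← h4]
  let P : Sylow 2 S := hT'.toSylow hTi
  have hP : (P : Subgroup S) = T.subgroupOf S := rfl
  -- `t` in a Sylow subgroup
  have htp : IsPGroup 2 (zpowers t) := IsPGroup.of_card (n := 1) (by
    rw [Nat.card_zpowers, pow_one]
    exact orderOf_eq_prime (by rw [pow_two, ht2]) ht1)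
  obtain ⟨Q, hQ⟩ := htp.exists_le_sylow
  obtain ⟨g, hg⟩ := MulAction.exists_smul_eq S Q P
  set s : S := g * t * g⁻¹ with hs
  have hsP : s ∈ T.subgroupOf S := by
    rw [← hP, ← hg]
    exact ⟨t, hQ (mem_zpowers t), rfl⟩
  have hs1 : s ≠ 1 := by
    intro h3
    apply ht1
    calc t = g⁻¹ * s * g := by rw [hs]; group
      _ = 1 := by rw [h3]; group
  -- `T` is abelian
  have hTel : ∀ x ∈ T, x * x = 1 := by
    intro x hx
    have h3 := (hsyl P).2 ⟨x, hTS hx⟩ hx
    exact congrArg Subtype.val h3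
  have hsT : (s : X) ∈ T := hsP
  have hTR : T ≤ centralizer ({(s : X)} : Set X) := by
    intro x hx
    rw [mem_centralizer_singleton_iff]
    exact comm_of_el hTel hx hsT
  have hR : centralizer ({(s : X)} : Set X) ≠ ⊤ := h.cent_ne_top fun h3 => hs1 (Subtype.ext h3)
  have hA := h.low _ hTR hR
  refine (card_le_of_le hA).trans ?_
  -- transport to `C_S(t)`
  set O := o2 (centralizer ({(s : X)} : Set X)) with hO
  have hOS : O ≤ S := htop ▸ le_top
  have hc1 : Nat.card O = Nat.card ((O.subgroupOf S).map (MulAut.conj g⁻¹).toMonoidHom) := by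
    rw [card_map_of_injective (MulAut.conj g⁻¹).injective, Nat.card_congr (subgroupOfEquivOfLe hOS).toEquiv]
  rw [hc1]
  refine (card_le_of_le ?_).trans ho
  have hgt : g⁻¹ * s * g = t := by rw [hs]; group
  have hmem : ∀ x : S, x ∈ centralizer ({t} : Set S) → (g * x * g⁻¹ : S) ∈ centralizer ({s} : Set S) := by
    intro x hx
    rw [mem_centralizer_singleton_iff] at hx ⊢
    rw [hs]
    calc g * x * g⁻¹ * (g * t * g⁻¹) = g * (x * t) * g⁻¹ := by group
      _ = g * (t * x) * g⁻¹ := by rw [hx]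
      _ = _ := by group
  refine le_o2 ?_ ?_ ?_
  · rintro _ ⟨x, hx, rfl⟩
    have hx1 : ((x : S) : X) ∈ centralizer ({(s : X)} : Set X) := o2_le _ hx
    rw [mem_centralizer_singleton_iff] at hx1 ⊢
    have hx2 : x * s = s * x := Subtype.ext hx1
    change g⁻¹ * x * (g⁻¹)⁻¹ * t = t * (g⁻¹ * x * (g⁻¹)⁻¹)
    rw [← hgt]
    calc g⁻¹ * x * (g⁻¹)⁻¹ * (g⁻¹ * s * g) = g⁻¹ * (x * s) * g := by group
      _ = g⁻¹ * (s * x) * g := by rw [hx2]
      _ = _ := by group
  · exact ((o2_isPGroup _).comap_of_injective S.subtype S.subtype_injective).map _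
  · intro x hx
    refine Cfsg.Agent.MinSimple.VModule.mem_normalizer_of_map_le ?_
    rintro _ ⟨_, ⟨w, hw, rfl⟩, rfl⟩
    have h1 : ((g * x * g⁻¹ : S) : X) ∈ centralizer ({(s : X)} : Set X) := by
      have h2 := hmem x hx
      rw [mem_centralizer_singleton_iff] at h2 ⊢
      exact congrArg Subtype.val h2
    have h3 : ((g * x * g⁻¹ * w * (g * x * g⁻¹)⁻¹ : S) : X) ∈ O :=
      (mem_normalizer_iff.1 (le_normalizer_o2 _ h1) (w : X)).1 hw
    refine ⟨g * x * g⁻¹ * w * (g * x * g⁻¹)⁻¹, h3, ?_⟩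
    change g⁻¹ * (g * x * g⁻¹ * w * (g * x * g⁻¹)⁻¹) * (g⁻¹)⁻¹ = x * (g⁻¹ * w * (g⁻¹)⁻¹) * x⁻¹
    group

/-- transport of the hypotheses of `card_le_of_eight` -/
theorem card_le_of_equiv {X : Type u} [Group X] [Finite X] {S T A : Subgroup X} (h : ASx S T A) {K : Type*} [Group K]
    (e : S ≃* K) (hna : ∃ a b : K, a * b ≠ b * a)
    (hsyl : ∀ P : Sylow 2 K, Nat.card P = 8 ∧ ∀ x ∈ (P : Subgroup K), x * x = 1)
    {t : K} (ht1 : t ≠ 1) (ht2 : t * t = 1) {Z L : Type*} [Group Z] [Group L] [IsSimpleGroup L]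
    (hZ : Nat.card Z = 2) (hL : ¬ IsPGroup 2 L) (c : ↥(centralizer ({t} : Set K)) ≃* Z × L) :
    Nat.card A ≤ 2 := by
  have hfK : Finite K := Finite.of_equiv _ e.toEquiv
  refine card_le_of_eight h ?_ ?_ (e.symm t) ?_ ?_ ?_
  · obtain ⟨a, b, hab⟩ := hna
    exact ⟨e.symm a, e.symm b, fun h1 => hab (e.symm.injective (by rw [map_mul, map_mul, h1]))⟩
  · intro P
    have hP : IsPGroup 2 ((P : Subgroup S).map e.toMonoidHom) := P.isPGroup'.map _
    have hPi : ¬ 2 ∣ ((P : Subgroup S).map e.toMonoidHom).index := by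
      have h1 : ((P : Subgroup S).map e.toMonoidHom).index = (P : Subgroup S).index :=
        index_map_equiv (P : Subgroup S) e
      rw [h1]
      have : Fact (Nat.Prime 2) := ⟨Nat.prime_two⟩
      exact P.not_dvd_index
    obtain ⟨h1, h2⟩ := hsyl (hP.toSylow hPi)
    constructor
    · have h3 : Nat.card ((P : Subgroup S).map e.toMonoidHom) = 8 := h1
      rwa [card_map_of_injective e.injective] at h3
    · intro x hx
      have h3 := h2 (e x) (mem_map_of_mem e.toMonoidHom hx)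
      exact e.injective (by rw [map_mul, h3, map_one])
  · intro h1
    apply ht1
    rw [← e.apply_symm_apply t, h1, map_one]
  · rw [← map_mul, ht2, map_one]
  · let c' : ↥(centralizer ({e.symm t} : Set S)) ≃* ↥(centralizer ({t} : Set K)) :=
      { toFun := fun x => ⟨e x, by
          have h1 := mem_centralizer_singleton_iff.1 x.2
          rw [mem_centralizer_singleton_iff]
          have h2 := congrArg e h1
          rwa [map_mul, map_mul, e.apply_symm_apply] at h2⟩
        invFun := fun x => ⟨e.symm x, by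
          have h1 := mem_centralizer_singleton_iff.1 x.2
          rw [mem_centralizer_singleton_iff]
          have h2 := congrArg e.symm h1
          rwa [map_mul, map_mul] at h2⟩
        left_inv := fun x => Subtype.ext (e.symm_apply_apply _)
        right_inv := fun x => Subtype.ext (e.apply_symm_apply _)
        map_mul' := fun x y => Subtype.ext (map_mul e _ _) }
    exact card_o2_le_two hZ hL (c'.trans c)

/-- **The row `²G₂(q)`, group-theoretic.** -/
theorem deadGx : DeadGx.{u} 2 fun S _ => Cfsg.Lie.IsoRee S := by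
  rintro X _ _ S T A h ⟨F, _, _, m, hm, hF, ⟨e⟩⟩
  obtain ⟨hs, hc⟩ := Cfsg.Agent.S1073.result hm hF
  obtain ⟨a, haH, ha1, ha2⟩ := Cfsg.Agent.S1157.exists_involution hF
  obtain ⟨⟨c⟩, hS⟩ := Cfsg.Agent.S1152.result hF a haH ha1 ha2
  have hF4 : 4 ≤ Nat.card F := by
    rw [Nat.card_eq_fintype_card, hF]
    have := Lie.PairRee.card_ge hm
    omega
  obtain ⟨hL, -, hp⟩ := Lie.PairRee.psl_facts hF4
  refine card_le_of_equiv h e ?_ hS ha1 ha2 (by simp [Nat.card_eq_fintype_card]) hp c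
  by_contra hcon
  push Not at hcon
  exact hc ⟨⟨hcon⟩⟩

/-- **The row `²G₂(q)`.** -/
theorem dead : DeadX.{u, v} fun S _ => Cfsg.Lie.IsoRee S := deadGx.deadX (by norm_num)

end Cfsg.Agent.Omega.ML.Ex.RowReeX

end

section


/-!
# Exact and low configurations: a sheet of type (E) and one inverted element (helper202; ports of ShInv, InvRow)

* `InX.index_elt_le` : `|M : C_M(x)| ≤ |A|` for `x ∈ A`;
* `InX.false_of_inv` : no `x ∈ A` with `InvAt x n` (helper226), `|A| < 2 ^ n`;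
* **`deadX_of_sheetInv`** : groups with a sheet `SheetX z P R`, whose elementary abelian subgroups `B ≤ R` have order at
  most `2 ^ n`, and `InvAt y (n + 1)` for every involution `y ∈ R`, `y ≠ z`, form a row.
-/

set_option autoImplicit false

namespace Cfsg.Agent.Omega.ML.Ex

open Subgroup Cfsg Cfsg.Agent.ZN Cfsg.Agent.Omega.NOThree.NoOver Cfsg.Agent.Omega.ML.CD
open Cfsg.Agent.OddHalf.D8.Sheet Cfsg.Agent.OddHalf.D8.JTwo.Sheet Cfsg.Agent.Omega.ML.InvChain
open Cfsg.Agent.ClassTwoFusion.Quad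

universe u v

variable {H : Type u} [Group H] {M : Type v} [Group M] [Finite M] [MulDistribMulAction H M] {K T A : Subgroup H}

/-- `|M : C_M(x)| ≤ |A|` for `x ∈ A`. -/
theorem InX.index_elt_le (h : InX H M K T A) {x : H} (hx : x ∈ A) : (cv M ({x} : Set H)).index ≤ Nat.card A := by
  rw [← h.exact]
  exact Nat.le_of_dvd (Nat.pos_of_ne_zero index_ne_zero_of_finite)
    (index_dvd_of_le (cv_anti (Set.singleton_subset_iff.2 hx)))

/-- **Kill by one inverted element.** -/
theorem InX.false_of_inv (h : InX H M K T A) {n : ℕ} (hn : Nat.card A < 2 ^ n) {x : H} (hxA : x ∈ A)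
    (hx : InvAt x n) : False := by
  have h1 := InvRow.inv_big h.sq h.faith (h.el x hxA) hx
  have h2 := h.index_elt_le hxA
  omega

omit [Finite M] in
/-- An element of `A` different from `1` and from one further element. -/
theorem InX.exists_mem_ne (h : InX H M K T A) [Finite H] (f : H → H) (hf : Function.Injective f) (z : H) :
    ∃ x ∈ A, x ≠ 1 ∧ f x ≠ z := by
  classical
  by_contra hcon
  push Not at hcon
  have h3 : Function.Injective (fun a : A => (if (a : H) = 1 then false else true : Bool)) := by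
    intro a b hab
    apply Subtype.ext
    by_cases ha : (a : H) = 1
    · by_cases hb : (b : H) = 1
      · rw [ha, hb]
      · simp [ha, hb] at hab
    · by_cases hb : (b : H) = 1
      · simp [ha, hb] at hab
      · exact hf ((hcon a a.2 ha).trans (hcon b b.2 hb).symm)
  have h4 := Nat.card_le_card_of_injective _ h3
  rw [Nat.card_eq_fintype_card (α := Bool), Fintype.card_bool] at h4
  have := h.four
  omega

/-- **The row of a class of groups with a sheet of type (E), `R` of rank at most `n`, `InvAt y (n + 1)` for the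
involutions `y ≠ z` of `R`.** -/
theorem deadX_of_sheetInv {𝒮 : ∀ (S : Type u) [Group S], Prop}
    (hs : ∀ (S : Type u) [Group S], Finite S → 𝒮 S → ∃ (z : S) (P R : Subgroup S) (n : ℕ), SheetX z P R ∧
      (∀ B ≤ R, (∀ b ∈ B, b * b = 1) → Nat.card B ≤ 2 ^ n) ∧
        ∀ y ∈ R, y * y = 1 → y ≠ 1 → y ≠ z → InvAt y (n + 1)) :
    DeadX.{u, v} 𝒮 := by
  intro H _ _ M _ _ _ K T A h hK
  obtain ⟨z, P, R, n, hz, hR, hI⟩ := hs K inferInstance hK
  have has := h.asx
  have hcard : Nat.card A ≤ 2 ^ n := has.card_le_of_sheet hz hR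
  obtain ⟨g, hg⟩ := has.le_conj hz
  obtain ⟨x, hxA, hx1, hx2⟩ := h.exists_mem_ne (fun a => (g : H)⁻¹ * a * g)
    (fun a b hab => mul_left_cancel (mul_right_cancel hab)) (z : H)
  obtain ⟨r, hr, hrx⟩ := hg x hxA
  change (r : H) = (g : H)⁻¹ * x * g at hrx
  have hxx : x * x = 1 := h.el x hxA
  have hI' : InvAt r (n + 1) := by
    refine hI r hr (Subtype.ext ?_) ?_ ?_
    · rw [Subgroup.coe_mul, hrx, Subgroup.coe_one]
      calc (g : H)⁻¹ * x * g * ((g : H)⁻¹ * x * g) = (g : H)⁻¹ * (x * x) * g := by group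
        _ = 1 := by rw [hxx]; group
    · intro h1
      apply hx1
      rw [h1, Subgroup.coe_one] at hrx
      calc x = (g : H) * ((g : H)⁻¹ * x * g) * (g : H)⁻¹ := by group
        _ = 1 := by rw [← hrx]; group
    · intro h1
      exact hx2 (by rw [← hrx, h1])
  have h3 := (hI'.map K.subtype K.subtype_injective).conj (g : H)
  have h4 : (g : H) * K.subtype r * (g : H)⁻¹ = x := by
    change (g : H) * (r : H) * (g : H)⁻¹ = x
    rw [hrx]; group
  rw [h4] at h3
  exact h.false_of_inv (hcard.trans_lt (Nat.pow_lt_pow_right (by norm_num) (by omega))) hxA h3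

end Cfsg.Agent.Omega.ML.Ex

end

section


/-!
# Exact and low configurations: the group-theoretic rows M11 and J1 over `ASx` (helper333)
-/

set_option autoImplicit false

namespace Cfsg.Agent.Omega.ML.Ex.RowMJX

open Subgroup Cfsg Cfsg.Agent.ZN Cfsg.Agent.Omega.TwoF Cfsg.Agent.Omega.ML.Rows

universe u

end Cfsg.Agent.Omega.ML.Ex.RowMJX

end
end

-- part: Mrg/Omega/ML/ExEx/Core
section
section


/-!
# K-list "exact + low": THEOREM EX in the exact form, the module part (helper96)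

* `core2` : a 2-group `Q` normal in `L`, all of whose proper `E`-invariant subgroups have index at least `2 ^ (2w)`, acts
  on every `L`-module `N` of order at most `2 ^ (2w+1)` trivially, or `[N, Q]` has index 2 or order 2 (`TrivOn L E (2 ^ w)`).
-/

set_option autoImplicit false

namespace Cfsg.Agent.Omega.ML.ExEx.Core

open Subgroup Cfsg.Agent.Omega.NOThree.NoOver Cfsg.Agent.Omega.ML.ExCore

universe u v w u'

variable {L : Type u} [Group L] {N : Type v} [Group N] [MulDistribMulAction L N]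

/-- **The module part of THEOREM EX, exact form** -/
theorem core2 [Finite L] [Finite N] (sq : ∀ x : N, x * x = 1) {Q E : Subgroup L} (hQ : Q.Normal) (h2 : IsPGroup 2 Q)
    {w : ℕ} (hN : Nat.card N ≤ 2 ^ (2 * w + 1))
    (irr : ∀ D ≤ Q, (∀ l ∈ E, ∀ q ∈ D, l * q * l⁻¹ ∈ D) → 2 ^ (2 * w) ≤ D.relIndex Q ∨ D = Q)
    (tr : TrivOn.{u, v} L E (2 ^ w)) : (∀ q ∈ Q, ∀ n : N, q • n = n) ∨
    ∃ N₁ : Subgroup N, (∀ (l : L), ∀ x ∈ N₁, l • x ∈ N₁) ∧ (∀ q ∈ Q, ∀ n : N, q • n * n⁻¹ ∈ N₁) ∧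
      (∀ q ∈ Q, ∀ x ∈ N₁, q • x = x) ∧ (N₁.index = 2 ∨ Nat.card N₁ = 2) := by
  by_cases hcon : ∀ q ∈ Q, ∀ n : N, q • n = n
  · exact Or.inl hcon
  right
  push Not at hcon
  obtain ⟨q₀, hq₀, n₀, hn₀⟩ := hcon
  obtain ⟨N₁, hN₁⟩ : ∃ N₁, N₁ = br N Q ⊤ := ⟨_, rfl⟩
  have hinv1 : ∀ (l : L), ∀ x ∈ N₁, l • x ∈ N₁ := by
    rw [hN₁]
    exact fun l x hx => smul_mem_br hQ (fun _ _ _ => mem_top _) l hx
  obtain ⟨N₂, hN₂⟩ : ∃ N₂, N₂ = br N Q N₁ := ⟨_, rfl⟩
  have hinv2 : ∀ (l : L), ∀ x ∈ N₂, l • x ∈ N₂ := by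
    rw [hN₂]
    exact fun l x hx => smul_mem_br hQ hinv1 l hx
  have hb1 : ∀ q ∈ Q, ∀ n : N, q • n * n⁻¹ ∈ N₁ := fun q hq n => by
    rw [hN₁]; exact mem_br hq (mem_top n)
  have hb2 : ∀ q ∈ Q, ∀ n ∈ N₁, q • n * n⁻¹ ∈ N₂ := fun q hq n hn => by
    rw [hN₂]; exact mem_br hq hn
  have hne1 : N₁ ≠ ⊥ := by
    intro h
    have h1 := hb1 q₀ hq₀ n₀
    rw [h, mem_bot, mul_inv_eq_one] at h1
    exact hn₀ h1
  have htop : (⊤ : Subgroup N) ≠ ⊥ := fun h => hne1 (le_bot_iff.1 (h ▸ le_top))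
  have hne2 : N₁ ≠ ⊤ := by
    rw [hN₁]
    exact br_ne sq h2 (fun _ _ _ _ => mem_top _) htop
  have hlt2 : N₂ < N₁ := by
    refine lt_of_le_of_ne ?_ ?_
    · rw [hN₂]
      exact br_le fun q _ x hx => hinv1 q x hx
    · rw [hN₂]
      exact br_ne sq h2 (fun q _ x hx => hinv1 q x hx) hne1
  have hcard := card_mul_index N₁
  have hi : 2 ≤ N₁.index := by
    have h3 : N₁.index ≠ 0 := index_ne_zero_of_finite
    have h4 : N₁.index ≠ 1 := fun e => hne2 (index_eq_one.1 e)
    omega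
  have hc : 2 ≤ Nat.card N₁ := (one_lt_card_iff_ne_bot N₁).2 hne1
  have hpw : 2 ^ (2 * w + 1) = 2 * 2 ^ (2 * w) := by rw [pow_succ, mul_comm]
  -- if `N₂ = 1` then `Q` centralises `N₁`
  have hfix : N₂ = ⊥ → ∀ q ∈ Q, ∀ x ∈ N₁, q • x = x := fun h q hq x hx => by
    have h3 := hb2 q hq x hx
    rwa [h, mem_bot, mul_inv_eq_one] at h3
  by_cases hcase : N₁.index ≤ 2 ^ w
  · -- `L` is trivial on `N / N₁`
    have htr : ∀ l ∈ E, ∀ x : N, l • x * x⁻¹ ∈ N₁ := fun l hl x =>
      tr.sec sq hinv1 (V := ⊤) (fun _ _ _ => mem_top _) (by rwa [relIndex_top_right]) hl (mem_top x)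
    obtain ⟨n, q₁, hq₁, hn⟩ : ∃ n : N, ∃ q ∈ Q, q • n * n⁻¹ ∉ N₂ := by
      by_contra hc
      push Not at hc
      have h3 : N₁ ≤ N₂ := by
        rw [hN₁, br_le_iff]
        exact fun q hq y _ => hc y q hq
      exact absurd h3 (not_le_of_gt hlt2)
    have hU : ∀ q ∈ Q, ∀ x ∈ N₂, q • x ∈ N₂ := fun q _ x hx => hinv2 q x hx
    have hD : ∀ l ∈ E, ∀ q ∈ dn Q N₂ hU n, l * q * l⁻¹ ∈ dn Q N₂ hU n := by
      refine fun l hl q hq => ⟨hQ.conj_mem q hq.1 l, ?_⟩
      have h3 := hb2 q hq.1 _ (htr l⁻¹ (E.inv_mem hl) n)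
      have h4 : l⁻¹ • n = (l⁻¹ • n * n⁻¹) * n := by group
      have h5 : q • (l⁻¹ • n) * (l⁻¹ • n)⁻¹ ∈ N₂ := by
        have h6 : (l⁻¹ • n * n⁻¹) * n ∈ cn sq q N₂ := mul_mem h3 hq.2
        rw [← h4] at h6
        exact h6
      have h7 := hinv2 l _ h5
      rw [smul_mul', smul_inv', smul_inv_smul, ← mul_smul, ← mul_smul] at h7
      exact h7
    rcases irr (dn Q N₂ hU n) (fun q hq => hq.1) hD with h3 | h3
    · have h4 := relIndex_dn_le sq hU (W := N₁) (fun q hq => hb1 q hq n) hb2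
      have h5 : Nat.card N₂ * N₂.relIndex N₁ = Nat.card N₁ := by
        rw [← relIndex_bot_left, ← relIndex_bot_left N₁]
        exact relIndex_mul_relIndex _ _ _ bot_le hlt2.le
      have h6 : 2 ^ (2 * w) ≤ N₂.relIndex N₁ := h3.trans h4
      have h7 : 0 < Nat.card N₂ := Nat.card_pos
      have h8 : 0 < 2 ^ (2 * w) := by positivity
      -- `|N₁| ≥ |N₂| 2^(2w)`, `|N₁| |N : N₁| ≤ 2 * 2^(2w)`
      have h9 : Nat.card N₂ * 2 ^ (2 * w) * N₁.index ≤ 2 * 2 ^ (2 * w) := by
        calc Nat.card N₂ * 2 ^ (2 * w) * N₁.index ≤ Nat.card N₂ * N₂.relIndex N₁ * N₁.index :=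
              Nat.mul_le_mul_right _ (Nat.mul_le_mul_left _ h6)
          _ = Nat.card N := by rw [h5, hcard]
          _ ≤ 2 * 2 ^ (2 * w) := by rw [← hpw]; exact hN
      have h10 : Nat.card N₂ * N₁.index ≤ 2 := by
        have e : Nat.card N₂ * 2 ^ (2 * w) * N₁.index = (Nat.card N₂ * N₁.index) * 2 ^ (2 * w) := by ring
        rw [e] at h9
        exact Nat.le_of_mul_le_mul_right h9 h8
      have h11 : N₁.index = 2 := by nlinarith only [hi, h7, h10]
      have h12 : Nat.card N₂ = 1 := by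
        rw [h11] at h10
        omega
      have h13 : N₂ = ⊥ := card_eq_one.1 h12
      exact ⟨N₁, hinv1, hb1, hfix h13, Or.inl h11⟩
    · have h4 : q₁ ∈ dn Q N₂ hU n := by rw [h3]; exact hq₁
      exact absurd h4.2 hn
  · -- `L` is trivial on `N₁`
    have hcase' : Nat.card N₁ ≤ 2 ^ w := by
      by_contra hc'
      rw [not_le] at hcase hc'
      -- both are powers of 2
      have hp : ∃ a, Nat.card N₁ = 2 ^ a := by
        have hp2 : IsPGroup 2 N₁ := fun x => ⟨1, by rw [pow_one, pow_two]; exact Subtype.ext (sq x)⟩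
        exact (IsPGroup.iff_card (p := 2)).1 hp2
      obtain ⟨a, ha⟩ := hp
      rw [ha] at hc'
      have ha' : w + 1 ≤ a := (Nat.pow_lt_pow_iff_right (by norm_num)).1 hc'
      have h3 : 2 ^ (w + 1) ≤ Nat.card N₁ := by rw [ha]; exact Nat.pow_le_pow_right (by norm_num) ha'
      have h4 : 2 ^ (w + 1) * 2 ^ w < Nat.card N₁ * N₁.index :=
        lt_of_lt_of_le (Nat.mul_lt_mul_of_pos_left hcase (by positivity)) (Nat.mul_le_mul_right _ h3)
      rw [hcard, ← pow_add] at h4
      have h5 : w + 1 + w = 2 * w + 1 := by ring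
      rw [h5] at h4
      omega
    have htr : ∀ l ∈ E, ∀ x ∈ N₁, l • x = x := by
      intro l hl x hx
      have h3 := tr.sec sq (U := ⊥) (V := N₁) (fun l x hx => by rw [mem_bot.1 hx, smul_one]; exact one_mem _)
        hinv1 (by rwa [relIndex_bot_left]) hl hx
      rwa [mem_bot, mul_inv_eq_one] at h3
    obtain ⟨Y, hY1, -, hY2, hY3⟩ := exists_max (p := fun _ => True) trivial hlt2
    obtain ⟨v, hv, hvY⟩ := SetLike.exists_of_lt hY2
    have hsup : N₁ = Y ⊔ zpowers v := by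
      by_contra hc
      have h2 : Y < Y ⊔ zpowers v := lt_of_le_of_ne le_sup_left fun h => hvY (h ▸ le_sup_zpowers Y v)
      have h3 : Y ⊔ zpowers v ≤ N₁ := sup_le hY2.le (zpowers_le.2 hv)
      exact hY3 _ h2 trivial (lt_of_le_of_ne h3 (Ne.symm hc))
    have hYi : Y.relIndex N₁ ≤ 2 := by
      have hn := normal_of_sq sq Y
      rw [hsup, sup_comm, relIndex_sup_right]
      have h3 : Y.relIndex (zpowers v) ≤ Nat.card (zpowers v) := Nat.le_of_dvd Nat.card_pos (relIndex_dvd_card _ _)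
      rw [Nat.card_zpowers] at h3
      exact h3.trans (orderOf_le_of_pow_eq_one (by norm_num) (by rw [pow_two]; exact sq v))
    have hYinv : ∀ l ∈ E, ∀ x ∈ Y, l • x ∈ Y := fun l hl x hx => by rwa [htr l hl x (hY2.le hx)]
    have hU : ∀ q ∈ Q, ∀ x ∈ Y, q • x ∈ Y := fun q hq x hx => by
      have h3 := Y.mul_mem (hY1 (hb2 q hq x (hY2.le hx))) hx
      rwa [inv_mul_cancel_right] at h3
    have hD : ∀ l ∈ E, ∀ q ∈ dv Q Y hU ⊤, l * q * l⁻¹ ∈ dv Q Y hU ⊤ := by
      intro l hl q hq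
      rw [mem_dv] at hq ⊢
      refine ⟨hQ.conj_mem q hq.1 l, fun n _ => ?_⟩
      have h7 := hYinv l hl _ (hq.2 (l⁻¹ • n) (mem_top _))
      rwa [smul_mul', smul_inv', smul_inv_smul, ← mul_smul, ← mul_smul] at h7
    rcases irr (dv Q Y hU ⊤) (fun q hq => (mem_dv.1 hq).1) hD with h3 | h3
    · have h4 := relIndex_dv_le sq hU (N₁ := N₁) (fun n q hq => hb1 q hq n) (fun q hq x hx => hY1 (hb2 q hq x hx)) hYi ⊤
        le_top
      rw [relIndex_top_right] at h4
      have h5 : 2 ^ (2 * w) ≤ N₁.index := h3.trans h4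
      have h6 : Nat.card N₁ * 2 ^ (2 * w) ≤ 2 * 2 ^ (2 * w) := by
        calc Nat.card N₁ * 2 ^ (2 * w) ≤ Nat.card N₁ * N₁.index := Nat.mul_le_mul_left _ h5
          _ = Nat.card N := hcard
          _ ≤ 2 * 2 ^ (2 * w) := by rw [← hpw]; exact hN
      have h7 : Nat.card N₁ ≤ 2 := Nat.le_of_mul_le_mul_right h6 (by positivity)
      have h8 : Nat.card N₁ = 2 := le_antisymm h7 hc
      have h9 : N₂ = ⊥ := by
        by_contra h10
        have h11 : 2 ≤ Nat.card N₂ := (one_lt_card_iff_ne_bot N₂).2 h10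
        exact hlt2.ne (eq_of_le_of_card_ge hlt2.le (by omega))
      exact ⟨N₁, hinv1, hb1, hfix h9, Or.inr h8⟩
    · have h4 : N₁ ≤ Y := by
        rw [hN₁, br_le_iff]
        intro q hq n _
        rw [← h3] at hq
        exact (mem_dv.1 hq).2 n (mem_top n)
      exact absurd h4 (not_le_of_gt hY2)

end Cfsg.Agent.Omega.ML.ExEx.Core

end

section


/-!
# K-list "exact + low": THEOREM EX in the exact form, the two equality cases (helper96)

`Q` acts on `M ≥ M₁ ≥ F`, trivially on `F` and `M₁ / F` and `M / M₁`; the elements of `Q` trivial on `M / F` are `1`, `z`.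

* `Sit.false_two` : `|M₁ / F| ≤ 2`, `|Q| > 8`: contradiction;
* `Sit.false_tv` : `|M : M₁| = 2`: `z` is a transvection; contradiction if a conjugate `t` of `z` commutes with `z`, normalises
  `Q` and moves `Q / ⟨z⟩`.
-/

set_option autoImplicit false

namespace Cfsg.Agent.Omega.ML.ExEx.Kill

open Subgroup Cfsg.Agent.Omega.NOThree.NoOver Cfsg.Agent.Omega.ML.ExCore

universe u v

variable {H : Type u} [Group H] {M : Type v} [Group M] [MulDistribMulAction H M]

/-- the situation -/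
structure Sit (Q : Subgroup H) (F M₁ : Subgroup M) (z : H) : Prop where
  sq : ∀ m : M, m * m = 1
  faith : ∀ h : H, (∀ m : M, h • m = m) → h = 1
  FM : F ≤ M₁
  hF : ∀ q ∈ Q, ∀ x ∈ F, q • x = x
  h1 : ∀ q ∈ Q, ∀ m : M, q • m * m⁻¹ ∈ M₁
  h2 : ∀ q ∈ Q, ∀ x ∈ M₁, q • x * x⁻¹ ∈ F
  hD : ∀ q ∈ Q, (∀ m : M, q • m * m⁻¹ ∈ F) → q = 1 ∨ q = z
  nab : ∃ a ∈ Q, ∃ b ∈ Q, a * b ≠ b * a

theorem d_mul (a b : H) (m : M) : (a * b) • m * m⁻¹ = (a • (b • m * m⁻¹)) * (a • m * m⁻¹) := by
  rw [mul_smul, smul_mul', smul_inv']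
  group

theorem d_mulr (a : H) (m n : M) (hc : ∀ a b : M, a * b = b * a) :
    a • (m * n) * (m * n)⁻¹ = (a • m * m⁻¹) * (a • n * n⁻¹) := by
  rw [smul_mul', mul_inv_rev]
  calc a • m * a • n * (n⁻¹ * m⁻¹) = a • m * (a • n * n⁻¹) * m⁻¹ := by group
    _ = a • m * m⁻¹ * (a • n * n⁻¹) := by rw [mul_assoc, hc (a • n * n⁻¹) m⁻¹, ← mul_assoc]

theorem swap (hc : ∀ a b : M, a * b = b * a) (x y α β : M) :
    x * α * (y * β)⁻¹ = (x * β⁻¹) * (y * α⁻¹)⁻¹ := by
  rw [mul_inv_rev, mul_inv_rev, inv_inv]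
  calc x * α * (β⁻¹ * y⁻¹) = x * (α * β⁻¹) * y⁻¹ := by group
    _ = x * (β⁻¹ * α) * y⁻¹ := by rw [hc α β⁻¹]
    _ = _ := by group

namespace Sit

variable {Q : Subgroup H} {F M₁ : Subgroup M} {z : H} (S : Sit Q F M₁ z)
include S

theorem comm (a b : M) : a * b = b * a := comm_of_sq S.sq a b

theorem stab {q : H} (hq : q ∈ Q) {x : M} (hx : x ∈ M₁) : q • x ∈ M₁ := by
  have h := M₁.mul_mem (S.FM (S.h2 q hq x hx)) hx
  rwa [inv_mul_cancel_right] at h

/-- `(ab) m / (ba) m ∈ F` -/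
theorem comm_F {a b : H} (ha : a ∈ Q) (hb : b ∈ Q) (m : M) : (a * b) • m * ((b * a) • m)⁻¹ ∈ F := by
  have e1 := d_mul a b m
  have e2 := d_mul b a m
  have f1 := S.h2 a ha _ (S.h1 b hb m)
  have f2 := S.h2 b hb _ (S.h1 a ha m)
  have e3 : (a * b) • m * ((b * a) • m)⁻¹ = ((a * b) • m * m⁻¹) * ((b * a) • m * m⁻¹)⁻¹ := by group
  rw [e3, e1, e2, swap S.comm]
  exact F.mul_mem f1 (F.inv_mem f2)

/-- commutators lie in `{1, z}` -/
theorem commutator {a b : H} (ha : a ∈ Q) (hb : b ∈ Q) : a * b * a⁻¹ * b⁻¹ = 1 ∨ a * b * a⁻¹ * b⁻¹ = z := by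
  refine S.hD _ (Q.mul_mem (Q.mul_mem (Q.mul_mem ha hb) (Q.inv_mem ha)) (Q.inv_mem hb)) fun m => ?_
  have key := S.comm_F ha hb
  have h3 := key ((b * a)⁻¹ • m)
  rw [smul_inv_smul, ← mul_smul] at h3
  have e : a * b * (b * a)⁻¹ = a * b * a⁻¹ * b⁻¹ := by group
  rwa [e] at h3

/-- squares lie in `{1, z}` -/
theorem square {a : H} (ha : a ∈ Q) : a * a = 1 ∨ a * a = z := by
  refine S.hD _ (Q.mul_mem ha ha) fun m => ?_
  rw [d_mul]
  have h3 := S.h2 a ha _ (S.h1 a ha m)
  have e : a • (a • m * m⁻¹) * (a • m * m⁻¹) = (a • (a • m * m⁻¹) * (a • m * m⁻¹)⁻¹) := by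
    rw [inv_eq_of_mul_eq_one_right (S.sq (a • m * m⁻¹))]
  rw [e]
  exact h3

/-- there are `a, b ∈ Q` with `[a, b] = z ≠ 1` -/
theorem exists_comm : ∃ a ∈ Q, ∃ b ∈ Q, a * b * a⁻¹ * b⁻¹ = z ∧ z ≠ 1 := by
  obtain ⟨a, ha, b, hb, hab⟩ := S.nab
  have h3 : a * b * a⁻¹ * b⁻¹ ≠ 1 := by
    intro h
    apply hab
    calc a * b = (a * b * a⁻¹ * b⁻¹) * (b * a) := by group
      _ = b * a := by rw [h, one_mul]
  have h4 := (S.commutator ha hb).resolve_left h3
  exact ⟨a, ha, b, hb, h4, fun h5 => h3 (h4.trans h5)⟩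

theorem z_ne : z ≠ 1 := by
  obtain ⟨-, -, -, -, -, h⟩ := S.exists_comm
  exact h

theorem z_mem : z ∈ Q := by
  obtain ⟨a, ha, b, hb, h, -⟩ := S.exists_comm
  rw [← h]
  exact Q.mul_mem (Q.mul_mem (Q.mul_mem ha hb) (Q.inv_mem ha)) (Q.inv_mem hb)

/-- `z` acts trivially on `M / F` -/
theorem z_F (m : M) : z • m * m⁻¹ ∈ F := by
  obtain ⟨a, ha, b, hb, hz, -⟩ := S.exists_comm
  have key := S.comm_F ha hb
  have h3 := key ((b * a)⁻¹ • m)
  rw [smul_inv_smul, ← mul_smul] at h3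
  have e : a * b * (b * a)⁻¹ = z := by rw [← hz]; group
  rwa [e] at h3

/-- `z` acts trivially on `M₁` -/
theorem z_fix {x : M} (hx : x ∈ M₁) : z • x = x := by
  obtain ⟨a, ha, b, hb, hz, -⟩ := S.exists_comm
  have key : ∀ x' ∈ M₁, (a * b) • x' = (b * a) • x' := by
    intro x' hx'
    have e1 := d_mul a b x'
    have e2 := d_mul b a x'
    rw [S.hF a ha _ (S.h2 b hb x' hx')] at e1
    rw [S.hF b hb _ (S.h2 a ha x' hx'), S.comm (a • x' * x'⁻¹)] at e2
    exact mul_right_cancel (e1.trans e2.symm)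
  have h3 := key ((b * a)⁻¹ • x) (S.stab (Q.inv_mem (Q.mul_mem hb ha)) hx)
  rw [smul_inv_smul, ← mul_smul] at h3
  have e : a * b * (b * a)⁻¹ = z := by rw [← hz]; group
  rwa [e] at h3

/-- `z` is central in `Q` -/
theorem z_comm {a : H} (ha : a ∈ Q) : a * z = z * a := by
  have h3 : a * z * a⁻¹ = 1 ∨ a * z * a⁻¹ = z := by
    refine S.hD _ (Q.mul_mem (Q.mul_mem ha S.z_mem) (Q.inv_mem ha)) fun m => ?_
    have h4 := S.z_F (a⁻¹ • m)
    have h5 := S.hF a ha _ h4
    rw [smul_mul', smul_inv', smul_inv_smul] at h5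
    rw [mul_smul, mul_smul, h5]
    exact h4
  rcases h3 with h3 | h3
  · exfalso
    apply S.z_ne
    calc z = a⁻¹ * (a * z * a⁻¹) * a := by group
      _ = 1 := by rw [h3]; group
  · rw [mul_inv_eq_iff_eq_mul] at h3
    exact h3

theorem z_sq : z * z = 1 := by
  rcases S.square S.z_mem with h | h
  · exact h
  · exact absurd (mul_left_cancel (h.trans (mul_one z).symm)) S.z_ne

/-- `Q` does not centralise `M₁` -/
theorem not_cent (h : ∀ q ∈ Q, ∀ x ∈ M₁, q • x = x) : False := by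
  obtain ⟨a, ha, b, hb, hab⟩ := S.nab
  apply hab
  have key : ∀ m : M, (a * b) • m = (b * a) • m := by
    intro m
    have e1 := d_mul a b m
    have e2 := d_mul b a m
    rw [h a ha _ (S.h1 b hb m)] at e1
    rw [h b hb _ (S.h1 a ha m), S.comm (a • m * m⁻¹)] at e2
    exact mul_right_cancel (e1.trans e2.symm)
  have h3 : (b * a)⁻¹ * (a * b) = 1 := by
    refine S.faith _ fun m => ?_
    rw [mul_smul, key, inv_smul_smul]
  exact (inv_mul_eq_one.1 h3).symm

/-- **The case `|M₁ / F| ≤ 2`** -/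
theorem false_two [Finite H] (hM : ∀ x ∈ M₁, ∀ y ∈ M₁, x ∉ F → y ∉ F → x * y ∈ F) (hQ : 8 < Nat.card Q) : False := by
  refine S.not_cent fun q' hq' => ?_
  by_contra hcon
  push Not at hcon
  obtain ⟨x₀, hx₀, hne⟩ := hcon
  -- commuting `q`
  have hstep : ∀ q ∈ Q, q * q' = q' * q → ∀ m : M, q' • m * m⁻¹ ∈ F → q • m * m⁻¹ ∈ F := by
    intro q hq hc m hm
    by_contra hcc
    set x := q • m * m⁻¹ with hx
    have hx1 : x ∈ M₁ := S.h1 q hq m
    -- `q' x = x`
    have h3 : q' • x = x := by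
      have e1 := d_mul q q' m
      have e2 := d_mul q' q m
      rw [hc, e2, S.hF q hq _ hm, S.comm] at e1
      exact mul_left_cancel e1
    -- `q'` centralises `M₁`
    apply hne
    by_cases hx0F : x₀ ∈ F
    · exact S.hF q' hq' _ hx0F
    · have h4 := S.hF q' hq' _ (hM x₀ hx₀ x hx1 hx0F hcc)
      rw [smul_mul', h3] at h4
      exact mul_right_cancel h4
  -- the centraliser of `q'` is small
  have hsmall : ∀ q ∈ Q, q * q' = q' * q → q = 1 ∨ q = z ∨ q = q'⁻¹ ∨ q = q'⁻¹ * z := by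
    intro q hq hc
    by_cases h3 : ∀ m : M, q • m * m⁻¹ ∈ F
    · rcases S.hD q hq h3 with h4 | h4
      · exact Or.inl h4
      · exact Or.inr (Or.inl h4)
    · push Not at h3
      obtain ⟨m₀, hm₀⟩ := h3
      have hm₀' : q' • m₀ * m₀⁻¹ ∉ F := fun h4 => hm₀ (hstep q hq hc m₀ h4)
      have h5 : q' * q = 1 ∨ q' * q = z := by
        refine S.hD _ (Q.mul_mem hq' hq) fun m => ?_
        rw [d_mul]
        have h6 := S.h2 q' hq' _ (S.h1 q hq m)
        -- `q m / m * q' m / m ∈ F`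
        have h7 : (q • m * m⁻¹) * (q' • m * m⁻¹) ∈ F := by
          by_cases h8 : q' • m * m⁻¹ ∈ F
          · exact F.mul_mem (hstep q hq hc m h8) h8
          · refine hM _ (S.h1 q hq m) _ (S.h1 q' hq' m) ?_ h8
            intro h9
            -- `m m₀` is in the kernel for `q'`
            have h10 : q' • (m * m₀) * (m * m₀)⁻¹ ∈ F := by
              rw [d_mulr q' m m₀ S.comm]
              exact hM _ (S.h1 q' hq' m) _ (S.h1 q' hq' m₀) h8 hm₀'
            have h11 := hstep q hq hc _ h10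
            rw [d_mulr q m m₀ S.comm] at h11
            apply hm₀
            have h12 := F.mul_mem (F.inv_mem h9) h11
            rwa [inv_mul_cancel_left] at h12
        have h13 : q' • (q • m * m⁻¹) * (q' • m * m⁻¹) =
            (q' • (q • m * m⁻¹) * (q • m * m⁻¹)⁻¹) * ((q • m * m⁻¹) * (q' • m * m⁻¹)) := by group
        rw [h13]
        exact F.mul_mem h6 h7
      rcases h5 with h5 | h5
      · exact Or.inr (Or.inr (Or.inl (eq_inv_of_mul_eq_one_right h5)))
      · refine Or.inr (Or.inr (Or.inr ?_))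
        rw [← h5]; group
  -- `|Q| ≤ 8`
  set C : Set H := {1, z, q'⁻¹, q'⁻¹ * z} with hC
  have hCc : C.ncard ≤ 4 := by
    have e1 := Set.ncard_insert_le (1 : H) {z, q'⁻¹, q'⁻¹ * z}
    have e2 := Set.ncard_insert_le z {q'⁻¹, q'⁻¹ * z}
    have e3 := Set.ncard_insert_le q'⁻¹ {q'⁻¹ * z}
    rw [Set.ncard_singleton] at e3
    rw [hC]
    omega
  have hCm : ∀ q ∈ Q, q * q' = q' * q → q ∈ C := by
    intro q hq hc
    rcases hsmall q hq hc with h | h | h | h <;> simp only [hC, h, _root_.Set.mem_insert_iff, _root_.one_eq_inv, _root_.Set.mem_singleton_iff, _root_.true_or, _root_.right_eq_mul, _root_.inv_eq_one, _root_.or_true, _root_.left_eq_mul, _root_.mul_eq_right, _root_.mul_eq_left]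
  by_cases hall : ∀ q ∈ Q, q * q' = q' * q
  · have h3 : (Q : Set H) ⊆ C := fun q hq => hCm q hq (hall q hq)
    have h4 := Set.ncard_le_ncard h3 (Set.toFinite _)
    have h5 : (Q : Set H).ncard = Nat.card Q := rfl
    omega
  · push Not at hall
    obtain ⟨x₁, hx₁, hx₁'⟩ := hall
    have h3 : (Q : Set H) ⊆ C ∪ (fun y => x₁ * y) '' C := by
      intro q hq
      by_cases hc : q * q' = q' * q
      · exact Or.inl (hCm q hq hc)
      · right
        refine ⟨x₁⁻¹ * q, hCm _ (Q.mul_mem (Q.inv_mem hx₁) hq) ?_, by group⟩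
        have e : ∀ y ∈ Q, y * q' ≠ q' * y → y * q' = z * (q' * y) := by
          intro y hy hne
          rcases S.commutator hy hq' with h | h
          · exfalso
            apply hne
            calc y * q' = (y * q' * y⁻¹ * q'⁻¹) * (q' * y) := by group
              _ = q' * y := by rw [h, one_mul]
          · calc y * q' = (y * q' * y⁻¹ * q'⁻¹) * (q' * y) := by group
              _ = z * (q' * y) := by rw [h]
        have e1 := e q hq hc
        have e2 := e x₁ hx₁ hx₁'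
        -- `x₁⁻¹ q q' = x₁⁻¹ z q' q = z x₁⁻¹ q' q`, `q' x₁⁻¹ = z x₁⁻¹ q'`
        have hz := S.z_comm (Q.inv_mem hx₁)
        have e3 : q' * x₁⁻¹ = x₁⁻¹ * z * q' := by
          calc q' * x₁⁻¹ = x₁⁻¹ * (x₁ * q') * x₁⁻¹ := by group
            _ = x₁⁻¹ * z * q' := by rw [e2]; group
        calc x₁⁻¹ * q * q' = x₁⁻¹ * (q * q') := by group
          _ = x₁⁻¹ * z * q' * q := by rw [e1]; group
          _ = q' * x₁⁻¹ * q := by rw [e3]
          _ = q' * (x₁⁻¹ * q) := by group
    have h4 := Set.ncard_le_ncard h3 (Set.toFinite _)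
    have h5 : (Q : Set H).ncard = Nat.card Q := rfl
    have h6 := Set.ncard_union_le C ((fun y => x₁ * y) '' C)
    have h7 := Set.ncard_image_le (f := fun y => x₁ * y) (Set.toFinite C)
    omega


/-- `h` acts as a transvection with centre `β` (or trivially) -/
def Rk1 (h : H) (β : M) : Prop := ∀ m : M, h • m = m ∨ h • m = m * β

omit S in
theorem Rk1.conj {h : H} {β : M} (hh : Rk1 h β) (u : H) : Rk1 (u * h * u⁻¹) (u • β) := by
  intro m
  rcases hh (u⁻¹ • m) with h1 | h1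
  · left
    rw [mul_smul, mul_smul, h1, smul_inv_smul]
  · right
    rw [mul_smul, mul_smul, h1, smul_mul', smul_inv_smul]

/-- **The case `|M : M₁| = 2`: `z` is a transvection** -/
theorem false_tv (hidx : ∀ x y : M, x ∉ M₁ → y ∉ M₁ → x * y⁻¹ ∈ M₁) (hne : ∃ m : M, m ∉ M₁)
    (hcen : ∀ r ∈ Q, (∀ x ∈ Q, r * x = x * r) → r = 1 ∨ r = z) {k : H}
    (htz : (k * z * k⁻¹) * z = z * (k * z * k⁻¹)) (htQ : ∀ q ∈ Q, (k * z * k⁻¹) * q * (k * z * k⁻¹)⁻¹ ∈ Q) {q : H}
    (hq : q ∈ Q) (hq1 : (k * z * k⁻¹) * q * (k * z * k⁻¹)⁻¹ * q⁻¹ ≠ 1)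
    (hqz : (k * z * k⁻¹) * q * (k * z * k⁻¹)⁻¹ * q⁻¹ ≠ z) : False := by
  obtain ⟨m₁, hm₁⟩ := hne
  obtain ⟨v, hv⟩ : ∃ v, v = z • m₁ * m₁⁻¹ := ⟨_, rfl⟩
  have hvF : v ∈ F := by rw [hv]; exact S.z_F m₁
  -- the action of `z`
  have hzm : ∀ m : M, m ∉ M₁ → z • m = m * v := by
    intro m hm
    have h3 := S.z_fix (hidx m m₁ hm hm₁)
    have h4 : m = (m * m₁⁻¹) * m₁ := by group
    conv_lhs => rw [h4, smul_mul', h3]
    have h5 : z • m₁ = v * m₁ := by rw [hv]; group
    rw [h5, S.comm v m₁]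
    group
  have hv1 : v ≠ 1 := by
    intro h
    apply S.z_ne
    refine S.faith _ fun m => ?_
    by_cases hm : m ∈ M₁
    · exact S.z_fix hm
    · rw [hzm m hm, h, mul_one]
  have hfixM : ∀ m : M, z • m = m → m ∈ M₁ := by
    intro m h
    by_contra hm
    rw [hzm m hm] at h
    exact hv1 (mul_left_cancel (h.trans (mul_one m).symm))
  have hzr : Rk1 z v := fun m => by
    by_cases hm : m ∈ M₁
    · exact Or.inl (S.z_fix hm)
    · exact Or.inr (hzm m hm)
  have hzv : z • v = v := S.hF z S.z_mem v hvF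
  obtain ⟨t, ht⟩ : ∃ t, t = k * z * k⁻¹ := ⟨_, rfl⟩
  obtain ⟨α, hα⟩ : ∃ α, α = k • v := ⟨_, rfl⟩
  have htr : Rk1 t α := by rw [ht, hα]; exact hzr.conj k
  rw [← ht] at htz htQ hq1 hqz
  have htα : t • α = α := by
    rw [ht, hα, mul_smul, mul_smul, inv_smul_smul, hzv]
  have htt : t * t = 1 := by
    rw [ht]
    calc k * z * k⁻¹ * (k * z * k⁻¹) = k * (z * z) * k⁻¹ := by group
      _ = 1 := by rw [S.z_sq]; group
  have hti : t⁻¹ = t := inv_eq_of_mul_eq_one_right htt
  have ht1 : t ≠ 1 := by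
    intro h
    apply S.z_ne
    calc z = k⁻¹ * (k * z * k⁻¹) * k := by group
      _ = 1 := by rw [← ht, h]; group
  have hα1 : α ≠ 1 := by
    intro h
    apply hv1
    rw [h] at hα
    calc v = k⁻¹ • (k • v) := (inv_smul_smul k v).symm
      _ = 1 := by rw [← hα, smul_one]
  have hαα : α * α = 1 := S.sq α
  have hαi : α⁻¹ = α := inv_eq_of_mul_eq_one_right hαα
  -- `z α = α`, `α ∈ M₁`
  have hzα : z • α = α := by
    obtain ⟨m, hm⟩ : ∃ m : M, t • m ≠ m := by
      by_contra hc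
      push Not at hc
      exact ht1 (S.faith _ hc)
    have h3 := (htr m).resolve_left hm
    have h4 : z • (t • m) = t • (z • m) := by rw [← mul_smul, ← mul_smul, htz]
    rw [h3, smul_mul'] at h4
    rcases htr (z • m) with h5 | h5
    · rw [h5] at h4
      have h6 : z • α = 1 := mul_left_cancel (h4.trans (mul_one _).symm)
      exfalso
      apply hα1
      calc α = z⁻¹ • (z • α) := (inv_smul_smul z α).symm
        _ = 1 := by rw [h6, smul_one]
    · rw [h5] at h4
      exact mul_left_cancel h4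
  have hαM : α ∈ M₁ := hfixM α hzα
  have main : ∀ q ∈ Q, t * q * t⁻¹ * q⁻¹ ≠ 1 → t * q * t⁻¹ * q⁻¹ ≠ z → α ∉ F ∧
      t * (q * t * q⁻¹) = (q * t * q⁻¹) * t ∧ ∀ m : M, (t • m = m ↔ (q * t * q⁻¹) • m = m) ↔ m ∈ M₁ := by
    clear hq hq1 hqz q
    intro q hq hq1 hqz
    -- the element `r`
    obtain ⟨r, hr⟩ : ∃ r, r = t * (q * t * q⁻¹) := ⟨_, rfl⟩
    have hre : t * q * t⁻¹ * q⁻¹ = r := by rw [hr, hti]; group
    rw [hre] at hq1 hqz
    have hrQ : r ∈ Q := by
      rw [← hre]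
      exact Q.mul_mem (htQ q hq) (Q.inv_mem hq)
    have hrn : ∀ m : M, m ∉ M₁ → r • m * m⁻¹ ∉ F := by
      intro m hm hc
      have hall : ∀ m' : M, r • m' * m'⁻¹ ∈ F := by
        intro m'
        by_cases hm' : m' ∈ M₁
        · exact S.h2 r hrQ m' hm'
        · have h3 : m' = (m' * m⁻¹) * m := by group
          rw [h3, d_mulr r _ _ S.comm]
          exact F.mul_mem (S.h2 r hrQ _ (hidx m' m hm' hm)) hc
      rcases S.hD r hrQ hall with h | h
      · exact hq1 h
      · exact hqz h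
    have hrM : ∀ x ∈ M₁, r • x * x⁻¹ ∈ F := fun x hx => S.h2 r hrQ x hx
    obtain ⟨α', hα'⟩ : ∃ α', α' = q • α := ⟨_, rfl⟩
    obtain ⟨t', ht'⟩ : ∃ t', t' = q * t * q⁻¹ := ⟨_, rfl⟩
    rw [← ht'] at hr
    have htr' : Rk1 t' α' := by rw [ht', hα']; exact htr.conj q
    have hαF' : α' * α⁻¹ ∈ F := by rw [hα']; exact S.h2 q hq α hαM
    have hαM' : α' ∈ M₁ := by rw [hα']; exact S.stab hq hαM
    have htα' : t' • α' = α' := by
      rw [ht', hα', mul_smul, mul_smul, inv_smul_smul, htα]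
    have hαα' : α' * α' = 1 := S.sq α'
    have hαi' : α'⁻¹ = α' := inv_eq_of_mul_eq_one_right hαα'
    have hiff : α ∈ F ↔ α' ∈ F := by
      constructor
      · intro h
        have h3 := F.mul_mem hαF' h
        rwa [inv_mul_cancel_right] at h3
      · intro h
        have h3 := F.mul_mem (F.inv_mem hαF') h
        have h4 : (α' * α⁻¹)⁻¹ * α' = α := by group
        rwa [h4] at h3
    -- `α ∉ F`
    have hαF : α ∉ F := by
      intro h
      have h' := hiff.1 h
      apply hrn m₁ hm₁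
      rw [hr, d_mul]
      have h3 : ∀ m : M, t • m * m⁻¹ ∈ F := by
        intro m
        rcases htr m with h4 | h4
        · rw [h4, mul_inv_cancel]; exact F.one_mem
        · rw [h4, S.comm m α, mul_inv_cancel_right]; exact h
      have h5 : t' • m₁ * m₁⁻¹ ∈ F := by
        rcases htr' m₁ with h4 | h4
        · rw [h4, mul_inv_cancel]; exact F.one_mem
        · rw [h4, S.comm m₁ α', mul_inv_cancel_right]; exact h'
      refine F.mul_mem ?_ (h3 m₁)
      have h6 := F.mul_mem (h3 (t' • m₁ * m₁⁻¹)) h5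
      rwa [inv_mul_cancel_right] at h6
    have hαF2 : α' ∉ F := fun h => hαF (hiff.2 h)
    -- `t`, `t'` commute
    have h_tα' : t • α' = α' := by
      rcases htr α' with h | h
      · exact h
      · exfalso
        have h3 := hrM α' hαM'
        rw [hr, mul_smul, htα', h, S.comm α' α, mul_inv_cancel_right] at h3
        exact hαF h3
    have h_t'α : t' • α = α := by
      rcases htr' α with h | h
      · exact h
      · exfalso
        have h3 := hrM α hαM
        rw [hr, mul_smul, h, smul_mul', htα, h_tα', S.comm α α', mul_inv_cancel_right] at h3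
        exact hαF2 h3
    have hcomm : t * t' = t' * t := by
      have h3 : (t' * t)⁻¹ * (t * t') = 1 := by
        refine S.faith _ fun m => ?_
        rw [mul_smul, inv_smul_eq_iff, mul_smul, mul_smul]
        rcases htr m with h | h <;> rcases htr' m with h' | h'
        · rw [h', h, h']
        · rw [h', h, smul_mul', h_tα', h, h']
        · rw [h', h, smul_mul', h_t'α, h']
        · rw [h', h, smul_mul', smul_mul', h_tα', h_t'α, h, h', mul_assoc, mul_assoc, S.comm α α']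
      exact (inv_mul_eq_one.1 h3).symm
    -- the fixed points of `t` and of `u t u⁻¹`
    rw [← ht']
    refine ⟨hαF, hcomm, ?_⟩
    intro m
    have key : r • m * m⁻¹ ∈ F ↔ (t • m = m ↔ t' • m = m) := by
      rw [hr, mul_smul]
      rcases htr m with h | h <;> rcases htr' m with h' | h'
      · rw [h', h, mul_inv_cancel]
        simp [F.one_mem]
      · rw [h', smul_mul', h_tα', h, S.comm m α', mul_inv_cancel_right]
        refine ⟨fun h3 => absurd h3 hαF2, fun h3 => ?_⟩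
        have h4 := h3.1 rfl
        exfalso
        apply hαF2
        have h5 : α' = 1 := mul_right_cancel (h4.trans (one_mul m).symm)
        rw [h5]; exact F.one_mem
      · rw [h', h, S.comm m α, mul_inv_cancel_right]
        refine ⟨fun h3 => absurd h3 hαF, fun h3 => ?_⟩
        have h4 := h3.2 rfl
        exfalso
        have h5 : α = 1 := mul_right_cancel (h4.trans (one_mul m).symm)
        exact hα1 h5
      · rw [h', smul_mul', h_tα', h]
        have h3 : m * α * α' * m⁻¹ = α' * α⁻¹ := by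
          rw [hαi, mul_assoc m, S.comm m, mul_inv_cancel_right, S.comm]
        rw [h3]
        refine ⟨fun _ => ⟨fun h4 => ?_, fun h4 => ?_⟩, fun _ => hαF'⟩
        · exact absurd (mul_left_cancel (h4.trans (mul_one m).symm)) hα1
        · have h5 : α' = 1 := mul_left_cancel (h4.trans (mul_one m).symm)
          exact absurd (by rw [h5]; exact F.one_mem) hαF2
    rw [← key]
    exact ⟨fun h3 => by by_contra hm; exact hrn m hm h3, fun hm => hrM m hm⟩
  obtain ⟨hαF, hcomm, hfp⟩ := main q hq hq1 hqz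
  have hconjne : ∀ u : H, u ∈ Q → t * u * t⁻¹ * u⁻¹ = z → False := by
    intro u hu huz
    have hut : u * t * u⁻¹ = t * z := by
      have e1 : t * u * t⁻¹ * u⁻¹ = t * (u * t * u⁻¹) := by rw [hti]; group
      rw [e1] at huz
      calc u * t * u⁻¹ = t⁻¹ * (t * (u * t * u⁻¹)) := by group
        _ = t * z := by rw [huz, hti]
    have hur : Rk1 (t * z) (u • α) := by rw [← hut]; exact htr.conj u
    -- `x ∈ M₁`, `t x ≠ x`
    obtain ⟨x, hx, hxt⟩ : ∃ x ∈ M₁, t • x ≠ x := by
      by_contra hc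
      push Not at hc
      have h3 : ∀ m : M, m ∉ M₁ → t • m ≠ m := by
        intro m hm h4
        apply ht1
        refine S.faith _ fun m' => ?_
        by_cases hm' : m' ∈ M₁
        · exact hc m' hm'
        · have h5 : m' = (m' * m⁻¹) * m := by group
          rw [h5, smul_mul', hc _ (hidx m' m hm' hm), h4]
      have h4 : (q * t * q⁻¹) • m₁ ≠ m₁ := by
        intro h5
        rw [mul_smul, mul_smul, ← eq_inv_smul_iff] at h5
        refine h3 (q⁻¹ • m₁) (fun h6 => hm₁ ?_) h5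
        have h7 := S.stab hq h6
        rwa [smul_inv_smul] at h7
      exact hm₁ ((hfp m₁).1 ⟨fun h5 => absurd h5 (h3 m₁ hm₁), fun h5 => absurd h5 h4⟩)
    -- `m ∉ M₁`, `t m = m`
    obtain ⟨m, hm, hmt⟩ : ∃ m : M, m ∉ M₁ ∧ t • m = m := by
      by_cases h3 : t • m₁ = m₁
      · exact ⟨m₁, hm₁, h3⟩
      · refine ⟨m₁ * x, fun h4 => hm₁ ?_, ?_⟩
        · have h5 := M₁.mul_mem h4 (M₁.inv_mem hx)
          rwa [mul_inv_cancel_right] at h5
        · rw [smul_mul', (htr m₁).resolve_left h3, (htr x).resolve_left hxt, mul_assoc, ← mul_assoc α, S.comm α x,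
            mul_assoc x, hαα, mul_one]
    have e1 : (t * z) • x = x * α := by rw [mul_smul, S.z_fix hx, (htr x).resolve_left hxt]
    have e2 : (t * z) • m = m * v := by rw [htz, mul_smul, hmt, hzm m hm]
    have e3 : u • α = α := by
      rcases hur x with h | h
      · exact absurd (mul_left_cancel (e1.symm.trans (h.trans (mul_one x).symm))) hα1
      · exact (mul_left_cancel (e1.symm.trans h)).symm
    rw [e3] at hur
    rcases hur m with h | h
    · exact hv1 (mul_left_cancel (e2.symm.trans (h.trans (mul_one m).symm)))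
    · have h4 : v = α := mul_left_cancel (e2.symm.trans h)
      exact hαF (h4 ▸ hvF)
  -- elements of `Q` with `[t, u] ∈ {1, z}` commute with `t`
  have hct : ∀ u ∈ Q, (t * u * t⁻¹ * u⁻¹ = 1 ∨ t * u * t⁻¹ * u⁻¹ = z) → t * u = u * t := by
    intro u hu h
    rcases h with h | h
    · calc t * u = (t * u * t⁻¹ * u⁻¹) * (u * t) := by group
        _ = u * t := by rw [h, one_mul]
    · exact absurd h (fun h => hconjne u hu h)
  -- two elements not commuting with `t` differ by an element commuting with `t`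
  have hdiff : ∀ x ∈ Q, t * x ≠ x * t → t * (q⁻¹ * x) = (q⁻¹ * x) * t := by
    intro x hx hne
    have hu : q⁻¹ * x ∈ Q := Q.mul_mem (Q.inv_mem hq) hx
    apply hct _ hu
    by_contra hc
    push Not at hc
    have hx' : t * x * t⁻¹ * x⁻¹ ≠ 1 ∧ t * x * t⁻¹ * x⁻¹ ≠ z :=
      ⟨fun h => hne (hct x hx (Or.inl h)), fun h => hne (hct x hx (Or.inr h))⟩
    obtain ⟨-, -, f1⟩ := main x hx hx'.1 hx'.2
    obtain ⟨-, -, f2⟩ := main _ hu hc.1 hc.2
    -- `m ∉ M₁`
    have h3 : (t • m₁ = m₁ ↔ ((q⁻¹ * x) * t * (q⁻¹ * x)⁻¹) • m₁ = m₁) := by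
      have e1 : ((q⁻¹ * x) * t * (q⁻¹ * x)⁻¹) • m₁ = m₁ ↔ (x * t * x⁻¹) • (q • m₁) = q • m₁ := by
        have e : (q⁻¹ * x) * t * (q⁻¹ * x)⁻¹ = q⁻¹ * (x * t * x⁻¹) * q := by group
        rw [e, mul_smul, mul_smul, inv_smul_eq_iff]
      have e2 : (q * t * q⁻¹) • (q • m₁) = q • m₁ ↔ t • m₁ = m₁ := by
        rw [mul_smul, mul_smul, inv_smul_smul, smul_left_cancel_iff]
      have hqm : q • m₁ ∉ M₁ := fun h => hm₁ (by
        have := S.stab (Q.inv_mem hq) h
        rwa [inv_smul_smul] at this)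
      have g1 := not_congr (f1 (q • m₁))
      have g2 := not_congr (hfp (q • m₁))
      rw [e1, ← e2]
      (clear * - g1 g2; tauto)
    exact hm₁ ((f2 m₁).1 h3)
  -- `r` is central in `Q`
  obtain ⟨r, hr⟩ : ∃ r, r = t * (q * t * q⁻¹) := ⟨_, rfl⟩
  have hre : t * q * t⁻¹ * q⁻¹ = r := by rw [hr, hti]; group
  rw [hre] at hq1 hqz
  have hrQ : r ∈ Q := by
    rw [← hre]
    exact Q.mul_mem (htQ q hq) (Q.inv_mem hq)
  have hrc : ∀ u ∈ Q, t * u = u * t → r * u = u * r := by
    intro u hu hut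
    have h3 : u * (q * t * q⁻¹) = (q * t * q⁻¹) * u := by
      have hc := S.commutator (Q.inv_mem hq) hu
      have hcom : ∀ c : H, (c = 1 ∨ c = z) → c * t = t * c ∧ ∀ y ∈ Q, c * y = y * c := by
        rintro c (rfl | rfl)
        · exact ⟨by rw [one_mul, mul_one], fun y _ => by rw [one_mul, mul_one]⟩
        · exact ⟨htz.symm, fun y hy => (S.z_comm hy).symm⟩
      obtain ⟨c1, c2⟩ := hcom _ hc
      -- `q⁻¹ u = c u q⁻¹`
      set c := q⁻¹ * u * q⁻¹⁻¹ * u⁻¹ with hcd
      have e1 : q⁻¹ * u = c * (u * q⁻¹) := by rw [hcd]; group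
      have e2 : u * q⁻¹ = c⁻¹ * (q⁻¹ * u) := by rw [e1]; group
      have e3 : u * q = q * (c * u) := by
        have h5 : c * u * q⁻¹ = q⁻¹ * u := by rw [e1, mul_assoc]
        calc u * q = q * (q⁻¹ * u) * q := by group
          _ = q * (c * u * q⁻¹) * q := by rw [h5]
          _ = _ := by group
      calc u * (q * t * q⁻¹) = (u * q) * t * q⁻¹ := by group
        _ = q * (c * u) * t * q⁻¹ := by rw [e3]
        _ = q * c * (u * t) * q⁻¹ := by group
        _ = q * (c * t) * (u * q⁻¹) := by rw [← hut]; group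
        _ = q * (t * c) * (c⁻¹ * (q⁻¹ * u)) := by rw [c1, e2]
        _ = (q * t * q⁻¹) * u := by group
    rw [hr]
    calc t * (q * t * q⁻¹) * u = t * (u * (q * t * q⁻¹)) := by rw [h3]; group
      _ = (t * u) * (q * t * q⁻¹) := by group
      _ = u * (t * (q * t * q⁻¹)) := by rw [hut]; group
  have hqq : t * (q * q) = (q * q) * t := by
    rcases S.square hq with h | h
    · rw [h, one_mul, mul_one]
    · rw [h, htz]
  have hrq : r * q = q * r := by
    have e1 : q * (q * t * q⁻¹) * q⁻¹ = t := by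
      calc q * (q * t * q⁻¹) * q⁻¹ = ((q * q) * t) * (q * q)⁻¹ := by group
        _ = t := by rw [← hqq]; group
    have e2 : q * r * q⁻¹ = r := by
      calc q * r * q⁻¹ = (q * t * q⁻¹) * (q * (q * t * q⁻¹) * q⁻¹) := by rw [hr]; group
        _ = (q * t * q⁻¹) * t := by rw [e1]
        _ = r := by rw [← hcomm, hr]
    calc r * q = (q * r * q⁻¹) * q := by rw [e2]
      _ = q * r := by group
  have hall : ∀ x ∈ Q, r * x = x * r := by
    intro x hx
    by_cases hxt : t * x = x * t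
    · exact hrc x hx hxt
    · have h3 := hrc _ (Q.mul_mem (Q.inv_mem hq) hx) (hdiff x hx hxt)
      calc r * x = (r * q) * (q⁻¹ * x) := by group
        _ = q * (r * (q⁻¹ * x)) := by rw [hrq]; group
        _ = x * r := by rw [h3]; group
  rcases hcen r hrQ hall with h | h
  · exact hq1 h
  · exact hqz h

end Sit

end Cfsg.Agent.Omega.ML.ExEx.Kill

end

section


/-!
# K-list "exact + low": THEOREM EX in the exact form (helper96)

* `Dat.false_ex` : in the situation `Dat H G E Q n`, `n ≥ 2`, there is no `A ≤ Q` with `|A| > 2`, `|M| ≤ |A||C_M(A)|`, if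
  every central element `z ≠ 1` of `Q` has a conjugate which commutes with `z`, normalises `Q` and moves `Q / ⟨z⟩`
  (no atom, no sub-exactness, `A` need not be abelian).
-/

set_option autoImplicit false

namespace Cfsg.Agent.Omega.ML.ExEx.DatEx

open Subgroup Cfsg Cfsg.Agent.ClassTwoFusion.Quad Cfsg.Agent.Omega.NOThree.NoOver Cfsg.Agent.Omega.ML.CD
open Cfsg.Agent.ZN (o2)
open Cfsg.Agent.Omega.ML.Rows Cfsg.Agent.Omega.ML.ExCore Cfsg.Agent.Omega.ML.ExRec Cfsg.Agent.Omega.ML.ExRow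
open Cfsg.Agent.Omega.ML.ExEx.Core Cfsg.Agent.Omega.ML.ExEx.Kill

universe u v w

section

variable {H : Type u} [Group H] [Finite H] {M : Type v} [Group M] [Finite M] [MulDistribMulAction H M]
  {G E Q A : Subgroup H} {n : ℕ}

omit [Finite H] in
theorem exists_of_card_le_two {H : Type u} [Group H] [Finite H] {D : Subgroup H} (h : Nat.card D ≤ 2) : ∃ z : H, ∀ d ∈ D, d = 1 ∨ d = z := by
  by_cases h1 : ∀ d ∈ D, d = 1
  · exact ⟨1, fun d hd => Or.inl (h1 d hd)⟩
  · push Not at h1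
    obtain ⟨z, hz, hz1⟩ := h1
    refine ⟨z, fun d hd => ?_⟩
    by_contra hc
    push Not at hc
    have h2 : ({1, z, d} : Set H) ⊆ D := by
      rintro x (rfl | rfl | rfl)
      · exact D.one_mem
      · exact hz
      · exact hd
    have h3 := Set.ncard_le_ncard h2 (Set.toFinite _)
    have h4 : ({1, z, d} : Set H).ncard = 3 := by
      rw [Set.ncard_insert_of_notMem, Set.ncard_pair (Ne.symm hc.2)]
      rintro (h5 | h5)
      · exact hz1 h5.symm
      · exact hc.1 h5.symm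
    have h5 : (D : Set H).ncard = Nat.card D := rfl
    omega

/-- `Q` is strict or everything is exact -/
theorem index_eq_of_dat (D : Dat.{u, v} H G E Q n) (sq : ∀ m : M, m * m = 1)
    (faith : ∀ h : H, (∀ m : M, h • m = m) → h = 1) (hAQ : A ≤ Q) (hge : Nat.card M ≤ fab M 1 1 A)
    (h2 : 2 < Nat.card A) : (cv M (Q : Set H)).index = Nat.card Q := by
  have hf := ls_fab (H := H) M 1 1
  have hGQ : G ≤ normalizer (Q : Set H) := by
    intro g hg
    rw [mem_normalizer_iff]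
    intro x
    refine ⟨fun hx => D.nQ g hg x hx, fun hx => ?_⟩
    have h5 := D.nQ g⁻¹ (G.inv_mem hg) _ hx
    have h6 : g⁻¹ * (g * x * g⁻¹) * g⁻¹⁻¹ = x := by group
    rwa [h6] at h5
  by_cases hfl : ∀ B ≤ Q, fab M 1 1 B ≤ fab M 1 1 (⊥ : Subgroup H)
  · -- `Q` is exact
    have hbot : fab M 1 1 (⊥ : Subgroup H) = Nat.card M := by rw [fab_bot, pow_one]
    have hA : Best (fab M 1 1) Q A := ⟨hAQ, fun B hB => (hfl B hB).trans (by rw [hbot]; exact hge)⟩
    have hhi : hi (fab M 1 1) Q = Q := by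
      have h5 := hGQ.trans (hf.normalizer_le_hi Q)
      refine (D.irr _ (hf.hi_le_self Q) fun l hl x hx => ?_).resolve_left fun h6 => ?_
      · exact (mem_normalizer_iff.1 (h5 (D.EG hl)) x).1 hx
      · have h7 := card_le_of_le (le_hi hA)
        omega
    have h8 := (hf.best_hi Q).2 ⊥ bot_le
    rw [hhi] at h8
    have h9 := le_antisymm (hfl Q le_rfl) h8
    rw [hbot, fab_one, fo, ← card_mul_index (cv M (Q : Set H)), mul_comm] at h9
    exact (Nat.eq_of_mul_eq_mul_left Nat.card_pos h9).symm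
  · -- `Q` is strict
    exfalso
    have hne : lo (fab M 1 1) Q ≠ ⊥ := by
      intro h
      exact hfl ((lo_eq_bot_iff hf).1 h)
    have hst := hf.strict_lo Q
    have h5 := hGQ.trans (hf.normalizer_le_lo Q)
    have hlo : lo (fab M 1 1) Q = Q := by
      refine (D.irr _ (hf.lo_le_self Q) fun l hl x hx => ?_).resolve_left fun h6 => ?_
      · exact (mem_normalizer_iff.1 (h5 (D.EG hl)) x).1 hx
      · -- a strict subgroup of order 2
        have h7 := hst ⊥ (bot_lt_iff_ne_bot.2 hne)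
        rw [fab_lt_iff bot_le, pow_one, pow_one, relIndex_bot_left, cv_bot, relIndex_top_right] at h7
        have h8 : (cv M (lo (fab M 1 1) Q : Set H)).index < 2 := lt_of_lt_of_le h7 h6
        have h9 : (cv M (lo (fab M 1 1) Q : Set H)).index ≠ 0 := index_ne_zero_of_finite
        have h10 : cv M (lo (fab M 1 1) Q : Set H) = ⊤ := index_eq_one.1 (by omega)
        apply hne
        rw [eq_bot_iff]
        intro x hx
        rw [mem_bot]
        apply faith
        intro m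
        have h11 : m ∈ cv M (lo (fab M 1 1) Q : Set H) := h10 ▸ mem_top m
        exact h11 x hx
    rw [hlo] at hst
    exact D.false sq faith le_rfl hst (lt_of_lt_of_le h2 (card_le_of_le hAQ))

/-- **THEOREM EX, exact form** -/
theorem _root_.Cfsg.Agent.Omega.ML.ExRow.Dat.false_ex (D : Dat.{u, v} H G E Q n) (hn : 2 ≤ n)
    (sq : ∀ m : M, m * m = 1) (faith : ∀ h : H, (∀ m : M, h • m = m) → h = 1)
    (hAQ : A ≤ Q) (hge : Nat.card M ≤ fab M 1 1 A) (h2 : 2 < Nat.card A)
    (yt : ∀ z ∈ Q, z ≠ 1 → (∀ q ∈ Q, z * q = q * z) → ∃ k : H, (k * z * k⁻¹) * z = z * (k * z * k⁻¹) ∧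
      (∀ q ∈ Q, (k * z * k⁻¹) * q * (k * z * k⁻¹)⁻¹ ∈ Q) ∧
      ∃ q ∈ Q, (k * z * k⁻¹) * q * (k * z * k⁻¹)⁻¹ * q⁻¹ ≠ 1 ∧ (k * z * k⁻¹) * q * (k * z * k⁻¹)⁻¹ * q⁻¹ ≠ z) :
    False := by
  have hcomm := ExCore.comm_of_sq (N := M) sq
  have hidx := index_eq_of_dat D sq faith hAQ hge h2
  obtain ⟨F, hF⟩ : ∃ F : Subgroup M, F = cv M (Q : Set H) := ⟨_, rfl⟩
  have hmF : ∀ {m : M}, m ∈ F ↔ ∀ q ∈ Q, q • m = m := by
    intro m
    rw [hF]
    exact Iff.rfl
  rw [← hF, D.card] at hidx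
  have hFn : F.Normal := normal_of_sq sq F
  have hidx' : Nat.card (M ⧸ F) ≤ 2 ^ (2 * n + 1) := hidx.le
  -- `G` acts on `M / F`
  have hFG : ∀ (g : G), ∀ x ∈ F, g • x ∈ F := by
    intro g x hx
    rw [hmF] at hx ⊢
    intro q hq
    have h1 := D.nQ _ (G.inv_mem g.2) q hq
    rw [inv_inv] at h1
    have h2 := hx _ h1
    change q • (g : H) • x = (g : H) • x
    rw [mul_smul, mul_smul, inv_smul_eq_iff] at h2
    exact h2
  let _ : MulDistribMulAction G (M ⧸ F) := quoA (L := G) F hFG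
  have hQn : (Q.subgroupOf G).Normal := ⟨fun q hq g => D.nQ g g.2 q hq⟩
  have hcore := core2 (L := G) (N := M ⧸ F) (fun x => by
      obtain ⟨m, rfl⟩ := QuotientGroup.mk_surjective x
      exact congrArg (QuotientGroup.mk (s := F)) (sq m)) (Q := Q.subgroupOf G) (E := E.subgroupOf G) hQn
    (D.two.comap_of_injective _ G.subtype_injective) hidx' (by
      intro B hB hBE
      have h1 : B.map G.subtype ≤ Q := by
        rintro _ ⟨b, hb, rfl⟩
        exact hB hb
      have h3 : Nat.card (B.map G.subtype) = Nat.card B := card_map_of_injective G.subtype_injective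
      have h4 : B.relIndex (Q.subgroupOf G) = (B.map G.subtype).relIndex Q := by
        have h5 : (Q.subgroupOf G).map G.subtype = Q := by rw [subgroupOf_map_subtype, inf_eq_left.2 D.QG]
        rw [← relIndex_map_map_of_injective B (Q.subgroupOf G) G.subtype_injective, h5]
      rcases D.irr _ h1 (by
        rintro l hl _ ⟨b, hb, rfl⟩
        exact ⟨⟨l, D.EG hl⟩ * b * ⟨l, D.EG hl⟩⁻¹, hBE ⟨l, D.EG hl⟩ hl b hb, rfl⟩) with h6 | h6
      · left
        rw [h4]
        exact D.le_relIndex h1 h6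
      · right
        ext x
        rw [mem_subgroupOf, ← h6]
        constructor
        · intro hx
          exact ⟨x, hx, rfl⟩
        · rintro ⟨y, hy, hyx⟩
          rwa [← Subtype.ext hyx]) D.triv
  -- the elements of `Q` trivial on `M / F`
  let DD : Subgroup H :=
    { carrier := {q | q ∈ Q ∧ ∀ m : M, q • m * m⁻¹ ∈ F}
      one_mem' := ⟨Q.one_mem, fun m => by rw [one_smul, mul_inv_cancel]; exact F.one_mem⟩
      mul_mem' := fun {a b} ha hb => ⟨Q.mul_mem ha.1 hb.1, fun m => by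
        rw [d_mul]
        refine F.mul_mem ?_ (ha.2 m)
        have h3 := F.mul_mem (ha.2 (b • m * m⁻¹)) (hb.2 m)
        rwa [inv_mul_cancel_right] at h3⟩
      inv_mem' := fun {a} ha => ⟨Q.inv_mem ha.1, fun m => by
        have h3 := F.inv_mem (ha.2 (a⁻¹ • m))
        rw [smul_inv_smul, mul_inv_rev, inv_inv] at h3
        exact h3⟩ }
  have hDD : ∀ {q : H}, q ∈ DD ↔ q ∈ Q ∧ ∀ m : M, q • m * m⁻¹ ∈ F := Iff.rfl
  have hDDinv : ∀ l ∈ E, ∀ x ∈ DD, l * x * l⁻¹ ∈ DD := by
    intro l hl x hx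
    refine ⟨D.nQ l (D.EG hl) x hx.1, fun m => ?_⟩
    have h3 := hFG ⟨l, D.EG hl⟩ _ (hx.2 (l⁻¹ • m))
    change l • (x • (l⁻¹ • m) * (l⁻¹ • m)⁻¹) ∈ F at h3
    rw [smul_mul', smul_inv', smul_inv_smul] at h3
    rw [mul_smul, mul_smul]
    exact h3
  rcases D.irr DD (fun q hq => hq.1) hDDinv with hDD2 | hDDQ
  · -- the equality cases
    obtain ⟨z, hz⟩ := exists_of_card_le_two hDD2
    rcases hcore with hcore | ⟨N₁, hinv, hb1, hfix, hcase⟩
    · -- `Q` is trivial on `M / F`
      have h3 : Q ≤ DD := by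
        intro q hq
        refine ⟨hq, fun m => ?_⟩
        have h1 := hcore ⟨q, D.QG hq⟩ hq (QuotientGroup.mk m)
        have h2 : (QuotientGroup.mk (q • m) : M ⧸ F) = QuotientGroup.mk m := h1
        rw [eq_comm, QuotientGroup.eq] at h2
        rwa [hcomm] at h2
      have h4 := card_le_of_le h3
      have h5 := card_le_of_le hAQ
      omega
    · obtain ⟨M₁, hM₁⟩ : ∃ M₁ : Subgroup M, M₁ = N₁.comap (QuotientGroup.mk' F) := ⟨_, rfl⟩
      have hmM : ∀ {m : M}, m ∈ M₁ ↔ (QuotientGroup.mk m : M ⧸ F) ∈ N₁ := by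
        intro m
        rw [hM₁]
        exact Iff.rfl
      have S : Sit Q F M₁ z := by
        refine ⟨sq, faith, ?_, ?_, ?_, ?_, ?_, D.nab⟩
        · intro m hm
          rw [hmM, (QuotientGroup.eq_one_iff m).2 hm]
          exact N₁.one_mem
        · intro q hq x hx
          exact hmF.1 hx q hq
        · intro q hq m
          rw [hmM]
          exact hb1 ⟨q, D.QG hq⟩ hq (QuotientGroup.mk m)
        · intro q hq x hx
          have h3 := hfix ⟨q, D.QG hq⟩ hq (QuotientGroup.mk x) (hmM.1 hx)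
          have h4 : (QuotientGroup.mk (q • x) : M ⧸ F) = QuotientGroup.mk x := h3
          rw [eq_comm, QuotientGroup.eq] at h4
          rwa [hcomm] at h4
        · intro q hq h3
          exact hz q ⟨hq, h3⟩
      rcases hcase with hcase | hcase
      · -- `|M : M₁| = 2`
        have hi2 : M₁.index = 2 := by
          rw [hM₁, index_comap_of_surjective _ (QuotientGroup.mk'_surjective F)]
          exact hcase
        obtain ⟨k, hk1, hk2, q, hq, hk3, hk4⟩ := yt z S.z_mem S.z_ne fun q hq => (S.z_comm hq).symm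
        refine S.false_tv (k := k) (q := q) (fun x y hx hy => ?_) ?_ ?_ hk1 hk2 hq hk3 hk4
        · rw [mul_mem_iff_of_index_two hi2]
          exact ⟨fun h => absurd h hx, fun h => absurd (M₁.inv_mem_iff.1 h) hy⟩
        · by_contra hc
          push Not at hc
          have h3 : M₁ = ⊤ := (eq_top_iff' M₁).2 hc
          rw [h3, index_top] at hi2
          omega
        · intro r hr hrc
          -- the centre of `Q`
          let ZZ : Subgroup H := Q ⊓ centralizer (Q : Set H)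
          have hZZ : ∀ l ∈ E, ∀ x ∈ ZZ, l * x * l⁻¹ ∈ ZZ := by
            intro l hl x hx
            refine ⟨D.nQ l (D.EG hl) x hx.1, mem_centralizer_iff.2 fun y hy => ?_⟩
            have h3 := D.nQ l⁻¹ (G.inv_mem (D.EG hl)) y hy
            have h4 := mem_centralizer_iff.1 hx.2 _ h3
            calc y * (l * x * l⁻¹) = l * ((l⁻¹ * y * l⁻¹⁻¹) * x) * l⁻¹ := by group
              _ = l * (x * (l⁻¹ * y * l⁻¹⁻¹)) * l⁻¹ := by rw [h4]
              _ = l * x * l⁻¹ * y := by group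
          rcases D.irr ZZ inf_le_left hZZ with h3 | h3
          · obtain ⟨z', hz'⟩ := exists_of_card_le_two h3
            have h4 : z ∈ ZZ := ⟨S.z_mem, mem_centralizer_iff.2 fun y hy => S.z_comm hy⟩
            have h5 := (hz' z h4).resolve_left S.z_ne
            have h6 : r ∈ ZZ := ⟨hr, mem_centralizer_iff.2 fun y hy => (hrc y hy).symm⟩
            rw [h5]
            exact hz' r h6
          · exfalso
            obtain ⟨a, ha, b, hb, hab⟩ := D.nab
            have h4 : b ∈ ZZ := by rw [h3]; exact hb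
            exact hab (mem_centralizer_iff.1 h4.2 a ha)
      · -- `|M₁ / F| = 2`
        refine S.false_two (fun x hx y hy hxF hyF => ?_) ?_
        · have h3 : (QuotientGroup.mk x : M ⧸ F) ≠ 1 := fun h => hxF ((QuotientGroup.eq_one_iff x).1 h)
          have h4 : (QuotientGroup.mk y : M ⧸ F) ≠ 1 := fun h => hyF ((QuotientGroup.eq_one_iff y).1 h)
          have hfin : Finite (M ⧸ F) := inferInstance
          obtain ⟨w, hw⟩ : ∃ w : M ⧸ F, ∀ d ∈ N₁, d = 1 ∨ d = w := exists_of_card_le_two hcase.le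
          have h5 := (hw _ (hmM.1 hx)).resolve_left h3
          have h6 := (hw _ (hmM.1 hy)).resolve_left h4
          have h7 : (QuotientGroup.mk (x * y) : M ⧸ F) = 1 := by
            rw [QuotientGroup.mk_mul, h5, h6.symm, ← QuotientGroup.mk_mul, sq, QuotientGroup.mk_one]
          exact (QuotientGroup.eq_one_iff _).1 h7
        · rw [D.card]
          calc 8 < 2 ^ (2 * 2 + 1) := by norm_num
            _ ≤ 2 ^ (2 * n + 1) := Nat.pow_le_pow_right (by norm_num) (by omega)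
  · -- `Q` is trivial on `M / F`
    obtain ⟨a, ha, b, hb, hab⟩ := D.nab
    apply hab
    have hQF : ∀ q ∈ Q, ∀ m : M, q • m * m⁻¹ ∈ F := fun q hq => by
      have h3 : q ∈ DD := by rw [hDDQ]; exact hq
      exact h3.2
    have key : ∀ a ∈ Q, ∀ b ∈ Q, ∀ m : M, (a * b) • m = (b • m * m⁻¹) * ((a • m * m⁻¹) * m) := by
      intro a ha b hb m
      have h1 := hmF.1 (hQF b hb m) a ha
      have h3 : b • m = (b • m * m⁻¹) * m := by rw [inv_mul_cancel_right]
      rw [mul_smul]
      conv_lhs => rw [h3, smul_mul', h1]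
      rw [inv_mul_cancel_right]
    have h1 : (b * a)⁻¹ * (a * b) = 1 := by
      apply faith
      intro m
      rw [mul_smul, inv_smul_eq_iff, key a ha b hb, key b hb a ha, ← mul_assoc (b • m * m⁻¹),
        hcomm (b • m * m⁻¹) (a • m * m⁻¹), mul_assoc]
    exact (inv_mul_eq_one.1 h1).symm

end

end Cfsg.Agent.Omega.ML.ExEx.DatEx

end

section


/-!
# K-list "exact + low": the rows of groups with a sheet of type (E) and `TrivC` (helper96)

* `mem_of_triv` : in a sheet of type (E): `t ∈ P` trivial on `R / ⟨z⟩` is in `R`;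
* `false_of_sub` : the sheet in the simple group `K` excludes an exact `A ≤ R^g` with `|A| > 2`;
* **`deadX_of_sheet`** : the hypotheses of `ExRow.dead_of_sheet` with `SheetE` (`ytrick`) and `2 ≤ n`.
-/

set_option autoImplicit false

namespace Cfsg.Agent.Omega.ML.ExEx.SheetRow

open Subgroup Cfsg Cfsg.Agent.ClassTwoFusion.Quad Cfsg.Agent.Omega.NOThree.NoOver Cfsg.Agent.Omega.ML.CD
open Cfsg.Agent.ZN (o2)
open Cfsg.Agent.Omega.ML.ExRec Cfsg.Agent.Omega.ML.ExRow Cfsg.Agent.Omega.ML.Ex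
open Cfsg.Agent.OddHalf.D8.Sheet Cfsg.Agent.OddHalf.D8.JTwo.Sheet

universe u v

section sheet

variable {K : Type*} [Group K] {z : K} {P R : Subgroup K}

/-- elements of `P` which are trivial on `R / ⟨z⟩` lie in `R` -/
theorem mem_of_triv (h : SheetX z P R) {t : K} (ht : t ∈ P)
    (hR : ∀ r ∈ R, t * r * t⁻¹ * r⁻¹ = 1 ∨ t * r * t⁻¹ * r⁻¹ = z) : t ∈ R := by
  have hzz := h.zz
  have hmul : ∀ a b : K, (a = 1 ∨ a = z) → (b = 1 ∨ b = z) → (a * b = 1 ∨ a * b = z) := by
    rintro a b (rfl | rfl) (rfl | rfl)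
    · exact Or.inl (one_mul _)
    · exact Or.inr (one_mul _)
    · exact Or.inr (mul_one _)
    · exact Or.inl hzz
  have hinv : ∀ a : K, (a = 1 ∨ a = z) → (a⁻¹ = 1 ∨ a⁻¹ = z) := by
    rintro a (rfl | rfl)
    · exact Or.inl inv_one
    · exact Or.inr (inv_eq_of_mul_eq_one_right hzz)
  have hcm : ∀ a : K, (a = 1 ∨ a = z) → ∀ x ∈ P, x * a = a * x := by
    rintro a (rfl | rfl) x hx
    · rw [mul_one, one_mul]
    · exact h.cen x hx
  let B : Subgroup K :=
    { carrier := {x | x ∈ P ∧ ∀ r ∈ R, x * r * x⁻¹ * r⁻¹ = 1 ∨ x * r * x⁻¹ * r⁻¹ = z}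
      one_mem' := ⟨P.one_mem, fun r _ => Or.inl (by group)⟩
      mul_mem' := fun {x y} hx hy => ⟨P.mul_mem hx.1 hy.1, fun r hr => by
        have h1 := hy.2 r hr
        have h2 := hx.2 r hr
        have h3 := hcm _ h1 x hx.1
        have h4 : x * y * r * (x * y)⁻¹ * r⁻¹ = (y * r * y⁻¹ * r⁻¹) * (x * r * x⁻¹ * r⁻¹) := by
          calc x * y * r * (x * y)⁻¹ * r⁻¹ = (x * (y * r * y⁻¹ * r⁻¹)) * r * x⁻¹ * r⁻¹ := by group
            _ = _ := by rw [h3]; group
        rw [h4]
        exact hmul _ _ h1 h2⟩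
      inv_mem' := fun {x} hx => ⟨P.inv_mem hx.1, fun r hr => by
        have hxr : x⁻¹ * r * x ∈ R := by
          have := h.Rn _ (P.inv_mem hx.1) r hr
          rwa [inv_inv] at this
        have h1 := hinv _ (hx.2 _ hxr)
        have h2 : (x * (x⁻¹ * r * x) * x⁻¹ * (x⁻¹ * r * x)⁻¹)⁻¹ = x⁻¹ * r * x⁻¹⁻¹ * r⁻¹ := by group
        rwa [h2] at h1⟩ }
  have hB : B ≤ R := by
    apply h.Rmax
    · exact fun x hx => hx.1
    · intro x
      -- `x ^ 2` centralises `R`
      have h1 : (x : K) * x ∈ R := by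
        apply h.cR _ (P.mul_mem x.2.1 x.2.1)
        intro r hr
        have h2 := x.2.2 r hr
        have h3 := hcm _ h2 x x.2.1
        have h4 : (x : K) * x * r * ((x : K) * x)⁻¹ = ((x : K) * r * (x : K)⁻¹ * r⁻¹) * ((x : K) * r * (x : K)⁻¹ * r⁻¹) * r := by
          calc (x : K) * x * r * ((x : K) * x)⁻¹ = ((x : K) * ((x : K) * r * (x : K)⁻¹ * r⁻¹)) * r * (x : K)⁻¹ := by group
            _ = _ := by rw [h3]; group
        have h5 : ((x : K) * r * (x : K)⁻¹ * r⁻¹) * ((x : K) * r * (x : K)⁻¹ * r⁻¹) = 1 := by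
          rcases h2 with h2 | h2
          · rw [h2, one_mul]
          · rw [h2, hzz]
        rw [h5, one_mul, mul_inv_eq_iff_eq_mul] at h4
        exact h4
      obtain ⟨k, hk⟩ := h.R2 ⟨_, h1⟩
      refine ⟨k + 1, Subtype.ext ?_⟩
      have h2 : ((x : K) * x) ^ 2 ^ k = 1 := congrArg Subtype.val hk
      change (x : K) ^ 2 ^ (k + 1) = 1
      rw [pow_succ, mul_comm, pow_mul, pow_two]
      exact h2
    · intro p hp x hx
      refine ⟨P.mul_mem (P.mul_mem hp hx.1) (P.inv_mem hp), fun r hr => ?_⟩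
      have hpr : p⁻¹ * r * p ∈ R := by
        have := h.Rn _ (P.inv_mem hp) r hr
        rwa [inv_inv] at this
      have h1 := hx.2 _ hpr
      have h2 := hcm _ h1 p hp
      have h3 : p * x * p⁻¹ * r * (p * x * p⁻¹)⁻¹ * r⁻¹ = x * (p⁻¹ * r * p) * x⁻¹ * (p⁻¹ * r * p)⁻¹ := by
        calc p * x * p⁻¹ * r * (p * x * p⁻¹)⁻¹ * r⁻¹ = p * (x * (p⁻¹ * r * p) * x⁻¹ * (p⁻¹ * r * p)⁻¹) * p⁻¹ := by group
          _ = _ := by rw [h2, mul_inv_cancel_right]
      rw [h3]
      exact h1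
  exact hB ⟨ht, hR⟩

/-- the centre of `R` -/
theorem eq_z_of_central (h : SheetX z P R) {c : K} (hc : c ∈ R) (hc1 : c ≠ 1) (hcc : ∀ r ∈ R, c * r = r * c) : c = z := by
  let B : Subgroup K := R ⊓ centralizer (R : Set K)
  have hBinv : ∀ x ∈ P, ∀ b ∈ B, x * b * x⁻¹ ∈ B := by
    intro x hx b hb
    refine ⟨h.Rn x hx b hb.1, mem_centralizer_iff.2 fun y hy => ?_⟩
    have h3 := h.Rn x⁻¹ (P.inv_mem hx) y hy
    have h4 := mem_centralizer_iff.1 hb.2 _ h3
    calc y * (x * b * x⁻¹) = x * ((x⁻¹ * y * x⁻¹⁻¹) * b) * x⁻¹ := by group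
      _ = x * (b * (x⁻¹ * y * x⁻¹⁻¹)) * x⁻¹ := by rw [h4]
      _ = x * b * x⁻¹ * y := by group
  have hcB : c ∈ B := ⟨hc, mem_centralizer_iff.2 fun y hy => (hcc y hy).symm⟩
  rcases h.Rmin B inf_le_left hBinv with h1 | h1
  · exact (h1 c hcB).resolve_left hc1
  · exfalso
    obtain ⟨a, ha, b, hb, hab⟩ := h.Rna
    have h4 : b ∈ B := by rw [h1]; exact hb
    exact hab (mem_centralizer_iff.1 h4.2 a ha)

/-- the conjugate of `z` needed for THEOREM EX -/
theorem yt_of (h : SheetE z P R) : ∀ c ∈ R, c ≠ 1 → (∀ q ∈ R, c * q = q * c) →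
    ∃ k : K, (k * c * k⁻¹) * c = c * (k * c * k⁻¹) ∧ (∀ q ∈ R, (k * c * k⁻¹) * q * (k * c * k⁻¹)⁻¹ ∈ R) ∧
      ∃ q ∈ R, (k * c * k⁻¹) * q * (k * c * k⁻¹)⁻¹ * q⁻¹ ≠ 1 ∧ (k * c * k⁻¹) * q * (k * c * k⁻¹)⁻¹ * q⁻¹ ≠ c := by
  intro c hc hc1 hcc
  have hX := of_sheetE h
  obtain rfl := eq_z_of_central hX hc hc1 hcc
  obtain ⟨k, hk1, hk2, -⟩ := h.ytrick
  refine ⟨k, h.cen _ hk1, fun q hq => h.Rn _ hk1 q hq, ?_⟩
  by_contra hcon
  push Not at hcon
  exact hk2 (mem_of_triv hX hk1 fun r hr => or_iff_not_imp_left.2 fun h3 => hcon r hr h3)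

end sheet

section

variable {H : Type u} [Group H] [Finite H] {M : Type v} [Group M] [Finite M] [MulDistribMulAction H M]
  {K A : Subgroup H}

/-- the sheet in `K` excludes an exact `A ≤ R^g` with `|A| > 2` -/
theorem false_of_sub (sq : ∀ m : M, m * m = 1) (faith : ∀ h : H, (∀ m : M, h • m = m) → h = 1)
    (hex : (cv M (A : Set H)).index ≤ Nat.card A) (h2 : 2 < Nat.card A) {z : K} {P R : Subgroup K} {n : ℕ} (hn : 2 ≤ n)
    (hz : SheetE z P R) (hcard : Nat.card R = 2 ^ (2 * n + 1)) (ht : TrivC.{u, v, u} (centralizer ({z} : Set K)) P n)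
    {g : H} (hg : ∀ a ∈ A, g⁻¹ * a * g ∈ R.map K.subtype) : False := by
  have r : Rec.{u, v, u} (centralizer ({z} : Set K)) P R n := Rec.of_sheet (of_sheetE hz) hcard ht
  have hR2 : IsPGroup 2 R := hz.R2
  have hker : (MonoidHom.id K).ker = ⊥ := by
    ext x
    rfl
  have hkc : (MonoidHom.id K).ker ≤ center K := by rw [hker]; exact bot_le
  have hD := dat_of_rec (π := MonoidHom.id K) Function.surjective_id hkc (by rw [hker, card_bot]; exact odd_one) r
  have hQ : ∀ x : K, x ∈ o2 (R.comap (MonoidHom.id K)) ↔ x ∈ R := by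
    intro x
    rw [mem_lift2 hkc hR2]
    refine ⟨fun h => h.1, fun h => ⟨h, ?_⟩⟩
    obtain ⟨k, hk⟩ := hR2 ⟨x, h⟩
    exact ⟨k, congrArg Subtype.val hk⟩
  obtain ⟨B, hB⟩ : ∃ B, B = cj g⁻¹ A := ⟨_, rfl⟩
  have hBR : B ≤ R.map K.subtype := by
    rw [hB]
    rintro _ ⟨a, ha, rfl⟩
    have h1 := hg a ha
    change g⁻¹ * a * g⁻¹⁻¹ ∈ _
    rwa [inv_inv]
  have hBK : B ≤ K := hBR.trans (map_subtype_le _)
  have hBe : (B.comap K.subtype).map K.subtype = B := by
    rw [map_comap_eq, range_subtype, inf_eq_right.2 hBK]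
  have hcardB : Nat.card (B.comap K.subtype) = Nat.card A := by
    rw [← card_map_of_injective (K := B.comap K.subtype) K.subtype_injective, hBe, hB, cj,
      card_map_of_injective (MulAut.conj g⁻¹).injective]
  have hcvB : cv M ((B.comap K.subtype : Subgroup K) : Set K) = cv M (B : Set H) := by
    ext m
    rw [mem_cv, mem_cv]
    constructor
    · intro h b hb
      exact h ⟨b, hBK hb⟩ hb
    · intro h b hb
      exact h b hb
  have hge : Nat.card M ≤ fab M 1 1 (B.comap K.subtype : Subgroup K) := by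
    have h1 : (cv M (B : Set H)).index ≤ Nat.card A := by
      rw [hB, cj, QData.index_cv_map_conj]
      exact hex
    rw [fab_one, fo, hcardB, hcvB, ← card_mul_index (cv M (B : Set H)), mul_comm]
    exact Nat.mul_le_mul_right _ h1
  refine hD.false_ex (A := B.comap K.subtype) hn sq (fun k hk => Subtype.ext (faith k fun m => hk m)) ?_ hge
    (by rw [hcardB]; exact h2) ?_
  · intro b hb
    rw [hQ]
    obtain ⟨y, hy, hyb⟩ := hBR hb
    have h1 : y = b := Subtype.ext hyb
    rw [← h1]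
    exact hy
  · intro c hc hc1 hcc
    obtain ⟨k, h3, h4, q, hq, h5, h6⟩ := yt_of hz c ((hQ c).1 hc) hc1 fun q hq => hcc q ((hQ q).2 hq)
    exact ⟨k, h3, fun q hq => (hQ _).2 (h4 q ((hQ q).1 hq)), q, (hQ q).2 hq, h5, h6⟩

end

/-- **The row of a class of groups with a sheet of type (E) and `TrivC`.** -/
theorem deadX_of_sheet {𝒮 : ∀ (S : Type u) [Group S], Prop}
    (hS : ∀ (S : Type u) [Group S] [Finite S], 𝒮 S → ∃ (z : S) (P R : Subgroup S) (n : ℕ), SheetE z P R ∧ 2 ≤ n ∧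
      Nat.card R = 2 ^ (2 * n + 1) ∧ TrivC.{u, v, u} (centralizer ({z} : Set S)) P n) : DeadX.{u, v} 𝒮 := by
  intro H _ _ M _ _ _ K T A h hK
  obtain ⟨z, P, R, n, hsh, hn, hcard, ht⟩ := hS K hK
  obtain ⟨g, hg⟩ := h.asx.le_conj (of_sheetE hsh)
  exact false_of_sub h.sq h.faith h.exact.le (lt_of_lt_of_le (by norm_num) h.four) hn hsh hcard ht hg

end Cfsg.Agent.Omega.ML.ExEx.SheetRow

end

section


/-!
# K-list "exact + low": the row `Fi24'` (helper96, over helper39's sheet)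
-/

set_option autoImplicit false

namespace Cfsg.Agent.Omega.ML.ExEx.RowFi24

open Subgroup Cfsg Cfsg.Agent.Omega.ML.Ex Cfsg.Agent.Omega.ML.ExRec Cfsg.Agent.Omega.ML.ExFi24 Cfsg.Agent.OddHalf
open Cfsg.Agent.KFacts.FiTF Cfsg.Agent.KFacts.FiTF.Defs

universe u v

/-- **The row `Fi24'`.** -/
theorem deadX : DeadX.{u, v} @Spor.IsoFi24' := by
  refine SheetRow.deadX_of_sheet fun S _ _ h => ?_
  have : Finite Spor.Fi24 := Cfsg.Agent.R08.FiTwentyFour.finite_Fi24
  obtain ⟨e⟩ := h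
  refine ⟨_, _, _, 6, D8.SheetMap.sheetE_map e.symm sheetE, by norm_num, ?_, ?_⟩
  · have h1 := Abs.card_RK frame
    rw [← Nat.card_congr (equivMapOfInjective _ e.symm.toMonoidHom e.symm.injective).toEquiv]
    rw [h1]; norm_num
  · rw [D8.SheetMap.centralizer_map]
    exact TrivC.map e.symm Cfsg.Agent.Omega.ML.RowFi24.triv

end Cfsg.Agent.Omega.ML.ExEx.RowFi24

end
end
end

-- part: Mrg/Omega/ML/RowPspSix
section
prune_inst 0x90006f04052210000000001080001c42a2000102004800001080010204869c0000008020f8200d1010000004003c0068134c0000420000000a000800011801a0800a000200400104200001808004000000000000000000000000000000041000000000000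
set_option linter.all false
open scoped Cfsg.Agent.FastGrp

-- merged: Cfsg.Agent.Mrg.Omega.ML.RowCo3
section

/-!
# (ML), the K-list end: quasisimple centralisers, the row `Co3` (helper232)

* `o2_central` : `O₂(C)` is central if `C` is quasisimple;
* `card_le_of_quasi` : `S = X`, `z` 2-central, `Z(C_S(z)) = ⟨z⟩`, `C_S(z)` quasisimple: `|A| ≤ 2`;
* `deadG`, `deadZ` : the row `Co3` (`Out(Co3) = 1`, `C(z) = 2·Sp₆(2)`).
-/

set_option autoImplicit false

namespace Cfsg.Agent.Omega.ML.RowCo3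

open Subgroup Cfsg Cfsg.Agent.OddHalf.D8.Sheet Cfsg.Agent.Omega.ML.Rows
open Cfsg.Agent.ZN Cfsg.Agent.Omega.ML.LocRow
open Cfsg.Agent.MinSimple.VModule (o2_isPGroup o2_le le_o2 le_normalizer_o2)

universe u v

/-- `O₂` of a quasisimple subgroup is central. -/
theorem o2_central {X : Type*} [Group X] [Finite X] {C : Subgroup X} (hq : IsQuasisimple C) :
    ∀ x ∈ o2 C, ∀ y ∈ C, y * x = x * y := by
  have hp : Fact (Nat.Prime 2) := ⟨Nat.prime_two⟩
  have h1 : (((o2 C).subgroupOf C)).Normal := by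
    refine ⟨fun x hx g => ?_⟩
    exact (mem_normalizer_iff.1 (le_normalizer_o2 C g.2) x).1 hx
  have h2 : IsPGroup 2 ((o2 C).subgroupOf C) := (o2_isPGroup C).comap_subtype
  have h3 : Group.IsSolvable ((o2 C).subgroupOf C) :=
    have := h2.isNilpotent
    inferInstance
  intro x hx y hy
  have h4 : (⟨x, o2_le C hx⟩ : C) ∈ center C :=
    Cfsg.Agent.Lib.ComponentSolvable.quasisimple_solvable_normal_le_center hq h1 h3 hx
  exact congrArg Subtype.val (mem_center_iff.1 h4 ⟨y, hy⟩)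

/-- `S = X`, `z` 2-central, `C_S(z)` quasisimple with centre `⟨z⟩`. -/
theorem card_le_of_quasi {X : Type*} [Group X] [Finite X] {S T A : Subgroup X} (h : AS S T A) (hS : S = ⊤) {z : S}
    (hz1 : z ≠ 1)
    (hz : ∃ S₀ : Sylow 2 S, z ∈ S₀ ∧ (∀ x ∈ S₀, x * z = z * x) ∧ ∀ y ∈ S₀, (∀ x ∈ S₀, x * y = y * x) → y = 1 ∨ y = z)
    (hq : ∀ x ∈ o2 (centralizer ({z} : Set S)), x = 1 ∨ x = z) : Nat.card A ≤ 2 := by
  classical
  obtain ⟨g, hg⟩ := ShE.exists_conj h.norm h.two h.syl hz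
  set w : S := g * z * g⁻¹ with hw
  have hw' : ((g : X) * z * ((g⁻¹ : S) : X)) = (w : X) := rfl
  rw [hw'] at hg
  have hne : centralizer ({(w : X)} : Set X) ≠ ⊤ := by
    intro h1
    have h2 : (w : X) ∈ centralizer (S : Set X) := by
      rw [mem_centralizer_iff]
      intro y _
      exact mem_centralizer_singleton_iff.1 (h1 ▸ mem_top y)
    rw [h.cen, mem_bot] at h2
    have h3 : w = 1 := Subtype.ext h2
    apply hz1
    calc z = g⁻¹ * w * g := by rw [hw]; group
      _ = 1 := by rw [h3]; group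
  have hle := h.low _ hg hne
  -- every element of `A` is `1` or `w`
  have key : ∀ a ∈ A, a = 1 ∨ a = (w : X) := by
    intro a ha
    have haS : a ∈ S := hS ▸ mem_top a
    let N : Subgroup S := (o2 (centralizer ({(w : X)} : Set X))).comap (S.subtype.comp (MulAut.conj g).toMonoidHom)
    have hmem : ∀ x : S, x ∈ N ↔ ((g * x * g⁻¹ : S) : X) ∈ o2 (centralizer ({(w : X)} : Set X)) := fun x => Iff.rfl
    have hN : N ≤ o2 (centralizer ({z} : Set S)) := by
      refine le_o2 ?_ ?_ ?_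
      · intro x hx
        rw [hmem] at hx
        have h1 := mem_centralizer_singleton_iff.1 (o2_le _ hx)
        rw [mem_centralizer_singleton_iff]
        have h2 : (g * x * g⁻¹) * w = w * (g * x * g⁻¹) := Subtype.ext h1
        calc x * z = g⁻¹ * ((g * x * g⁻¹) * w) * g := by rw [hw]; group
          _ = g⁻¹ * (w * (g * x * g⁻¹)) * g := by rw [h2]
          _ = z * x := by rw [hw]; group
      · exact (o2_isPGroup _).comap_of_injective _ (S.subtype_injective.comp (MulAut.conj g).injective)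
      · have hk : ∀ x ∈ centralizer ({z} : Set S), ∀ y ∈ N, x * y * x⁻¹ ∈ N := by
          intro x hx y hy
          rw [hmem] at hy ⊢
          have h1 : ((g * x * g⁻¹ : S) : X) ∈ centralizer ({(w : X)} : Set X) := by
            rw [mem_centralizer_singleton_iff] at hx ⊢
            refine congrArg (Subtype.val (p := (· ∈ S))) (?_ : (g * x * g⁻¹) * w = w * (g * x * g⁻¹))
            calc (g * x * g⁻¹) * w = g * (x * z) * g⁻¹ := by rw [hw]; group
              _ = g * (z * x) * g⁻¹ := by rw [hx]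
              _ = _ := by rw [hw]; group
          have h2 := (mem_normalizer_iff.1 (le_normalizer_o2 _ h1) _).1 hy
          have h3 : ((g * (x * y * x⁻¹) * g⁻¹ : S) : X) = ((g * x * g⁻¹ : S) : X) * ((g * y * g⁻¹ : S) : X) *
              ((g * x * g⁻¹ : S) : X)⁻¹ := by
            rw [← Subgroup.coe_inv, ← Subgroup.coe_mul, ← Subgroup.coe_mul]
            congr 1
            group
          rwa [h3]
        intro x hx
        rw [mem_normalizer_iff]
        intro y
        refine ⟨fun hy => hk x hx y hy, fun hy => ?_⟩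
        have h3 := hk x⁻¹ (inv_mem hx) _ hy
        have h4 : x⁻¹ * (x * y * x⁻¹) * x⁻¹⁻¹ = y := by group
        rwa [h4] at h3
    have h1 : (g⁻¹ * ⟨a, haS⟩ * g) ∈ N := by
      rw [hmem]
      have h2 : ((g * (g⁻¹ * ⟨a, haS⟩ * g) * g⁻¹ : S) : X) = a := by
        have h3 : (g * (g⁻¹ * ⟨a, haS⟩ * g) * g⁻¹ : S) = ⟨a, haS⟩ := by group
        rw [h3]
      rw [h2]
      exact hle ha
    have h5 : (⟨a, haS⟩ : S) = g * (g⁻¹ * ⟨a, haS⟩ * g) * g⁻¹ := by group
    rcases hq _ (hN h1) with h2 | h2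
    · left
      rw [h2, mul_one, mul_inv_cancel] at h5
      exact congrArg Subtype.val h5
    · right
      rw [h2] at h5
      exact congrArg Subtype.val h5
  have h1 : (A : Set X) ⊆ ({1, (w : X)} : Finset X) := by
    intro a ha
    rcases key a ha with h1 | h1 <;> simp only [h1, _root_.Finset.coe_insert, _root_.Finset.coe_singleton, _root_.Set.mem_insert_iff, _root_.Set.mem_singleton_iff, _root_.true_or, _root_.OneMemClass.coe_eq_one, _root_.or_true]
  calc Nat.card A = (A : Set X).ncard := rfl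
    _ ≤ ((({1, (w : X)} : Finset X) : Set X)).ncard := Set.ncard_le_ncard h1 (Finset.finite_toSet _)
    _ = (({1, (w : X)} : Finset X)).card := Set.ncard_coe_finset _
    _ ≤ 2 := Finset.card_le_two

theorem iso : IsoClosed.{u} (fun S _ => Spor.IsoCo3 S) := by
  rintro S S' _ _ e ⟨f⟩
  exact ⟨e.symm.trans f⟩

/-- **The row `Co3`.** -/
theorem deadG : DeadG.{u} (fun S _ => Spor.IsoCo3 S) := by
  intro X _ _ S T A h hS
  obtain ⟨z, hz⟩ := Cfsg.Agent.KFacts.Co3.Sheet.exists_facts hS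
  have htop : S = ⊤ := h.top_of_inner fun α _ => hz.inner α
  refine (card_le_of_quasi h htop hz.basic.z1 hz.basic.syl fun x hx => ?_).trans (by norm_num)
  exact hz.center x (o2_le _ hx) (o2_central hz.quasi x hx)

theorem deadZ : DeadZ.{u, v} @Spor.IsoCo3 := deadG.deadZ iso

end Cfsg.Agent.Omega.ML.RowCo3

end

-- merged: Cfsg.Agent.Mrg.Omega.ML.RowPspSix
section

/-!
# (ML), the K-list end: the row `PSp₆(3)` (helper232)

* `exists_conj_of_aut` : if `|S : C_S(z)|` is odd and all automorphisms of `S` fix the class of `z`, then `T` centralises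
  a conjugate of `z`;
* `card_le_of_facts` : if moreover `z` is the only involution of `O₂(C_S(z))`: `|A ∩ S| ≤ 2`, `|A| ≤ 2 |Aut(S) : Inn(S)|`;
* `deadG` : the row `PSp₆(3)`.
-/

set_option autoImplicit false

namespace Cfsg.Agent.Omega.ML.RowPspSix

open Matrix Subgroup Cfsg Cfsg.Agent.Omega.ML.Rows Cfsg.Agent.ZN
open Cfsg.Agent.MinSimple.VModule (o2_isPGroup o2_le le_o2 le_normalizer_o2)

universe u v

/-! ### Abstract part -/

theorem index_cent {S : Type*} [Group S] (z : S) :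
    (centralizer ({z} : Set S)).index = {x : S | IsConj z x}.ncard := by
  have h1 : (MulAction.stabilizer (ConjAct S) z).comap (ConjAct.toConjAct : S ≃* ConjAct S).toMonoidHom =
      centralizer ({z} : Set S) := by
    ext g
    rw [mem_comap, MulAction.mem_stabilizer_iff, mem_centralizer_singleton_iff]
    change ConjAct.toConjAct g • z = z ↔ _
    rw [ConjAct.toConjAct_smul, mul_inv_eq_iff_eq_mul]
  have h2 : MulAction.orbit (ConjAct S) z = {x : S | IsConj z x} := by
    ext x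
    rw [MulAction.mem_orbit_iff, Set.mem_ofPred_eq, isConj_iff]
    rfl
  rw [← h1, ← h2, index_comap_of_surjective _ (ConjAct.toConjAct : S ≃* ConjAct S).surjective]
  exact MulAction.index_stabilizer (ConjAct S) z

/-- **`T` centralises a conjugate of `z`.** -/
theorem exists_conj_of_aut {X : Type*} [Group X] [Finite X] {S T : Subgroup X} (hS : S.Normal) (hT : IsPGroup 2 T)
    {z : S} (hodd : ¬ 2 ∣ (centralizer ({z} : Set S)).index) (haut : ∀ α : MulAut S, IsConj z (α z)) :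
    ∃ g : S, T ≤ centralizer ({((g * z * g⁻¹ : S) : X)} : Set X) := by
  have hp : Fact (Nat.Prime 2) := ⟨Nat.prime_two⟩
  have h1 : ∀ x : X, ∃ g : S, x * (z : X) * x⁻¹ = ((g * z * g⁻¹ : S) : X) := by
    intro x
    obtain ⟨g, hg⟩ := isConj_iff.1 (haut (MulAut.conjNormal x))
    refine ⟨g, ?_⟩
    rw [hg]
    exact (MulAut.conjNormal_apply x z).symm
  have h2 : {x : X | IsConj (z : X) x} = Subtype.val '' {x : S | IsConj z x} := by
    ext y
    constructor
    · intro hy
      obtain ⟨x, hx⟩ := isConj_iff.1 hy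
      obtain ⟨g, hg⟩ := h1 x
      exact ⟨_, isConj_iff.2 ⟨g, rfl⟩, by rw [← hx, hg]⟩
    · rintro ⟨w, hw, rfl⟩
      obtain ⟨g, rfl⟩ := isConj_iff.1 hw
      exact isConj_iff.2 ⟨g, rfl⟩
  have h3 : ¬ 2 ∣ (centralizer ({(z : X)} : Set X)).index := by
    rw [index_cent, h2, Set.ncard_image_of_injective _ Subtype.val_injective, ← index_cent]
    exact hodd
  have h4 : ¬ 2 ∣ Nat.card (X ⧸ centralizer ({(z : X)} : Set X)) := h3
  obtain ⟨q, hq⟩ := hT.nonempty_fixed_point_of_prime_not_dvd_card (X ⧸ centralizer ({(z : X)} : Set X)) h4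
  obtain ⟨x, rfl⟩ := QuotientGroup.mk_surjective q
  obtain ⟨g, hg⟩ := h1 x
  refine ⟨g, fun t ht => ?_⟩
  rw [← hg, mem_centralizer_singleton_iff]
  have h5 : (QuotientGroup.mk (t * x) : X ⧸ centralizer ({(z : X)} : Set X)) = QuotientGroup.mk x := hq ⟨t, ht⟩
  have h6 := QuotientGroup.eq.1 h5.symm
  rw [mem_centralizer_singleton_iff] at h6
  calc t * (x * z * x⁻¹) = x * ((x⁻¹ * (t * x)) * z) * x⁻¹ := by group
    _ = x * (z * (x⁻¹ * (t * x))) * x⁻¹ := by rw [h6]
    _ = x * z * x⁻¹ * t := by group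

/-- **`|A ∩ S| ≤ 2`.** -/
theorem card_inf_le {X : Type*} [Group X] [Finite X] {S T A : Subgroup X} (h : AS S T A) {z : S}
    (hz1 : z ≠ 1) (hodd : ¬ 2 ∣ (centralizer ({z} : Set S)).index) (haut : ∀ α : MulAut S, IsConj z (α z))
    (hq : ∀ x ∈ o2 (centralizer ({z} : Set S)), x * x = 1 → x = 1 ∨ x = z) :
    Nat.card (A ⊓ S : Subgroup X) ≤ 2 := by
  classical
  obtain ⟨g, hg⟩ := exists_conj_of_aut h.norm h.two hodd haut
  set w : S := g * z * g⁻¹ with hw
  have hw1 : (w : X) ≠ 1 := by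
    intro h2
    have h3 : w = 1 := Subtype.ext h2
    apply hz1
    calc z = g⁻¹ * w * g := by rw [hw]; group
      _ = 1 := by rw [h3]; group
  have hle := h.low _ hg (h.cent_ne_top hw1)
  -- every element of `A ∩ S` is `1` or `w`
  have key : ∀ a ∈ A, a ∈ S → a = 1 ∨ a = (w : X) := by
    intro a ha haS
    let N : Subgroup S := (o2 (centralizer ({(w : X)} : Set X))).comap (S.subtype.comp (MulAut.conj g).toMonoidHom)
    have hmem : ∀ x : S, x ∈ N ↔ ((g * x * g⁻¹ : S) : X) ∈ o2 (centralizer ({(w : X)} : Set X)) := fun x => Iff.rfl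
    have hN : N ≤ o2 (centralizer ({z} : Set S)) := by
      refine le_o2 ?_ ?_ ?_
      · intro x hx
        rw [hmem] at hx
        have h1 := mem_centralizer_singleton_iff.1 (o2_le _ hx)
        rw [mem_centralizer_singleton_iff]
        have h2 : (g * x * g⁻¹) * w = w * (g * x * g⁻¹) := Subtype.ext h1
        calc x * z = g⁻¹ * ((g * x * g⁻¹) * w) * g := by rw [hw]; group
          _ = g⁻¹ * (w * (g * x * g⁻¹)) * g := by rw [h2]
          _ = z * x := by rw [hw]; group
      · exact (o2_isPGroup _).comap_of_injective _ (S.subtype_injective.comp (MulAut.conj g).injective)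
      · have hk : ∀ x ∈ centralizer ({z} : Set S), ∀ y ∈ N, x * y * x⁻¹ ∈ N := by
          intro x hx y hy
          rw [hmem] at hy ⊢
          have h1 : ((g * x * g⁻¹ : S) : X) ∈ centralizer ({(w : X)} : Set X) := by
            rw [mem_centralizer_singleton_iff] at hx ⊢
            refine congrArg (Subtype.val (p := (· ∈ S))) (?_ : (g * x * g⁻¹) * w = w * (g * x * g⁻¹))
            calc (g * x * g⁻¹) * w = g * (x * z) * g⁻¹ := by rw [hw]; group
              _ = g * (z * x) * g⁻¹ := by rw [hx]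
              _ = _ := by rw [hw]; group
          have h2 := (mem_normalizer_iff.1 (le_normalizer_o2 _ h1) _).1 hy
          have h3 : ((g * (x * y * x⁻¹) * g⁻¹ : S) : X) = ((g * x * g⁻¹ : S) : X) * ((g * y * g⁻¹ : S) : X) *
              ((g * x * g⁻¹ : S) : X)⁻¹ := by
            rw [← Subgroup.coe_inv, ← Subgroup.coe_mul, ← Subgroup.coe_mul]
            congr 1
            group
          rwa [h3]
        intro x hx
        rw [mem_normalizer_iff]
        intro y
        refine ⟨fun hy => hk x hx y hy, fun hy => ?_⟩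
        have h3 := hk x⁻¹ (inv_mem hx) _ hy
        have h4 : x⁻¹ * (x * y * x⁻¹) * x⁻¹⁻¹ = y := by group
        rwa [h4] at h3
    have h1 : (g⁻¹ * ⟨a, haS⟩ * g) ∈ N := by
      rw [hmem]
      have h2 : ((g * (g⁻¹ * ⟨a, haS⟩ * g) * g⁻¹ : S) : X) = a := by
        have h3 : (g * (g⁻¹ * ⟨a, haS⟩ * g) * g⁻¹ : S) = ⟨a, haS⟩ := by group
        rw [h3]
      rw [h2]
      exact hle ha
    have h5 : (⟨a, haS⟩ : S) = g * (g⁻¹ * ⟨a, haS⟩ * g) * g⁻¹ := by group
    have h6 : (g⁻¹ * ⟨a, haS⟩ * g) * (g⁻¹ * ⟨a, haS⟩ * g) = 1 := by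
      have h7 : (⟨a, haS⟩ : S) * ⟨a, haS⟩ = 1 := Subtype.ext (h.el a ha)
      calc (g⁻¹ * ⟨a, haS⟩ * g) * (g⁻¹ * ⟨a, haS⟩ * g) = g⁻¹ * (⟨a, haS⟩ * ⟨a, haS⟩) * g := by group
        _ = 1 := by rw [h7]; group
    rcases hq _ (hN h1) h6 with h2 | h2
    · left
      rw [h2, mul_one, mul_inv_cancel] at h5
      exact congrArg Subtype.val h5
    · right
      rw [h2] at h5
      exact congrArg Subtype.val h5
  have h1 : ((A ⊓ S : Subgroup X) : Set X) ⊆ ({1, (w : X)} : Finset X) := by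
    intro a ha
    rcases key a ha.1 ha.2 with h1 | h1 <;> simp only [h1, _root_.Finset.coe_insert, _root_.Finset.coe_singleton, _root_.Set.mem_insert_iff, _root_.Set.mem_singleton_iff, _root_.true_or, _root_.OneMemClass.coe_eq_one, _root_.or_true]
  calc Nat.card (A ⊓ S : Subgroup X) = ((A ⊓ S : Subgroup X) : Set X).ncard := rfl
    _ ≤ ((({1, (w : X)} : Finset X) : Set X)).ncard := Set.ncard_le_ncard h1 (Finset.finite_toSet _)
    _ = (({1, (w : X)} : Finset X)).card := Set.ncard_coe_finset _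
    _ ≤ 2 := Finset.card_le_two

/-- **`|A| ≤ 2 |Aut(S) : Inn(S)|`.** -/
theorem card_le_of_facts {X : Type*} [Group X] [Finite X] {S T A : Subgroup X} (h : AS S T A) {z : S}
    (hz1 : z ≠ 1) (hodd : ¬ 2 ∣ (centralizer ({z} : Set S)).index) (haut : ∀ α : MulAut S, IsConj z (α z))
    (hq : ∀ x ∈ o2 (centralizer ({z} : Set S)), x * x = 1 → x = 1 ∨ x = z)
    {k : ℕ} (hout : (MulAut.conj : S →* MulAut S).range.index ≤ k) : Nat.card A ≤ 2 * k := by
  refine (h.card_le_mul_index A).trans (Nat.mul_le_mul ?_ (h.index_le.trans hout))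
  rw [← card_map_of_injective S.subtype_injective, subgroupOf_map_subtype]
  exact card_inf_le h hz1 hodd haut hq

/-! ### Facts and their transport -/

/-- the facts about the involution `z` -/
structure Facts {S : Type*} [Group S] (z : S) : Prop where
  ne : z ≠ 1
  odd : ¬ 2 ∣ (centralizer ({z} : Set S)).index
  aut : ∀ α : MulAut S, IsConj z (α z)
  o2 : ∀ N : Subgroup S, IsPGroup 2 N → N ≤ centralizer ({z} : Set S) →
    centralizer ({z} : Set S) ≤ normalizer (N : Set S) → ∀ x ∈ N, x * x = 1 → x = 1 ∨ x = z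

theorem Facts.map {S P : Type*} [Group S] [Group P] {z : P} (h : Facts z) (e : P ≃* S) : Facts (e z) where
  ne := fun h1 => h.ne (e.injective (h1.trans (map_one e).symm))
  odd := by
    rw [index_cent]
    have h1 : {x : S | IsConj (e z) x} = e '' {x : P | IsConj z x} := by
      ext x
      constructor
      · intro hx
        obtain ⟨g, hg⟩ := isConj_iff.1 hx
        refine ⟨e.symm g * z * (e.symm g)⁻¹, isConj_iff.2 ⟨_, rfl⟩, ?_⟩
        rw [map_mul, map_mul, map_inv, e.apply_symm_apply, hg]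
      · rintro ⟨y, hy, rfl⟩
        obtain ⟨g, rfl⟩ := isConj_iff.1 hy
        exact isConj_iff.2 ⟨e g, by rw [map_mul, map_mul, map_inv]⟩
    rw [h1, Set.ncard_image_of_injective _ e.injective, ← index_cent]
    exact h.odd
  aut := fun α => by
    obtain ⟨g, hg⟩ := isConj_iff.1 (h.aut ((e.trans α).trans e.symm))
    refine isConj_iff.2 ⟨e g, ?_⟩
    have h1 := congrArg e hg
    rw [map_mul, map_mul, map_inv] at h1
    rw [h1]
    exact e.apply_symm_apply _
  o2 := by
    intro N hN hle hn x hx hxx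
    have h1 : ∀ y : P, y ∈ N.comap e.toMonoidHom ↔ e y ∈ N := fun y => Iff.rfl
    rcases h.o2 (N.comap e.toMonoidHom) (hN.comap_of_injective _ e.injective) (fun y hy => by
        have h2 := mem_centralizer_singleton_iff.1 (hle ((h1 y).1 hy))
        rw [← map_mul, ← map_mul] at h2
        exact mem_centralizer_singleton_iff.2 (e.injective h2)) (fun y hy => by
        have h2 : e y ∈ centralizer ({e z} : Set S) := by
          rw [mem_centralizer_singleton_iff] at hy ⊢
          rw [← map_mul, ← map_mul, hy]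
        have h3 := mem_normalizer_iff.1 (hn h2)
        rw [mem_normalizer_iff]
        intro w
        rw [h1, h1, map_mul, map_mul, map_inv]
        exact h3 (e w)) (e.symm x) (by rw [h1, e.apply_symm_apply]; exact hx)
        (by rw [← map_mul, hxx, map_one]) with h2 | h2
    · left
      rw [← e.apply_symm_apply x, h2, map_one]
    · right
      rw [← e.apply_symm_apply x, h2]

theorem card_le_two_mul {X : Type*} [Group X] [Finite X] {S T A : Subgroup X} (h : AS S T A) {z : S}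
    (hz : Facts z) {k : ℕ} (hout : (MulAut.conj : S →* MulAut S).range.index ≤ k) : Nat.card A ≤ 2 * k :=
  card_le_of_facts h hz.ne hz.odd hz.aut (hz.o2 _ (o2_isPGroup _) (o2_le _) (le_normalizer_o2 _)) hout

/-! ### The model -/

section Model

open Cfsg.Agent.ClassicalGeometry.SympAutExists Cfsg.Agent.ClassicalGeometry.SympAutSemi
  Cfsg.Agent.ClassicalGeometry.SympGamma
open Cfsg.Agent.OddHalf.NI3.K.Sp
open Cfsg.Agent.OddHalf.NI.FrameSp (neg neg_coe center_cases)
open Cfsg.Agent.Lib.FieldThree (F3)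


/-- `A ⊕ D` -/
def two (k l : ℕ) (F : Type) [Field F] :
    symplecticGroup (Fin k) F × symplecticGroup (Fin l) F →* symplecticGroup (Fin (k + l)) F where
  toFun A := ⟨(fromBlocks (A.1 : Matrix (Fin k ⊕ Fin k) (Fin k ⊕ Fin k) F) 0 0
      (A.2 : Matrix (Fin l ⊕ Fin l) (Fin l ⊕ Fin l) F)).submatrix (sg k l).symm (sg k l).symm, by
    rw [mem_iff', submatrix_submatrix, Equiv.symm_comp_self, submatrix_id_id]
    have h := SymplecticGroup.mem_iff.mp A.1.2
    have h' := SymplecticGroup.mem_iff.mp A.2.2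
    simp only [fromBlocks_multiply, fromBlocks_transpose, h, h', _root_.Matrix.mul_zero, _root_.add_zero, _root_.Matrix.zero_mul, _root_.zero_add, _root_.Matrix.transpose_zero]⟩
  map_one' := by
    apply Subtype.ext
    apply sub_inj
    change ((fromBlocks (1 : Matrix (Fin k ⊕ Fin k) (Fin k ⊕ Fin k) F) 0 0
      (1 : Matrix (Fin l ⊕ Fin l) (Fin l ⊕ Fin l) F)).submatrix (sg k l).symm (sg k l).symm).submatrix _ _ =
      (1 : Matrix _ _ F).submatrix (sg k l) (sg k l)
    rw [submatrix_submatrix, Equiv.symm_comp_self, submatrix_id_id, submatrix_one_equiv, fromBlocks_one]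
  map_mul' A B := by
    apply Subtype.ext
    apply sub_inj
    change ((fromBlocks ((A.1 : Matrix _ _ F) * (B.1 : Matrix _ _ F)) 0 0
      ((A.2 : Matrix _ _ F) * (B.2 : Matrix _ _ F))).submatrix (sg k l).symm (sg k l).symm).submatrix _ _ =
      ((fromBlocks (A.1 : Matrix _ _ F) 0 0 (A.2 : Matrix _ _ F)).submatrix (sg k l).symm (sg k l).symm *
      (fromBlocks (B.1 : Matrix _ _ F) 0 0 (B.2 : Matrix _ _ F)).submatrix (sg k l).symm (sg k l).symm).submatrix _ _
    rw [Cfsg.Agent.OddHalf.NI3.K.Sp.sub_mul, submatrix_submatrix, submatrix_submatrix, submatrix_submatrix, Equiv.symm_comp_self,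
      submatrix_id_id, submatrix_id_id, submatrix_id_id, fromBlocks_multiply]
    simp only [_root_.Matrix.mul_zero, _root_.add_zero, _root_.Matrix.zero_mul, _root_.zero_add]

theorem two_sub {k l : ℕ} {F : Type} [Field F] (A : symplecticGroup (Fin k) F × symplecticGroup (Fin l) F) :
    (two k l F A : Matrix (Fin (k + l) ⊕ Fin (k + l)) (Fin (k + l) ⊕ Fin (k + l)) F).submatrix (sg k l) (sg k l) =
      fromBlocks (A.1 : Matrix (Fin k ⊕ Fin k) (Fin k ⊕ Fin k) F) 0 0 (A.2 : Matrix (Fin l ⊕ Fin l) (Fin l ⊕ Fin l) F) := by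
  change ((fromBlocks (A.1 : Matrix _ _ F) 0 0 (A.2 : Matrix _ _ F)).submatrix (sg k l).symm (sg k l).symm).submatrix _ _ = _
  rw [submatrix_submatrix, Equiv.symm_comp_self, submatrix_id_id]

theorem two_inj {k l : ℕ} {F : Type} [Field F] : Function.Injective (two k l F) := by
  intro A B h
  have h1 := congrArg (fun X : symplecticGroup (Fin (k + l)) F =>
    (X : Matrix (Fin (k + l) ⊕ Fin (k + l)) (Fin (k + l) ⊕ Fin (k + l)) F).submatrix (sg k l) (sg k l)) h
  simp only [two_sub] at h1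
  rw [fromBlocks_inj] at h1
  exact Prod.ext (Subtype.ext h1.1) (Subtype.ext h1.2.2.2)

/-- the involution: `-1 ⊕ 1` -/
def Y : symplecticGroup (Fin 3) F3 := two 2 1 F3 (_root_.Cfsg.Agent.OddHalf.NI.FrameSp.neg 2 F3, 1)

/-- its image -/
def z : PSp 3 F3 := pr Y

theorem two_ne : (2 : F3) ≠ 0 := by decide

/-- the signs -/
def eps (p : Fin 3 ⊕ Fin 3) : F3 := if Sum.elim id id p = 2 then 1 else -1

theorem Y_coe : (Y : Matrix (Fin 3 ⊕ Fin 3) (Fin 3 ⊕ Fin 3) F3) = diagonal eps := by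
  have h : ((Y : Matrix (Fin 3 ⊕ Fin 3) (Fin 3 ⊕ Fin 3) F3)).submatrix (sg 2 1) (sg 2 1) =
      (diagonal eps).submatrix (sg 2 1) (sg 2 1) := by
    have h1 := two_sub (k := 2) (l := 1) (F := F3) (_root_.Cfsg.Agent.OddHalf.NI.FrameSp.neg 2 F3, 1)
    refine h1.trans ?_
    rw [neg_coe]
    change fromBlocks (-1) 0 0 1 = _
    decide +kernel
  exact sub_inj (k := 2) (l := 1) h

/-- `C(Y) = Sp₄ × Sp₂` -/
theorem exists_two {g : symplecticGroup (Fin 3) F3} (hg : g * Y = Y * g) : ∃ p, two 2 1 F3 p = g := by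
  set G := (g : Matrix (Fin (2 + 1) ⊕ Fin (2 + 1)) (Fin (2 + 1) ⊕ Fin (2 + 1)) F3).submatrix (sg 2 1) (sg 2 1) with hG
  obtain ⟨A, B, C, D, hABCD⟩ : ∃ A B C D, G = fromBlocks A B C D :=
    ⟨_, _, _, _, (fromBlocks_toBlocks G).symm⟩
  have h1 : G * fromBlocks (-1) 0 0 1 = fromBlocks (-1) 0 0 1 * G := by
    have h0 := congrArg (fun X : symplecticGroup (Fin (2 + 1)) F3 =>
      (X : Matrix (Fin (2 + 1) ⊕ Fin (2 + 1)) (Fin (2 + 1) ⊕ Fin (2 + 1)) F3).submatrix (sg 2 1) (sg 2 1)) hg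
    have hY : (Y : Matrix (Fin (2 + 1) ⊕ Fin (2 + 1)) (Fin (2 + 1) ⊕ Fin (2 + 1)) F3).submatrix (sg 2 1) (sg 2 1) =
        fromBlocks (-1) 0 0 1 := by
      refine (two_sub (k := 2) (l := 1) (F := F3) (_root_.Cfsg.Agent.OddHalf.NI.FrameSp.neg 2 F3, 1)).trans ?_
      rw [neg_coe]
      rfl
    have h2 : ∀ X X' : symplecticGroup (Fin (2 + 1)) F3,
        ((X * X' : symplecticGroup (Fin (2 + 1)) F3) :
          Matrix (Fin (2 + 1) ⊕ Fin (2 + 1)) (Fin (2 + 1) ⊕ Fin (2 + 1)) F3).submatrix (sg 2 1) (sg 2 1) =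
        (X : Matrix (Fin (2 + 1) ⊕ Fin (2 + 1)) (Fin (2 + 1) ⊕ Fin (2 + 1)) F3).submatrix (sg 2 1) (sg 2 1) *
        (X' : Matrix (Fin (2 + 1) ⊕ Fin (2 + 1)) (Fin (2 + 1) ⊕ Fin (2 + 1)) F3).submatrix (sg 2 1) (sg 2 1) :=
      fun X X' => Cfsg.Agent.OddHalf.NI3.K.Sp.sub_mul _ _
    have h3 := ((h2 g Y).symm.trans h0).trans (h2 Y g)
    rw [hY] at h3
    exact h3
  rw [hABCD, fromBlocks_multiply, fromBlocks_multiply] at h1
  simp only [Matrix.mul_zero, Matrix.mul_one, Matrix.zero_mul, Matrix.one_mul, add_zero, zero_add, Matrix.mul_neg,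
    Matrix.neg_mul] at h1
  rw [fromBlocks_inj] at h1
  obtain ⟨-, hB, hC, -⟩ := h1
  have hx : ∀ x : F3, x = -x → x = 0 := by decide
  have hB0 : B = 0 := by
    ext i j
    have := congrFun (congrFun hB i) j
    rw [Matrix.neg_apply] at this
    exact hx _ this
  have hC0 : C = 0 := by
    ext i j
    have := congrFun (congrFun hC i) j
    rw [Matrix.neg_apply] at this
    exact hx _ this.symm
  subst hB0 hC0
  have hmem := (mem_iff' (k := 2) (l := 1) _).mp g.2
  rw [← hG, hABCD, fromBlocks_transpose, fromBlocks_multiply, fromBlocks_multiply] at hmem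
  simp only [Matrix.mul_zero, Matrix.zero_mul, add_zero, zero_add, transpose_zero] at hmem
  rw [fromBlocks_inj] at hmem
  refine ⟨(⟨A, SymplecticGroup.mem_iff.mpr hmem.1⟩, ⟨D, SymplecticGroup.mem_iff.mpr hmem.2.2.2⟩), ?_⟩
  apply Subtype.ext
  apply sub_inj
  rw [two_sub, ← hG, hABCD]

theorem two_comm (p : symplecticGroup (Fin 2) F3 × symplecticGroup (Fin 1) F3) :
    two 2 1 F3 p * Y = Y * two 2 1 F3 p := by
  have h1 : (_root_.Cfsg.Agent.OddHalf.NI.FrameSp.neg 2 F3, (1 : symplecticGroup (Fin 1) F3)) * p = p * (_root_.Cfsg.Agent.OddHalf.NI.FrameSp.neg 2 F3, 1) := by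
    refine Prod.ext ?_ ?_
    · exact (Subgroup.mem_center_iff.1 (neg_mem_center 2) p.1).symm
    · show 1 * p.2 = p.2 * 1
      rw [one_mul, mul_one]
  unfold Y
  rw [← map_mul, ← map_mul, h1]

theorem trace_Y : trace (Y : Matrix (Fin 3 ⊕ Fin 3) (Fin 3 ⊕ Fin 3) F3) ≠
    trace (-(Y : Matrix (Fin 3 ⊕ Fin 3) (Fin 3 ⊕ Fin 3) F3)) := by
  rw [Y_coe]
  decide +kernel

/-- elements commuting with `z` -/
theorem lift_comm {g : symplecticGroup (Fin 3) F3} (hg : pr g * z = z * pr g) : g * Y = Y * g := by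
  have h1 : pr (g * Y) = pr (Y * g) := hg
  rw [pr_eq_iff] at h1
  rcases center_cases (by norm_num) h1 with h2 | h2
  · exact inv_mul_eq_one.1 h2
  · exfalso
    have h3 : Y * g = g * Y * _root_.Cfsg.Agent.OddHalf.NI.FrameSp.neg 3 F3 := by rw [← h2]; group
    have h4 : g⁻¹ * Y * g = Y * _root_.Cfsg.Agent.OddHalf.NI.FrameSp.neg 3 F3 := by
      rw [mul_assoc, h3]; group
    have h5 := congrArg (fun X : symplecticGroup (Fin 3) F3 =>
      trace (X : Matrix (Fin 3 ⊕ Fin 3) (Fin 3 ⊕ Fin 3) F3)) h4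
    simp only [Submonoid.coe_mul, neg_coe] at h5
    rw [trace_mul_comm, ← mul_assoc] at h5
    have h6 : (g : Matrix (Fin 3 ⊕ Fin 3) (Fin 3 ⊕ Fin 3) F3) * ((g⁻¹ : symplecticGroup (Fin 3) F3) :
        Matrix (Fin 3 ⊕ Fin 3) (Fin 3 ⊕ Fin 3) F3) = 1 := by
      rw [← Submonoid.coe_mul, mul_inv_cancel]; rfl
    rw [h6, one_mul, mul_neg, mul_one] at h5
    exact trace_Y h5

theorem z_ne : z ≠ 1 := by
  intro h
  have h1 : Y ∈ center (symplecticGroup (Fin 3) F3) := (QuotientGroup.eq_one_iff Y).1 h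
  rcases center_cases (by norm_num) h1 with h2 | h2
  · have h3 := congrArg (fun X : symplecticGroup (Fin 3) F3 =>
      (X : Matrix (Fin 3 ⊕ Fin 3) (Fin 3 ⊕ Fin 3) F3) (Sum.inl 0) (Sum.inl 0)) h2
    simp only [Y_coe] at h3
    revert h3
    decide +kernel
  · have h3 := congrArg (fun X : symplecticGroup (Fin 3) F3 =>
      (X : Matrix (Fin 3 ⊕ Fin 3) (Fin 3 ⊕ Fin 3) F3) (Sum.inl 2) (Sum.inl 2)) h2
    simp only [Y_coe, neg_coe] at h3
    revert h3
    decide +kernel

instance : Finite (symplecticGroup (Fin 3) F3) := Subtype.finite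
instance : Finite (symplecticGroup (Fin 2) F3) := Subtype.finite
instance : Finite (symplecticGroup (Fin 1) F3) := Subtype.finite

/-- the index of `C(Y)` is odd -/
theorem odd_Y : ¬ 2 ∣ (centralizer ({Y} : Set (symplecticGroup (Fin 3) F3))).index := by
  intro h2
  have h1 : (two 2 1 F3).range ≤ centralizer ({Y} : Set (symplecticGroup (Fin 3) F3)) := by
    rintro _ ⟨p, rfl⟩
    exact mem_centralizer_singleton_iff.2 (two_comm p)
  have h3 : Nat.card (two 2 1 F3).range = 51840 * 24 := by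
    rw [← Nat.card_congr (MonoidHom.ofInjective (two_inj (k := 2) (l := 1) (F := F3))).toEquiv, Nat.card_prod,
      LieClassical.SympCount.card_symplecticGroup, LieClassical.SympCount.card_symplecticGroup, F3.card]
    rfl
  have h4 : 2 * (51840 * 24) ∣ Nat.card (symplecticGroup (Fin 3) F3) := by
    rw [← (centralizer ({Y} : Set (symplecticGroup (Fin 3) F3))).card_mul_index, mul_comm 2]
    exact Nat.mul_dvd_mul (h3 ▸ card_dvd_of_le h1) h2
  rw [LieClassical.SympCount.card_symplecticGroup, F3.card] at h4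
  revert h4
  decide

theorem map_cent : (centralizer ({Y} : Set (symplecticGroup (Fin 3) F3))).map
    (QuotientGroup.mk' (center (symplecticGroup (Fin 3) F3))) = centralizer ({z} : Set (PSp 3 F3)) := by
  ext x
  constructor
  · rintro ⟨g, hg, rfl⟩
    rw [SetLike.mem_coe, mem_centralizer_singleton_iff] at hg
    exact mem_centralizer_singleton_iff.2 (congrArg pr hg)
  · intro hx
    obtain ⟨g, rfl⟩ := QuotientGroup.mk_surjective x
    exact ⟨g, mem_centralizer_singleton_iff.2 (lift_comm (mem_centralizer_singleton_iff.1 hx)), rfl⟩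

theorem odd_z : ¬ 2 ∣ (centralizer ({z} : Set (PSp 3 F3))).index := by
  rw [← map_cent]
  intro h
  exact odd_Y (h.trans (index_map_dvd _ (QuotientGroup.mk'_surjective _)))

theorem sp_two (a b c d : F3) (h : a * d - b * c = 1) (h1 : a * a + b * c = 1) (h2 : a * b + b * d = 0)
    (h3 : c * a + d * c = 0) (h4 : c * b + d * d = 1) : (a = 1 ∧ b = 0 ∧ c = 0 ∧ d = 1) ∨
      (a = -1 ∧ b = 0 ∧ c = 0 ∧ d = -1) := by
  revert a b c d
  decide +kernel

/-- involutions of `Sp₂(3)` -/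
theorem invol_one {d : symplecticGroup (Fin 1) F3} (hd : d * d = 1) : d = 1 ∨ d = _root_.Cfsg.Agent.OddHalf.NI.FrameSp.neg 1 F3 := by
  have hd' : (d : Matrix (Fin 1 ⊕ Fin 1) (Fin 1 ⊕ Fin 1) F3) * (d : Matrix (Fin 1 ⊕ Fin 1) (Fin 1 ⊕ Fin 1) F3) = 1 :=
    congrArg Subtype.val hd
  have hs := SymplecticGroup.mem_iff.mp d.2
  set D := (d : Matrix (Fin 1 ⊕ Fin 1) (Fin 1 ⊕ Fin 1) F3) with hD
  have e1 := congrFun (congrFun hd' (Sum.inl 0)) (Sum.inl 0)
  have e2 := congrFun (congrFun hd' (Sum.inl 0)) (Sum.inr 0)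
  have e3 := congrFun (congrFun hd' (Sum.inr 0)) (Sum.inl 0)
  have e4 := congrFun (congrFun hd' (Sum.inr 0)) (Sum.inr 0)
  have e5 := congrFun (congrFun hs (Sum.inl 0)) (Sum.inr 0)
  simp only [Matrix.mul_apply, Fintype.sum_sum_type, J, _root_.Fin.isValue, _root_.Finset.univ_unique, _root_.Fin.default_eq_zero, _root_.Finset.sum_singleton, _root_.Matrix.one_apply_eq, _root_.ne_eq, _root_.reduceCtorEq, _root_.not_false_eq_true, _root_.Matrix.one_apply_ne, _root_.Matrix.transpose_apply, _root_.Matrix.fromBlocks_apply₁₁, _root_.Matrix.zero_apply, _root_.MulZeroClass.mul_zero, _root_.Matrix.fromBlocks_apply₂₁, _root_.zero_add, _root_.mul_one, _root_.Matrix.fromBlocks_apply₁₂, _root_.Matrix.neg_apply, _root_.mul_neg, _root_.Matrix.fromBlocks_apply₂₂, _root_.add_zero, _root_.neg_mul, _root_.Finset.sum_neg_distrib] at e1 e2 e3 e4 e5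
  have e6 : D (Sum.inl 0) (Sum.inl 0) * D (Sum.inr 0) (Sum.inr 0) -
      D (Sum.inl 0) (Sum.inr 0) * D (Sum.inr 0) (Sum.inl 0) = 1 := by linear_combination -e5
  rcases sp_two _ _ _ _ e6 e1 e2 e3 e4 with ⟨h1, h2, h3, h4⟩ | ⟨h1, h2, h3, h4⟩
  · left
    apply Subtype.ext
    change D = 1
    ext p q
    rcases p with p | p <;> rcases q with q | q <;> (revert p q; simp only [h1, h2, h3, h4, _root_.Fin.forall_fin_succ, Fin.isValue, _root_.IsEmpty.forall_iff, _root_.and_true, _root_.Matrix.one_apply_eq, _root_.ne_eq, _root_.Sum.inl.injEq, _root_.Fin.succ_ne_zero, _root_.not_false_eq_true, _root_.Matrix.one_apply_ne, _root_.and_self, reduceCtorEq, _root_.Sum.inr.injEq])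
  · right
    apply Subtype.ext
    change D = (_root_.Cfsg.Agent.OddHalf.NI.FrameSp.neg 1 F3 : symplecticGroup (Fin 1) F3).1
    rw [neg_coe]
    ext p q
    rcases p with p | p <;> rcases q with q | q <;> fin_cases p <;> fin_cases q <;> simp [h1, h2, h3, h4]

/-- `-1 ⊕ -1` is central -/
theorem two_neg : two 2 1 F3 (_root_.Cfsg.Agent.OddHalf.NI.FrameSp.neg 2 F3, _root_.Cfsg.Agent.OddHalf.NI.FrameSp.neg 1 F3) = _root_.Cfsg.Agent.OddHalf.NI.FrameSp.neg 3 F3 := by
  apply Subtype.ext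
  apply sub_inj (k := 2) (l := 1)
  refine (two_sub (k := 2) (l := 1) (F := F3) _).trans ?_
  rw [neg_coe, neg_coe, neg_coe]
  ext i j
  rcases i with i | i <;> rcases j with j | j <;> simp [Matrix.one_apply]

theorem neg_ne_one {m : ℕ} (hm : 1 ≤ m) : _root_.Cfsg.Agent.OddHalf.NI.FrameSp.neg m F3 ≠ 1 := by
  intro h
  have h1 := congrArg (fun A : symplecticGroup (Fin m) F3 =>
    (A : Matrix (Fin m ⊕ Fin m) (Fin m ⊕ Fin m) F3) (Sum.inl ⟨0, hm⟩) (Sum.inl ⟨0, hm⟩)) h
  simp only [neg_coe, Matrix.neg_apply, Matrix.one_apply_eq] at h1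
  have h5 : ((1 : symplecticGroup (Fin m) F3) : Matrix (Fin m ⊕ Fin m) (Fin m ⊕ Fin m) F3) = 1 := rfl
  rw [h5, Matrix.one_apply_eq] at h1
  revert h1
  decide

/-- `(1, d)` central implies `d = 1` -/
theorem eq_one_of_central {d : symplecticGroup (Fin 1) F3} (h : pr (two 2 1 F3 (1, d)) = 1) : d = 1 := by
  have h1 : two 2 1 F3 (1, d) ∈ center (symplecticGroup (Fin 3) F3) := (QuotientGroup.eq_one_iff _).1 h
  rcases center_cases (by norm_num) h1 with h2 | h2
  · have h3 : two 2 1 F3 (1, d) = two 2 1 F3 1 := by rw [h2]; exact (map_one _).symm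
    exact congrArg Prod.snd (two_inj h3)
  · exfalso
    rw [← two_neg] at h2
    exact neg_ne_one (m := 2) (by norm_num) (congrArg Prod.fst (two_inj h2)).symm

/-- **`z` is the only involution of `O₂(C(z))`.** -/
theorem o2_z : ∀ N : Subgroup (PSp 3 F3), IsPGroup 2 N → N ≤ centralizer ({z} : Set (PSp 3 F3)) →
    centralizer ({z} : Set (PSp 3 F3)) ≤ normalizer (N : Set (PSp 3 F3)) → ∀ x ∈ N, x * x = 1 → x = 1 ∨ x = z := by
  intro N hN hle hn x hx hxx
  have hp : Fact (Nat.Prime 2) := ⟨Nat.prime_two⟩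
  let φ : symplecticGroup (Fin 2) F3 × symplecticGroup (Fin 1) F3 →* PSp 3 F3 :=
    (QuotientGroup.mk' (center (symplecticGroup (Fin 3) F3))).comp (two 2 1 F3)
  have hφ : ∀ p, φ p = pr (two 2 1 F3 p) := fun _ => rfl
  have hφz : ∀ p, φ p ∈ centralizer ({z} : Set (PSp 3 F3)) := fun p =>
    mem_centralizer_singleton_iff.2 (congrArg pr (two_comm p))
  have hker : IsPGroup 2 φ.ker := by
    rintro ⟨p, hp1⟩
    refine ⟨1, Subtype.ext ?_⟩
    rw [pow_one, Subgroup.coe_pow, Subgroup.coe_one]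
    change p ^ 2 = 1
    have h1 : two 2 1 F3 p ∈ center (symplecticGroup (Fin 3) F3) := (QuotientGroup.eq_one_iff _).1 hp1
    apply two_inj (k := 2) (l := 1)
    rcases center_cases (by norm_num) h1 with h2 | h2
    · rw [map_pow]
      rw [show two 2 1 F3 p = 1 from h2, one_pow]
      exact (map_one _).symm
    · rw [map_pow, show two 2 1 F3 p = _root_.Cfsg.Agent.OddHalf.NI.FrameSp.neg 3 F3 from h2, map_one]
      apply Subtype.ext
      rw [pow_two, Submonoid.coe_mul, neg_coe]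
      simp only [_root_.Nat.reduceAdd, _root_.mul_neg, _root_.mul_one, _root_.neg_neg, _root_.OneMemClass.coe_one]
  -- the projection to `Sp₄`
  let M : Subgroup (symplecticGroup (Fin 2) F3) := (N.comap φ).map (MonoidHom.fst _ _)
  have hM : IsPGroup 2 M := (hN.comap_of_ker_isPGroup φ hker).map _
  have hMn : M.Normal := by
    refine ⟨?_⟩
    rintro _ ⟨p, hp1, rfl⟩ g
    refine ⟨(g, 1) * p * (g, 1)⁻¹, ?_, rfl⟩
    change φ ((g, 1) * p * (g, 1)⁻¹) ∈ N
    rw [map_mul, map_mul, map_inv]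
    exact (mem_normalizer_iff.1 (hn (hφz _)) _).1 hp1
  have hqs : IsQuasisimple ↥(symplecticGroup (Fin 2) F3) :=
    ⟨⟨Cfsg.Agent.S0269.result 2 (Or.inr (Or.inl ⟨rfl, by rw [F3.card]⟩))⟩,
      Cfsg.Agent.S0270.result 2 le_rfl (fun _ => by rw [F3.card])⟩
  have hMs : Group.IsSolvable M :=
    have := hM.isNilpotent
    inferInstance
  have hMc : M ≤ center _ :=
    Cfsg.Agent.Lib.ComponentSolvable.quasisimple_solvable_normal_le_center hqs hMn hMs
  -- `x` is the image of `(1, d)`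
  have hd : ∃ d, x = pr (two 2 1 F3 (1, d)) := by
    obtain ⟨g, rfl⟩ := pr_surj x
    obtain ⟨⟨a, d⟩, rfl⟩ := exists_two (lift_comm (mem_centralizer_singleton_iff.1 (hle hx)))
    have h1 : a ∈ M := ⟨(a, d), hx, rfl⟩
    rcases center_cases (by norm_num) (hMc h1) with h2 | h2
    · exact ⟨d, by rw [h2]⟩
    · refine ⟨(_root_.Cfsg.Agent.OddHalf.NI.FrameSp.neg 1 F3)⁻¹ * d, ?_⟩
      rw [pr_eq_iff, ← map_inv, ← map_mul, h2]
      have h3 : (((_root_.Cfsg.Agent.OddHalf.NI.FrameSp.neg 2 F3, d) : symplecticGroup (Fin 2) F3 × symplecticGroup (Fin 1) F3)⁻¹ *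
          (1, (_root_.Cfsg.Agent.OddHalf.NI.FrameSp.neg 1 F3)⁻¹ * d)) = (_root_.Cfsg.Agent.OddHalf.NI.FrameSp.neg 2 F3, _root_.Cfsg.Agent.OddHalf.NI.FrameSp.neg 1 F3)⁻¹ := by
        refine Prod.ext ?_ ?_
        · show (_root_.Cfsg.Agent.OddHalf.NI.FrameSp.neg 2 F3)⁻¹ * 1 = (_root_.Cfsg.Agent.OddHalf.NI.FrameSp.neg 2 F3)⁻¹
          rw [mul_one]
        · show d⁻¹ * ((_root_.Cfsg.Agent.OddHalf.NI.FrameSp.neg 1 F3)⁻¹ * d) = (_root_.Cfsg.Agent.OddHalf.NI.FrameSp.neg 1 F3)⁻¹
          have h4 := Subgroup.mem_center_iff.1 (inv_mem (neg_mem_center (F := F3) 1)) d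
          rw [← h4, inv_mul_cancel_left]
      rw [h3, map_inv, two_neg]
      exact inv_mem (neg_mem_center 3)
  obtain ⟨d, rfl⟩ := hd
  have h1 : pr (two 2 1 F3 (1, d * d)) = 1 := by
    rw [← hxx, ← pr_mul, ← map_mul, Prod.mk_mul_mk, one_mul]
  rcases invol_one (eq_one_of_central h1) with h2 | h2
  · left
    rw [h2]
    exact congrArg pr (map_one (two 2 1 F3))
  · right
    rw [h2]
    unfold z Y
    rw [pr_eq_iff, ← map_inv, ← map_mul]
    have h3 : (((1, _root_.Cfsg.Agent.OddHalf.NI.FrameSp.neg 1 F3) : symplecticGroup (Fin 2) F3 × symplecticGroup (Fin 1) F3)⁻¹ * (_root_.Cfsg.Agent.OddHalf.NI.FrameSp.neg 2 F3, 1)) =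
        (_root_.Cfsg.Agent.OddHalf.NI.FrameSp.neg 2 F3, (_root_.Cfsg.Agent.OddHalf.NI.FrameSp.neg 1 F3)⁻¹) := by
      refine Prod.ext ?_ ?_
      · show (1 : symplecticGroup (Fin 2) F3)⁻¹ * _root_.Cfsg.Agent.OddHalf.NI.FrameSp.neg 2 F3 = _root_.Cfsg.Agent.OddHalf.NI.FrameSp.neg 2 F3
        rw [_root_.inv_one, one_mul]
      · show (_root_.Cfsg.Agent.OddHalf.NI.FrameSp.neg 1 F3)⁻¹ * 1 = (_root_.Cfsg.Agent.OddHalf.NI.FrameSp.neg 1 F3)⁻¹
        rw [mul_one]
    have h4 : (_root_.Cfsg.Agent.OddHalf.NI.FrameSp.neg 1 F3)⁻¹ = _root_.Cfsg.Agent.OddHalf.NI.FrameSp.neg 1 F3 := by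
      rw [inv_eq_iff_mul_eq_one]
      apply Subtype.ext
      rw [Submonoid.coe_mul, neg_coe]
      simp only [_root_.mul_neg, _root_.mul_one, _root_.neg_neg, _root_.OneMemClass.coe_one]
    rw [h3, h4, two_neg]
    exact neg_mem_center 3

/-- `Y` as a permutation of the vectors -/
theorem rho_Y (v : Fin 3 ⊕ Fin 3 → F3) (p : Fin 3 ⊕ Fin 3) : rho 3 F3 Y v p = eps p * v p := by
  rw [rho_apply, Y_coe, mulVec_diagonal]

/-- automorphisms fix the class of `z` -/
theorem aut_z (α : MulAut (PSp 3 F3)) : IsConj z (α z) := by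
  obtain ⟨g, rfl⟩ := exists_semi (by norm_num) α
    (Cfsg.Agent.ClassicalGeometry.SympAutRecog.recog_odd (by norm_num) two_ne α)
  obtain ⟨⟨φ, l, A⟩, rfl⟩ := (par_bijective (F := F3) (m := 3) (by norm_num)).2 g
  have h1 : conjHom 3 F3 (par 3 F3 (φ, l, A)) Y = A * Y * A⁻¹ := by
    apply rho_injective
    rw [rho_conjHom, par_coe, map_mul, map_mul, map_inv]
    have hc : (dilPerm 3 l * frobPerm 3 φ) * rho 3 F3 Y = rho 3 F3 Y * (dilPerm 3 l * frobPerm 3 φ) := by
      ext1 v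
      funext p
      have he : ∀ q, φ (eps q) = eps q := by
        intro q
        unfold eps
        split_ifs
        · exact map_one φ
        · rw [map_neg, map_one]
      rcases p with p | p
      · simp only [Equiv.Perm.mul_apply, rho_Y, dilPerm_inl, frobPerm_apply, map_mul, he]
        ring
      · simp only [Equiv.Perm.mul_apply, rho_Y, dilPerm_inr, frobPerm_apply, map_mul, he]
    calc rho 3 F3 A * (dilPerm 3 l * frobPerm 3 φ) * rho 3 F3 Y * (rho 3 F3 A * (dilPerm 3 l * frobPerm 3 φ))⁻¹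
        = rho 3 F3 A * ((dilPerm 3 l * frobPerm 3 φ) * rho 3 F3 Y) * (rho 3 F3 A * (dilPerm 3 l * frobPerm 3 φ))⁻¹ := by
          group
      _ = rho 3 F3 A * (rho 3 F3 Y * (dilPerm 3 l * frobPerm 3 φ)) * (rho 3 F3 A * (dilPerm 3 l * frobPerm 3 φ))⁻¹ := by
          rw [hc]
      _ = rho 3 F3 A * rho 3 F3 Y * (rho 3 F3 A)⁻¹ := by group
  refine isConj_iff.2 ⟨pr A, ?_⟩
  have h2 : Psi 3 F3 (par 3 F3 (φ, l, A)) z = pr (conjHom 3 F3 (par 3 F3 (φ, l, A)) Y) := rfl
  rw [h2, h1]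
  rfl

theorem facts : Facts z := ⟨z_ne, odd_z, aut_z, o2_z⟩

end Model

theorem index_out {S : Type*} [Group S] (e : PSp 3 Cfsg.Agent.Lib.FieldThree.F3 ≃* S) :
    (MulAut.conj : S →* MulAut S).range.index ≤ 2 := by
  have hc : center S = ⊥ := by
    rw [eq_bot_iff]
    intro x hx
    have h1 : e.symm x ∈ center (PSp 3 Cfsg.Agent.Lib.FieldThree.F3) := by
      rw [mem_center_iff] at hx ⊢
      intro g
      have h2 := congrArg e.symm (hx (e g))
      rwa [map_mul, map_mul, e.symm_apply_apply] at h2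
    rw [Cfsg.Agent.Omega.TwoF.RowPSp.center_eq_bot (by norm_num), mem_bot] at h1
    rw [mem_bot, ← e.apply_symm_apply x, h1, map_one]
  have h1 : Nat.card (MulAut S) = 2 * Nat.card S := by
    rw [← Nat.card_congr (MulAut.congr e).toEquiv, Cfsg.Agent.S0814.result 3 1 le_rfl
      (by rw [Cfsg.Agent.Lib.FieldThree.F3.card]; norm_num) 3 (by norm_num) (by norm_num), Nat.card_congr e.toEquiv]
    norm_num
  have h2 : Function.Injective (MulAut.conj : S →* MulAut S) := by
    rw [injective_iff_map_eq_one]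
    intro x hx
    have h3 : x ∈ center S := by
      rw [mem_center_iff]
      intro g
      have h4 : x * g * x⁻¹ = g := by
        have h5 := congrArg (fun α : MulAut S => α g) hx
        simpa only [_root_.MulAut.conj_apply, _root_.MulAut.one_apply] using h5
      calc g * x = (x * g * x⁻¹) * x := by rw [h4]
        _ = x * g := by group
    rwa [hc, mem_bot] at h3
  have h3 := (MulAut.conj : S →* MulAut S).range.card_mul_index
  rw [← Nat.card_congr (MonoidHom.ofInjective h2).toEquiv, h1] at h3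
  have hfin : Finite S := Finite.of_equiv _ e.toEquiv
  have h4 : 0 < Nat.card S := Nat.card_pos
  have h5 : Nat.card S * (MulAut.conj : S →* MulAut S).range.index = Nat.card S * 2 := by rw [h3, mul_comm]
  exact (Nat.eq_of_mul_eq_mul_left h4 h5).le

/-- `PSp₆(3)` -/
def IsPspSix (S : Type u) [Group S] : Prop :=
  ∃ (F : Type) (_ : Field F) (_ : Fintype F), Fintype.card F = 3 ∧ Nonempty (S ≃* PSp 3 F)

theorem iso : IsoClosed.{u} (fun S _ => IsPspSix S) := by
  rintro S S' _ _ e ⟨F, i1, i2, hF, ⟨f⟩⟩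
  exact ⟨F, i1, i2, hF, ⟨e.symm.trans f⟩⟩

/-- **The row `PSp₆(3)`.** -/
theorem deadG : DeadG.{u} (fun S _ => IsPspSix S) := by
  rintro X _ _ S T A h ⟨F, _, _, hF, ⟨f⟩⟩
  let e : PSp 3 Cfsg.Agent.Lib.FieldThree.F3 ≃* S :=
    (f.trans (LieClassical.FieldTransfer.pspCongr 3 (Cfsg.Agent.Lib.FieldThree.equivOfCard hF))).symm
  exact card_le_two_mul h (facts.map e) (index_out e)

theorem dead : Dead.{u, v} (fun S _ => IsPspSix S) := deadG.dead iso


end Cfsg.Agent.Omega.ML.RowPspSix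

end
end

-- part: Mrg/Omega/ML/Ex/RowTitsX
section
prune_inst 0x94200320000000000000000000001c4282000000000800014000000404808c220500202088000100080000040030000810000010000000000000000001180080000010001100a000200000008004000000000000000000000000000000000000000000000
set_option linter.all false
open scoped Cfsg.Agent.FastGrp

-- merged: Cfsg.Agent.Mrg.Omega.ML.Ex.SheetCo1
section

section


/-!
# The sheet of type (E) of `Co1` with `TrivC` (helper592)

* `lb_of_card_gt` : `|GL_k(2)| < |L|` for `k < m` ⟹ `LB L m`;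
* `exists_sheet` : helper899's sheet of type (E) of `Co1` on a group `S ≅ Co1`: `|R| = 2⁹`, `C(z)/R` is simple of order at least
  `174182400`, so `TrivC C(z) P 4`.
-/

set_option autoImplicit false

namespace Cfsg.Agent.Omega.ML.Ex.SheetCo1

open Subgroup Cfsg Cfsg.Agent.KFacts
open Cfsg.Agent.Omega.Lie.Heis (LB Irr)
open Cfsg.Agent.Omega.Lie.PairOrd
open Cfsg.Agent.Omega.ML.ExRec
open Cfsg.Agent.OddHalf.D8.Sheet Cfsg.Agent.OddHalf.D8.JTwo.Sheet
open Cfsg.Agent.CoOneType.SignFacts (sup wt)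
open Cfsg.Agent.CoOneType.ClosingFacts (mk)
open Cfsg.Agent.SporadicA.Co0Mono
open Cfsg.Agent.KFacts.Co1.InCo1

universe u v w

/-- A lower bound by the order of the group. -/
theorem lb_of_card_gt {K : Type u} [Group K] [Finite K] [IsSimpleGroup K] {m : ℕ}
    (h : ∀ k < m, glc k < Nat.card K) : LB.{u, v, w} K m := by
  apply LB.of_irr
  intro L _ _ π hπ _ _ _ V _ _ h2 φ hφ hirr
  -- `V` is elementary abelian
  have hV : Nontrivial V := by
    by_contra hn
    rw [not_nontrivial_iff_subsingleton] at hn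
    obtain ⟨x, hx⟩ := exists_ne (1 : K)
    obtain ⟨g, rfl⟩ := hπ x
    apply hx
    have h3 : g = 1 := hφ (by
      rw [map_one]
      ext v
      exact Subsingleton.elim _ _)
    rw [h3, map_one]
  let U : Subgroup V :=
    { carrier := {x | x ^ 2 = 1}
      one_mem' := one_pow 2
      mul_mem' := fun {a b} ha hb => by
        show (a * b) ^ 2 = 1
        rw [mul_pow, show a ^ 2 = 1 from ha, show b ^ 2 = 1 from hb, one_mul]
      inv_mem' := fun {a} ha => by
        show a⁻¹ ^ 2 = 1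
        rw [inv_pow, show a ^ 2 = 1 from ha, inv_one] }
  have hU : U = ⊤ := by
    refine (hirr U fun g x hx => ?_).resolve_left fun h3 => ?_
    · show (φ g x) ^ 2 = 1
      rw [← map_pow, show x ^ 2 = 1 from hx, map_one]
    · have : Fact (Nat.Prime 2) := ⟨Nat.prime_two⟩
      obtain ⟨n, hn⟩ := IsPGroup.iff_card.1 h2
      have h4 : 2 ∣ Nat.card V := by
        rw [hn]
        refine dvd_pow_self 2 ?_
        rintro rfl
        rw [pow_zero] at hn
        have := Finite.one_lt_card (α := V)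
        omega
      obtain ⟨x, hx⟩ := exists_prime_orderOf_dvd_card' 2 h4
      have h5 : x ∈ U := by
        show x ^ 2 = 1
        rw [← hx]
        exact pow_orderOf_eq_one x
      rw [h3, mem_bot] at h5
      rw [h5, orderOf_one] at hx
      omega
  have hel : ∀ x : V, x ^ 2 = 1 := fun x => by
    have h3 : x ∈ U := by rw [hU]; exact mem_top x
    exact h3
  by_contra hlt
  push Not at hlt
  obtain ⟨k, hk, hk'⟩ := exists_card hel hlt.le
  have hkm : k < m := by
    rw [hk'] at hlt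
    exact (Nat.pow_lt_pow_iff_right (by norm_num)).1 hlt
  have h5 := h k hkm
  rw [← card_mulAut hel hk'] at h5
  have h6 := (Subgroup.card_dvd_of_surjective π hπ).trans
    ((Nat.card_congr (MonoidHom.ofInjective hφ).toEquiv).dvd.trans (Subgroup.card_subgroup_dvd_card φ.range))
  have h7 : 0 < Nat.card (MulAut V) := Nat.card_pos
  exact absurd (Nat.le_of_dvd h7 h6) (not_le.2 h5)

/-- the quotient of the centraliser of a 2-central involution -/
theorem exists_quot {o : golayCode} (ho : wt o = 8) : ∃ (L : Type) (_ : Group L) (_ : Finite L) (_ : IsSimpleGroup L)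
    (π : centralizer ({_root_.Cfsg.Agent.CoOneType.ClosingFacts.mk (signCo0 o)} : Set Spor.Co1) →* L), Function.Surjective π ∧
      (∀ c, π c = 1 ↔ (c : Spor.Co1) ∈ RCo1 o) ∧ LB.{0, u, v} L 5 := by
  have hfin : Finite Spor.Co1 := by
    have : Finite Co0 := Cfsg.Agent.CoOneType.FrameFix.finite_co0
    exact Quotient.finite _
  obtain ⟨C, hC⟩ : ∃ C, C = centralizer ({_root_.Cfsg.Agent.CoOneType.ClosingFacts.mk (signCo0 o)} : Set Spor.Co1) := ⟨_, rfl⟩
  have hRC : RCo1 o ≤ C := by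
    intro r hr
    rw [hC]
    exact mem_centralizer_singleton_iff.2 ((large ho).comm_z r hr)
  have hCm : ∀ c ∈ C, c ∈ centralizer ({_root_.Cfsg.Agent.CoOneType.ClosingFacts.mk (signCo0 o)} : Set Spor.Co1) := fun c hc => hC ▸ hc
  have hRn : ((RCo1 o).subgroupOf C).Normal := ⟨fun r hr c =>
    (large ho).conj_mem c (mem_centralizer_singleton_iff.1 (hCm c c.2)) r hr⟩
  have hcard : 89181388800 ≤ Nat.card C := by
    rw [hC]
    exact Cfsg.Agent.CoOneType.CentOctad.card_centralizer ho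
  have hR : Nat.card ((RCo1 o).subgroupOf C) = 512 := by
    rw [Nat.card_congr (subgroupOfEquivOfLe hRC).toEquiv, Co1.YBig.card_R ho]
  have hL : 174182400 ≤ Nat.card (C ⧸ (RCo1 o).subgroupOf C) := by
    have h1 := card_mul_index ((RCo1 o).subgroupOf C)
    rw [hR] at h1
    have h2 : 174182400 ≤ ((RCo1 o).subgroupOf C).index := by omega
    exact h2
  have hnt : Nontrivial (C ⧸ (RCo1 o).subgroupOf C) := by
    apply Finite.one_lt_card_iff_nontrivial.1
    omega
  have hs : IsSimpleGroup (C ⧸ (RCo1 o).subgroupOf C) := by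
    refine ⟨fun N hN => ?_⟩
    obtain ⟨Mx, hMx⟩ : ∃ Mx : Subgroup C, Mx = N.comap (QuotientGroup.mk' ((RCo1 o).subgroupOf C)) := ⟨_, rfl⟩
    have hMn : Mx.Normal := by rw [hMx]; exact hN.comap _
    have h1 := Co1.CaseM.normal ho (Mx.map C.subtype) (by rw [← hC]; exact map_subtype_le _) ?_ ?_
    · rcases h1 with h1 | h1
      · left
        rw [eq_bot_iff]
        intro x hx
        obtain ⟨c, rfl⟩ := QuotientGroup.mk'_surjective _ x
        have h2 : (c : Spor.Co1) ∈ Mx.map C.subtype := ⟨c, by rw [hMx]; exact hx, rfl⟩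
        rw [h1] at h2
        rw [mem_bot]
        exact (QuotientGroup.eq_one_iff c).2 h2
      · right
        rw [eq_top_iff]
        intro x _
        obtain ⟨c, rfl⟩ := QuotientGroup.mk'_surjective _ x
        have h2 : (c : Spor.Co1) ∈ Mx.map C.subtype := by
          rw [h1, ← hC]
          exact c.2
        obtain ⟨d, hd, hdc⟩ := h2
        rw [hMx] at hd
        have h3 : d = c := Subtype.ext hdc
        rw [← h3]
        exact hd
    · intro r hr
      refine ⟨⟨r, hRC hr⟩, ?_, rfl⟩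
      rw [hMx]
      have h2 : (⟨r, hRC hr⟩ : C) ∈ (RCo1 o).subgroupOf C := mem_subgroupOf.2 hr
      have h3 : QuotientGroup.mk' ((RCo1 o).subgroupOf C) ⟨r, hRC hr⟩ = 1 := (QuotientGroup.eq_one_iff _).2 h2
      exact mem_comap.2 (h3 ▸ one_mem N)
    · rintro p hp _ ⟨n, hn, rfl⟩
      rw [← hC] at hp
      exact ⟨⟨p, hp⟩ * n * ⟨p, hp⟩⁻¹, hMn.conj_mem n hn _, rfl⟩
  subst hC
  refine ⟨_, _, inferInstance, hs, QuotientGroup.mk' _, QuotientGroup.mk'_surjective _, fun c => ?_, ?_⟩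
  · exact QuotientGroup.eq_one_iff c
  · refine lb_of_card_gt fun k hk => lt_of_lt_of_le ?_ hL
    have h1 : ∀ k < 5, glc k < 174182400 := by decide +kernel
    exact h1 k hk

/-- **the sheet** -/
theorem exists_sheet (S : Type u) [Group S] [Finite S] (h : Spor.IsoCo1 S) :
    ∃ (z : S) (P R : Subgroup S) (n : ℕ), SheetE z P R ∧ Nat.card R = 2 ^ (2 * n + 1) ∧
      TrivC.{u, v, u} (centralizer ({z} : Set S)) P n ∧ 2 ≤ n := by
  obtain ⟨e⟩ := h
  obtain ⟨o, ho⟩ := Cfsg.Agent.CoOneType.ClosingCo1.exists_octad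
  obtain ⟨L, _, _, _, π, hs, hk, hlb⟩ := exists_quot.{u, v} ho
  have hE := Cfsg.Agent.OddHalf.D8.SheetMap.sheetE_map e.symm (Co1.CaseM.sheetE ho)
  have hX := of_sheetE hE
  obtain ⟨f, hf⟩ : ∃ f : centralizer ({_root_.Cfsg.Agent.CoOneType.ClosingFacts.mk (signCo0 o)} : Set Spor.Co1) ≃*
      (centralizer ({_root_.Cfsg.Agent.CoOneType.ClosingFacts.mk (signCo0 o)} : Set Spor.Co1)).map e.symm.toMonoidHom, ∀ c, (f c : S) = e.symm c :=
    ⟨(centralizer ({_root_.Cfsg.Agent.CoOneType.ClosingFacts.mk (signCo0 o)} : Set Spor.Co1)).equivMapOfInjective _ e.symm.injective, fun c => rfl⟩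
  have hPC : (centralizer ({_root_.Cfsg.Agent.CoOneType.ClosingFacts.mk (signCo0 o)} : Set Spor.Co1)).map e.symm.toMonoidHom ≤
      centralizer ({e.symm (_root_.Cfsg.Agent.CoOneType.ClosingFacts.mk (signCo0 o))} : Set S) := by
    rintro _ ⟨c, hc, rfl⟩
    rw [mem_centralizer_singleton_iff]
    have h1 := mem_centralizer_singleton_iff.1 hc
    show e.symm c * e.symm (_root_.Cfsg.Agent.CoOneType.ClosingFacts.mk (signCo0 o)) = e.symm (_root_.Cfsg.Agent.CoOneType.ClosingFacts.mk (signCo0 o)) * e.symm c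
    rw [← map_mul, h1, map_mul]
  have hk' : ∀ c, (π.comp f.symm.toMonoidHom) c = 1 ↔ (c : S) ∈ (RCo1 o).map e.symm.toMonoidHom := by
    intro c
    obtain ⟨c, rfl⟩ := f.surjective c
    show π (f.symm (f c)) = 1 ↔ _
    rw [f.symm_apply_apply, hk, hf]
    constructor
    · intro h1
      exact ⟨c, h1, rfl⟩
    · rintro ⟨q, hq, h1⟩
      rwa [← e.symm.injective h1]
  refine ⟨_, _, _, 4, hE, ?_, ?_, by norm_num⟩
  · have h1 : Nat.card ((RCo1 o).map e.symm.toMonoidHom) = Nat.card (RCo1 o) :=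
      (Nat.card_congr ((RCo1 o).equivMapOfInjective _ e.symm.injective).toEquiv).symm
    refine h1.trans ?_
    rw [Co1.YBig.card_R ho]
    norm_num
  · refine ExTriv.trivC_of_lb hPC hX.R2 hX.Rn hX.perf (π.comp f.symm.toMonoidHom) (hs.comp f.symm.surjective)
      (fun x hx => (hk' x).2 hx) ?_ ?_ hlb
    · intro x hx y
      have h1 := (hk' x).1 hx
      have h2 := hX.Rn _ y.2 _ (Subgroup.inv_mem _ h1)
      have h3 := Subgroup.mul_mem _ h1 h2
      have h4 : (x : S) * ((y : S) * (x : S)⁻¹ * (y : S)⁻¹) = x * y * (x : S)⁻¹ * (y : S)⁻¹ := by group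
      rwa [h4] at h3
    · have h1 : (π.comp f.symm.toMonoidHom).ker = ((RCo1 o).map e.symm.toMonoidHom).subgroupOf
          ((centralizer ({_root_.Cfsg.Agent.CoOneType.ClosingFacts.mk (signCo0 o)} : Set Spor.Co1)).map e.symm.toMonoidHom) := by
        ext c
        rw [MonoidHom.mem_ker, hk', mem_subgroupOf]
      rw [h1, relIndex_self]
      exact odd_one

end Cfsg.Agent.Omega.ML.Ex.SheetCo1

end

section


/-!
# K-list "exact + low": the row `Co1` by THEOREM EX (helper592)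
-/

set_option autoImplicit false

namespace Cfsg.Agent.Omega.ML.Ex.RowCo1

open Subgroup Cfsg

universe u v

/-- **The row `Co1`.** -/
theorem deadX : DeadX.{u, v} @Spor.IsoCo1 := by
  refine ExEx.SheetRow.deadX_of_sheet fun S _ _ h => ?_
  obtain ⟨z, P, R, n, h1, h2, h3, h4⟩ := SheetCo1.exists_sheet S h
  exact ⟨z, P, R, n, h1, h4, h2, h3⟩

end Cfsg.Agent.Omega.ML.Ex.RowCo1

end

section


/-!
# Exact K-list: the sheet on an isomorphic group, light imports (helper376, after helper552's `ExInst`)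

* `lb_of_card` : `c ∣ |K|`, `c ∤ |GL_k(2)|` for `k < m` ⟹ `LB K m`;
* `exists_sheet` : the sheet `SheetE z P R` with `P = C(z)` and the homomorphism onto `L`, on a group isomorphic
  to `G`;
* `trivC` : the last field of the record (copy of `RowBM.trivC`, without the instances `M`, `B`, `Th`).
-/

set_option autoImplicit false

namespace Cfsg.Agent.Omega.ML.Ex.SheetOf

open Subgroup Cfsg
open Cfsg.Agent.OddHalf.D8.Sheet Cfsg.Agent.OddHalf.D8.JTwo.Sheet
open Cfsg.Agent.Omega.Lie.Heis (LB Irr)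
open Cfsg.Agent.Omega.Lie.PairOrd
open Cfsg.Agent.Omega.ML.ExCore Cfsg.Agent.Omega.ML.ExRec

universe u v w

/-- A lower bound by the order of the group. -/
theorem lb_of_card {K : Type u} [Group K] [Finite K] [IsSimpleGroup K] {m c : ℕ} (hc : c ∣ Nat.card K)
    (h : ∀ k < m, ¬ c ∣ glc k) : LB.{u, v, w} K m := by
  apply LB.of_irr
  intro L _ _ π hπ _ _ _ V _ _ h2 φ hφ hirr
  -- `V` is elementary abelian
  have hV : Nontrivial V := by
    by_contra hn
    rw [not_nontrivial_iff_subsingleton] at hn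
    obtain ⟨x, hx⟩ := exists_ne (1 : K)
    obtain ⟨g, rfl⟩ := hπ x
    apply hx
    have h3 : g = 1 := hφ (by
      rw [map_one]
      ext v
      exact Subsingleton.elim _ _)
    rw [h3, map_one]
  let U : Subgroup V :=
    { carrier := {x | x ^ 2 = 1}
      one_mem' := one_pow 2
      mul_mem' := fun {a b} ha hb => by
        show (a * b) ^ 2 = 1
        rw [mul_pow, show a ^ 2 = 1 from ha, show b ^ 2 = 1 from hb, one_mul]
      inv_mem' := fun {a} ha => by
        show a⁻¹ ^ 2 = 1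
        rw [inv_pow, show a ^ 2 = 1 from ha, inv_one] }
  have hU : U = ⊤ := by
    refine (hirr U fun g x hx => ?_).resolve_left fun h3 => ?_
    · show (φ g x) ^ 2 = 1
      rw [← map_pow, show x ^ 2 = 1 from hx, map_one]
    · have : Fact (Nat.Prime 2) := ⟨Nat.prime_two⟩
      obtain ⟨n, hn⟩ := IsPGroup.iff_card.1 h2
      have h4 : 2 ∣ Nat.card V := by
        rw [hn]
        refine dvd_pow_self 2 ?_
        rintro rfl
        rw [pow_zero] at hn
        have := Finite.one_lt_card (α := V)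
        omega
      obtain ⟨x, hx⟩ := exists_prime_orderOf_dvd_card' 2 h4
      have h5 : x ∈ U := by
        show x ^ 2 = 1
        rw [← hx]
        exact pow_orderOf_eq_one x
      rw [h3, mem_bot] at h5
      rw [h5, orderOf_one] at hx
      omega
  have hel : ∀ x : V, x ^ 2 = 1 := fun x => by
    have h3 : x ∈ U := by rw [hU]; exact mem_top x
    exact h3
  by_contra hlt
  push Not at hlt
  obtain ⟨k, hk, hk'⟩ := exists_card hel hlt.le
  have hkm : k < m := by
    rw [hk'] at hlt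
    exact (Nat.pow_lt_pow_iff_right (by norm_num)).1 hlt
  apply h k hkm
  rw [← card_mulAut hel hk']
  refine hc.trans ((Subgroup.card_dvd_of_surjective π hπ).trans ?_)
  rw [Nat.card_congr (MonoidHom.ofInjective hφ).toEquiv]
  exact Subgroup.card_subgroup_dvd_card φ.range

/-- the sheet on an isomorphic group `S` -/
theorem exists_sheet {G : Type w} [Group G] {z : G} {Q : Subgroup G} (hs : SheetE z (centralizer ({z} : Set G)) Q)
    {L : Type} [Group L] {π : centralizer ({z} : Set G) →* L} (hsurj : Function.Surjective π)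
    (hker : ∀ c, π c = 1 ↔ (c : G) ∈ Q) {S : Type u} [Group S] (e : S ≃* G) :
    ∃ (z : S) (P R : Subgroup S) (π : P →* L), SheetE z P R ∧ P = centralizer ({z} : Set S) ∧
      Nat.card R = Nat.card Q ∧ Function.Surjective π ∧ (∀ c, π c = 1 ↔ (c : S) ∈ R) := by
  have hs := Cfsg.Agent.OddHalf.D8.SheetMap.sheetE_map e.symm hs
  let f : (centralizer ({z} : Set G)) ≃* ((centralizer ({z} : Set G)).map (e.symm : G →* S)) :=
    (centralizer ({z} : Set G)).equivMapOfInjective _ e.symm.injective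
  have hf : ∀ c, (f c : S) = e.symm c := fun c => rfl
  refine ⟨_, _, _, π.comp f.symm.toMonoidHom, hs, ?_, ?_, hsurj.comp f.symm.surjective, fun c => ?_⟩
  · ext x
    constructor
    · rintro ⟨c, hc, rfl⟩
      rw [mem_centralizer_singleton_iff]
      have h1 := mem_centralizer_singleton_iff.1 hc
      show e.symm c * e.symm z = e.symm z * e.symm c
      rw [← map_mul, h1, map_mul]
    · intro hx
      refine ⟨e x, ?_, e.symm_apply_apply x⟩
      have h1 : x * e.symm z = e.symm z * x := mem_centralizer_singleton_iff.1 hx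
      refine mem_centralizer_singleton_iff.2 ?_
      have h2 := congrArg e h1
      rwa [map_mul, map_mul, e.apply_symm_apply] at h2
  · exact (Nat.card_congr (Q.equivMapOfInjective _ e.symm.injective).toEquiv).symm
  · obtain ⟨c, rfl⟩ := f.surjective c
    show π (f.symm (f c)) = 1 ↔ _
    rw [f.symm_apply_apply, hker, hf]
    constructor
    · intro h1
      exact ⟨c, h1, rfl⟩
    · rintro ⟨q, hq, h1⟩
      rwa [← e.symm.injective h1]

/-- the last field of the record: `C = P` -/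
theorem trivC {S : Type u} [Group S] [Finite S] {z : S} {P R : Subgroup S} (h : SheetX z P R)
    (hP : P = centralizer ({z} : Set S)) {L : Type} [Group L] (π : P →* L) (hs : Function.Surjective π)
    (hk : ∀ c, π c = 1 ↔ (c : S) ∈ R) {n : ℕ} (hlb : LB.{0, u, v} L (n + 1)) :
    TrivC.{u, v, u} (centralizer ({z} : Set S)) P n := by
  refine ExTriv.trivC_of_lb hP.le h.R2 h.Rn h.perf π hs (fun x hx => (hk x).2 hx) ?_ ?_ hlb
  · intro x hx y
    have h1 : (x : S) ∈ R := (hk x).1 hx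
    have h2 : (y : S) * (x : S)⁻¹ * (y : S)⁻¹ ∈ R := h.Rn _ y.2 _ (R.inv_mem h1)
    have h3 := R.mul_mem h1 h2
    have h4 : (x : S) * ((y : S) * (x : S)⁻¹ * (y : S)⁻¹) = x * y * (x : S)⁻¹ * (y : S)⁻¹ := by group
    rwa [h4] at h3
  · have h1 : π.ker = R.subgroupOf P := by
      ext c
      rw [MonoidHom.mem_ker, hk, mem_subgroupOf]
    rw [h1, relIndex_self]
    exact odd_one

end Cfsg.Agent.Omega.ML.Ex.SheetOf

end

end

-- merged: Cfsg.Agent.Mrg.Omega.ML.Ex.SheetCo2
section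

section


/-!
# Exact K-list, `Co2`: the sheet `2¹⁺⁸.Sp6(2)` and `LB Sp6(2) 5` (helper376)
-/

set_option autoImplicit false

namespace Cfsg.Agent.Omega.ML.Ex.SheetCo2

open Subgroup Cfsg
open Cfsg.Agent.OddHalf.D8.Sheet Cfsg.Agent.OddHalf.D8.JTwo.Sheet
open Cfsg.Agent.Omega.Lie.Heis (LB Irr)
open Cfsg.Agent.KFacts.CoTwo Cfsg.Agent.Omega.ML.ExRec
open Cfsg.Agent.KFacts.CoTwo.RSub Cfsg.Agent.Co2Type.TData Cfsg.Agent.Co2Type.FactsD

universe u v w

theorem card_sp : Nat.card Quot.Sp62 = 1451520 := by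
  rw [LieClassical.SympCount.card_symplecticGroup, ZMod.card]
  simp only [Finset.prod_range_succ, _root_.Nat.reducePow, _root_.Finset.range_one, _root_.Finset.prod_singleton, _root_.zero_add, _root_.mul_one, _root_.Nat.add_one_sub_one, _root_.Nat.reduceAdd, _root_.Nat.reduceMul]

theorem lb_sp : LB.{0, v, w} Quot.Sp62 5 := by
  have : Finite Quot.Sp62 := Nat.finite_of_card_ne_zero (by rw [card_sp]; norm_num)
  refine SheetOf.lb_of_card (c := 27) (by rw [card_sp]; norm_num) ?_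
  decide +kernel

theorem exists_sheet {S : Type u} [Group S] (h : Spor.IsoCo2 S) :
    ∃ (z : S) (P R : Subgroup S) (L : Type) (_ : Group L) (_ : IsSimpleGroup L) (π : P →* L),
      SheetE z P R ∧ P = centralizer ({z} : Set S) ∧ Nat.card R = 2 ^ (2 * 4 + 1) ∧ Function.Surjective π ∧
      (∀ c, π c = 1 ↔ (c : S) ∈ R) ∧ LB.{0, u, v} L (4 + 1) := by
  obtain ⟨e⟩ := h
  have := Cfsg.Agent.Schreier.CoTwoStab.finite
  have D := Cfsg.Agent.KFacts.CoTwo.QuotInst.dataT
  obtain ⟨π, hs, hk⟩ := D.quot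
  obtain ⟨z, P, R, π', h1, h2, h3, h4, h5⟩ := SheetOf.exists_sheet D.sheet hs hk e
  exact ⟨z, P, R, _, inferInstance, D.simple, π', h1, h2, h3.trans Cfsg.Agent.KFacts.CoTwo.RLarge.card_R, h4, h5, lb_sp⟩

/-- the input of the row -/
theorem sheet (S : Type u) [Group S] [Finite S] (h : Spor.IsoCo2 S) :
    ∃ (z : S) (P R : Subgroup S) (n : ℕ), SheetE z P R ∧ 2 ≤ n ∧ Nat.card R = 2 ^ (2 * n + 1) ∧
      TrivC.{u, v, u} (centralizer ({z} : Set S)) P n := by
  obtain ⟨z, P, R, L, _, _, π, h1, h2, h3, h4, h5, h6⟩ := exists_sheet.{u, v} h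
  exact ⟨z, P, R, 4, h1, by norm_num, h3, SheetOf.trivC (of_sheetE h1) h2 π h4 h5 h6⟩

end Cfsg.Agent.Omega.ML.Ex.SheetCo2

end

section


/-!
# The K-list for EXACT subgroups: the row `Co2`, by THEOREM EX (helper376)
-/

set_option autoImplicit false

namespace Cfsg.Agent.Omega.ML.Ex.RowCo2X

open Subgroup Cfsg

universe u v

/-- **The row `Co2`.** -/
theorem deadX : DeadX.{u, v} @Spor.IsoCo2 :=
  ExEx.SheetRow.deadX_of_sheet fun S _ _ h => SheetCo2.sheet S h

end Cfsg.Agent.Omega.ML.Ex.RowCo2X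

end

section


/-!
# The K-list for exact atoms: `|M| ≤ |A|^m` (T14; helper312)

`InX H M K T A`.

* `cv_eq_bot` : `C_M(K) = 1`;
* `index_le_card` : `|M : C_M(x)| ≤ |A|` for `x ∈ A`;
* **`card_le_pow`** : `K ≤ ⟨f 0, …, f (m-1)⟩`, `|M : C_M(f i)| ≤ d` ⟹ `|M| ≤ d^m`;
* `card_le_conj` : the `f i` conjugates of one `x ∈ A`: `|M| ≤ |M : C_M(x)|^m`, `|M| ≤ |A|^m`;
* `card_le_conjA` : `K ≤ ⟨A^{g_0}, …, A^{g_(m-1)}⟩` ⟹ `|M| ≤ |A|^m`;
* `card_le_genBy` : `K` is generated by `m` `K`-conjugates of every involution, `x ∈ A ∩ K`;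
* `lb_le` : `LB K n` ⟹ `2^n ≤ |M|`;  `pow_le_index`, `pow_le_card` : `r` an odd prime, `ord_r(2) ≥ k` ⟹ `2^k ≤ |M|`;
* **`false_of_lb`**, **`false_of_prime`** (conjugates of `x ∈ A`), **`false_of_lbA`**, **`false_of_primeA`** (conjugates of `A`).
-/

set_option autoImplicit false

namespace Cfsg.Agent.Omega.ML.Ex.Gen

open Subgroup Cfsg Cfsg.Agent.ZN Cfsg.Agent.Omega.NOThree.NoOver Cfsg.Agent.Omega.ML.CD
open Cfsg.Agent.ClassTwoFusion.Quad Cfsg.Agent.Omega.Lie Cfsg.Agent.Omega.ML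

open scoped commutatorElement

universe u v

section lin

variable {H : Type*} [Group H] {M : Type*} [Group M] [MulDistribMulAction H M]

/-- `C_M(⟨f 0, …⟩)` has index at most `∏ |M : C_M(f i)|`. -/
theorem index_le_pow [Finite M] {m d : ℕ} (f : Fin m → H) (hf : ∀ i, (cv M ({f i} : Set H)).index ≤ d)
    {J : Subgroup H} (hgen : J ≤ _root_.Subgroup.closure (Set.range f)) : (cv M (J : Set H)).index ≤ d ^ m := by
  have h1 : (⨅ i, cv M ({f i} : Set H)) ≤ cv M (J : Set H) := by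
    intro w hw k hk
    have h2 : ∀ i, f i • w = w := fun i => by
      have h3 : w ∈ cv M ({f i} : Set H) := (mem_iInf.1 hw) i
      exact h3 _ rfl
    have h3 : _root_.Subgroup.closure (Set.range f) ≤ MulAction.stabilizer H w := by
      rw [closure_le]
      rintro _ ⟨i, rfl⟩
      exact h2 i
    exact h3 (hgen hk)
  calc (cv M (J : Set H)).index ≤ (⨅ i, cv M ({f i} : Set H)).index :=
        Nat.le_of_dvd (Nat.pos_of_ne_zero Subgroup.index_ne_zero_of_finite) (Subgroup.index_dvd_of_le h1)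
    _ ≤ ∏ i, (cv M ({f i} : Set H)).index := index_iInf_le _
    _ ≤ ∏ _i : Fin m, d := Finset.prod_le_prod' fun i _ => hf i
    _ = d ^ m := by rw [Finset.prod_const, Finset.card_univ, Fintype.card_fin]

end lin

variable {H : Type u} [Group H] {M : Type v} [Group M] [MulDistribMulAction H M] {K T A : Subgroup H}

/-- `C_M(K) = 1`. -/
theorem cv_eq_bot (h : InX H M K T A) : cv M (K : Set H) = ⊥ := by
  have hK := h.norm
  rcases h.irr (cv M (K : Set H)) (by
    intro g w hw k hk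
    have h1 := hw (g⁻¹ * k * g) (by
      have := hK.conj_mem k hk g⁻¹
      rwa [inv_inv] at this)
    rw [mul_smul, mul_smul, inv_smul_eq_iff] at h1
    exact h1) with h1 | h1
  · exact h1
  · exfalso
    have hs := h.simple
    obtain ⟨x, hx⟩ := exists_ne (1 : K)
    exact hx (Subtype.ext (h.faith x fun m => (h1 ▸ mem_top m : m ∈ cv M (K : Set H)) x x.2))

/-- `|M : C_M(x)| ≤ |A|` for `x ∈ A`. -/
theorem index_le_card [Finite M] (h : InX H M K T A) {x : H} (hx : x ∈ A) :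
    (cv M ({x} : Set H)).index ≤ Nat.card A := by
  rw [← h.exact]
  exact Nat.le_of_dvd (Nat.pos_of_ne_zero Subgroup.index_ne_zero_of_finite)
    (Subgroup.index_dvd_of_le (cv_anti (Set.singleton_subset_iff.2 hx)))

/-- **`|M| ≤ d^m`.** -/
theorem card_le_pow [Finite M] (h : InX H M K T A) {m d : ℕ} (f : Fin m → H)
    (hf : ∀ i, (cv M ({f i} : Set H)).index ≤ d) (hgen : K ≤ _root_.Subgroup.closure (Set.range f)) : Nat.card M ≤ d ^ m := by
  have h1 := index_le_pow f hf hgen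
  rwa [cv_eq_bot h, index_bot] at h1

/-- **Conjugates of `x`**: `|M| ≤ |M : C_M(x)|^m`. -/
theorem card_le_conj_index [Finite M] (h : InX H M K T A) {m : ℕ} (x : H) (l : Fin m → H)
    (hgen : K ≤ _root_.Subgroup.closure (Set.range fun i => l i * x * (l i)⁻¹)) : Nat.card M ≤ (cv M ({x} : Set H)).index ^ m :=
  card_le_pow h _ (fun i => (InvFrob.index_cv_conj (M := M) (l i) x).le) hgen

/-- **Conjugates of `x ∈ A`**: `|M| ≤ |A|^m`. -/
theorem card_le_conj [Finite M] (h : InX H M K T A) {m : ℕ} {x : H} (hx : x ∈ A) (l : Fin m → H)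
    (hgen : K ≤ _root_.Subgroup.closure (Set.range fun i => l i * x * (l i)⁻¹)) : Nat.card M ≤ Nat.card A ^ m :=
  (card_le_conj_index h x l hgen).trans (Nat.pow_le_pow_left (index_le_card h hx) m)

/-- `K` is generated by `m` conjugates of every involution. -/
theorem card_le_genBy [Finite M] (h : InX H M K T A) {m : ℕ}
    (hg : ∀ x : K, x ≠ 1 → x * x = 1 → ∃ l : Fin m → K, _root_.Subgroup.closure (Set.range fun i => l i * x * (l i)⁻¹) = ⊤)
    {x : H} (hx : x ∈ A) (hxK : x ∈ K) (hx1 : x ≠ 1) :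
    Nat.card M ≤ (cv M ({x} : Set H)).index ^ m ∧ Nat.card M ≤ Nat.card A ^ m := by
  obtain ⟨l, hl⟩ := hg ⟨x, hxK⟩ (fun h1 => hx1 (congrArg Subtype.val h1)) (Subtype.ext (h.el x hx))
  have h3 : K ≤ _root_.Subgroup.closure (Set.range fun i => (l i : H) * x * (l i : H)⁻¹) := by
    have h3 := congrArg (Subgroup.map K.subtype) hl
    rw [MonoidHom.map_closure, ← Set.range_comp, ← MonoidHom.range_eq_map, range_subtype] at h3
    exact le_of_eq h3.symm
  exact ⟨card_le_conj_index h x _ h3, card_le_conj h hx _ h3⟩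

/-- `K` is perfect. -/
theorem perf [Finite H] (h : InX H M K T A) : _root_.commutator K = ⊤ := by
  have hs := h.simple
  have h1 : (_root_.commutator K).Normal := inferInstance
  rcases h1.eq_bot_or_eq_top with h2 | h2
  · exfalso
    -- `K` abelian, so `K ≤ C_H(K) = 1`
    have h3 : K ≤ centralizer (K : Set H) := by
      intro k hk
      rw [mem_centralizer_iff]
      intro l hl
      have h4 : ⁅(⟨l, hl⟩ : K), ⟨k, hk⟩⁆ ∈ (_root_.commutator K) :=
        commutator_mem_commutator (mem_top _) (mem_top _)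
      rw [h2, mem_bot, commutatorElement_eq_one_iff_mul_comm] at h4
      exact congrArg Subtype.val h4
    rw [h.cen, le_bot_iff] at h3
    obtain ⟨x, hx⟩ := exists_ne (1 : K)
    exact hx (Subtype.ext (mem_bot.1 (h3 ▸ x.2 : (x : H) ∈ (⊥ : Subgroup H))))
  · exact h2

/-- **The lower bound `LB`.** -/
theorem lb_le [Finite H] [Finite M] (h : InX H M K T A) {n : ℕ} (hl : Heis.LB.{u, u, v} K n) : 2 ^ n ≤ Nat.card M := by
  let _ : CommGroup M := { ‹Group M› with mul_comm := h.comm }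
  refine hl K (MonoidHom.id K) Function.surjective_id ?_ ?_ (perf h) M h.M_two
    ((MulDistribMulAction.toMulAut H M).comp K.subtype) ?_
  · intro x hx
    have h1 : x = 1 := hx
    rw [h1]
    exact one_mem _
  · have h1 : (MonoidHom.id K).ker = ⊥ := by
      ext x
      simp
    rw [h1, card_bot]
    exact odd_one
  · intro h1
    have hs := h.simple
    obtain ⟨x, hx⟩ := exists_ne (1 : K)
    refine hx (Subtype.ext (h.faith x fun m => ?_))
    exact congrArg (fun e : MulAut M => e m) (DFunLike.congr_fun h1 x)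

/-- An element `u ≠ 1` with `u ^ r = 1`: `2^k ≤ |M : C_M(u)|`. -/
theorem pow_le_index [Finite M] (h : InX H M K T A) {u : H} {r k : ℕ} (hp : r.Prime) (ho : Odd r) (hr : u ^ r = 1)
    (hu : u ≠ 1) (hk : ∀ n : ℕ, 0 < n → r ∣ 2 ^ n - 1 → k ≤ n) : 2 ^ k ≤ (cv M ({u} : Set H)).index := by
  refine InvFrob.ord_index h.sq hp ho hr ?_ hk
  by_contra h1
  push Not at h1
  exact hu (h.faith u h1)

end Cfsg.Agent.Omega.ML.Ex.Gen

end

section


/-!
# Exact atoms: every `a ∈ A#` is one half of an involution of `K` (helper912)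

* `exists_half` : `a² = 1`, `a * a^r ≠ 1` a 2-element: there is `g` with `a * a^g` an involution, a power of `a * a^r`;
* **`ASx.exists_half`** : for `1 ≠ a ∈ A` there are `T ≤ R ≠ ⊤` and `g ∈ R ∩ S` with `a * a^g ∈ O₂(R) ∩ S` an involution;
* **`InX.exists_half`** : so there is an involution `x ∈ K ∩ T` with `|M : C_M(x)| ≤ |M : C_M(a)|² ≤ |A|²`;
* `InX.exists_half_four` : `|A| = 4` : `|M : C_M(x)| ≤ 16`;
* `InX.card_le_half` : `K` is generated by `n` conjugates of every involution ⟹ `|M| ≤ |A|^(2n)`;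
* `InX.false_of_half_lb`, `InX.false_of_half_prime`, `InX.false_of_half_index` : the kills.
-/

set_option autoImplicit false

namespace Cfsg.Agent.Omega.ML.Ex

open Subgroup Cfsg Cfsg.Agent.ZN Cfsg.Agent.Omega.NOThree.NoOver Cfsg.Agent.Omega.ML.CD
open Cfsg.Agent.ClassTwoFusion.Quad Cfsg.Agent.Omega.Lie Cfsg.Agent.Omega.ML
open Cfsg.Agent.MinSimple.VModule (o2_isPGroup o2_le le_o2 le_normalizer_o2)

universe u v

/-- `a * a^r` is a 2-element, not 1: some `a * a^g` is an involution. -/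
theorem exists_half {G : Type*} [Group G] {a : G} (haa : a * a = 1) (Q : Subgroup G) :
    ∀ (k : ℕ) (r : G), r ∈ Q → a * (r * a * r⁻¹) ∈ Q → a * (r * a * r⁻¹) ≠ 1 → (a * (r * a * r⁻¹)) ^ 2 ^ k = 1 →
      ∃ g ∈ Q, a * (g * a * g⁻¹) ≠ 1 ∧ (a * (g * a * g⁻¹)) * (a * (g * a * g⁻¹)) = 1 ∧
        a * (g * a * g⁻¹) ∈ zpowers (a * (r * a * r⁻¹)) := by
  intro k
  induction k with
  | zero =>
    intro r _ _ h1 h2
    exact absurd (by simpa only [_root_.pow_zero, _root_.pow_one] using h2) h1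
  | succ k ih =>
    intro r hr hu h1 h2
    set u := a * (r * a * r⁻¹) with hudef
    have ha : a⁻¹ = a := inv_eq_of_mul_eq_one_left haa
    by_cases h3 : u * u = 1
    · exact ⟨r, hr, h1, h3, mem_zpowers _⟩
    -- `a * a^(u⁻¹) = u²`
    have h4 : a * (u⁻¹ * a * u⁻¹⁻¹) = u * u := by
      have h5 : a * u⁻¹ * a = u := by
        rw [hudef, mul_inv_rev, mul_inv_rev, mul_inv_rev, inv_inv, ha]
        calc a * (r * (a * r⁻¹) * a) * a = a * (r * (a * r⁻¹)) * (a * a) := by group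
          _ = a * (r * a * r⁻¹) := by rw [haa]; group
      calc a * (u⁻¹ * a * u⁻¹⁻¹) = (a * u⁻¹ * a) * u := by group
        _ = u * u := by rw [h5]
    obtain ⟨g, hg, hg1, hg2, hg3⟩ := ih u⁻¹ (inv_mem hu) (by rw [h4]; exact mul_mem hu hu) (by rw [h4]; exact h3)
      (by rw [h4, ← pow_two, ← pow_mul, ← h2, pow_succ, mul_comm])
    refine ⟨g, hg, hg1, hg2, ?_⟩
    rw [h4] at hg3
    exact (zpowers_le.2 (mul_mem (mem_zpowers u) (mem_zpowers u)) : zpowers (u * u) ≤ zpowers u) hg3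

section tools

variable {X : Type u} [Group X] {S T A : Subgroup X}

/-- `R = T (R ∩ S)` -/
theorem ASx.le_sup_inf (h : ASx S T A) {R : Subgroup X} (hT : T ≤ R) : R ≤ T ⊔ (R ⊓ S) := by
  have hn := h.norm
  intro r hr
  have h1 : r ∈ S ⊔ T := h.gen ▸ mem_top r
  obtain ⟨s, hs, t, ht, rfl⟩ := mem_sup_of_normal_left.1 h1
  have h2 : s ∈ R := by
    have := mul_mem hr (inv_mem (hT ht))
    rwa [mul_inv_cancel_right] at this
  exact mul_mem (mem_sup_right ⟨h2, hs⟩) (mem_sup_left ht)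

/-- **Every `a ∈ A#` is one half of an involution of `S`.** -/
theorem ASx.exists_half [Finite X] (h : ASx S T A) {a : X} (ha : a ∈ A) (ha1 : a ≠ 1) :
    ∃ R : Subgroup X, T ≤ R ∧ R ≠ ⊤ ∧ ∃ g ∈ R ⊓ S, a * (g * a * g⁻¹) ∈ o2 R ⊓ S ∧ a * (g * a * g⁻¹) ≠ 1 ∧
      (a * (g * a * g⁻¹)) * (a * (g * a * g⁻¹)) = 1 := by
  have hn := h.norm
  have haa := h.el a ha
  have hainv : a⁻¹ = a := inv_eq_of_mul_eq_one_left haa
  by_contra hcon
  -- `R ∩ S` centralises `a`
  have h1 : ∀ R : Subgroup X, T ≤ R → R ≠ ⊤ → ∀ r ∈ R ⊓ S, r * a = a * r := by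
    intro R hTR hR r hr
    by_contra h2
    have hle := le_normalizer_o2 R
    have haO := h.low R hTR hR ha
    have h3 : a * (r * a * r⁻¹) ∈ o2 R := mul_mem haO ((mem_normalizer_iff.1 (hle hr.1) a).1 haO)
    have h4 : a * (r * a * r⁻¹) ∈ S := by
      have h5 : a * (r * a * r⁻¹) = (a * r * a⁻¹) * r⁻¹ := by rw [hainv]; group
      rw [h5]
      exact mul_mem (hn.conj_mem r hr.2 a) (inv_mem hr.2)
    have h5 : a * (r * a * r⁻¹) ≠ 1 := by
      intro h6
      apply h2
      have h7 : r * a * r⁻¹ = a⁻¹ := (inv_eq_of_mul_eq_one_right h6).symm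
      rw [hainv, mul_inv_eq_iff_eq_mul] at h7
      exact h7
    obtain ⟨k, hk⟩ := o2_isPGroup R ⟨_, h3⟩
    obtain ⟨g, hg, hg1, hg2, hg3⟩ := Ex.exists_half haa (R ⊓ S) k r hr ⟨o2_le R h3, h4⟩ h5
      (congrArg Subtype.val hk)
    exact hcon ⟨R, hTR, hR, g, hg,
      (zpowers_le.2 (⟨h3, h4⟩ : a * (r * a * r⁻¹) ∈ o2 R ⊓ S)) hg3, hg1, hg2⟩
  -- the largest `T`-invariant subgroup of `C_S(a)`
  let C : Subgroup X := S ⊓ centralizer {x | ∃ t ∈ T, x = t * a * t⁻¹}
  have hTC : T ≤ normalizer (C : Set X) := by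
    have h2 : ∀ t ∈ T, ∀ c ∈ C, t * c * t⁻¹ ∈ C := by
      rintro t ht c ⟨hc, hc'⟩
      refine ⟨hn.conj_mem c hc t, mem_centralizer_iff.2 ?_⟩
      rintro _ ⟨s, hs, rfl⟩
      have h3 := mem_centralizer_iff.1 hc' (t⁻¹ * s * a * (t⁻¹ * s)⁻¹) ⟨t⁻¹ * s, mul_mem (inv_mem ht) hs, rfl⟩
      have h4 : t * (t⁻¹ * s * a * (t⁻¹ * s)⁻¹ * c) * t⁻¹ = t * (c * (t⁻¹ * s * a * (t⁻¹ * s)⁻¹)) * t⁻¹ := by
        rw [h3]
      calc s * a * s⁻¹ * (t * c * t⁻¹) = t * (t⁻¹ * s * a * (t⁻¹ * s)⁻¹ * c) * t⁻¹ := by group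
        _ = t * (c * (t⁻¹ * s * a * (t⁻¹ * s)⁻¹)) * t⁻¹ := h4
        _ = t * c * t⁻¹ * (s * a * s⁻¹) := by group
    intro t ht
    refine mem_normalizer_iff.2 fun c => ⟨h2 t ht c, fun h3 => ?_⟩
    have h4 := h2 t⁻¹ (inv_mem ht) _ h3
    have h5 : t⁻¹ * (t * c * t⁻¹) * t⁻¹⁻¹ = c := by group
    rwa [h5] at h4
  have hRC : ∀ R : Subgroup X, T ≤ R → R ≠ ⊤ → R ⊓ S ≤ C := by
    rintro R hTR hR s hs
    refine ⟨hs.2, mem_centralizer_iff.2 ?_⟩
    rintro _ ⟨t, ht, rfl⟩
    have h2 := h1 R hTR hR (t⁻¹ * s * t) ⟨R.mul_mem (R.mul_mem (R.inv_mem (hTR ht)) hs.1) (hTR ht), by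
      have := hn.conj_mem s hs.2 t⁻¹
      rwa [inv_inv] at this⟩
    calc t * a * t⁻¹ * s = t * (a * (t⁻¹ * s * t)) * t⁻¹ := by group
      _ = t * (t⁻¹ * s * t * a) * t⁻¹ := by rw [h2]
      _ = s * (t * a * t⁻¹) := by group
  have hTt := h.ne_top
  have htop : T ⊔ C = ⊤ := by
    by_contra h2
    exact h.nmax ⟨T ⊔ C, h2, fun R hTR hR => (h.le_sup_inf hTR).trans (sup_le_sup_left (hRC R hTR hR) T)⟩
  have hCn : C.Normal := by
    rw [← normalizer_eq_top_iff, eq_top_iff, ← htop]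
    exact sup_le hTC le_normalizer
  have hsim := h.simple
  have hCS : (C.subgroupOf S).Normal := inferInstance
  rcases hsim.eq_bot_or_eq_top_of_normal _ hCS with h2 | h2
  · have h3 : C = ⊥ := by
      rw [subgroupOf_eq_bot, disjoint_iff] at h2
      rw [← h2]
      exact (inf_eq_left.2 inf_le_left).symm
    rw [h3, sup_bot_eq] at htop
    exact hTt htop
  · have h3 : S ≤ C := subgroupOf_eq_top.1 h2
    have h4 : a ∈ centralizer (S : Set X) := mem_centralizer_iff.2 fun s hs => by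
      have h5 := mem_centralizer_iff.1 (h3 hs).2 (1 * a * 1⁻¹) ⟨1, one_mem _, rfl⟩
      rw [one_mul, inv_one, mul_one] at h5
      exact h5.symm
    rw [h.cen] at h4
    exact ha1 (mem_bot.1 h4)

end tools

section module

variable {H : Type u} [Group H] {M : Type v} [Group M] [MulDistribMulAction H M] {K T A : Subgroup H}

/-- **For `a ∈ A#` there is an involution `x ∈ K ∩ T` with `|M : C_M(x)| ≤ |M : C_M(a)|²`.** -/
theorem InX.exists_half [Finite H] [Finite M] (h : InX H M K T A) {a : H} (ha : a ∈ A) (ha1 : a ≠ 1) :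
    ∃ R : Subgroup H, T ≤ R ∧ R ≠ ⊤ ∧ ∃ x ∈ o2 R ⊓ K, x ≠ 1 ∧ x * x = 1 ∧
      (cv M ({x} : Set H)).index ≤ (cv M ({a} : Set H)).index ^ 2 := by
  obtain ⟨R, hTR, hR, g, hg, h1, h2, h3⟩ := h.asx.exists_half ha ha1
  refine ⟨R, hTR, hR, _, h1, h2, h3, ?_⟩
  have h4 : cv M ({a} : Set H) ⊓ cv M ({g * a * g⁻¹} : Set H) ≤ cv M ({a * (g * a * g⁻¹)} : Set H) := by
    rintro m ⟨hm1, hm2⟩
    rintro x rfl
    have e1 : a • m = m := hm1 a rfl
    have e2 : (g * a * g⁻¹) • m = m := hm2 _ rfl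
    rw [mul_smul, e2, e1]
  have h5 := Nat.le_of_dvd (Nat.pos_of_ne_zero index_ne_zero_of_finite) (index_dvd_of_le h4)
  refine h5.trans (index_inf_le.trans ?_)
  rw [InvFrob.index_cv_conj (M := M) g a, pow_two]

end module

end Cfsg.Agent.Omega.ML.Ex

end

section


/-!
# The parity lemma

`M` an elementary abelian 2-group, `K` a set of operators, `S₀ ≤ M` simple for `K`: the number of submodules of `M`
which are isomorphic to `S₀` is odd.

(`|Hom_K(S₀, M) \ 0|` is odd, and so is every fibre `|Hom_K(S₀, S) \ 0|` of `f ↦ f(S₀)`.)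
-/

set_option autoImplicit false

namespace Cfsg.Agent.Omega.ML.Ex.IrrPar

open Subgroup

universe u v

variable {H : Type u} [Group H] {M : Type v} [Group M] [MulDistribMulAction H M]

theorem comm_of_sq (sq : ∀ m : M, m * m = 1) (x y : M) : x * y = y * x := by
  have hinv : ∀ m : M, m⁻¹ = m := fun m => inv_eq_of_mul_eq_one_right (sq m)
  calc x * y = (x * y)⁻¹ := (hinv _).symm
    _ = y⁻¹ * x⁻¹ := mul_inv_rev _ _
    _ = y * x := by rw [hinv, hinv]

/-- `Hom_K(S₀, L)` -/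
def HK (sq : ∀ m : M, m * m = 1) (K : Set H) (S₀ L : Subgroup M) : Subgroup (S₀ → M) where
  carrier := {f | (∀ s t, f (s * t) = f s * f t) ∧
    (∀ k ∈ K, ∀ s s' : S₀, (s' : M) = k • (s : M) → f s' = k • f s) ∧ ∀ s, f s ∈ L}
  one_mem' := ⟨fun _ _ => (mul_one 1).symm, fun k _ _ _ _ => (smul_one k).symm, fun _ => L.one_mem⟩
  mul_mem' := by
    rintro f g ⟨f1, f2, f3⟩ ⟨g1, g2, g3⟩
    refine ⟨fun s t => ?_, fun k hk s s' h => ?_, fun s => L.mul_mem (f3 s) (g3 s)⟩
    · rw [Pi.mul_apply, Pi.mul_apply, Pi.mul_apply, f1, g1, mul_assoc, mul_assoc, ← mul_assoc (f t),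
        ← mul_assoc (g s), comm_of_sq sq (f t) (g s)]
    · rw [Pi.mul_apply, Pi.mul_apply, f2 k hk s s' h, g2 k hk s s' h, smul_mul']
  inv_mem' := by
    rintro f ⟨f1, f2, f3⟩
    refine ⟨fun s t => ?_, fun k hk s s' h => ?_, fun s => L.inv_mem (f3 s)⟩
    · rw [Pi.inv_apply, Pi.inv_apply, Pi.inv_apply, f1, mul_inv_rev, comm_of_sq sq]
    · rw [Pi.inv_apply, Pi.inv_apply, f2 k hk s s' h, smul_inv']

variable {sq : ∀ m : M, m * m = 1} {K : Set H} {S₀ L : Subgroup M}

end Cfsg.Agent.Omega.ML.Ex.IrrPar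

end

end

-- merged: Cfsg.Agent.Mrg.Omega.TwoF.TitsInv
section

/-!
# The Tits group: the involutions of `5² : 4A₄` on modules (helper956)

`K ≅ ²F₄(2)′`, `E = ⟨a, b⟩ = 5²`, `t` of order 4, `e^t = e²` on `E`; `x 1` interchanges `a` and `b`, `x 2` has order 3 and
commutes with `t`.

* `index_grp` : `2^24 ≤ |V : C_V(E)|` for every faithful action on an elementary abelian 2-group `V`;
* **`InvB K`** : two involutions `u₁` (commuting with an element of order 5), `u₂` (commuting with an element of order 3)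
  with `|V : C_V(u_i)| ≥ 2^6` for every nontrivial `V`;
* `invB` : `InvB K` for `IsoTits K`.
-/

set_option autoImplicit false
set_option maxRecDepth 100000

namespace Cfsg.Agent.Omega.TwoF.TitsInv

open Subgroup Cfsg.Agent.Omega.TwoF.Orb Cfsg.Agent.Omega.TwoF.Scalar
open Cfsg.Agent.ClassTwoFusion.Quad Cfsg.Agent.Omega.ML

universe u v w

section abs

variable {K : Type*} [Group K] {a b t : K}

/-- **`2^24 ≤ |V : C_V(E)|`** -/
theorem index_grp (h : Two a b) {x : Fin 6 → K} {n : Fin 6 → ℕ}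
    (hn : ∀ k, n k % 5 ≠ 0) (hg : ∀ k, Good (grp h) t (x k))
    (ha : ∀ k, x k * a * (x k)⁻¹ = (a ^ px k * b ^ qx k) ^ n k) {V : Type*} [CommGroup V] [Finite V]
    (h2 : ∀ v : V, v ^ 2 = 1) (φ : K →* MulAut V) (hE : fx φ (grp h) ≠ ⊤) : 2 ^ 24 ≤ (fx φ (grp h)).index := by
  have : Fact (Nat.Prime 5) := ⟨by norm_num⟩
  have : Fact (Nat.Prime 2) := ⟨Nat.prime_two⟩
  have hV : IsPGroup 2 V := fun x => ⟨1, by rw [pow_one]; exact h2 x⟩
  obtain ⟨H, hH, hi, hne⟩ := (elem_grp h).exists_hyperplane (ℓ := 2) (by norm_num) hV hE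
  obtain ⟨g, hg1, hg2⟩ := points hn hg ha hH hi
  have h3 := (elem_grp h).pow_le_index (ℓ := 2) (by norm_num) hV hH hi hne g (fun i => (hg1 i).1) hg2
  rw [Fintype.card_fin, Nat.cast_ofNat, ord_two, ← pow_mul] at h3
  exact h3

/-- the action of an abstract representation -/
theorem index_cv_eq {V : Type*} [CommGroup V] (φ : K →* MulAut V) (x : K) :
    letI : MulDistribMulAction K V := MulDistribMulAction.compHom V φ
    cv V ({x} : Set K) = fx φ (zpowers x) := by
  let _ : MulDistribMulAction K V := MulDistribMulAction.compHom V φ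
  ext v
  rw [mem_cv_singleton, mem_fx]
  constructor
  · intro h1 y hy
    have h2 : zpowers x ≤ MulAction.stabilizer K v := by
      rw [zpowers_le]
      exact MulAction.mem_stabilizer_iff.2 h1
    exact MulAction.mem_stabilizer_iff.1 (h2 hy)
  · intro h1
    exact h1 x (mem_zpowers x)

/-- **(INV)** for `fx` -/
theorem inv_fx {V : Type*} [CommGroup V] [Finite V] (φ : K →* MulAut V) {x w : K} {n : ℕ} (hx : x * x = 1)
    (hw : x * w * x⁻¹ = w⁻¹) (ho : Odd n) (hn : w ^ n = 1) :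
    (fx φ (zpowers w)).index ≤ (fx φ (zpowers x)).index ^ 2 := by
  let _ : MulDistribMulAction K V := MulDistribMulAction.compHom V φ
  have h1 := InvFrob.inv_index (M := V) hx hw ho hn
  rw [index_cv_eq φ w, index_cv_eq φ x] at h1
  exact h1

theorem conj_fx {V : Type*} [CommGroup V] [Finite V] (φ : K →* MulAut V) (g x : K) :
    (fx φ (zpowers (g * x * g⁻¹))).index = (fx φ (zpowers x)).index := by
  let _ : MulDistribMulAction K V := MulDistribMulAction.compHom V φ
  have h1 := InvFrob.index_cv_conj (M := V) g x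
  rw [index_cv_eq φ (g * x * g⁻¹), index_cv_eq φ x] at h1
  exact h1

/-- `|V : C_V(E)| ≤ |V : C_V(a)| |V : C_V(b)|` -/
theorem index_grp_le (h : Two a b) {V : Type*} [CommGroup V] [Finite V] (φ : K →* MulAut V) :
    (fx φ (grp h)).index ≤ (fx φ (zpowers a)).index * (fx φ (zpowers b)).index := by
  have h1 : fx φ (zpowers a) ⊓ fx φ (zpowers b) ≤ fx φ (grp h) := by
    rw [← fx_sup]
    refine fx_anti ?_
    rintro _ ⟨i, j, rfl⟩
    exact mul_mem (pow_mem (mem_sup_left (mem_zpowers a)) _) (pow_mem (mem_sup_right (mem_zpowers b)) _)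
  calc (fx φ (grp h)).index ≤ (fx φ (zpowers a) ⊓ fx φ (zpowers b)).index :=
        Nat.le_of_dvd (Nat.pos_of_ne_zero Subgroup.FiniteIndex.index_ne_zero) (Subgroup.index_dvd_of_le h1)
    _ ≤ _ := Subgroup.index_inf_le

end abs

/-- two involutions with large commutator spaces -/
def InvB (K : Type v) [Group K] : Prop :=
  ∃ u₁ u₂ : K, u₁ * u₁ = 1 ∧ u₂ * u₂ = 1 ∧ u₁ ≠ 1 ∧ u₂ ≠ 1 ∧ (∃ g : K, g ^ 5 = 1 ∧ g ≠ 1 ∧ g * u₁ = u₁ * g) ∧
    (∃ g : K, g ^ 3 = 1 ∧ g ≠ 1 ∧ g * u₂ = u₂ * g) ∧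
    ∀ (V : Type w) [CommGroup V] [Finite V] (φ : K →* MulAut V), (∀ v : V, v ^ 2 = 1) → φ ≠ 1 →
      2 ^ 6 ≤ (fx φ (zpowers u₁)).index ∧ 2 ^ 6 ≤ (fx φ (zpowers u₂)).index

theorem InvB.equiv {K : Type u} {K' : Type v} [Group K] [Group K'] (e : K ≃* K') (h : InvB.{u, w} K) :
    InvB.{v, w} K' := by
  obtain ⟨u₁, u₂, h1, h2, h3, h4, ⟨g, h5, h6, h7⟩, ⟨g', h8, h9, h10⟩, H⟩ := h
  refine ⟨e u₁, e u₂, by rw [← map_mul, h1, map_one], by rw [← map_mul, h2, map_one], ?_, ?_,
    ⟨e g, by rw [← map_pow, h5, map_one], ?_, by rw [← map_mul, h7, map_mul]⟩,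
    ⟨e g', by rw [← map_pow, h8, map_one], ?_, by rw [← map_mul, h10, map_mul]⟩, ?_⟩
  · intro hc; exact h3 (e.injective (hc.trans (map_one e).symm))
  · intro hc; exact h4 (e.injective (hc.trans (map_one e).symm))
  · intro hc; exact h6 (e.injective (hc.trans (map_one e).symm))
  · intro hc; exact h9 (e.injective (hc.trans (map_one e).symm))
  intro V _ _ φ hV hφ
  have h11 : φ.comp e.toMonoidHom ≠ 1 := by
    intro hc
    apply hφ
    ext k v
    have h12 := DFunLike.congr_fun hc (e.symm k)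
    have h13 : φ (e (e.symm k)) = 1 := h12
    rw [e.apply_symm_apply] at h13
    rw [h13]
    rfl
  have h12 := H V (φ.comp e.toMonoidHom) hV h11
  have h13 : ∀ x : K, fx (φ.comp e.toMonoidHom) (zpowers x) = fx φ (zpowers (e x)) := by
    intro x
    ext v
    rw [mem_fx, mem_fx]
    constructor
    · rintro h14 _ ⟨n, rfl⟩
      have h15 := h14 (x ^ n) ⟨n, rfl⟩
      have h16 : φ (e (x ^ n)) v = v := h15
      rw [map_zpow] at h16
      exact h16
    · rintro h14 _ ⟨n, rfl⟩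
      have h15 := h14 (e x ^ n) ⟨n, rfl⟩
      show φ (e (x ^ n)) v = v
      rw [map_zpow]
      exact h15
  rw [h13, h13] at h12
  exact h12

open Cfsg.Agent.ChevalleyStructure.Tits.Pack Cfsg.Agent.ChevalleyStructure.Tits.Data
  Cfsg.Agent.ChevalleyStructure.Tits.Sat Cfsg.Agent.ChevalleyStructure.Tits.Final
  Cfsg.Agent.ChevalleyStructure.Tits.Mat Cfsg.Agent.ChevalleyStructure.Tits.Order
  Cfsg.Agent.ChevalleyStructure.Tits.Main Cfsg.Agent.Omega.TwoF.Tits
open scoped MatrixGroups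

theorem t4 : t ^ 4 = 1 := by
  apply Subtype.ext
  have h : ((t ^ 4 : C) : H0) = wH (List.replicate 4 wt).flatten := by rw [wH_rep]; rfl
  rw [h]
  exact rel (v := []) (by decide +kernel)

theorem x1_sq : x 1 * x 1 = 1 := by
  apply Subtype.ext
  show wH (wx 1) * wH (wx 1) = _
  rw [← wH_append]
  exact rel (v := []) (by decide +kernel)

theorem x2_cube : x 2 ^ 3 = 1 := by
  apply Subtype.ext
  have h : ((x 2 ^ 3 : C) : H0) = wH (List.replicate 3 (wx 2)).flatten := by rw [wH_rep]; rfl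
  rw [h]
  exact rel (v := []) (by decide +kernel)

theorem x1_a : x 1 * a * (x 1)⁻¹ = b := by
  rw [x_a]
  show a ^ 0 * b ^ 1 = b
  rw [pow_zero, one_mul, pow_one]

theorem x1_b : x 1 * b * (x 1)⁻¹ = a := by
  rw [x_b]
  show a ^ 1 * b ^ 0 = a
  rw [pow_zero, mul_one, pow_one]

theorem x2_t : x 2 * t = t * x 2 := by
  have h := x_t 2
  have h1 : pe 2 = 0 := rfl
  rw [h1, pow_zero, pow_zero, mul_one, mul_one] at h
  rw [mul_assoc, inv_mul_eq_iff_eq_mul] at h
  exact h.symm

theorem x2_ne : x 2 ≠ 1 := by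
  intro h
  have h1 := x_a 2
  rw [h, one_mul, inv_one, mul_one] at h1
  have h2 : a ^ 1 * b ^ 0 = a ^ 1 * b ^ 1 := by
    rw [pow_one, pow_zero, mul_one, pow_one]
    exact h1.trans (by show a ^ 1 * b ^ 1 = a * b; rw [pow_one, pow_one])
  have h3 := (two.eq_iff 1 0 1 1).1 h2
  omega

theorem a_ne : a ≠ 1 := a1

theorem inv_of_pow {w : C} (h5 : w ^ 5 = 1) : w ^ 4 = w⁻¹ := by
  rw [eq_inv_iff_mul_eq_one, ← pow_succ]
  exact h5

theorem tt_a : (t * t) * a * (t * t)⁻¹ = a⁻¹ := by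
  have h1 : (t * t) * a * (t * t)⁻¹ = t * (t * a * t⁻¹) * t⁻¹ := by group
  have h2 : t * a ^ 2 * t⁻¹ = (t * a * t⁻¹) ^ 2 := by rw [conj_pow]
  rw [h1, ta, h2, ta, ← pow_mul]
  exact inv_of_pow a5

theorem tt_sq : (t * t) * (t * t) = 1 := by
  calc (t * t) * (t * t) = t ^ 2 * t ^ 2 := by rw [pow_two]
    _ = t ^ (2 + 2) := (pow_add t 2 2).symm
    _ = 1 := t4

theorem tt_ne : t * t ≠ 1 := by
  intro h
  have h1 := tt_a
  rw [h, one_mul, inv_one, mul_one] at h1
  have h2 : a ^ 2 * b ^ 0 = a ^ 0 * b ^ 0 := by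
    rw [pow_zero, mul_one, pow_zero, mul_one, pow_two]
    nth_rewrite 1 [h1]
    rw [inv_mul_cancel]
  have h3 := (two.eq_iff 2 0 0 0).1 h2
  omega

theorem x1_ne : x 1 ≠ 1 := by
  intro h
  have h1 := x1_a
  rw [h, one_mul, inv_one, mul_one] at h1
  exact b1 (h1 ▸ mem_zpowers _)

theorem x1_c : x 1 * (a * b) = (a * b) * x 1 := by
  have h1 : x 1 * (a * b) * (x 1)⁻¹ = (x 1 * a * (x 1)⁻¹) * (x 1 * b * (x 1)⁻¹) := by group
  rw [x1_a, x1_b, ← comm_ab] at h1
  rwa [mul_inv_eq_iff_eq_mul] at h1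

theorem ab_ne : a * b ≠ 1 := by
  intro h
  have h2 : a ^ 1 * b ^ 1 = a ^ 0 * b ^ 0 := by rw [pow_one, pow_one, pow_zero, pow_zero, mul_one, h]
  have h3 := (two.eq_iff 1 1 0 0).1 h2
  omega

theorem ab_pow : (a * b) ^ 5 = 1 := by
  have h1 := (elem_grp two).pow (a ^ 1 * b ^ 1) ⟨1, 1, rfl⟩
  rwa [pow_one, pow_one] at h1

/-- `x 1` inverts `a b⁻¹ = x 5 a (x 5)⁻¹` -/
theorem x1_inv : x 1 * (x 5 * a * (x 5)⁻¹) * (x 1)⁻¹ = (x 5 * a * (x 5)⁻¹)⁻¹ := by
  have h1 : x 5 * a * (x 5)⁻¹ = a * b⁻¹ := by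
    rw [x_a]
    show a ^ 1 * b ^ 4 = a * b⁻¹
    rw [pow_one, inv_of_pow b5]
  have h2 : x 1 * (a * b⁻¹) * (x 1)⁻¹ = (x 1 * a * (x 1)⁻¹) * (x 1 * b * (x 1)⁻¹)⁻¹ := by group
  rw [h1, h2, x1_a, x1_b]
  group

theorem invB_C : InvB.{0, w} C := by
  have hsim : IsSimpleGroup C := H0_result.2.1
  refine ⟨x 1, t * t, x1_sq, tt_sq, x1_ne, tt_ne, ⟨a * b, ab_pow, ab_ne, x1_c.symm⟩,
    ⟨x 2, x2_cube, x2_ne, ?_⟩, ?_⟩
  · rw [← mul_assoc, x2_t, mul_assoc, x2_t, mul_assoc]
  intro V _ _ φ hV hφ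
  have hker : φ.ker = ⊥ := by
    rcases hsim.eq_bot_or_eq_top_of_normal φ.ker inferInstance with h1 | h1
    · exact h1
    · exfalso
      apply hφ
      ext k v
      have h2 : k ∈ φ.ker := h1 ▸ mem_top k
      rw [MonoidHom.mem_ker.1 h2]
      rfl
  have hE : fx φ (grp two) ≠ ⊤ := by
    intro htop
    apply a_ne
    have h1 : a ∈ φ.ker := by
      rw [MonoidHom.mem_ker]
      ext v
      have h2 : v ∈ fx φ (grp two) := htop ▸ mem_top v
      have h3 := mem_fx.1 h2 a ⟨1, 0, by rw [pow_one, pow_zero, mul_one]⟩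
      rw [h3]
      rfl
    rw [hker] at h1
    exact mem_bot.1 h1
  have h24 := index_grp two (n := fun _ => 1) (fun _ => by decide) good (fun k => by rw [pow_one]; exact x_a k) hV φ hE
  have hle := h24.trans (index_grp_le two φ)
  have hodd : Odd 5 := by decide
  -- `b` is a conjugate of `a`
  have hb : (fx φ (zpowers b)).index = (fx φ (zpowers a)).index := by
    rw [← x1_a]
    exact conj_fx φ (x 1) a
  rw [hb] at hle
  have key : ∀ n : ℕ, (fx φ (zpowers a)).index ≤ n ^ 2 → 2 ^ 6 ≤ n := by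
    intro n hn
    by_contra hc
    push Not at hc
    have h1 : n ^ 2 < (2 ^ 6) ^ 2 := Nat.pow_lt_pow_left hc (by norm_num)
    have h2 : (fx φ (zpowers a)).index < 2 ^ 12 := by
      refine lt_of_le_of_lt hn (lt_of_lt_of_eq h1 (by norm_num))
    have h3 : (fx φ (zpowers a)).index * (fx φ (zpowers a)).index < 2 ^ 12 * 2 ^ 12 :=
      Nat.mul_lt_mul'' h2 h2
    have h4 : (2 : ℕ) ^ 12 * 2 ^ 12 = 2 ^ 24 := by norm_num
    omega
  constructor
  · apply key
    have h1 := inv_fx φ x1_sq x1_inv hodd (by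
      rw [conj_pow, a5, mul_one, mul_inv_cancel])
    rwa [conj_fx] at h1
  · exact key _ (inv_fx φ tt_sq tt_a hodd a5)

theorem invB_aux (T : Subgroup (GL I52 (ZMod 2))) (hT : T = H0) : InvB.{0, w} (commutator T) := by
  subst hT
  exact invB_C

theorem invB_of {G : Type*} {K : Type v} [Group G] [Group K] (T : Subgroup G) (h : InvB.{_, w} (commutator T))
    (e : K ≃* commutator T) : InvB.{v, w} K := h.equiv e.symm

/-- **the Tits group** -/
theorem invB {K : Type v} [Group K] (h : Cfsg.Lie.IsoTits K) : InvB.{v, w} K := by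
  obtain ⟨T, hT, ⟨e⟩⟩ := TitsAut.exists_equiv h
  exact invB_of T (invB_aux T hT) e

end Cfsg.Agent.Omega.TwoF.TitsInv

end

-- merged: Cfsg.Agent.Mrg.Omega.ML.Ex.RowTitsX
section

section


/-!
# Exact and low configurations: the row of the Tits group (helper956)

`|A| ≤ 2^5`, both classes of involutions `x` of `K` invert elements of `5²` and satisfy `|M : C_M(x)| ≥ 2^6`.
Neither `low` nor `nmax` nor `atom` is used.
-/

set_option autoImplicit false

namespace Cfsg.Agent.Omega.ML.Ex.RowTitsX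

open Subgroup Cfsg Cfsg.Agent.ZN Cfsg.Agent.TitsK Cfsg.Agent.Omega.TwoF Cfsg.Agent.Omega.ML.Rows
open Cfsg.Agent.Omega.TwoF.Orb Cfsg.Agent.TitsK.Abs
open Cfsg.Agent.ClassTwoFusion.Quad

universe u v w

/-- the abstract core: every involution of `H` is conjugate to `u₁` or `u₂` -/
theorem exists_conj {H : Type u} [Group H] {K : Subgroup H} {G : Type v} [Group G] [Finite G] (D : TData G)
    (three : ∀ g ∈ D.H, g ^ 3 = 1 → g * D.z * g⁻¹ = D.z → g = 1)
    (five : ∀ g ∈ D.H, g ^ 5 = 1 → g * D.d * g⁻¹ = D.d → g = 1)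
    {φ : H →* G} (hφ : Function.Injective φ) (hT : ∀ t ∈ D.T, ∃ k ∈ K, φ k = t) (hK : ∀ k ∈ K, φ k ∈ D.T)
    (hH : ∀ x, φ x ∈ D.H) {u₁ u₂ : H} (hu₁ : u₁ ∈ K) (hu₂ : u₂ ∈ K) (h1 : u₁ * u₁ = 1) (h2 : u₂ * u₂ = 1)
    (h3 : u₁ ≠ 1) (h4 : u₂ ≠ 1) (h5 : ∃ g ∈ K, g ^ 5 = 1 ∧ g ≠ 1 ∧ g * u₁ = u₁ * g)
    (h6 : ∃ g ∈ K, g ^ 3 = 1 ∧ g ≠ 1 ∧ g * u₂ = u₂ * g) {x : H} (hx : x * x = 1) (hx1 : x ≠ 1) :
    ∃ g : H, x = g * u₁ * g⁻¹ ∨ x = g * u₂ * g⁻¹ := by
  have hone : ∀ {y : H}, y ≠ 1 → φ y ≠ 1 := fun {y} hy h => hy (hφ (h.trans (map_one φ).symm))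
  -- `φ x ∈ T`
  have hxT : φ x ∈ D.T := by
    have hp : IsPGroup 2 ↥(zpowers (φ x)) := by
      have h7 : (φ x) ^ 2 = 1 := by rw [pow_two, ← map_mul, hx, map_one]
      have : Fact (Nat.Prime 2) := ⟨Nat.prime_two⟩
      have ho : orderOf (φ x) = 2 := orderOf_eq_prime h7 (hone hx1)
      exact IsPGroup.of_card (n := 1) (by rw [Nat.card_zpowers, ho, pow_one])
    obtain ⟨g, hg, h⟩ := exists_conj_sub D.U_le D.isPGroup_U D.odd_U
      (zpowers_le.2 (hH x) : zpowers (φ x) ≤ D.H) hp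
    have h7 := h (φ x) (mem_zpowers _)
    have h8 : g * φ x * g⁻¹ * (g * φ x * g⁻¹) = 1 := by
      have e : g * φ x * g⁻¹ * (g * φ x * g⁻¹) = g * (φ x * φ x) * g⁻¹ := by group
      rw [e, ← map_mul, hx, map_one]
      group
    have h9 := D.no_outer _ h7 h8
    have h10 := D.T_conj g⁻¹ (inv_mem hg) _ h9
    have e : g⁻¹ * (g * φ x * g⁻¹) * g⁻¹⁻¹ = φ x := by group
    rwa [e] at h10
  have hsq : ∀ {y : H}, y * y = 1 → φ y * φ y = 1 := fun {y} hy => by rw [← map_mul, hy, map_one]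
  -- `u₁ ~ z`
  have hz : ∃ t ∈ D.T, t * φ u₁ * t⁻¹ = D.z := by
    rcases D.invol_cases (hK _ hu₁) (hsq h1) (hone h3) with h | ⟨t, ht, h⟩
    · exact h
    · exfalso
      obtain ⟨g, -, hg5, hg1, hgu⟩ := h5
      have h7 := five (t * φ g * t⁻¹) (D.H.mul_mem (D.H.mul_mem (D.T_le ht) (hH g)) (D.H.inv_mem (D.T_le ht)))
        (by rw [conj_pow, ← map_pow, hg5, map_one]; group) (by
          rw [← h]
          have e1 : φ g * φ u₁ = φ u₁ * φ g := by rw [← map_mul, hgu, map_mul]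
          calc t * φ g * t⁻¹ * (t * φ u₁ * t⁻¹) * (t * φ g * t⁻¹)⁻¹ = t * (φ g * φ u₁) * (φ g)⁻¹ * t⁻¹ := by group
            _ = t * φ u₁ * t⁻¹ := by rw [e1]; group)
      apply hone hg1
      have e : φ g = t⁻¹ * (t * φ g * t⁻¹) * t := by group
      rw [e, h7]
      group
  -- `u₂ ~ d`
  have hd : ∃ t ∈ D.T, t * φ u₂ * t⁻¹ = D.d := by
    rcases D.invol_cases (hK _ hu₂) (hsq h2) (hone h4) with ⟨t, ht, h⟩ | h
    · exfalso
      obtain ⟨g, -, hg5, hg1, hgu⟩ := h6
      have h7 := three (t * φ g * t⁻¹) (D.H.mul_mem (D.H.mul_mem (D.T_le ht) (hH g)) (D.H.inv_mem (D.T_le ht)))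
        (by rw [conj_pow, ← map_pow, hg5, map_one]; group) (by
          rw [← h]
          have e1 : φ g * φ u₂ = φ u₂ * φ g := by rw [← map_mul, hgu, map_mul]
          calc t * φ g * t⁻¹ * (t * φ u₂ * t⁻¹) * (t * φ g * t⁻¹)⁻¹ = t * (φ g * φ u₂) * (φ g)⁻¹ * t⁻¹ := by group
            _ = t * φ u₂ * t⁻¹ := by rw [e1]; group)
      apply hone hg1
      have e : φ g = t⁻¹ * (t * φ g * t⁻¹) * t := by group
      rw [e, h7]
      group
    · exact h
  have key : ∀ {u : H} {y : G}, (∃ t ∈ D.T, t * φ u * t⁻¹ = y) → (∃ t ∈ D.T, t * φ x * t⁻¹ = y) →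
      ∃ g : H, x = g * u * g⁻¹ := by
    rintro u y ⟨t, ht, h7⟩ ⟨s, hs, h8⟩
    obtain ⟨k, -, hk⟩ := hT _ (D.T.mul_mem (D.T.inv_mem hs) ht)
    refine ⟨k, hφ ?_⟩
    rw [map_mul, map_mul, map_inv, hk]
    have e : φ x = s⁻¹ * (s * φ x * s⁻¹) * s := by group
    rw [e, h8, ← h7]
    group
  rcases D.invol_cases hxT (hsq hx) (hone hx1) with h | h
  · obtain ⟨g, hg⟩ := key hz h
    exact ⟨g, Or.inl hg⟩
  · obtain ⟨g, hg⟩ := key hd h
    exact ⟨g, Or.inr hg⟩

/-- **The row of the Tits group.** -/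
theorem deadX : DeadX.{u, v} @Lie.IsoTits := by
  intro H _ _ M _ _ _ K T A h hS
  have hn := h.norm
  have hsim := h.simple
  have hA : Nat.card A ≤ 2 ^ 5 := h.asx.card_le_of_rk (RowTool.toRK (TitsAut.center_iso hS) (rk_five hS))
  -- the two involutions
  obtain ⟨u₁, u₂, h1, h2, h3, h4, ⟨g₅, h5, h6, h7⟩, ⟨g₃, h8, h9, h10⟩, hB⟩ := TitsInv.invB.{u, v} hS
  -- the action
  let _ : CommGroup M := { ‹Group M› with mul_comm := h.comm }
  let φ : K →* MulAut M := (MulDistribMulAction.toMulAut H M).comp K.subtype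
  have hφ : φ ≠ 1 := by
    intro hc
    obtain ⟨x, hx⟩ := exists_ne (1 : K)
    refine hx (Subtype.ext (h.faith x fun m => ?_))
    exact congrArg (fun e : MulAut M => e m) (DFunLike.congr_fun hc x)
  obtain ⟨hb1, hb2⟩ := hB M φ (fun m => by rw [pow_two]; exact h.sq m) hφ
  have hfx : ∀ x : K, fx φ (zpowers x) = cv M ({(x : H)} : Set H) := by
    intro x
    ext m
    rw [mem_fx, mem_cv_singleton]
    constructor
    · intro hm
      exact hm x (mem_zpowers x)
    · intro hm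
      have hz : zpowers (x : H) ≤ MulAction.stabilizer H m := by
        rw [zpowers_le]
        exact MulAction.mem_stabilizer_iff.2 hm
      rintro _ ⟨n, rfl⟩
      show ((x ^ n : K) : H) • m = m
      have h11 : ((x ^ n : K) : H) ∈ zpowers (x : H) := ⟨n, rfl⟩
      exact MulAction.mem_stabilizer_iff.1 (hz h11)
  rw [hfx] at hb1 hb2
  -- an involution of `A`
  obtain ⟨x, hxA, hx1⟩ : ∃ x ∈ A, x ≠ 1 := by
    by_contra hc
    push Not at hc
    exact h.A_ne_bot ((eq_bot_iff_forall _).2 hc)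
  -- the embedding
  obtain ⟨e⟩ := hS
  obtain ⟨e'⟩ := TitsK.exists_equiv
  have e₀ : ↥K ≃* ↥(tdata.T) := e.trans e'
  obtain ⟨ψ, hψ1, hψ2, hψ3⟩ := RowTits.exists_embed tdata hn e₀ h.cen
  obtain ⟨g, hg⟩ := exists_conj (K := K) tdata (fun g hg h3 hz => three_z hg h3 hz) (fun g hg h5 hd => five_d hg h5 hd)
    hψ1 (fun t ht => ⟨e₀.symm ⟨t, ht⟩, (e₀.symm ⟨t, ht⟩).2, by rw [hψ2, e₀.apply_symm_apply]⟩)
    (fun k hk => by rw [hψ2 ⟨k, hk⟩]; exact (e₀ ⟨k, hk⟩).2) hψ3 (u₁ := (u₁ : H)) (u₂ := (u₂ : H)) u₁.2 u₂.2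
    (by rw [← coe_mul, h1, coe_one]) (by rw [← coe_mul, h2, coe_one])
    (fun hc => h3 (Subtype.ext hc)) (fun hc => h4 (Subtype.ext hc))
    ⟨g₅, g₅.2, by rw [← coe_pow, h5, coe_one], fun hc => h6 (Subtype.ext hc), by rw [← coe_mul, h7, coe_mul]⟩
    ⟨g₃, g₃.2, by rw [← coe_pow, h8, coe_one], fun hc => h9 (Subtype.ext hc), by rw [← coe_mul, h10, coe_mul]⟩
    (h.el x hxA) hx1
  have hle : (cv M ({x} : Set H)).index ≤ 2 ^ 5 := (Gen.index_le_card h hxA).trans hA
  have hge : 2 ^ 6 ≤ (cv M ({x} : Set H)).index := by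
    rcases hg with hg | hg
    · rw [hg, InvFrob.index_cv_conj]
      exact hb1
    · rw [hg, InvFrob.index_cv_conj]
      exact hb2
  omega

end Cfsg.Agent.Omega.ML.Ex.RowTitsX

end

section


/-!
# The K-list for EXACT subgroups: the row `L₂(q)`, `q` odd (helper786)

* `exists_central` : an involution `t ∈ K ∩ Z(T)`;
* `card_le_four_of` : `q` a square: an elementary abelian subgroup of `O₂(C_X(t))` has order at most 4;
* `card_le_four` : the same for all `q ≠ 9` for elementary abelian groups containing `t`;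
* `exists_mem` : in `InX H M K T A` with `K ≅ L₂(q)`: `|A| = 4`, and `A ∩ K` contains an involution;
* **`deadX`** : `DeadX` for `L₂(q)`, `q` odd, `q ≠ 9`, not of Lie type in characteristic 2.
-/

set_option autoImplicit false
set_option linter.unusedSectionVars false
set_option linter.unusedSimpArgs false

namespace Cfsg.Agent.Omega.ML.Ex.RowLTwoX

open Subgroup Cfsg Matrix Cfsg.Agent.GH.L2Aut Cfsg.Agent.Lib.SL2Mat Cfsg.Agent.Omega.ML
  Cfsg.Agent.ClassTwoFusion.Quad
open Cfsg.Agent.MinSimple.VModule (o2_isPGroup o2_le le_o2 le_normalizer_o2)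
open Cfsg.Agent.ZN (o2)

universe u v

/-- an involution of `S ∩ Z(T)` -/
theorem exists_central {X : Type*} [Group X] [Finite X] {S T A : Subgroup X} (h : ASx S T A)
    (hev : 2 ∣ Nat.card S) : ∃ t : X, t ∈ T ∧ t ∈ S ∧ (∀ x ∈ T, x * t = t * x) ∧ t * t = 1 ∧ t ≠ 1 := by
  have hS := h.norm
  have : Fact (Nat.Prime 2) := ⟨Nat.prime_two⟩
  have hTS : (T ⊓ S : Subgroup X) ≠ ⊥ := by
    intro h0
    have h1 := SignalizersComponents.PCompCore.relIndex_dvd_index_of_normal_right T S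
    rw [← inf_relIndex_right, h0, relIndex_bot_left] at h1
    exact h.syl (hev.trans h1)
  have hn : ((T ⊓ S).subgroupOf T).Normal := by
    rw [inf_subgroupOf_left]
    exact hS.subgroupOf T
  have hne : (T ⊓ S).subgroupOf T ≠ ⊥ := by
    intro h0
    apply hTS
    rw [← map_subgroupOf_eq_of_le (inf_le_left : T ⊓ S ≤ T), h0, Subgroup.map_bot]
  obtain ⟨t', ht'⟩ : ∃ t' : X, t' ∈ T ⊓ S ∧ (∀ x ∈ T, x * t' = t' * x) ∧ t' ≠ 1 := by
    obtain ⟨v, hv1, hv2, hv3⟩ := GTwoFour.Tools.exists_mem_center_of_normal h.two _ hne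
    refine ⟨v, hv1, fun x hx => ?_, fun h0 => hv3 (Subtype.ext h0)⟩
    exact congrArg Subtype.val (mem_center_iff.1 hv2 ⟨x, hx⟩)
  obtain ⟨ht1, ht2, ht3⟩ := ht'
  obtain ⟨k, hk⟩ := h.two ⟨t', ht1.1⟩
  have hk' : t' ^ 2 ^ k = 1 := congrArg Subtype.val hk
  have hord : 2 ∣ orderOf t' := by
    obtain ⟨j, -, hj⟩ := (Nat.dvd_prime_pow Nat.prime_two).1 (orderOf_dvd_of_pow_eq_one hk')
    rcases Nat.eq_zero_or_pos j with rfl | hj0
    · rw [pow_zero, orderOf_eq_one_iff] at hj
      exact absurd hj ht3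
    · rw [hj]; exact dvd_pow_self 2 hj0.ne'
  obtain ⟨m, hm⟩ := hord
  have hpos : 0 < orderOf t' := orderOf_pos t'
  refine ⟨t' ^ m, pow_mem ht1.1 m, pow_mem ht1.2 m, fun x hx => ?_, ?_, ?_⟩
  · exact (show Commute x t' from ht2 x hx).pow_right m
  · rw [← pow_add, ← two_mul, ← hm, pow_orderOf_eq_one]
  · intro h0
    have := Nat.le_of_dvd (by omega) (orderOf_dvd_of_pow_eq_one h0)
    omega

theorem centralizer_ne_top {X : Type*} [Group X] {S : Subgroup X} (hcen : centralizer (S : Set X) = ⊥) {t : X}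
    (ht1 : t ≠ 1) : centralizer ({t} : Set X) ≠ ⊤ := by
  intro h0
  apply ht1
  have h1 : t ∈ centralizer (S : Set X) := by
    rw [mem_centralizer_iff]
    intro y _
    have : y ∈ centralizer ({t} : Set X) := by rw [h0]; exact mem_top y
    exact mem_centralizer_singleton_iff.1 this
  rwa [hcen, mem_bot] at h1

/-- **`S ≅ PSL₂(F)`, `-1` a square, `r` an odd divisor of `|F| - 1`** -/
theorem card_le_four_of {X : Type*} [Group X] [Finite X] {S A : Subgroup X} (hS : S.Normal)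
    (hcen : centralizer (S : Set X) = ⊥) {F : Type*} [Field F] [Finite F] (R : GH.L2Aut.Rep F S) {i : Fˣ}
    (hi : (i : F) * i = -1) {z : Fˣ} {r : ℕ} (hr : Odd r) (hzr : z ^ r = 1) (hz : z ≠ 1) {t : X} (htS : t ∈ S)
    (htt : t * t = 1) (ht1' : t ≠ 1) (hAR : A ≤ o2 (centralizer ({t} : Set X))) (hel : ∀ a ∈ A, a * a = 1) :
    Nat.card A ≤ 4 := by
  obtain ⟨g, hg⟩ := R.inv_conj (RowLTwoOdd.pi_dg_sq R hi) (RowLTwoOdd.pi_dg_ne R hi) (t := (⟨t, htS⟩ : S))
    (Subtype.ext htt) (fun h0 => ht1' (congrArg Subtype.val h0))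
  let R' : GH.L2Aut.Rep F S := RowLTwoOdd.conjRep R g
  have hRt : R'.π (RowLTwoOdd.dg i) = (⟨t, htS⟩ : S) := by
    change g * R.π (RowLTwoOdd.dg i) * g⁻¹ = _
    exact hg
  set Q := o2 (centralizer ({t} : Set X)) with hQ
  set c : S := R'.π (RowLTwoOdd.dg z) with hc
  have hct : (c : X) * t = t * c := by
    have h1 := RowLTwoOdd.pi_dg_comm R' z i
    rw [hRt] at h1
    exact congrArg Subtype.val h1
  have hcR : (c : X) ∈ centralizer ({t} : Set X) := mem_centralizer_singleton_iff.2 hct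
  have hcr : c ^ r = 1 := by rw [hc, ← map_pow, RowLTwoOdd.dg_pow, hzr, RowLTwoOdd.dg_one, map_one]
  -- `A` centralises `c`
  have hAc : ∀ a ∈ A, a * (c : X) * a⁻¹ = c := by
    intro a ha
    have haQ : a ∈ Q := hAR ha
    have haR : a ∈ centralizer ({t} : Set X) := o2_le _ haQ
    let k : S := ⟨a * (c : X) * a⁻¹, hS.conj_mem _ c.2 a⟩
    have hkt : k * R'.π (RowLTwoOdd.dg i) = R'.π (RowLTwoOdd.dg i) * k := by
      rw [hRt]
      apply Subtype.ext
      change a * (c : X) * a⁻¹ * t = t * (a * (c : X) * a⁻¹)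
      have h1 : a * t = t * a := mem_centralizer_singleton_iff.1 haR
      have h2 : a⁻¹ * t = t * a⁻¹ := by
        rw [inv_mul_eq_iff_eq_mul, ← mul_assoc, h1, mul_inv_cancel_right]
      calc a * (c : X) * a⁻¹ * t = a * (c : X) * (a⁻¹ * t) := by group
        _ = a * ((c : X) * t) * a⁻¹ := by rw [h2]; group
        _ = a * t * (c : X) * a⁻¹ := by rw [hct]; group
        _ = t * (a * (c : X) * a⁻¹) := by rw [h1]; group
    have hkr : k ^ r = 1 := by
      apply Subtype.ext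
      change (a * (c : X) * a⁻¹) ^ r = 1
      rw [conj_pow]
      have : (c : X) ^ r = 1 := congrArg Subtype.val hcr
      rw [this, mul_one, mul_inv_cancel]
    obtain ⟨μ, hμ⟩ := RowLTwoOdd.exists_dg R' hi hkt hr hkr
    have hkc : Commute k c := by
      rw [hμ]
      exact RowLTwoOdd.pi_dg_comm R' μ z
    have h1 : (k * c⁻¹) ^ r = 1 := by
      rw [(hkc.inv_right).mul_pow, hkr, inv_pow, hcr, inv_one, one_mul]
    have h2 : ((k * c⁻¹ : S) : X) ∈ Q := by
      have h3 : ((k * c⁻¹ : S) : X) = a * ((c : X) * a⁻¹ * (c : X)⁻¹) := by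
        change a * (c : X) * a⁻¹ * (c : X)⁻¹ = _
        group
      rw [h3]
      exact mul_mem haQ ((mem_normalizer_iff.1 (le_normalizer_o2 _ hcR) _).1 (inv_mem haQ))
    obtain ⟨m, hm⟩ := o2_isPGroup (centralizer ({t} : Set X)) ⟨_, h2⟩
    have hm' : ((k * c⁻¹ : S) : X) ^ 2 ^ m = 1 := congrArg Subtype.val hm
    have h4 : ((k * c⁻¹ : S) : X) ^ r = 1 := congrArg Subtype.val h1
    have h5 : orderOf ((k * c⁻¹ : S) : X) ∣ Nat.gcd (2 ^ m) r :=
      Nat.dvd_gcd (orderOf_dvd_of_pow_eq_one hm') (orderOf_dvd_of_pow_eq_one h4)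
    have h6 : Nat.gcd (2 ^ m) r = 1 := by
      apply Nat.Coprime.pow_left
      rw [Nat.coprime_two_left]
      exact hr
    rw [h6, Nat.dvd_one, orderOf_eq_one_iff] at h5
    have h7 : a * (c : X) * a⁻¹ * (c : X)⁻¹ = 1 := h5
    rwa [mul_inv_eq_one] at h7
  -- the action on `S`
  let f : X →* MulAut S := MulAut.conjNormal
  have hfi : Function.Injective f := by
    rw [injective_iff_map_eq_one]
    intro x hx
    have h2 : x ∈ centralizer (S : Set X) := by
      rw [mem_centralizer_iff]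
      intro y hy
      have h3 := congrArg (fun φ : MulAut S => ((φ ⟨y, hy⟩ : S) : X)) hx
      have h4 : x * y * x⁻¹ = y := h3
      calc y * x = (x * y * x⁻¹) * x := by rw [h4]
        _ = x * y := by group
    rw [hcen, mem_bot] at h2
    exact h2
  rw [← card_map_of_injective hfi]
  refine RowLTwoOdd.card_le_four R' hr hzr hz (A.map f) ?_ ?_
  · rintro _ ⟨x, hx, rfl⟩
    rw [← map_mul, hel x hx, map_one]
  · rintro _ ⟨x, hx, rfl⟩
    exact Subtype.ext (hAc x hx)


/-- **`S ≅ L₂(q)`, `q` odd, `q ≠ 9`** -/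
theorem card_le_four {X : Type*} [Group X] [Finite X] {S A : Subgroup X} (hS : S.Normal)
    (hcen : centralizer (S : Set X) = ⊥) {F : Type*} [Field F] [Fintype F] (hodd : Odd (Fintype.card F))
    (h3 : 3 < Fintype.card F) (h9 : Fintype.card F ≠ 9) (e : S ≃* Matrix.ProjectiveSpecialLinearGroup (Fin 2) F)
    {t : X} (htS : t ∈ S) (htt : t * t = 1) (ht1 : t ≠ 1) (hA : A ≤ o2 (centralizer ({t} : Set X)))
    (hel : ∀ a ∈ A, a * a = 1) : Nat.card A ≤ 4 := by
  have h2 : (2 : F) ≠ 0 := two_ne_zero_of_odd hodd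
  by_cases hF : ∀ σ : F ≃+* F, σ * σ = 1 → σ = 1
  · exact (TwoF.RkPSL.rkAut_two_odd h2 hF).of_normal e hcen A hel
  · push Not at hF
    obtain ⟨σ, hσ, hσ1⟩ := hF
    have hs : ∀ x, σ (σ x) = x := fun x => DFunLike.congr_fun hσ x
    have hcard := HKS.PGammaInv.card_sq h2 hs hσ1
    set q := Nat.card (HKS.PGammaInv.fixF σ) with hq
    have hqodd : Odd q := by
      by_contra hcon
      rw [Nat.not_odd_iff_even] at hcon
      rw [hcard] at hodd
      exact (Nat.not_even_iff_odd.2 hodd) (Nat.even_pow.2 ⟨hcon, two_ne_zero⟩)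
    have hq1 : 1 < q := by
      by_contra hcon
      have h5 : q ≤ 1 := by omega
      have h6 : q ^ 2 ≤ 1 := by
        calc q ^ 2 ≤ 1 ^ 2 := Nat.pow_le_pow_left h5 2
          _ = 1 := one_pow 2
      omega
    have hq3 : q ≠ 3 := by
      intro h0
      rw [h0] at hcard
      exact h9 hcard
    obtain ⟨r, hr, hro, hrd⟩ := RowLTwoOdd.exists_odd_prime hq1 hq3 hqodd
    have hu : Nat.card Fˣ = Fintype.card F - 1 := by
      rw [Nat.card_units, Nat.card_eq_fintype_card]
    have : Fact r.Prime := ⟨hr⟩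
    obtain ⟨z, hz⟩ := exists_prime_orderOf_dvd_card' (G := Fˣ) r (by rw [hu, hcard]; exact hrd)
    have hz1 : z ≠ 1 := by
      rintro rfl
      rw [orderOf_one] at hz
      exact hr.one_lt.ne hz
    have hzr : z ^ r = 1 := by rw [← hz, pow_orderOf_eq_one]
    obtain ⟨i, hi⟩ : ∃ i : Fˣ, (i : F) * i = -1 := by
      have h4 : Fintype.card F % 4 ≠ 3 := by
        obtain ⟨m, hm⟩ := hqodd
        rw [hcard, hm]
        have : (2 * m + 1) ^ 2 = 4 * (m * m + m) + 1 := by ring
        omega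
      obtain ⟨i, hi⟩ := FiniteField.isSquare_neg_one_iff.2 h4
      have hi0 : i ≠ 0 := by
        rintro rfl
        rw [mul_zero, neg_eq_zero] at hi
        exact one_ne_zero hi
      exact ⟨Units.mk0 i hi0, hi.symm⟩
    exact card_le_four_of hS hcen (GH.L2Aut.Rep.ofEquiv h2 e) hi hro hzr hz1 htS htt ht1 hA hel

section module

variable {H : Type u} [Group H] {M : Type v} [Group M] [MulDistribMulAction H M] {K T A : Subgroup H}

/-- **`|A| = 4` and `A ∩ K ≠ 1`.** -/
theorem exists_mem [Finite H] (h : InX H M K T A) {F : Type*} [Field F] [Fintype F]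
    (hodd : Odd (Fintype.card F)) (h3 : 3 < Fintype.card F) (h9 : Fintype.card F ≠ 9)
    (e : K ≃* Matrix.ProjectiveSpecialLinearGroup (Fin 2) F) :
    Nat.card A = 4 ∧ ∃ t : K, (t : H) ∈ A ∧ t ≠ 1 := by
  have h2 : (2 : F) ≠ 0 := two_ne_zero_of_odd hodd
  let R := GH.L2Aut.Rep.ofEquiv h2 e
  have hev : 2 ∣ Nat.card K := by
    have hw : wm (1 : F) one_ne_zero * wm 1 one_ne_zero = -1 := by
      refine ext_ent ?_ ?_ ?_ ?_ <;> simp [ent_mul, LTwoMat.ent_neg]
    have h5 : R.π (wm 1 one_ne_zero) * R.π (wm 1 one_ne_zero) = 1 := by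
      rw [← map_mul, hw, R.ker]
      exact Or.inr rfl
    have h6 : R.π (wm 1 one_ne_zero) ≠ 1 := by
      intro h0
      rcases (R.ker _).1 h0 with h1 | h1
      · rw [h1, one_mul] at hw
        exact R.neg_one_ne_one hw.symm
      · rw [h1, neg_mul_neg, one_mul] at hw
        exact R.neg_one_ne_one hw.symm
    have h7 : orderOf (R.π (wm 1 one_ne_zero)) = 2 := orderOf_eq_prime (by rw [pow_two]; exact h5) h6
    rw [← h7]
    exact _root_.orderOf_dvd_natCard _
  obtain ⟨t, htT, htK, htc, htt, ht1⟩ := exists_central h.asx hev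
  have hTR : T ≤ centralizer ({t} : Set H) := fun x hx => mem_centralizer_singleton_iff.2 (htc x hx)
  have hRne := centralizer_ne_top h.cen ht1
  have hAR := h.low _ hTR hRne
  -- `t` is in `O₂(C(t))`
  have htR : t ∈ o2 (centralizer ({t} : Set H)) := by
    have h5 : zpowers t ≤ o2 (centralizer ({t} : Set H)) := by
      refine le_o2 ?_ ?_ ?_
      · rw [zpowers_le]
        exact mem_centralizer_singleton_iff.2 rfl
      · exact h.two.to_le (by rwa [zpowers_le])
      · intro x hx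
        have h6 : x * t = t * x := mem_centralizer_singleton_iff.1 hx
        rw [mem_normalizer_iff]
        intro y
        have h7 : ∀ y ∈ zpowers t, x * y * x⁻¹ = y := by
          rintro _ ⟨k, rfl⟩
          have : Commute x (t ^ k) := (show Commute x t from h6).zpow_right k
          rw [mul_inv_eq_iff_eq_mul]
          exact this
        constructor
        · intro hy
          rw [h7 y hy]
          exact hy
        · intro hy
          have h8 : x⁻¹ * (x * y * x⁻¹) * x = x * y * x⁻¹ := by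
            have h9 := h7 _ hy
            calc x⁻¹ * (x * y * x⁻¹) * x = x⁻¹ * (x * (x * y * x⁻¹) * x⁻¹) * x := by rw [h9]
              _ = x * y * x⁻¹ := by group
          have h9 : y = x * y * x⁻¹ := by
            rw [← h8]
            group
          rw [h9]
          exact hy
    exact h5 (mem_zpowers t)
  have hAt : ∀ a ∈ A, a * t = t * a := fun a ha => htc a (h.AT ha)
  -- `B = A ⟨t⟩`
  have hB : A ⊔ zpowers t ≤ o2 (centralizer ({t} : Set H)) := sup_le hAR (by rwa [zpowers_le])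
  have htn : ∀ k : ℤ, t ^ k * t ^ k = 1 := by
    intro k
    rw [← (Commute.refl t).mul_zpow, htt, _root_.one_zpow]
  have hBel : ∀ b ∈ A ⊔ zpowers t, b * b = 1 := by
    intro b hb
    have hn : A ≤ normalizer (zpowers t : Set H) := by
      intro a ha
      have h5 : ∀ k : ℤ, a * t ^ k = t ^ k * a := fun k => ((show Commute a t from hAt a ha).zpow_right k).eq
      rw [mem_normalizer_iff]
      intro y
      constructor
      · rintro ⟨k, rfl⟩
        refine ⟨k, ?_⟩
        change t ^ k = a * t ^ k * a⁻¹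
        rw [h5, mul_inv_cancel_right]
      · rintro ⟨k, hk⟩
        refine ⟨k, ?_⟩
        change t ^ k = y
        have hk' : t ^ k = a * y * a⁻¹ := hk
        have h6 : a⁻¹ * t ^ k * a = t ^ k := by rw [mul_assoc, ← h5, inv_mul_cancel_left]
        rw [← h6, hk']
        group
    have hb' : b ∈ ((A ⊔ zpowers t : Subgroup H) : Set H) := hb
    rw [coe_mul_of_left_le_normalizer_right _ _ hn] at hb'
    obtain ⟨a, ha, z, ⟨k, rfl⟩, rfl⟩ := Set.mem_mul.1 hb'
    change a * t ^ k * (a * t ^ k) = 1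
    have h5 : a * t ^ k = t ^ k * a := ((show Commute a t from hAt a ha).zpow_right k).eq
    calc a * t ^ k * (a * t ^ k) = a * (t ^ k * a) * t ^ k := by group
      _ = (a * a) * (t ^ k * t ^ k) := by rw [← h5]; group
      _ = 1 := by rw [h.el a ha, htn, one_mul]
  have h5 := card_le_four h.norm h.cen hodd h3 h9 e htK htt ht1 hB hBel
  have h6 : A ≤ A ⊔ zpowers t := le_sup_left
  have h7 : Nat.card A ≤ Nat.card (A ⊔ zpowers t : Subgroup H) := card_le_of_le h6
  have h8 := h.four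
  have h9' : Nat.card A = 4 := by omega
  refine ⟨h9', ⟨t, htK⟩, ?_, fun h0 => ht1 (congrArg Subtype.val h0)⟩
  have h10 : A = A ⊔ zpowers t := eq_of_le_of_card_ge h6 (by omega)
  change t ∈ A
  rw [h10]
  exact le_sup_right (a := A) (mem_zpowers t)

variable {F : Type*} [Field F] [Fintype F]

local notation "SL2" => Matrix.SpecialLinearGroup (Fin 2) F

/-- all `π(w)`, `w² = -1`, are conjugate to `t ∈ A` -/
theorem exists_conj (R : GH.L2Aut.Rep F K) {t : K} (htt : t * t = 1) (ht : t ≠ 1) {w : SL2} (hw : w * w = -1) :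
    ∃ g : H, ((R.π w : K) : H) = g * t * g⁻¹ := by
  have h1 : R.π w * R.π w = 1 := by
    rw [← map_mul, hw, R.ker]
    exact Or.inr rfl
  have h2 : R.π w ≠ 1 := by
    intro h0
    rcases (R.ker _).1 h0 with h1 | h1
    · rw [h1, one_mul] at hw
      exact R.neg_one_ne_one hw.symm
    · rw [h1, neg_mul_neg, one_mul] at hw
      exact R.neg_one_ne_one hw.symm
  obtain ⟨g, hg⟩ := R.inv_conj htt ht h1 h2
  refine ⟨g, ?_⟩
  rw [← hg]
  rfl

/-- **The situation `InX` does not occur.** -/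
theorem false_of [Finite H] [Finite M] (h : InX H M K T A) (hodd : Odd (Fintype.card F)) (h11 : 11 ≤ Fintype.card F)
    (e : K ≃* Matrix.ProjectiveSpecialLinearGroup (Fin 2) F) : False := by
  have h2 : (2 : F) ≠ 0 := two_ne_zero_of_odd hodd
  let R := GH.L2Aut.Rep.ofEquiv h2 e
  obtain ⟨h4, t, htA, ht1⟩ := exists_mem h hodd (by omega) (by omega) e
  have htt : t * t = 1 := Subtype.ext (h.el _ htA)
  by_cases h13 : 13 ≤ Fintype.card F
  · obtain ⟨w, v, hw, hv, n, hn, hn7, hnd⟩ := LTwoMat.exists_order R hodd h13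
    obtain ⟨x, hx⟩ := exists_conj R htt ht1 hw
    obtain ⟨y, hy⟩ := exists_conj R htt ht1 hv
    have h5 : orderOf (R.π w * R.π v) = orderOf ((x * t * x⁻¹) * (y * t * y⁻¹)) := by
      rw [← hx, ← hy, ← Subgroup.orderOf_coe]
      rfl
    rcases h.order_mul h4 htA htA x y (h5 ▸ hnd) hn with h6 | h6 | h6 <;> omega
  · -- `q = 11`
    have hq : Fintype.card F = 11 := by
      obtain ⟨m, hm⟩ := hodd
      omega
    obtain ⟨w, hw, c, hc, hu⟩ := LTwoMat.exists_four R (by omega)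
    have h5 : ∀ i, (cv M ({((R.π (w i) : K) : H)} : Set H)).index ≤ 4 := by
      intro i
      obtain ⟨x, hx⟩ := exists_conj R htt ht1 (hw i)
      rw [hx, cv_conj_index]
      exact h.index_le_four h4 htA
    set u : H := ((R.π (up c) : K) : H) with hu'
    have h6 := Gen.index_le_pow (M := M) (fun i => ((R.π (w i) : K) : H)) h5 (J := zpowers u) (by
      rw [zpowers_le, hu', hu]
      have h7 : ∀ i, ((R.π (w i) : K) : H) ∈ _root_.Subgroup.closure (Set.range fun i => ((R.π (w i) : K) : H)) :=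
        fun i => subset_closure ⟨i, rfl⟩
      exact mul_mem (mul_mem (mul_mem (h7 0) (h7 1)) (h7 2)) (h7 3))
    have hp : Fact (Nat.Prime 11) := ⟨by norm_num⟩
    have hchar : ((11 : ℕ) : F) = 0 := by
      rw [← hq]
      exact Nat.cast_card_eq_zero F
    have hup : u ^ 11 = 1 := by
      have : (R.π (up c)) ^ 11 = 1 := by
        rw [← map_pow, LTwoMat.up_pow, hchar, zero_mul, up_zero, map_one]
      rw [hu', ← Subgroup.coe_pow, this, Subgroup.coe_one]
    have hu1 : u ≠ 1 := by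
      intro h0
      have h7 : R.π (up c) = 1 := Subtype.ext h0
      rcases (R.ker _).1 h7 with h8 | h8
      · exact hc (up_inj (h8.trans up_zero.symm))
      · have h9 := congrArg (fun x => ent x 0 0) h8
        have h10 : (1 : F) = -1 := h9
        exact h2 (by linear_combination h10)
    have h7 := Gen.pow_le_index h (u := u) (r := 11) (k := 10) (by norm_num) (by decide) hup hu1 InvFrob.ord_11
    have h8 : (cv M ({u} : Set H)).index ≤ (cv M ((zpowers u : Subgroup H) : Set H)).index :=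
      Nat.le_of_dvd (Nat.pos_of_ne_zero Subgroup.index_ne_zero_of_finite)
        (Subgroup.index_dvd_of_le (cv_anti (by simp)))
    have h9 := (h7.trans h8).trans h6
    norm_num at h9

end module

/-- `PSL₂(7) = PSL₃(2)` -/
theorem charTwo_seven {K : Type u} [Group K] {F : Type} [Field F] [Fintype F] (hF : Fintype.card F = 7)
    (e : K ≃* Matrix.ProjectiveSpecialLinearGroup (Fin 2) F) : IsLieTypeChar 2 K := by
  obtain ⟨f⟩ := S0255.result (K := ZMod 2) hF (by simp)
  exact Or.inl ⟨ZMod 2, inferInstance, inferInstance, inferInstance, 3, by norm_num, by norm_num, ⟨e.trans f⟩⟩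

/-- **The row `L₂(q)`, `q` odd.** -/
theorem deadX : DeadX.{u, v} fun S _ => ¬ IsLieTypeChar 2 S ∧ ∃ (F : Type) (_ : Field F) (_ : Fintype F),
    Odd (Fintype.card F) ∧ 3 < Fintype.card F ∧ Fintype.card F ≠ 9 ∧
      Nonempty (S ≃* Matrix.ProjectiveSpecialLinearGroup (Fin 2) F) := by
  rintro H _ _ M _ _ _ K T A h ⟨hn, F, _, _, hodd, h3, h9, ⟨e⟩⟩
  have h5 : Fintype.card F ≠ 5 := by
    intro h0
    obtain ⟨f⟩ := S0253.result h0
    exact hn (KFacts.charTwo_alt_five (e.trans f))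
  have h7 : Fintype.card F ≠ 7 := fun h0 => hn (charTwo_seven h0 e)
  refine false_of h hodd ?_ e
  obtain ⟨m, hm⟩ := hodd
  omega

end Cfsg.Agent.Omega.ML.Ex.RowLTwoX

end

section


/-!
# The K-list for EXACT subgroups: the two modules of (EXL) (helper441)

THEOREM RED gives an exact ATOM `A` of a faithful module `N` (not irreducible, every proper submodule is centralised by
`K`), and the irreducible module `M = N / C_N(K)`, for which `A` is exact and sub-exact but not necessarily an atom.  A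
row of the K-list may use either of the two:

* `InX H M K T A` (Def.lean) : `M` irreducible, `A` exact and sub-exact;
* **`InA H N K T A`** : `N` faithful, `A` an exact ATOM (nothing about submodules);
* `DeadA 𝒮` : the row over `InA`;  **`Row 𝒮`** : the row over both;  `DeadX.row`, `DeadA.row`, `Row.mono`, `Row.or`;
* `InX.toA` : `InX` and `Atm M A` give `InA` for the same module;
* `InA.{asx, comm, A_ne_bot, A_two, A_comm, M_two, le_index, index_le, hyp, cv_four, index_four, four_le_index, ne_top,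
  index_le_four, atm}`.
-/

set_option autoImplicit false

namespace Cfsg.Agent.Omega.ML.Ex

open Subgroup Cfsg Cfsg.Agent.ZN Cfsg.Agent.Omega.NOThree.NoOver Cfsg.Agent.Omega.ML.CD
open Cfsg.Agent.ClassTwoFusion.Quad

universe u v

/-- The situation of (EXL) with an exact atom on a faithful module (not assumed to be irreducible). -/
structure InA (H : Type u) [Group H] (M : Type v) [Group M] [MulDistribMulAction H M] (K T A : Subgroup H) :
    Prop where
  sq : ∀ m : M, m * m = 1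
  faith : ∀ h : H, (∀ m : M, h • m = m) → h = 1
  norm : K.Normal
  simple : IsSimpleGroup K
  cen : centralizer (K : Set H) = ⊥
  gen : K ⊔ T = ⊤
  two : IsPGroup 2 T
  syl : ¬ 2 ∣ T.index
  AT : A ≤ T
  el : ∀ a ∈ A, a * a = 1
  four : 4 ≤ Nat.card A
  exact : (cv M (A : Set H)).index = Nat.card A
  atom : ∀ C : Subgroup H, C ≤ A → C ≠ ⊥ → C ≠ A → Nat.card C < (cv M (C : Set H)).index
  low : ∀ R : Subgroup H, T ≤ R → R ≠ ⊤ → A ≤ o2 R
  nmax : ¬ ∃ N : Subgroup H, N ≠ ⊤ ∧ ∀ R : Subgroup H, T ≤ R → R ≠ ⊤ → R ≤ N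

/-- The row of the class `𝒮` over `InA`. -/
def DeadA (𝒮 : ∀ (S : Type u) [Group S], Prop) : Prop :=
  ∀ (H : Type u) [Group H] [Finite H] (M : Type v) [Group M] [Finite M] [MulDistribMulAction H M]
    (K T A : Subgroup H), InA H M K T A → 𝒮 K → False

/-- **The row of the class `𝒮` with both modules.** -/
def Row (𝒮 : ∀ (S : Type u) [Group S], Prop) : Prop :=
  ∀ (H : Type u) [Group H] [Finite H] (M : Type v) [Group M] [Finite M] [MulDistribMulAction H M]
    (N : Type v) [Group N] [Finite N] [MulDistribMulAction H N] (K T A : Subgroup H),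
    InX H M K T A → InA H N K T A → 𝒮 K → False

theorem DeadX.row {𝒮 : ∀ (S : Type u) [Group S], Prop} (h : DeadX.{u, v} 𝒮) : Row.{u, v} 𝒮 :=
  fun H _ _ M _ _ _ _ _ _ _ K T A hI _ hS => h H M K T A hI hS

theorem DeadA.row {𝒮 : ∀ (S : Type u) [Group S], Prop} (h : DeadA.{u, v} 𝒮) : Row.{u, v} 𝒮 :=
  fun H _ _ _ _ _ _ N _ _ _ K T A _ hI hS => h H N K T A hI hS

/-- smaller classes -/
theorem Row.mono {𝒮 𝒮' : ∀ (S : Type u) [Group S], Prop} (h : Row.{u, v} 𝒮)
    (h' : ∀ (S : Type u) [Group S], 𝒮' S → 𝒮 S) : Row.{u, v} 𝒮' :=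
  fun H _ _ M _ _ _ N _ _ _ K T A hI hA hS => h H M N K T A hI hA (h' _ hS)

theorem Row.or {𝒮 𝒮' : ∀ (S : Type u) [Group S], Prop} (h : Row.{u, v} 𝒮) (h' : Row.{u, v} 𝒮') :
    Row.{u, v} fun S _ => 𝒮 S ∨ 𝒮' S :=
  fun H _ _ M _ _ _ N _ _ _ K T A hI hA hS =>
    hS.elim (fun h1 => h H M N K T A hI hA h1) fun h1 => h' H M N K T A hI hA h1

section module

variable {H : Type u} [Group H] {M : Type v} [Group M] [MulDistribMulAction H M] {K T A : Subgroup H}

/-- `InX` and an atom of the irreducible module -/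
theorem InX.toA (h : InX H M K T A) (hat : Atm M A) : InA H M K T A where
  sq := h.sq
  faith := h.faith
  norm := h.norm
  simple := h.simple
  cen := h.cen
  gen := h.gen
  two := h.two
  syl := h.syl
  AT := h.AT
  el := h.el
  four := h.four
  exact := h.exact
  atom := hat
  low := h.low
  nmax := h.nmax

namespace InA

/-- The group-theoretic part. -/
theorem asx (h : InA H M K T A) : ASx K T A where
  norm := h.norm
  simple := h.simple
  cen := h.cen
  gen := h.gen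
  two := h.two
  syl := h.syl
  AT := h.AT
  el := h.el
  low := h.low
  nmax := h.nmax

theorem atm (h : InA H M K T A) : Atm M A := h.atom

theorem comm (h : InA H M K T A) (x y : M) : x * y = y * x := by
  have h1 : ∀ z : M, z⁻¹ = z := fun z => inv_eq_of_mul_eq_one_right (h.sq z)
  calc x * y = (x * y)⁻¹ := (h1 _).symm
    _ = y⁻¹ * x⁻¹ := mul_inv_rev _ _
    _ = y * x := by rw [h1, h1]

theorem A_ne_bot (h : InA H M K T A) : A ≠ ⊥ := by
  intro h1
  have h2 := h.four
  rw [h1, card_bot] at h2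
  omega

theorem A_two (h : InA H M K T A) : IsPGroup 2 A := h.two.to_le h.AT

theorem A_comm (h : InA H M K T A) : ∀ a ∈ A, ∀ b ∈ A, a * b = b * a := by
  intro a ha b hb
  have h1 : ∀ z ∈ A, z⁻¹ = z := fun z hz => inv_eq_of_mul_eq_one_right (h.el z hz)
  calc a * b = (a * b)⁻¹ := (h1 _ (A.mul_mem ha hb)).symm
    _ = b⁻¹ * a⁻¹ := mul_inv_rev _ _
    _ = b * a := by rw [h1 _ ha, h1 _ hb]

theorem M_two (h : InA H M K T A) [Finite M] : IsPGroup 2 M := by
  intro m
  exact ⟨1, by rw [pow_one, pow_two, h.sq]⟩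

/-- sub-exactness -/
theorem le_index (h : InA H M K T A) [Finite M] {C : Subgroup H} (hC : C ≤ A) :
    Nat.card C ≤ (cv M (C : Set H)).index := by
  by_cases h1 : C = ⊥
  · rw [h1, card_bot]
    exact Nat.one_le_iff_ne_zero.2 index_ne_zero_of_finite
  · by_cases h2 : C = A
    · rw [h2, h.exact]
    · exact (h.atom C hC h1 h2).le

/-- `|M : C_M(C)| ≤ |A|` for `C ≤ A` -/
theorem index_le (h : InA H M K T A) [Finite M] {C : Set H} (hC : C ⊆ A) : (cv M C).index ≤ Nat.card A := by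
  rw [← h.exact]
  have h1 : cv M (A : Set H) ≤ cv M C := cv_anti hC
  exact Nat.le_of_dvd (Nat.pos_of_ne_zero index_ne_zero_of_finite) (index_dvd_of_le h1)

/-- **`|A| = 4`**: `|M : C_M(a)| ≤ 4` for all `a ∈ A`. -/
theorem index_le_four (h : InA H M K T A) [Finite M] (h4 : Nat.card A = 4) {a : H} (ha : a ∈ A) :
    (cv M ({a} : Set H)).index ≤ 4 := by
  rw [← h4]
  exact h.index_le (Set.singleton_subset_iff.2 ha)

/-- **Hyperplanes**: `C_M(D) = C_M(A)` if `|A| ≤ 2 |D|`, `D ≠ 1`. -/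
theorem hyp (h : InA H M K T A) [Finite H] [Finite M] {D : Subgroup H} (hD : D ≤ A) (h1 : D ≠ ⊥)
    (h2 : Nat.card A ≤ 2 * Nat.card D) : cv M (D : Set H) = cv M (A : Set H) := by
  by_cases hDA : D = A
  · rw [hDA]
  have hle : cv M (A : Set H) ≤ cv M (D : Set H) := cv_anti (SetLike.coe_subset_coe.2 hD)
  refine le_antisymm ?_ hle
  rw [← relIndex_eq_one]
  have h3 := h.atom D hD h1 hDA
  have h4 : (cv M (A : Set H)).relIndex (cv M (D : Set H)) * (cv M (D : Set H)).index =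
      (cv M (A : Set H)).index := relIndex_mul_index hle
  rw [h.exact] at h4
  have h5 : (cv M (A : Set H)).relIndex (cv M (D : Set H)) ≠ 0 := relIndex_ne _ _
  by_contra h6
  have h7 : 2 ≤ (cv M (A : Set H)).relIndex (cv M (D : Set H)) := by omega
  have h8 : 2 * (cv M (D : Set H)).index ≤ Nat.card A := by
    rw [← h4]
    exact Nat.mul_le_mul_right _ h7
  omega

/-- **`|A| = 4`**: `C_M(a) = C_M(A)` for all `a ∈ A#`. -/
theorem cv_four (h : InA H M K T A) [Finite H] [Finite M] (h4 : Nat.card A = 4) {a : H} (ha : a ∈ A) (ha1 : a ≠ 1) :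
    cv M ({a} : Set H) = cv M (A : Set H) := by
  have h1 : zpowers a ≤ A := by rwa [zpowers_le]
  have h2 : zpowers a ≠ ⊥ := by rwa [Ne, zpowers_eq_bot]
  have h3 : Nat.card (zpowers a) = 2 := by
    rw [Nat.card_zpowers]
    exact orderOf_eq_prime (by rw [pow_two, h.el a ha]) ha1
  have h5 := h.hyp h1 h2 (by rw [h3, h4])
  rw [← h5]
  refine le_antisymm ?_ (cv_anti (by simp))
  intro v hv x hx
  have h6 : zpowers a ≤ MulAction.stabilizer H v := by
    rw [zpowers_le]
    exact MulAction.mem_stabilizer_iff.2 (hv a rfl)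
  exact MulAction.mem_stabilizer_iff.1 (h6 hx)

theorem ne_top (h : InA H M K T A) : T ≠ ⊤ := h.asx.ne_top

/-- **an irreducible `InA` is an `InX`** -/
theorem toX [Finite M] (h : InA H M K T A)
    (irr : ∀ W : Subgroup M, (∀ h : H, ∀ w ∈ W, h • w ∈ W) → W = ⊥ ∨ W = ⊤) : InX H M K T A where
  sq := h.sq
  faith := h.faith
  irr := irr
  norm := h.norm
  simple := h.simple
  cen := h.cen
  gen := h.gen
  two := h.two
  syl := h.syl
  AT := h.AT
  el := h.el
  four := h.four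
  exact := h.exact
  sub := fun _ hC => h.le_index hC
  low := h.low
  nmax := h.nmax

end InA

end module

end Cfsg.Agent.Omega.ML.Ex

end

section


/-!
# Exact and low configurations: the local criterion of `RowLoc` and inverted elements (helper322)

* `ASx.exists_loc` : for `Loc z P` (`P ∈ Syl₂(S)`, `z` the only involution of `C_S(P)` and of the normal 2-subgroups of
  `C_S(z)`) there is `g ∈ X` with `T ≤ C_X(z^g)`, `A ∩ S ≤ ⟨z^g⟩`;
* `ASx.card_le_mul_of_loc`, `ASx.mem_of_loc` : `|A| ≤ 2 |X : S|`, and `z^g ∈ A` if `|X : S| < |A|`;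
* `InX.index_le_card_of_mem` : `|M : C_M(x)| ≤ |A|`, `x ∈ A`;
* **`InX.false_of_invAt`** : `InvAt x n`, `x ∈ A`, `|A| < 2 ^ n` is impossible;
* `deadX_of_loc` : the row with `Loc z P`, `|Out(S)| < 4` and `InvAt z n`, `2 |Out(S)| < 2 ^ n`.
-/

set_option autoImplicit false

namespace Cfsg.Agent.Omega.ML.Ex

open Subgroup Cfsg Cfsg.Agent.ZN Cfsg.Agent.Omega.ML.RowLoc Cfsg.Agent.Omega.ML.InvChain
open Cfsg.Agent.Omega.NOThree.NoOver Cfsg.Agent.Omega.ML.CD Cfsg.Agent.ClassTwoFusion.Quad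
open Cfsg.Agent.MinSimple.VModule (o2_isPGroup o2_le le_o2 le_normalizer_o2)

universe u v

section group

variable {X : Type u} [Group X] {S T A : Subgroup X}

/-- `|X : S|` divides `|Out(S)|` -/
theorem ASx.index_dvd (h : ASx S T A) {n : ℕ} (hn : (MulAut.conj : S →* MulAut S).range.index ∣ n) : S.index ∣ n := by
  have hSn := h.norm
  have h1 : (MulAut.conj : S →* MulAut S).range.comap (MulAut.conjNormal (H := S)) = S := by
    ext x
    constructor
    · rintro ⟨s, hs⟩
      have h2 : (s : X)⁻¹ * x ∈ centralizer (S : Set X) := by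
        refine mem_centralizer_iff.2 fun y hy => ?_
        have h3 := congrArg (fun α : MulAut S => ((α ⟨y, hy⟩ : S) : X)) hs
        have h4 : (s : X) * y * (s : X)⁻¹ = x * y * x⁻¹ := by
          simpa only [MulAut.conj_apply, MulAut.conjNormal_apply, _root_.Subgroup.coe_mul, _root_.InvMemClass.coe_inv] using h3
        calc y * ((s : X)⁻¹ * x) = (s : X)⁻¹ * (s * y * (s : X)⁻¹) * x := by group
          _ = (s : X)⁻¹ * (x * y * x⁻¹) * x := by rw [h4]
          _ = (s : X)⁻¹ * x * y := by group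
      rw [h.cen, mem_bot, inv_mul_eq_one] at h2
      rw [← h2]
      exact s.2
    · intro hx
      refine ⟨⟨x, hx⟩, ?_⟩
      ext y
      simp only [MulAut.conj_apply, MulAut.conjNormal_apply, _root_.Subgroup.coe_mul, _root_.InvMemClass.coe_inv]
  have hInn : (MulAut.conj : S →* MulAut S).range.Normal := by
    refine ⟨?_⟩
    rintro _ ⟨s, rfl⟩ α
    refine ⟨α s, ?_⟩
    ext y
    simp only [MulAut.conj_apply, MulAut.mul_apply, _root_.Subgroup.coe_mul, _root_.InvMemClass.coe_inv, _root_.MulAut.inv_apply, _root_.map_mul, _root_.MulEquiv.apply_symm_apply, _root_.map_inv]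
  rw [← h1, index_comap]
  exact (relIndex_dvd_index_of_normal _ _).trans hn

/-- **the local criterion** -/
theorem ASx.exists_loc [Finite X] (h : ASx S T A) {z : S} {P : Subgroup S} (L : Loc z P) :
    ∃ g : X, T ≤ centralizer ({g * z * g⁻¹} : Set X) ∧ ∀ b ∈ A, b ∈ S → b = 1 ∨ b = g * z * g⁻¹ := by
  classical
  have : Fact (Nat.Prime 2) := ⟨Nat.prime_two⟩
  have hSn := h.norm
  -- a Sylow subgroup of `X` containing `P`, conjugate to `T`
  obtain ⟨Q0, hQ0⟩ := (L.pP.map S.subtype).exists_le_sylow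
  have hTS : ∃ T0 : Sylow 2 X, (T0 : Subgroup X) = T := by
    refine ⟨h.two.toSylow h.syl, rfl⟩
  obtain ⟨T0, hT0⟩ := hTS
  obtain ⟨g, hg⟩ := MulAction.exists_smul_eq X Q0 T0
  have hT : ∀ t, t ∈ T ↔ g⁻¹ * t * g ∈ (Q0 : Subgroup X) := by
    intro t
    rw [← hT0, ← hg, Sylow.coe_subgroup_smul, mem_pointwise_smul_iff_inv_smul_mem]
    simp only [MulAut.smul_def, ← map_inv, _root_.MulAut.conj_apply, _root_.inv_inv]
  -- `Q0 ∩ S = P`
  have hQS : ∀ x : S, (x : X) ∈ (Q0 : Subgroup X) → x ∈ P := by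
    intro x hx
    set P0 : Sylow 2 S := L.pP.toSylow L.odd with hP0
    have h1 : (P : Subgroup S) ≤ (Q0 : Subgroup X).subgroupOf S := fun p hp => hQ0 ⟨p, hp, rfl⟩
    have h2 : IsPGroup 2 ((Q0 : Subgroup X).subgroupOf S) :=
      Q0.isPGroup'.comap_of_injective _ S.subtype_injective
    have h3 : (Q0 : Subgroup X).subgroupOf S = P := P0.is_maximal' h2 h1
    rw [← h3]
    exact hx
  -- conjugation
  have hS : ∀ {x : X} (y : X), x ∈ S → y * x * y⁻¹ ∈ S := fun y hx => hSn.conj_mem _ hx y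
  -- `Q0` centralises `z`
  have hz0 : ∀ u ∈ (Q0 : Subgroup X), u * (z : X) = z * u := by
    intro u hu
    have hu' : u⁻¹ ∈ (Q0 : Subgroup X) := inv_mem hu
    have h1 := L.uniq ⟨u * z * u⁻¹, hS u z.2⟩ (fun p hp => ?_) ?_
    · rcases h1 with h1 | h1
      · exfalso
        apply L.z1
        have h2 : u * (z : X) * u⁻¹ = 1 := congrArg Subtype.val h1
        apply Subtype.ext
        calc (z : X) = u⁻¹ * (u * z * u⁻¹) * u := by group
          _ = 1 := by rw [h2]; group
      · exact mul_inv_eq_iff_eq_mul.1 (congrArg Subtype.val h1)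
    · have hpQ : (p : X) ∈ (Q0 : Subgroup X) := hQ0 ⟨p, hp, rfl⟩
      have h2 : (⟨u⁻¹ * p * u⁻¹⁻¹, hS u⁻¹ p.2⟩ : S) ∈ P :=
        hQS _ (mul_mem (mul_mem hu' hpQ) (inv_mem hu'))
      have h3 := congrArg Subtype.val (L.zc _ h2)
      have h4 : (z : X) * (u⁻¹ * p * u⁻¹⁻¹) = (u⁻¹ * p * u⁻¹⁻¹) * z := h3
      apply Subtype.ext
      show (u * (z : X) * u⁻¹) * p = p * (u * z * u⁻¹)
      calc (u * (z : X) * u⁻¹) * p = u * (z * (u⁻¹ * p * u⁻¹⁻¹)) * u⁻¹ := by group
        _ = u * ((u⁻¹ * p * u⁻¹⁻¹) * z) * u⁻¹ := by rw [h4]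
        _ = p * (u * z * u⁻¹) := by group
    · apply Subtype.ext
      show (u * (z : X) * u⁻¹) * (u * z * u⁻¹) = 1
      calc (u * (z : X) * u⁻¹) * (u * z * u⁻¹) = u * (z * z) * u⁻¹ := by group
        _ = 1 := by
            have h5 : (z : X) * z = 1 := congrArg Subtype.val L.zz
            rw [h5]; group
  -- `z' = g z g⁻¹`, `R = C(z')`
  set z' : X := g * z * g⁻¹ with hz'
  set R : Subgroup X := centralizer ({z'} : Set X) with hR
  have hRm : ∀ x, x ∈ R ↔ x * z' = z' * x := fun x => mem_centralizer_singleton_iff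
  have hTR : T ≤ R := by
    intro t ht
    rw [hRm]
    have h1 := hz0 _ ((hT t).1 ht)
    calc t * (g * z * g⁻¹) = g * ((g⁻¹ * t * g) * z) * g⁻¹ := by group
      _ = g * (z * (g⁻¹ * t * g)) * g⁻¹ := by rw [h1]
      _ = g * z * g⁻¹ * t := by group
  have hz'1 : z' ≠ 1 := by
    intro h1
    apply L.z1
    apply Subtype.ext
    calc (z : X) = g⁻¹ * z' * g := by rw [hz']; group
      _ = 1 := by rw [h1]; group
  have hRt : R ≠ ⊤ := by
    intro h1
    apply hz'1
    have h2 : z' ∈ centralizer (S : Set X) := by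
      refine mem_centralizer_iff.2 fun y _ => ?_
      exact (hRm y).1 (h1 ▸ mem_top y)
    rwa [h.cen, mem_bot] at h2
  have hAR := h.low R hTR hRt
  refine ⟨g, hTR, ?_⟩
  -- `A ∩ S ≤ ⟨z'⟩`
  intro b hb hbS
  let c : S →* X := (MulAut.conj g).toMonoidHom.comp S.subtype
  have hc : ∀ s : S, c s = g * s * g⁻¹ := fun s => rfl
  have hci : Function.Injective c := (MulAut.conj g).injective.comp S.subtype_injective
  have hb' : g⁻¹ * b * g ∈ S := by
    have := hS g⁻¹ hbS
    rwa [inv_inv] at this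
  have a1 : ∀ n ∈ (o2 R).comap c, n * z = z * n := by
    intro n hn
    have h1 := (hRm _).1 (o2_le R hn)
    rw [hc, hz'] at h1
    apply Subtype.ext
    show (n : X) * z = z * n
    calc (n : X) * z = g⁻¹ * (g * n * g⁻¹ * (g * z * g⁻¹)) * g := by group
      _ = g⁻¹ * (g * z * g⁻¹ * (g * n * g⁻¹)) * g := by rw [h1]
      _ = z * n := by group
  have a2 : ∀ k, k * z = z * k → ∀ n ∈ (o2 R).comap c, k * n * k⁻¹ ∈ (o2 R).comap c := by
    intro k hk n hn
    show c (k * n * k⁻¹) ∈ o2 R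
    have hk' : (k : X) * z = z * k := congrArg Subtype.val hk
    have hkR : c k ∈ R := by
      rw [hRm, hc, hz']
      calc g * k * g⁻¹ * (g * z * g⁻¹) = g * (k * z) * g⁻¹ := by group
        _ = g * (z * k) * g⁻¹ := by rw [hk']
        _ = g * z * g⁻¹ * (g * k * g⁻¹) := by group
    have h1 := (mem_normalizer_iff.1 (le_normalizer_o2 R hkR) (c n)).1 hn
    rwa [map_mul, map_mul, map_inv]
  have a3 : (⟨g⁻¹ * b * g, hb'⟩ : S) ∈ (o2 R).comap c := by
    show g * (g⁻¹ * b * g) * g⁻¹ ∈ o2 R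
    have : g * (g⁻¹ * b * g) * g⁻¹ = b := by group
    rw [this]
    exact hAR hb
  have a4 : (⟨g⁻¹ * b * g, hb'⟩ : S) * ⟨g⁻¹ * b * g, hb'⟩ = 1 := by
    apply Subtype.ext
    show (g⁻¹ * b * g) * (g⁻¹ * b * g) = 1
    calc (g⁻¹ * b * g) * (g⁻¹ * b * g) = g⁻¹ * (b * b) * g := by group
      _ = 1 := by rw [h.el b hb]; group
  rcases L.oo ((o2 R).comap c) ((o2_isPGroup R).comap_of_injective _ hci) a1 a2 _ a3 a4 with h1 | h1
  · left
    have h2 : g⁻¹ * b * g = 1 := congrArg Subtype.val h1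
    calc b = g * (g⁻¹ * b * g) * g⁻¹ := by group
      _ = 1 := by rw [h2]; group
  · right
    have h2 : g⁻¹ * b * g = z := congrArg Subtype.val h1
    calc b = g * (g⁻¹ * b * g) * g⁻¹ := by group
      _ = z' := by rw [h2]

/-- `|A| ≤ |A ∩ S| |X : S|` -/
theorem ASx.card_le_inf_mul [Finite X] (h : ASx S T A) : Nat.card A ≤ Nat.card (S.subgroupOf A) * S.index := by
  have hSn := h.norm
  have h4 : Nat.card (S.subgroupOf A) * (S.subgroupOf A).index = Nat.card A := card_mul_index _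
  have h5 : (S.subgroupOf A).index ≤ S.index := by
    have h6 : S.relIndex A ∣ S.index := relIndex_dvd_index_of_normal _ _
    exact Nat.le_of_dvd (Nat.pos_of_ne_zero index_ne_zero_of_finite) h6
  calc Nat.card A = Nat.card (S.subgroupOf A) * (S.subgroupOf A).index := h4.symm
    _ ≤ _ := Nat.mul_le_mul_left _ h5

/-- `|A ∩ S| ≤ 2` if `A ∩ S ≤ {1, y}` -/
theorem card_subgroupOf_le_two [Finite X] {y : X} (hy : ∀ b ∈ A, b ∈ S → b = 1 ∨ b = y) :
    Nat.card (S.subgroupOf A) ≤ 2 := by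
  have h2 : ((S.subgroupOf A : Subgroup A) : Set A) ⊆ Subtype.val ⁻¹' ({1, y} : Set X) := by
    intro b hb
    rcases hy b b.2 (mem_subgroupOf.1 hb) with e | e
    · left; exact e
    · right; exact e
  have h3 : Nat.card (S.subgroupOf A) = (((S.subgroupOf A : Subgroup A) : Set A)).ncard := rfl
  rw [h3, ← Set.ncard_image_of_injective _ (Subtype.val_injective (p := fun x => x ∈ A))]
  refine (Set.ncard_le_ncard (t := ({1, y} : Set X)) ?_ (Set.toFinite _)).trans ?_
  · rintro _ ⟨b, hb, rfl⟩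
    exact h2 hb
  · exact (Set.ncard_insert_le _ _).trans (by rw [Set.ncard_singleton])

/-- `|A| ≤ 2 |X : S|` -/
theorem ASx.card_le_mul_of_loc [Finite X] (h : ASx S T A) {z : S} {P : Subgroup S} (L : Loc z P) :
    Nat.card A ≤ 2 * S.index := by
  obtain ⟨g, -, hg⟩ := h.exists_loc L
  exact h.card_le_inf_mul.trans (Nat.mul_le_mul_right _ (card_subgroupOf_le_two hg))

/-- a conjugate of `z` is in `A` if `|X : S| < |A|` -/
theorem ASx.mem_of_loc [Finite X] (h : ASx S T A) {z : S} {P : Subgroup S} (L : Loc z P) (hi : S.index < Nat.card A) :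
    ∃ g : X, g * z * g⁻¹ ∈ A := by
  obtain ⟨g, -, hg⟩ := h.exists_loc L
  refine ⟨g, ?_⟩
  by_contra hc
  have h1 : S.subgroupOf A = ⊥ := by
    rw [eq_bot_iff]
    intro b hb
    rcases hg b b.2 (mem_subgroupOf.1 hb) with e | e
    · exact mem_bot.2 (Subtype.ext e)
    · exact absurd (e ▸ b.2) hc
  have h2 := h.card_le_inf_mul
  rw [h1, card_bot, one_mul] at h2
  omega

end group

section module

variable {H : Type u} [Group H] {M : Type v} [Group M] [MulDistribMulAction H M] {K T A : Subgroup H}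

/-- `|M : C_M(x)| ≤ |A|`, `x ∈ A` -/
theorem InX.index_le_card_of_mem [Finite M] (h : InX H M K T A) {x : H} (hx : x ∈ A) :
    (cv M ({x} : Set H)).index ≤ Nat.card A := by
  rw [← h.exact]
  exact Nat.le_of_dvd (Nat.pos_of_ne_zero index_ne_zero_of_finite)
    (index_dvd_of_le (cv_anti (Set.singleton_subset_iff.2 hx)))

/-- **an inverted element** -/
theorem InX.false_of_invAt [Finite M] (h : InX H M K T A) {x : H} (hx : x ∈ A) {n : ℕ} (hA : Nat.card A < 2 ^ n)
    (hi : InvAt x n) : False := by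
  have h1 := InvRow.inv_big h.sq h.faith (h.el x hx) hi
  have h2 := h.index_le_card_of_mem hx
  omega

/-- `cv{x} = cv A` if `|A| ≤ 2 ^ n` and `InvAt x n` -/
theorem InX.cv_eq_of_invAt [Finite M] (h : InX H M K T A) {x : H} (hx : x ∈ A) {n : ℕ} (hA : Nat.card A ≤ 2 ^ n)
    (hi : InvAt x n) : Nat.card A = 2 ^ n ∧ cv M ({x} : Set H) = cv M (A : Set H) := by
  have h1 := InvRow.inv_big h.sq h.faith (h.el x hx) hi
  have h2 := h.index_le_card_of_mem hx
  refine ⟨by omega, ?_⟩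
  have h3 : cv M (A : Set H) ≤ cv M ({x} : Set H) := cv_anti (Set.singleton_subset_iff.2 hx)
  refine (le_antisymm h3 ?_).symm
  rw [← relIndex_eq_one]
  have h4 : (cv M (A : Set H)).relIndex (cv M ({x} : Set H)) * (cv M ({x} : Set H)).index =
      (cv M (A : Set H)).index := relIndex_mul_index h3
  have h5 : (cv M (A : Set H)).index ≠ 0 := index_ne_zero_of_finite
  rw [h.exact] at h4 h5
  have h6 : (cv M ({x} : Set H)).index = Nat.card A := by omega
  rw [h6] at h4
  exact Nat.eq_of_mul_eq_mul_right (Nat.pos_of_ne_zero h5) (by rw [h4, one_mul])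

/-- **The row with `Loc`**: `|Out(S)| < 4`, `InvAt z n`, `2 |Out(S)| < 2 ^ n`. -/
theorem deadX_of_loc {𝒮 : ∀ (S : Type u) [Group S], Prop} (hs : ∀ (S : Type u) [Group S] [Finite S], 𝒮 S →
    ∃ (z : S) (P : Subgroup S) (n k : ℕ), Loc z P ∧ (MulAut.conj : S →* MulAut S).range.index ∣ k ∧ 0 < k ∧ k < 4 ∧
      2 * k < 2 ^ n ∧ InvAt z n) : DeadX.{u, v} 𝒮 := by
  intro H _ _ M _ _ _ K T A h hS
  obtain ⟨z, P, n, k, L, hk, hk0, hk4, hkn, hz⟩ := hs K hS
  have h1 : K.index ≤ k := Nat.le_of_dvd hk0 (h.asx.index_dvd hk)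
  have h2 := h.four
  obtain ⟨g, hg⟩ := h.asx.mem_of_loc L (by omega)
  have h3 := h.asx.card_le_mul_of_loc L
  refine h.false_of_invAt hg (n := n) (by omega) ?_
  exact (hz.map K.subtype K.subtype_injective).conj g

end module

end Cfsg.Agent.Omega.ML.Ex

end

section


/-!
# The exact K-list: an involution of `K` with a large fixed space (helper842)

* **`ASx.exists_even`** : (K-free) `1 ≠ a ∈ A` : there is `k ∈ S` with `a · kak⁻¹` of even order
  [otherwise `a` centralises `R ∩ S` for `T ≤ R < X`, so `S` (`nmax`)];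
* `InX.exists_inv` : there is an involution `y ∈ K` with `|M : C_M(y)| ≤ |M : C_M(a)|²`;
* `InX.exists_inv_four` : `|A| = 4` : there is an involution `y ∈ K` with `|M : C_M(y)| ≤ 16`;
* `InX.card_le_of_four` : `|A| = 4`, `K` is generated by `m` conjugates of every involution: `|M| ≤ 16^m`.
-/

set_option autoImplicit false

namespace Cfsg.Agent.Omega.ML.Ex

open Subgroup Cfsg Cfsg.Agent.ZN Cfsg.Agent.ClassTwoFusion.Quad
open Cfsg.Agent.MinSimple.VModule (o2_isPGroup o2_le le_o2 le_normalizer_o2)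

universe u v

section grp

variable {X : Type u} [Group X] {S T A : Subgroup X}

/-- `S` is generated by the `R ∩ S`, `T ≤ R < X`. -/
theorem ASx.le_of_forall [Finite X] (h : ASx S T A) {C : Subgroup X}
    (hC : ∀ R : Subgroup X, T ≤ R → R ≠ ⊤ → R ⊓ S ≤ C) : S ≤ C := by
  have hS := h.norm
  let W : Subgroup X := ⨆ (R : Subgroup X) (_ : T ≤ R ∧ R ≠ ⊤), R ⊓ S
  have hWC : W ≤ C := iSup_le fun R => iSup_le fun hR => hC R hR.1 hR.2
  have hle : ∀ R : Subgroup X, T ≤ R → R ≠ ⊤ → R ⊓ S ≤ W := fun R h1 h2 =>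
    le_iSup_of_le R (le_iSup_of_le ⟨h1, h2⟩ le_rfl)
  have hWS : W ≤ S := iSup_le fun R => iSup_le fun _ => inf_le_right
  -- `T` normalises `W`
  have hTW : T ≤ normalizer (W : Set X) := by
    intro t ht
    rw [mem_normalizer_iff_map_conj_eq]
    have h1 : ∀ s ∈ T, W.map (MulAut.conj s).toMonoidHom ≤ W := by
      intro s hs
      rw [Subgroup.map_iSup]
      refine iSup_le fun R => ?_
      rw [Subgroup.map_iSup]
      refine iSup_le fun hR => ?_
      refine le_trans ?_ (hle R hR.1 hR.2)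
      rintro _ ⟨r, hr, rfl⟩
      exact ⟨R.mul_mem (R.mul_mem (hR.1 hs) hr.1) (R.inv_mem (hR.1 hs)), hS.conj_mem r hr.2 s⟩
    refine le_antisymm (h1 t ht) ?_
    intro w hw
    have h2 := h1 t⁻¹ (inv_mem ht) ⟨w, hw, rfl⟩
    refine ⟨_, h2, ?_⟩
    simp only [mul_assoc, _root_.map_inv, _root_.MulEquiv.toMonoidHom_eq_coe, _root_.MonoidHom.coe_coe, _root_.MulAut.inv_apply, _root_.MulAut.conj_symm_apply, _root_.MulAut.conj_apply, _root_.mul_inv_cancel_left, _root_.mul_inv_cancel, _root_.mul_one]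
  -- `W ⊔ T = ⊤`
  have htop : T ⊔ W = ⊤ := by
    by_contra hne
    refine h.nmax ⟨T ⊔ W, hne, fun R hTR hR r hr => ?_⟩
    have h3 : r ∈ S ⊔ T := by rw [h.gen]; exact mem_top r
    rw [mem_sup_of_normal_left] at h3
    obtain ⟨s, hs, t, ht, rfl⟩ := h3
    have h4 : s ∈ R := by
      have := R.mul_mem hr (R.inv_mem (hTR ht))
      rwa [mul_inv_cancel_right] at this
    exact mul_mem ((le_sup_right : W ≤ T ⊔ W) (hle R hTR hR ⟨h4, hs⟩)) ((le_sup_left : T ≤ T ⊔ W) ht)
  intro s hs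
  have h3 : s ∈ ((T ⊔ W : Subgroup X) : Set X) := by rw [htop]; exact mem_top s
  rw [coe_mul_of_left_le_normalizer_right _ _ hTW] at h3
  obtain ⟨t, ht, w, hw, rfl⟩ := h3
  have h4 : t ∈ S := by
    have := S.mul_mem hs (S.inv_mem (hWS hw))
    change t * w * w⁻¹ ∈ S at this
    rwa [mul_inv_cancel_right] at this
  exact C.mul_mem (hC T le_rfl h.ne_top ⟨ht, h4⟩) (hWC hw)

/-- **There is `k ∈ S` with `a · kak⁻¹` of even order.** -/
theorem ASx.exists_even [Finite X] (h : ASx S T A) {a : X} (ha : a ∈ A) (ha1 : a ≠ 1) :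
    ∃ k ∈ S, 2 ∣ orderOf (a * (k * a * k⁻¹)) := by
  by_contra hcon
  push Not at hcon
  have h1 : S ≤ centralizer ({a} : Set X) := by
    refine h.le_of_forall fun R hTR hR r hr => ?_
    have hN : R ≤ normalizer (o2 R : Set X) := le_normalizer_o2 R
    have h2 : a ∈ o2 R := h.low R hTR hR ha
    have h3 : r * a * r⁻¹ ∈ o2 R := ((mem_normalizer_iff.1 (hN hr.1)) a).1 h2
    have h4 : a * (r * a * r⁻¹) ∈ o2 R := mul_mem h2 h3
    obtain ⟨n, hn⟩ := (o2_isPGroup R) ⟨_, h4⟩
    have h5 : (a * (r * a * r⁻¹)) ^ 2 ^ n = 1 := congrArg Subtype.val hn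
    obtain ⟨k, -, hk⟩ := (Nat.dvd_prime_pow Nat.prime_two).1 (orderOf_dvd_of_pow_eq_one h5)
    have h6 : k = 0 := by
      by_contra h6
      exact hcon r hr.2 (by rw [hk]; exact dvd_pow_self 2 h6)
    rw [h6, pow_zero, orderOf_eq_one_iff] at hk
    have h7 : a * a = 1 := h.el a ha
    rw [mem_centralizer_singleton_iff]
    have h8 : r * a * r⁻¹ = a := by
      have h9 : a⁻¹ = a := inv_eq_of_mul_eq_one_right h7
      calc r * a * r⁻¹ = a⁻¹ * (a * (r * a * r⁻¹)) := by group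
        _ = a := by rw [hk, mul_one, h9]
    calc r * a = (r * a * r⁻¹) * r := by group
      _ = a * r := by rw [h8]
  have h2 : a ∈ centralizer (S : Set X) := by
    rw [mem_centralizer_iff]
    intro s hs
    exact mem_centralizer_singleton_iff.1 (h1 hs)
  rw [h.cen] at h2
  exact ha1 (mem_bot.1 h2)

/-- An involution of `S` in `⟨a, a^k⟩`. -/
theorem ASx.exists_inv_mem [Finite X] (h : ASx S T A) {a : X} (ha : a ∈ A) (ha1 : a ≠ 1) :
    ∃ k ∈ S, ∃ y ∈ S, y ≠ 1 ∧ y * y = 1 ∧ y ∈ zpowers (a * (k * a * k⁻¹)) := by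
  obtain ⟨k, hk, m, hm⟩ := h.exists_even ha ha1
  set u : X := a * (k * a * k⁻¹) with hu
  have hS := h.norm
  have h7 : a * a = 1 := h.el a ha
  have h9 : a⁻¹ = a := inv_eq_of_mul_eq_one_right h7
  have h0 : 0 < orderOf u := orderOf_pos u
  have hm0 : 0 < m := by omega
  have huS : u ∈ S := by
    have h1 : u = (a * k * a⁻¹) * k⁻¹ := by rw [hu, h9]; group
    rw [h1]
    exact S.mul_mem (hS.conj_mem k hk a) (S.inv_mem hk)
  refine ⟨k, hk, u ^ m, S.pow_mem huS m, ?_, ?_, (zpowers u).pow_mem (mem_zpowers u) m⟩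
  · intro h1
    have h2 := orderOf_dvd_of_pow_eq_one h1
    have h3 := Nat.le_of_dvd hm0 h2
    omega
  · rw [← pow_add, ← two_mul, ← hm, pow_orderOf_eq_one]

end grp

section module

variable {H : Type u} [Group H] {M : Type v} [Group M] [MulDistribMulAction H M] {K T A : Subgroup H}

theorem index_inf_le_mul [Finite M] (U W : Subgroup M) : (U ⊓ W).index ≤ U.index * W.index := by
  exact Subgroup.index_inf_le

/-- **An involution `y ∈ K` with `|M : C_M(y)| ≤ |M : C_M(a)|²`.** -/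
theorem InX.exists_inv [Finite H] [Finite M] (h : InX H M K T A) {a : H} (ha : a ∈ A) (ha1 : a ≠ 1) :
    ∃ y ∈ K, y ≠ 1 ∧ y * y = 1 ∧
      (cv M ({y} : Set H)).index ≤ (cv M ({a} : Set H)).index * (cv M ({a} : Set H)).index := by
  obtain ⟨k, hk, y, hy, hy1, hyy, hyu⟩ := h.asx.exists_inv_mem ha ha1
  refine ⟨y, hy, hy1, hyy, ?_⟩
  have h1 : cv M ({a} : Set H) ⊓ cv M ({k * a * k⁻¹} : Set H) ≤ cv M ({y} : Set H) := by
    rintro m ⟨h2, h3⟩
    have h2 : a • m = m := mem_cv_singleton.1 h2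
    have h3 : (k * a * k⁻¹) • m = m := mem_cv_singleton.1 h3
    rw [mem_cv_singleton]
    have h4 : zpowers (a * (k * a * k⁻¹)) ≤ MulAction.stabilizer H m := by
      rw [zpowers_le, MulAction.mem_stabilizer_iff, mul_smul, h3, h2]
    exact MulAction.mem_stabilizer_iff.1 (h4 hyu)
  calc (cv M ({y} : Set H)).index ≤ (cv M ({a} : Set H) ⊓ cv M ({k * a * k⁻¹} : Set H)).index :=
        Nat.le_of_dvd (Nat.pos_of_ne_zero Subgroup.index_ne_zero_of_finite) (Subgroup.index_dvd_of_le h1)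
    _ ≤ (cv M ({a} : Set H)).index * (cv M ({k * a * k⁻¹} : Set H)).index := index_inf_le_mul _ _
    _ = _ := by rw [cv_conj_index]

/-- **`|A| = 4`** : an involution `y ∈ K` with `|M : C_M(y)| ≤ 16`. -/
theorem InX.exists_inv_four [Finite H] [Finite M] (h : InX H M K T A) (h4 : Nat.card A = 4) :
    ∃ y ∈ K, y ≠ 1 ∧ y * y = 1 ∧ (cv M ({y} : Set H)).index ≤ 16 := by
  have hn : Nontrivial A := (Subgroup.one_lt_card_iff_ne_bot A).1 (by omega) |> fun h1 =>
    (Subgroup.nontrivial_iff_ne_bot A).2 h1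
  obtain ⟨a, ha⟩ := exists_ne (1 : A)
  obtain ⟨y, hy, hy1, hyy, hle⟩ := h.exists_inv a.2 (fun h1 => ha (Subtype.ext h1))
  refine ⟨y, hy, hy1, hyy, hle.trans ?_⟩
  have h5 := h.index_le_four h4 a.2
  exact (Nat.mul_le_mul h5 h5).trans (by norm_num)

/-- **`|A| = 4`**, `K` is generated by `m` conjugates of every involution: `|M| ≤ 16^m`. -/
theorem InX.card_le_of_four [Finite H] [Finite M] (h : InX H M K T A) (h4 : Nat.card A = 4) {m : ℕ}
    (hg : ∀ x : K, x ≠ 1 → x * x = 1 → ∃ l : Fin m → K, _root_.Subgroup.closure (Set.range fun i => l i * x * (l i)⁻¹) = ⊤) :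
    Nat.card M ≤ 16 ^ m := by
  obtain ⟨y, hy, hy1, hyy, hle⟩ := h.exists_inv_four h4
  obtain ⟨l, hl⟩ := hg ⟨y, hy⟩ (fun h1 => hy1 (congrArg Subtype.val h1)) (Subtype.ext hyy)
  have h3 : K ≤ _root_.Subgroup.closure (Set.range fun i => (l i : H) * y * (l i : H)⁻¹) := by
    have h3 := congrArg (Subgroup.map K.subtype) hl
    rw [MonoidHom.map_closure, ← Set.range_comp, ← MonoidHom.range_eq_map, range_subtype] at h3
    exact le_of_eq h3.symm
  exact (Gen.card_le_conj_index h y _ h3).trans (Nat.pow_le_pow_left hle m)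

end module

end Cfsg.Agent.Omega.ML.Ex

end

section


/-!
# The K-list for EXACT subgroups (EXL), T5: inverted elements (helper661)

`H` acts on the group `M` of exponent 2, `A ≤ H` elementary abelian with `|M : C_M(A)| ≤ |A|` (`hex`; exact or strict).

* `index_le` : `|M : C_M(x)| ≤ |A|` for `x ∈ A`;
* **`lt_or_eq`** (D) : `|M : C_M(x)| < |A|` or `EQ(x)`: `C_M(x) = C_M(A)`;
* **`exists_normal`** : `EQ(x)` ⟹ `C_H(x)` has a normal elementary abelian 2-subgroup `E ≥ A`;
* `inv_le` (I) : `x ∈ A` inverts `w` of odd order ⟹ `|M : C_M(w)| ≤ |A|²`;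
* `inv_card` : `x ∈ A`, `InvAt x n` ⟹ `2 ^ n ≤ |A|`;  **`inv_eq`** : if moreover `|A| ≤ 2 ^ n` : `|A| = 2 ^ n` and `EQ(x)`;
* `InX.{card_le, index_le, exists_mem, inv_lt, inv_eq, exists_sub}` : the same for the literal situation, with `K` simple;
* **`dead`**, `dead_strong` : rows.
-/

set_option autoImplicit false

namespace Cfsg.Agent.Omega.ML.Ex.Inv

open Subgroup Cfsg Cfsg.Agent.ZN Cfsg.Agent.Omega.NOThree.NoOver Cfsg.Agent.Omega.ML.CD
open Cfsg.Agent.Omega.ML.InvChain Cfsg.Agent.Omega.TwoF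
open Cfsg.Agent.ClassTwoFusion.Quad

universe u v w

section weak

variable {H : Type u} [Group H] {M : Type v} [Group M] [MulDistribMulAction H M] {A : Subgroup H}

/-- `|M : C_M(x)| ≤ |A|` -/
theorem index_le [Finite M] (hex : (cv M (A : Set H)).index ≤ Nat.card A) {x : H} (hx : x ∈ A) :
    (cv M ({x} : Set H)).index ≤ Nat.card A :=
  (Nat.le_of_dvd (Nat.pos_of_ne_zero index_ne_zero_of_finite)
    (index_dvd_of_le (cv_anti (Set.singleton_subset_iff.2 hx)))).trans hex

/-- **(D) The dichotomy** -/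
theorem lt_or_eq [Finite M] (hex : (cv M (A : Set H)).index ≤ Nat.card A) {x : H} (hx : x ∈ A) :
    (cv M ({x} : Set H)).index < Nat.card A ∨ cv M ({x} : Set H) = cv M (A : Set H) := by
  have hle : cv M (A : Set H) ≤ cv M ({x} : Set H) := cv_anti (Set.singleton_subset_iff.2 hx)
  rcases lt_or_ge (cv M ({x} : Set H)).index (Nat.card A) with h1 | h1
  · exact Or.inl h1
  · right
    refine le_antisymm ?_ hle
    rw [← relIndex_eq_one]
    have h2 : (cv M (A : Set H)).relIndex (cv M ({x} : Set H)) * (cv M ({x} : Set H)).index =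
      (cv M (A : Set H)).index := relIndex_mul_index hle
    have h3 : 0 < (cv M ({x} : Set H)).index := Nat.pos_of_ne_zero index_ne_zero_of_finite
    have h4 : 0 < (cv M (A : Set H)).relIndex (cv M ({x} : Set H)) := by
      refine Nat.pos_of_ne_zero fun h5 => ?_
      rw [h5, zero_mul] at h2
      exact index_ne_zero_of_finite h2.symm
    by_contra h5
    have h6 : 2 ≤ (cv M (A : Set H)).relIndex (cv M ({x} : Set H)) := by omega
    have h7 : 2 * (cv M ({x} : Set H)).index ≤ (cv M (A : Set H)).index := by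
      rw [← h2]
      exact Nat.mul_le_mul_right _ h6
    omega

theorem eq_of_le [Finite M] (hex : (cv M (A : Set H)).index ≤ Nat.card A) {x : H} (hx : x ∈ A)
    (h : Nat.card A ≤ (cv M ({x} : Set H)).index) : cv M ({x} : Set H) = cv M (A : Set H) :=
  (lt_or_eq hex hx).resolve_left (by omega)

/-- `EQ(x)` : `A` is quadratic. -/
theorem com_of_eq (sq : ∀ m : M, m * m = 1) {x : H} (hx2 : x * x = 1) (hxc : ∀ a ∈ A, a * x = x * a)
    (heq : cv M ({x} : Set H) = cv M (A : Set H)) {a : H} (ha : a ∈ A) (m : M) :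
    (a • m) * m⁻¹ ∈ cv M (A : Set H) := by
  have hc := InvFrob.comm_of_sq sq
  have hi : ∀ y : M, y⁻¹ = y := fun y => inv_eq_of_mul_eq_one_right (sq y)
  have h1 : (x • m) * m ∈ cv M ({x} : Set H) := by
    rw [mem_cv_singleton, smul_mul', ← mul_smul, hx2, one_smul, hc]
  rw [heq] at h1
  have h2 : a • ((x • m) * m) = (x • m) * m := h1 a ha
  rw [hi, ← heq, mem_cv_singleton, smul_mul', ← mul_smul, ← hxc a ha, mul_smul]
  rw [smul_mul'] at h2
  have h3 : a • x • m = (x • m) * m * (a • m) := by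
    rw [← h2, mul_assoc, sq, mul_one]
  rw [h3]
  calc (x • m) * m * (a • m) * (x • m) = (x • m) * (m * (a • m)) * (x • m) := by rw [mul_assoc (x • m) m]
    _ = (x • m) * (x • m) * (m * (a • m)) := by rw [mul_assoc, hc (m * (a • m)), ← mul_assoc]
    _ = (a • m) * m := by rw [sq, one_mul, hc]

/-- `EQ(x)` : `A ≤ EE(C_M(A))`. -/
theorem le_EE (sq : ∀ m : M, m * m = 1) {x : H} (hx2 : x * x = 1) (hxc : ∀ a ∈ A, a * x = x * a)
    (heq : cv M ({x} : Set H) = cv M (A : Set H)) : A ≤ (TIE.EE (cv M (A : Set H)) : Subgroup H) :=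
  fun _ ha => ⟨fun _ hm => hm _ ha, fun m => com_of_eq sq hx2 hxc heq ha m⟩

/-- **`EQ(x)` ⟹ `C_H(x)` has a normal elementary abelian 2-subgroup which contains `A`.** -/
theorem exists_normal (sq : ∀ m : M, m * m = 1) (faith : ∀ h : H, (∀ m : M, h • m = m) → h = 1)
    (el : ∀ a ∈ A, a * a = 1) {x : H} (hx : x ∈ A) (heq : cv M ({x} : Set H) = cv M (A : Set H)) :
    ∃ E : Subgroup H, A ≤ E ∧ (∀ e ∈ E, e * e = 1) ∧ cv M (E : Set H) = cv M (A : Set H) ∧
      (∀ e ∈ E, ∀ m : M, (e • m) * m⁻¹ ∈ cv M (A : Set H)) ∧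
      ∀ g : H, g * x = x * g → ∀ e ∈ E, g * e * g⁻¹ ∈ E := by
  have hA : ∀ a ∈ A, a * x = x * a := by
    intro a ha
    have h1 : ∀ z ∈ A, z⁻¹ = z := fun z hz => inv_eq_of_mul_eq_one_right (el z hz)
    calc a * x = (a * x)⁻¹ := (h1 _ (A.mul_mem ha hx)).symm
      _ = x⁻¹ * a⁻¹ := mul_inv_rev _ _
      _ = x * a := by rw [h1 _ ha, h1 _ hx]
  have hle := le_EE sq (el x hx) hA heq
  refine ⟨TIE.EE (cv M (A : Set H)), hle, fun e he => TIE.EE_sq sq faith he, ?_, fun e he => he.2, ?_⟩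
  · refine le_antisymm (cv_anti (SetLike.coe_subset_coe.2 hle)) ?_
    intro m hm e he
    exact he.1 m hm
  · intro g hg e he
    refine TIE.smul_mem_EE (fun m => ?_) he
    rw [← heq, mem_cv_singleton, mem_cv_singleton, ← mul_smul, ← hg, mul_smul, smul_left_cancel_iff]

/-- **(I)** `x ∈ A` inverts `w` of odd order ⟹ `|M : C_M(w)| ≤ |A|²` -/
theorem inv_le [Finite M] (hex : (cv M (A : Set H)).index ≤ Nat.card A) (el : ∀ a ∈ A, a * a = 1) {x w : H}
    (hx : x ∈ A) {n : ℕ} (hw : x * w * x⁻¹ = w⁻¹) (ho : Odd n) (hn : w ^ n = 1) :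
    (cv M ({w} : Set H)).index ≤ Nat.card A ^ 2 :=
  (InvFrob.inv_index (M := M) (el x hx) hw ho hn).trans (Nat.pow_le_pow_left (index_le hex hx) 2)

/-- `InvAt x n` ⟹ `2 ^ n ≤ |A|` -/
theorem inv_card [Finite M] (sq : ∀ m : M, m * m = 1) (faith : ∀ h : H, (∀ m : M, h • m = m) → h = 1)
    (hex : (cv M (A : Set H)).index ≤ Nat.card A) (el : ∀ a ∈ A, a * a = 1) {x : H} (hx : x ∈ A) {n : ℕ}
    (h : InvAt x n) : 2 ^ n ≤ Nat.card A :=
  (InvRow.inv_big sq faith (el x hx) h).trans (index_le hex hx)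

/-- **`InvAt x n`, `|A| ≤ 2 ^ n`** : `|A| = 2 ^ n` and `EQ(x)` -/
theorem inv_eq [Finite M] (sq : ∀ m : M, m * m = 1) (faith : ∀ h : H, (∀ m : M, h • m = m) → h = 1)
    (hex : (cv M (A : Set H)).index ≤ Nat.card A) (el : ∀ a ∈ A, a * a = 1) {x : H} (hx : x ∈ A) {n : ℕ}
    (hn : Nat.card A ≤ 2 ^ n) (h : InvAt x n) :
    Nat.card A = 2 ^ n ∧ cv M ({x} : Set H) = cv M (A : Set H) := by
  have h1 := InvRow.inv_big sq faith (el x hx) h
  exact ⟨le_antisymm hn (inv_card sq faith hex el hx h), eq_of_le hex hx (hn.trans h1)⟩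

end weak

section lit

variable {H : Type u} [Group H] {M : Type v} [Group M] [MulDistribMulAction H M] {K T A : Subgroup H}

/-- `H` acts faithfully on `K`. -/
theorem conjNormal_injective [K.Normal] (hc : centralizer (K : Set H) = ⊥) :
    Function.Injective (MulAut.conjNormal : H →* MulAut K) := by
  rw [injective_iff_map_eq_one]
  intro g hg
  rw [← mem_bot, ← hc, mem_centralizer_iff]
  intro k hk
  have h1 := congrArg (fun φ : MulAut K => ((φ ⟨k, hk⟩ : K) : H)) hg
  simp only [MulAut.conjNormal_apply, MulAut.one_apply] at h1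
  exact (mul_inv_eq_iff_eq_mul.1 h1).symm

/-- `|H : K| ≤ |Out(K)|` -/
theorem asx_index_le [Finite H] (h : ASx K T A) : K.index ≤ (MulAut.conj : K →* MulAut K).range.index := by
  have hN := h.norm
  have : Finite (MulAut K) :=
    Finite.of_injective (fun φ => (φ : K → K)) DFunLike.coe_injective
  set R := (MulAut.conj : K →* MulAut K).range with hR
  have h1 : R.comap (MulAut.conjNormal : H →* MulAut K) ≤ K := by
    intro g hg
    obtain ⟨k, hk⟩ := hg
    have h3 : (MulAut.conjNormal (k : H) : MulAut K) = MulAut.conj k := by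
      ext x
      rw [MulAut.conjNormal_apply, MulAut.conj_apply]
      rfl
    have h2 := conjNormal_injective h.cen (h3.trans hk)
    rw [← h2]
    exact k.2
  calc K.index ≤ (R.comap (MulAut.conjNormal : H →* MulAut K)).index :=
        Nat.le_of_dvd (Nat.pos_of_ne_zero index_ne_zero_of_finite) (index_dvd_of_le h1)
    _ = R.relIndex (MulAut.conjNormal : H →* MulAut K).range := by rw [index_comap]
    _ ≤ R.relIndex ⊤ := relIndex_le_of_le_right le_top (by rw [relIndex_top_right]; exact index_ne_zero_of_finite)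
    _ = R.index := relIndex_top_right R

/-- **`|A| ≤ 2 ^ n`** if `RK K n` -/
theorem asx_card_le (h : ASx K T A) {n : ℕ} (hrk : RK K n) : Nat.card A ≤ 2 ^ n := by
  have hN := h.norm
  refine hrk.card_le_of_injective ((MulAut.conjNormal : H →* MulAut K).comp A.subtype)
    ((conjNormal_injective h.cen).comp A.subtype_injective) (fun x => ?_)
  rw [pow_two]
  exact Subtype.ext (h.el x x.2)

/-- `|A| ≤ |Out(K)| |A ∩ K|` -/
theorem asx_card_inf [Finite H] (h : ASx K T A) :
    Nat.card A ≤ (MulAut.conj : K →* MulAut K).range.index * Nat.card ↥(K ⊓ A) := by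
  have hN := h.norm
  have h1 : K.relIndex A * Nat.card ↥(K ⊓ A) = Nat.card A := by
    have h2 := relIndex_mul_relIndex (⊥ : Subgroup H) (K ⊓ A) A bot_le inf_le_right
    rw [relIndex_bot_left, relIndex_bot_left, inf_relIndex_right, mul_comm] at h2
    exact h2
  have h3 : K.relIndex A ≤ K.relIndex ⊤ :=
    relIndex_le_of_le_right le_top (by rw [relIndex_top_right]; exact index_ne_zero_of_finite)
  rw [relIndex_top_right] at h3
  rw [← h1]
  exact Nat.mul_le_mul_right _ (h3.trans (asx_index_le h))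

/-- **`A ∩ K ≠ 1`** if `|Out K| < |A|` -/
theorem asx_exists_mem [Finite H] (h : ASx K T A)
    (hout : (MulAut.conj : K →* MulAut K).range.index < Nat.card A) : ∃ x ∈ A, x ∈ K ∧ x ≠ 1 := by
  by_contra hc
  push Not at hc
  have h1 : K ⊓ A = ⊥ := by
    rw [eq_bot_iff]
    rintro x ⟨hx1, hx2⟩
    exact hc x hx2 hx1
  have h2 := asx_card_inf h
  rw [h1, card_bot, mul_one] at h2
  omega

/-- `x ∈ A ∩ K`, `InvAt x n` in `K` : `2 ^ n ≤ |A|` -/
theorem inX_inv_card [Finite M] (h : InX H M K T A) {n : ℕ} {x : K} (hxA : (x : H) ∈ A) (hx : InvAt x n) :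
    2 ^ n ≤ Nat.card A :=
  inv_card h.sq h.faith h.exact.le h.el hxA (hx.map K.subtype K.subtype_injective)

/-- **`x ∈ A ∩ K`, `InvAt x n` in `K`, `|A| ≤ 2 ^ n`** : `|A| = 2 ^ n` and `EQ(x)` -/
theorem inX_inv_eq [Finite M] (h : InX H M K T A) {n : ℕ} (hn : Nat.card A ≤ 2 ^ n) {x : K} (hxA : (x : H) ∈ A)
    (hx : InvAt x n) : Nat.card A = 2 ^ n ∧ cv M ({(x : H)} : Set H) = cv M (A : Set H) :=
  inv_eq h.sq h.faith h.exact.le h.el hxA hn (hx.map K.subtype K.subtype_injective)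

/-- **`EQ(x)`, `x ∈ K`** : `C_K(x)` has a normal elementary abelian subgroup `E ∋ x` which contains `A ∩ K`, and
`|A| ≤ |Out K| |E|`. -/
theorem inX_exists_sub [Finite H] (h : InX H M K T A) {x : K} (hxA : (x : H) ∈ A)
    (heq : cv M ({(x : H)} : Set H) = cv M (A : Set H)) :
    ∃ E : Subgroup K, x ∈ E ∧ A.subgroupOf K ≤ E ∧ (∀ e ∈ E, e * e = 1) ∧
      (∀ g : K, g * x = x * g → ∀ e ∈ E, g * e * g⁻¹ ∈ E) ∧
      Nat.card A ≤ (MulAut.conj : K →* MulAut K).range.index * Nat.card E := by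
  obtain ⟨E, h1, h2, -, -, h3⟩ := exists_normal h.sq h.faith h.el hxA heq
  have h4 : A.subgroupOf K ≤ E.subgroupOf K := fun y hy => h1 hy
  refine ⟨E.subgroupOf K, h1 hxA, h4, fun e he => Subtype.ext (h2 e he), fun g hg e he => ?_, ?_⟩
  · exact h3 g (congrArg Subtype.val hg) e he
  · refine (asx_card_inf h.asx).trans (Nat.mul_le_mul_left _ ?_)
    have h5 : Nat.card ↥(K ⊓ A) = Nat.card (A.subgroupOf K) := by
      have h6 : (A.subgroupOf K).map K.subtype = K ⊓ A := by
        rw [subgroupOf_map_subtype, inf_comm]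
      rw [← h6]
      exact (Nat.card_congr ((A.subgroupOf K).equivMapOfInjective K.subtype K.subtype_injective).toEquiv).symm
    rw [h5]
    exact card_le_of_le h4

/-- **The row** : `RK S n`, `|Out S| < 4`, for all involutions `x` : `InvAt x n` and `|Out S| |E| < 2 ^ n` for all elementary
abelian `E ∋ x` which are normal in `C_S(x)`. -/
theorem dead {𝒮 : ∀ (S : Type u) [Group S], Prop} (h𝒮 : ∀ (S : Type u) [Group S] [Finite S], 𝒮 S → ∃ n, RK S n ∧
    (MulAut.conj : S →* MulAut S).range.index < 4 ∧ ∀ x : S, x * x = 1 → x ≠ 1 → InvAt x n ∧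
      ∀ E : Subgroup S, x ∈ E → (∀ e ∈ E, e * e = 1) → (∀ g : S, g * x = x * g → ∀ e ∈ E, g * e * g⁻¹ ∈ E) →
        (MulAut.conj : S →* MulAut S).range.index * Nat.card E < 2 ^ n) : DeadX.{u, v} 𝒮 := by
  intro H _ _ M _ _ _ K T A h hS
  obtain ⟨n, hrk, hout, hinv⟩ := h𝒮 _ hS
  obtain ⟨x, hxA, hxK, hx1⟩ := asx_exists_mem h.asx (hout.trans_le h.four)
  obtain ⟨h1, h2⟩ := hinv ⟨x, hxK⟩ (Subtype.ext (h.el x hxA)) fun h3 => hx1 (congrArg Subtype.val h3)
  obtain ⟨h3, h4⟩ := inX_inv_eq h (asx_card_le h.asx hrk) (x := ⟨x, hxK⟩) hxA h1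
  obtain ⟨E, h5, -, h6, h7, h8⟩ := inX_exists_sub h (x := ⟨x, hxK⟩) hxA h4
  have h9 := h2 E h5 h6 h7
  omega

/-- The row if `RK S n` and `InvAt x (n + 1)` for all involutions. -/
theorem dead_strong {𝒮 : ∀ (S : Type u) [Group S], Prop} (h𝒮 : ∀ (S : Type u) [Group S] [Finite S], 𝒮 S → ∃ n,
    RK S n ∧ (MulAut.conj : S →* MulAut S).range.index < 4 ∧ ∀ x : S, x * x = 1 → x ≠ 1 → InvAt x (n + 1)) :
    DeadX.{u, v} 𝒮 := by
  intro H _ _ M _ _ _ K T A h hS
  obtain ⟨n, hrk, hout, hinv⟩ := h𝒮 _ hS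
  obtain ⟨x, hxA, hxK, hx1⟩ := asx_exists_mem h.asx (hout.trans_le h.four)
  have h1 := hinv ⟨x, hxK⟩ (Subtype.ext (h.el x hxA)) fun h3 => hx1 (congrArg Subtype.val h3)
  have h2 := inX_inv_card h (x := ⟨x, hxK⟩) hxA h1
  have h3 := asx_card_le h.asx hrk
  have h4 : 2 ^ n < 2 ^ (n + 1) := Nat.pow_lt_pow_right (by norm_num) (Nat.lt_succ_self n)
  omega

end lit

end Cfsg.Agent.Omega.ML.Ex.Inv

end

section


/-!
# The K-list for EXACT subgroups: all forms of a row give `DeadN` (helper441)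

* `InN.toA` : 995's `InN H N K T A` gives `InA H N K T A`;
* **`DeadA.deadN`**, **`Row.deadN`** : a row over `InA`, or over both modules, gives `DeadN` (995's `DeadX.deadN` is the
  third conversion);  `DeadN.mono'`.
-/

set_option autoImplicit false

namespace Cfsg.Agent.Omega.ML.Ex

open Subgroup Cfsg Cfsg.Agent.ZN Cfsg.Agent.Omega.NOThree.NoOver Cfsg.Agent.Omega.ML.CD
open Cfsg.Agent.ClassTwoFusion.Quad Cfsg.Agent.Omega.ML.MinFrame

universe u v

theorem InN.toA {H : Type u} [Group H] {N : Type v} [Group N] [MulDistribMulAction H N] {K T A : Subgroup H}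
    (h : InN H N K T A) : InA H N K T A where
  sq := h.sq
  faith := h.faith
  norm := h.norm
  simple := h.simple
  cen := h.cen
  gen := h.gen
  two := h.two
  syl := h.syl
  AT := h.AT
  el := h.el
  four := h.four
  exact := h.exact
  atom := h.atom
  low := h.low
  nmax := h.nmax

/-- **Rows over `InA` are rows for `InN`.** -/
theorem DeadA.deadN {𝒮 : ∀ (S : Type u) [Group S], Prop} (hd : DeadA.{u, v} 𝒮) : DeadN.{u, v} 𝒮 :=
  fun H _ _ N _ _ _ K T A h hS => hd H N K T A h.toA hS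

/-- **Rows over both modules are rows for `InN`.** -/
theorem Row.deadN {𝒮 : ∀ (S : Type u) [Group S], Prop} (hd : Row.{u, v} 𝒮) : DeadN.{u, v} 𝒮 := by
  intro H _ _ N _ _ _ K T A h hS
  have hnor := h.ck_normal
  let _ := modAct (H := H) (InN.ck N K) h.smul_mem_ck
  exact hd H (N ⧸ InN.ck N K) N K T A h.inX h.toA hS

/-- smaller classes -/
theorem DeadN.mono' {𝒮 𝒮' : ∀ (S : Type u) [Group S], Prop} (h : DeadN.{u, v} 𝒮)
    (h' : ∀ (S : Type u) [Group S], 𝒮' S → 𝒮 S) : DeadN.{u, v} 𝒮' :=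
  fun H _ _ N _ _ _ K T A hI hS => h H N K T A hI (h' _ hS)

end Cfsg.Agent.Omega.ML.Ex

end

section


/-!
# The K-list for EXACT subgroups: the bridges between the literals (helper585)

`DeadN 𝒮` (helper995) is the weakest form of a row:

* `InN.inA` : the module `N` of `InN` is as in `InA`;
* **`DeadX.deadN`** (DefN.lean), **`DeadA.deadN`**, **`Row.deadN`** (InAN.lean) : every form of a row gives `DeadN`;
* `DeadN.mono`, `DeadN.or`;
* `InX.inN` : `InX` and `Atm M A` give `InN` (and `InA`) for the same module.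
-/

set_option autoImplicit false

namespace Cfsg.Agent.Omega.ML.Ex

open Subgroup Cfsg Cfsg.Agent.ZN Cfsg.Agent.ClassTwoFusion.Quad Cfsg.Agent.Omega.ML.MinFrame

universe u v

section

variable {H : Type u} [Group H] {N : Type v} [Group N] [MulDistribMulAction H N] {K T A : Subgroup H}

/-- the module `N` of `InN` with its exact atom -/
theorem InN.inA (h : InN H N K T A) : InA H N K T A where
  sq := h.sq
  faith := h.faith
  norm := h.norm
  simple := h.simple
  cen := h.cen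
  gen := h.gen
  two := h.two
  syl := h.syl
  AT := h.AT
  el := h.el
  four := h.four
  exact := h.exact
  atom := h.atom
  low := h.low
  nmax := h.nmax

/-- an atom of an irreducible module -/
theorem InX.inN [Finite H] [Finite N] (h : InX H N K T A) (hat : Atm N A) : InN H N K T A := InN.of_inX h hat

end

/-- smaller classes -/
theorem DeadN.mono {𝒮 𝒮' : ∀ (S : Type u) [Group S], Prop} (h : DeadN.{u, v} 𝒮)
    (h' : ∀ (S : Type u) [Group S], 𝒮' S → 𝒮 S) : DeadN.{u, v} 𝒮' :=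
  fun H _ _ N _ _ _ K T A hI hS => h H N K T A hI (h' _ hS)

theorem DeadN.or {𝒮 𝒮' : ∀ (S : Type u) [Group S], Prop} (h : DeadN.{u, v} 𝒮) (h' : DeadN.{u, v} 𝒮') :
    DeadN.{u, v} fun S _ => 𝒮 S ∨ 𝒮' S :=
  fun H _ _ N _ _ _ K T A hI hS =>
    hS.elim (fun h1 => h H N K T A hI h1) fun h1 => h' H N K T A hI h1

end Cfsg.Agent.Omega.ML.Ex

end

section


/-!
# The K-list for EXACT ATOMS (EXL), over `InN`: the list of all rows (helper484)

* `InN.not_comm`, `InN.not_primeCyclic` (`DeadN.mono`, `DeadN.or` : Bridge.lean);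
* **`RowsX.exitN`** : from the rows `RowsX` and the row `A₆` for atoms: in the situation `InN` a known `K` is of Lie type
  in characteristic 2 or `U₃(3) = G₂(2)'`;
* `RowsX.exitA` : the same for `InX` and an atom `A`;
* `RowsN` : the list with fields `DeadN 𝒮`, if some row is known for atoms only; **`RowsN.exit`**, `RowsN.exitX`;
  `RowsX.rowsN`.
-/

set_option autoImplicit false

namespace Cfsg.Agent.Omega.ML.Ex

open Subgroup Cfsg Cfsg.Agent.Omega.ML.Known Cfsg.Agent.Omega.ML.Rows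

universe u v

/-- `K` is not abelian -/
theorem InN.not_comm {H : Type u} [Group H] {M : Type v} [Group M] [MulDistribMulAction H M] {K T A : Subgroup H}
    (h : InN H M K T A) : ¬ ∀ a b : K, a * b = b * a := by
  intro hc
  have h1 : K ≤ centralizer (K : Set H) := by
    intro x hx
    rw [mem_centralizer_iff]
    intro y hy
    exact congrArg Subtype.val (hc ⟨y, hy⟩ ⟨x, hx⟩)
  rw [h.cen] at h1
  have hs := h.simple
  obtain ⟨x, hx⟩ := exists_ne (1 : K)
  exact hx (Subtype.ext (mem_bot.1 (h1 x.2)))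

/-- `K` is not of prime order -/
theorem InN.not_primeCyclic {H : Type u} [Group H] {M : Type v} [Group M] [MulDistribMulAction H M]
    {K T A : Subgroup H} (h : InN H M K T A) : ¬ IsPrimeCyclic K := by
  intro hc
  have h1 : Nat.Prime (Nat.card K) := hc
  have : Fact (Nat.card K).Prime := ⟨h1⟩
  have hcyc : IsCyclic K := isCyclic_of_prime_card (α := K) rfl
  exact h.not_comm fun x y => (IsCyclic.commGroup (α := K)).mul_comm x y

/-- **The rows of the list (EXL), atoms.** -/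
structure RowsN : Prop where
  a6 : DeadN.{u, v} fun S _ => Nonempty (S ≃* alternatingGroup (Fin 6))
  alt : DeadN.{u, v} fun S _ => ∃ n : ℕ, 7 ≤ n ∧ n ≠ 8 ∧ Nonempty (S ≃* alternatingGroup (Fin n))
  odd : DeadN.{u, v} fun S _ => OddLie S ∧ ¬ IsLieTypeChar 2 S ∧ ¬ IsUThreeThree S ∧ ¬ IsAlt6 S
  tits : DeadN.{u, v} @Lie.IsoTits
  m11 : DeadN.{u, v} @Spor.IsoM11
  m12 : DeadN.{u, v} @Spor.IsoM12
  m22 : DeadN.{u, v} @Spor.IsoM22
  m23 : DeadN.{u, v} @Spor.IsoM23
  m24 : DeadN.{u, v} @Spor.IsoM24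
  j1 : DeadN.{u, v} @Spor.IsoJ1
  j2 : DeadN.{u, v} @Spor.IsoJ2
  j3 : DeadN.{u, v} @Spor.IsoJ3
  j4 : DeadN.{u, v} @Spor.IsoJ4
  co1 : DeadN.{u, v} @Spor.IsoCo1
  co2 : DeadN.{u, v} @Spor.IsoCo2
  co3 : DeadN.{u, v} @Spor.IsoCo3
  mcl : DeadN.{u, v} @Spor.IsoMcL
  hs : DeadN.{u, v} @Spor.IsoHS
  suz : DeadN.{u, v} @Spor.IsoSuz
  he : DeadN.{u, v} @Spor.IsoHe
  ru : DeadN.{u, v} @Spor.IsoRu
  on : DeadN.{u, v} @Spor.IsoON
  ly : DeadN.{u, v} @Spor.IsoLy
  fi22 : DeadN.{u, v} @Spor.IsoFi22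
  fi23 : DeadN.{u, v} @Spor.IsoFi23
  fi24 : DeadN.{u, v} @Spor.IsoFi24'
  hn : DeadN.{u, v} @Spor.IsoHN
  th : DeadN.{u, v} @Spor.IsoTh
  b : DeadN.{u, v} @Spor.IsoB
  m : DeadN.{u, v} @Spor.IsoM

/-- rows over `InX` are rows over `InN` -/
theorem RowsX.rowsN (R : RowsX.{u, v}) (a6 : DeadN.{u, v} fun S _ => Nonempty (S ≃* alternatingGroup (Fin 6))) :
    RowsN.{u, v} where
  a6 := a6
  alt := R.alt.deadN
  odd := R.odd.deadN
  tits := R.tits.deadN
  m11 := R.m11.deadN
  m12 := R.m12.deadN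
  m22 := R.m22.deadN
  m23 := R.m23.deadN
  m24 := R.m24.deadN
  j1 := R.j1.deadN
  j2 := R.j2.deadN
  j3 := R.j3.deadN
  j4 := R.j4.deadN
  co1 := R.co1.deadN
  co2 := R.co2.deadN
  co3 := R.co3.deadN
  mcl := R.mcl.deadN
  hs := R.hs.deadN
  suz := R.suz.deadN
  he := R.he.deadN
  ru := R.ru.deadN
  on := R.on.deadN
  ly := R.ly.deadN
  fi22 := R.fi22.deadN
  fi23 := R.fi23.deadN
  fi24 := R.fi24.deadN
  hn := R.hn.deadN
  th := R.th.deadN
  b := R.b.deadN
  m := R.m.deadN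

/-- **All rows: in the situation `InN` a known simple group `K` is of Lie type in characteristic 2 or `U₃(3)`.** -/
theorem RowsN.exit (R : RowsN.{u, v}) {H : Type u} [Group H] [Finite H] {M : Type v} [Group M] [Finite M]
    [MulDistribMulAction H M] {K T A : Subgroup H} (hI : InN H M K T A) (hS : IsKnownSimple' K) :
    IsLieTypeChar 2 K ∨ IsUThreeThree K := by
  by_contra hcon
  rw [not_or] at hcon
  obtain ⟨hc2, hc3⟩ := hcon
  by_cases hc6 : Nonempty (K ≃* alternatingGroup (Fin 6))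
  · exact R.a6 H M K T A hI hc6
  rcases cases hS with h | h | h | h | h | h | h
  · exact hI.not_primeCyclic h
  · exact hc2 h
  · exact R.odd H M K T A hI ⟨h.1, h.2, hc3, hc6⟩
  · exact hc6 h
  · exact R.alt H M K T A hI h
  · exact R.tits H M K T A hI h
  · unfold IsSporadicGroup at h
    rcases h with h | h | h | h | h | h | h | h | h | h | h | h | h | h | h | h | h | h | h | h | h | h | h | h | h | h
    · exact R.m11 H M K T A hI h
    · exact R.m12 H M K T A hI h
    · exact R.m22 H M K T A hI h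
    · exact R.m23 H M K T A hI h
    · exact R.m24 H M K T A hI h
    · exact R.j1 H M K T A hI h
    · exact R.j2 H M K T A hI h
    · exact R.j3 H M K T A hI h
    · exact R.j4 H M K T A hI h
    · exact R.co1 H M K T A hI h
    · exact R.co2 H M K T A hI h
    · exact R.co3 H M K T A hI h
    · exact R.mcl H M K T A hI h
    · exact R.hs H M K T A hI h
    · exact R.suz H M K T A hI h
    · exact R.he H M K T A hI h
    · exact R.ru H M K T A hI h
    · exact R.on H M K T A hI h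
    · exact R.ly H M K T A hI h
    · exact R.fi22 H M K T A hI h
    · exact R.fi23 H M K T A hI h
    · exact R.fi24 H M K T A hI h
    · exact R.hn H M K T A hI h
    · exact R.th H M K T A hI h
    · exact R.b H M K T A hI h
    · exact R.m H M K T A hI h

/-- **All rows for atoms: in the situation `InN` a known simple group `K` is of Lie type in characteristic 2 or
`U₃(3)`.** -/
theorem RowsX.exitN (R : RowsX.{u, v}) (a6 : DeadN.{u, v} fun S _ => Nonempty (S ≃* alternatingGroup (Fin 6)))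
    {H : Type u} [Group H] [Finite H] {M : Type v} [Group M] [Finite M]
    [MulDistribMulAction H M] {K T A : Subgroup H} (hI : InN H M K T A) (hS : IsKnownSimple' K) :
    IsLieTypeChar 2 K ∨ IsUThreeThree K := by
  by_contra hcon
  rw [not_or] at hcon
  exact R.known.deadN H M K T A hI ⟨hS, hcon.1, hcon.2, fun h => a6 H M K T A hI h⟩

/-- the same for an atom on an irreducible module -/
theorem RowsX.exitA (R : RowsX.{u, v}) (a6 : DeadN.{u, v} fun S _ => Nonempty (S ≃* alternatingGroup (Fin 6)))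
    {H : Type u} [Group H] [Finite H] {M : Type v} [Group M] [Finite M]
    [MulDistribMulAction H M] {K T A : Subgroup H} (hI : InX H M K T A) (hA : Atm M A) (hS : IsKnownSimple' K) :
    IsLieTypeChar 2 K ∨ IsUThreeThree K :=
  R.exitN a6 (InN.of_inX hI hA) hS

end Cfsg.Agent.Omega.ML.Ex

end

section


/-!
# (LA) : the conjugates of `A` which lie in `O₂(C_H(m))` are low (helper854; helper396, 721, 809, 829)

* `LA H M T A m` : `m ≠ 1` is `T`-fixed and every conjugate of `A` in `O₂(C_H(m))` lies in `O₂(R)` for all `T ≤ R < H`;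
* `PsR T B p m` : **THE LAST SITUATION of the K-route, any `R = ker p`** : `X` acts on `W`, trivially on `ker p`, `M = W / ker p`
  is faithful, `O₂(X) = 1`, `M = ⟨m^X⟩`, `C_W(T) ≤ ker p`, `B ≤ T` exact atom of order `≥ 4`, low, with (LA) and (nmax).
-/

set_option autoImplicit false

namespace Cfsg.Agent.Omega.ML.Ex

open Subgroup Cfsg Cfsg.Agent.Omega.NOThree.NoOver
open Cfsg.Agent.ZN (o2)
open Cfsg.Agent.ClassTwoFusion.Quad (cv)

universe u v w

/-- **(LA)** -/
structure LA (H : Type u) [Group H] (M : Type v) [Group M] [MulDistribMulAction H M] (T A : Subgroup H) (m : M) :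
    Prop where
  fix : ∀ t ∈ T, t • m = m
  ne : m ≠ 1
  low : ∀ g : H, cj g A ≤ o2 (MulAction.stabilizer H m) → ∀ R : Subgroup H, T ≤ R → R ≠ ⊤ → cj g A ≤ o2 R

/-- **The last situation of the K-route.** -/
structure PsR {X : Type u} [Group X] {M : Type v} [CommGroup M] [MulDistribMulAction X M] {W : Type w} [CommGroup W]
    [MulDistribMulAction X W] (T B : Subgroup X) (p : W →* M) (m : M) : Prop where
  known : IsKGroupWith IsKnownSimple' X
  sq : ∀ w : W, w * w = 1
  eqv : ∀ (x : X) (w : W), p (x • w) = x • p w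
  surj : Function.Surjective p
  ker : ∀ w : W, p w = 1 → ∀ x : X, x • w = w
  faith : ∀ x : X, (∀ m : M, x • m = m) → x = 1
  core : ∀ N : Subgroup X, N.Normal → IsPGroup 2 N → N = ⊥
  two : IsPGroup 2 T
  syl : ¬ 2 ∣ T.index
  fixT : ∀ w : W, (∀ t ∈ T, t • w = w) → p w = 1
  gen : ∀ U : Subgroup M, (∀ x : X, ∀ u ∈ U, x • u ∈ U) → m ∈ U → U = ⊤
  BT : B ≤ T
  el : ∀ b ∈ B, b * b = 1
  quad : ∀ a ∈ B, ∀ b ∈ B, ∀ m : M, b • ((a • m) * m⁻¹) = (a • m) * m⁻¹
  four : 4 ≤ Nat.card B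
  exact : (cv M (B : Set X)).index = Nat.card B
  atom : ∀ C : Subgroup X, C ≤ B → C ≠ ⊥ → C ≠ B → Nat.card C < (cv M (C : Set X)).index
  low : ∀ R : Subgroup X, T ≤ R → R ≠ ⊤ → B ≤ o2 R
  nmax : ¬ ∃ N : Subgroup X, N ≠ ⊤ ∧ ∀ R : Subgroup X, T ≤ R → R ≠ ⊤ → R ≤ N
  la : LA X M T B m

theorem PsR.sqM {X : Type u} [Group X] {M : Type v} [CommGroup M] [MulDistribMulAction X M] {W : Type w} [CommGroup W]
    [MulDistribMulAction X W] {T B : Subgroup X} {p : W →* M} {m : M} (h : PsR T B p m) (v : M) : v * v = 1 := by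
  obtain ⟨w, rfl⟩ := h.surj v
  rw [← map_mul, h.sq, map_one]

/-- a row with the W-part -/
def DeadXW (𝒮 : ∀ (S : Type u) [Group S], Prop) : Prop :=
  ∀ (X : Type u) [Group X] [Finite X] (M : Type v) [Group M] [Finite M] [MulDistribMulAction X M]
    (W : Type w) [CommGroup W] [Finite W] [MulDistribMulAction X W] (K T A : Subgroup X) (p : W →* M),
    InX X M K T A → WPart K T p → 𝒮 K → False

/-- a row with the W-part and (LA) -/
def DeadXL (𝒮 : ∀ (S : Type u) [Group S], Prop) : Prop :=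
  ∀ (X : Type u) [Group X] [Finite X] (M : Type v) [Group M] [Finite M] [MulDistribMulAction X M]
    (W : Type w) [CommGroup W] [Finite W] [MulDistribMulAction X W] (K T A : Subgroup X) (p : W →* M) (m : M),
    InX X M K T A → WPart K T p → LA X M T A m → 𝒮 K → False

/-- **RED with the W-part and (LA)** -/
def PsRed : Prop :=
  ∀ (X : Type u) [Group X] [Finite X] (M : Type v) [CommGroup M] [Finite M] [MulDistribMulAction X M]
    (W : Type w) [CommGroup W] [Finite W] [MulDistribMulAction X W] (T B : Subgroup X) (p : W →* M) (m : M),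
    PsR T B p m →
    ∃ (X₁ : Type u) (_ : Group X₁) (_ : Finite X₁) (M₁ : Type v) (_ : Group M₁) (_ : Finite M₁)
      (_ : MulDistribMulAction X₁ M₁) (W₁ : Type w) (_ : CommGroup W₁) (_ : Finite W₁)
      (_ : MulDistribMulAction X₁ W₁) (K₁ T₁ B₁ : Subgroup X₁) (p₁ : W₁ →* M₁) (m₁ : M₁),
      InX X₁ M₁ K₁ T₁ B₁ ∧ WPart K₁ T₁ p₁ ∧ LA X₁ M₁ T₁ B₁ m₁ ∧ IsKnownSimple' K₁

/-- **the K-list on `M`** : three exits -/
def ExitX : Prop :=
  ∀ (X : Type u) [Group X] [Finite X] (M : Type v) [Group M] [Finite M] [MulDistribMulAction X M]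
    (K T A : Subgroup X), InX X M K T A → IsKnownSimple' K →
    IsLieTypeChar 2 K ∨ Rows.IsUThreeThree K ∨ Nonempty (K ≃* alternatingGroup (Fin 6))

/-- the pieces behind `PsR` -/
structure EndPieces : Prop where
  red : PsRed.{u, v, w}
  exit : ExitX.{u, v}
  lie2 : DeadXL.{u, v, w} fun S _ => IsLieTypeChar 2 S
  u33 : DeadXW.{u, v, w} fun S _ => Rows.IsUThreeThree S
  a6 : DeadXW.{u, v, w} fun S _ => Nonempty (S ≃* alternatingGroup (Fin 6))

/-- **`PsR` is impossible** -/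
theorem EndPieces.false (P : EndPieces.{u, v, w}) {X : Type u} [Group X] [Finite X] {M : Type v} [CommGroup M]
    [Finite M] [MulDistribMulAction X M] {W : Type w} [CommGroup W] [Finite W] [MulDistribMulAction X W]
    {T B : Subgroup X} {p : W →* M} {m : M} (h : PsR T B p m) : False := by
  obtain ⟨X₁, _, _, M₁, _, _, _, W₁, _, _, _, K₁, T₁, B₁, p₁, m₁, hI, hW, hL, hK⟩ := P.red X M W T B p m h
  rcases P.exit X₁ M₁ K₁ T₁ B₁ hI hK with h | h | h
  · exact P.lie2 X₁ M₁ W₁ K₁ T₁ B₁ p₁ m₁ hI hW hL h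
  · exact P.u33 X₁ M₁ W₁ K₁ T₁ B₁ p₁ hI hW h
  · exact P.a6 X₁ M₁ W₁ K₁ T₁ B₁ p₁ hI hW h

end Cfsg.Agent.Omega.ML.Ex

end

section


/-!
# The K-list for EXACT ATOMS (EXL): the row `A₆` over `InN` (helper848)

* **`deadN`** : `DeadN (· ≃* A₆)`.
-/

set_option autoImplicit false

namespace Cfsg.Agent.Omega.ML.Ex.RowASixN

open Subgroup Equiv Cfsg Cfsg.Agent.ZN Cfsg.Agent.StdAlt.Six Cfsg.Agent.Omega.ML.AltSix Cfsg.Agent.Omega.ML.Ex
open Cfsg.Agent.ClassTwoFusion.Quad Cfsg.Agent.Omega.ML.MinFrame Cfsg.Agent.Omega.ML.Ex.RowASix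

universe u v

/-- elements inducing nontrivial permutations are nontrivial -/
theorem ne_one {X : Type u} [Group X] {S : Subgroup X} [S.Normal] {e : S ≃* A6} {g : X} {σ : Perm (Fin 6)} {x : A6}
    (hσ : Cj S e g σ) (h : σ * (x : Perm (Fin 6)) * σ⁻¹ ≠ (x : Perm (Fin 6))) : g ≠ 1 := by
  rintro rfl
  apply h
  rw [← hσ x, map_one, MulAut.one_apply]

theorem perm_ne : s45 * d0 * s45⁻¹ ≠ d0 ∧ s45 * z0 * c0 * (s45 * z0)⁻¹ ≠ c0 := by
  decide +kernel

/-- **The row `A₆` for atoms.** -/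
theorem deadN : DeadN.{u, v} fun S _ => Nonempty (S ≃* alternatingGroup (Fin 6)) := by
  rintro H _ _ N _ _ _ K T A h ⟨e₀⟩
  have hn := h.norm
  obtain ⟨e, a, b, hs⟩ := struct h.asx e₀ (by have := h.four; omega)
  have ha : a ≠ 1 := ne_one (x := D0) hs.ca perm_ne.1
  have hb : b ≠ 1 := ne_one (x := C0) hs.cb perm_ne.2
  have htop := stw_top h.asx hs (h.cv_four hs.four hs.aA ha) (h.cv_four hs.four hs.bA hb)
  obtain ⟨z, hz, horb⟩ := h.point
  have hzA : z ∈ cv N (A : Set H) := fun x hx => hz x (h.AT hx)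
  have h1 : orb (⊤ : Subgroup H) z ≤ cv N (A : Set H) := orb_le fun g _ => by
    have h5 : g ∈ Stw H (cv N (A : Set H)) := by rw [htop]; trivial
    exact (h5 z).2 hzA
  have h2 := h.exact
  rw [horb, top_le_iff] at h1
  rw [h1, index_top, hs.four] at h2
  omega

end Cfsg.Agent.Omega.ML.Ex.RowASixN

end

section


/-!
# Exact and low configurations: `C_M(x) = C_M(A)` for one `x ∈ A#` (helper322)

`F := C_M(A)`, `E := EE F = C_H(F) ∩ C_H(M / F)` (`TIE.EE`).  If `C_M(x) = F` for an `x ∈ A#`: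

* `InX.le_EE` : `A ≤ E`;  `InX.EE_el` : `E` is elementary abelian;
* `InX.cent_le_EE` : `C_H(x) ≤ N_H(E)`;
* **`InX.false_of_no`** : impossible if no elementary abelian subgroup of `C_H(x)` which contains `A` is normalised by
  `C_H(x)`.
-/

set_option autoImplicit false

namespace Cfsg.Agent.Omega.ML.Ex

open Subgroup Cfsg Cfsg.Agent.ZN Cfsg.Agent.Omega.ML.Ex.TIE
open Cfsg.Agent.Omega.NOThree.NoOver Cfsg.Agent.Omega.ML.CD Cfsg.Agent.ClassTwoFusion.Quad

universe u v

variable {H : Type u} [Group H] {M : Type v} [Group M] [MulDistribMulAction H M] {K T A : Subgroup H}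

/-- `E` is of exponent 2 -/
theorem InX.EE_el (h : InX H M K T A) {F : Subgroup M} : ∀ e ∈ (EE F : Subgroup H), e * e = 1 :=
  fun _ he => EE_sq h.sq h.faith he

theorem InX.EE_comm (h : InX H M K T A) {F : Subgroup M} {a b : H} (ha : a ∈ (EE F : Subgroup H))
    (hb : b ∈ (EE F : Subgroup H)) : a * b = b * a := by
  have h1 : ∀ z ∈ (EE F : Subgroup H), z⁻¹ = z := fun z hz => inv_eq_of_mul_eq_one_right (h.EE_el z hz)
  calc a * b = (a * b)⁻¹ := (h1 _ (mul_mem ha hb)).symm
    _ = b⁻¹ * a⁻¹ := mul_inv_rev _ _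
    _ = b * a := by rw [h1 _ ha, h1 _ hb]

/-- **`A ≤ E`** -/
theorem InX.le_EE (h : InX H M K T A) {x : H} (hx : x ∈ A) (hcv : cv M ({x} : Set H) = cv M (A : Set H)) :
    A ≤ (EE (cv M (A : Set H)) : Subgroup H) := by
  intro b hb
  refine ⟨fun m hm => hm b hb, fun m => ?_⟩
  have h1 : (x • m) * m⁻¹ ∈ cv M (A : Set H) := by
    rw [← hcv, mem_cv_singleton, smul_mul', ← mul_smul, h.el x hx, one_smul, smul_inv']
    have h3 : m⁻¹ = m := inv_eq_of_mul_eq_one_left (h.sq m)
    have h4 : (x • m)⁻¹ = x • m := inv_eq_of_mul_eq_one_left (h.sq _)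
    rw [h3, h4, h.comm]
  have h2 : b • ((x • m) * m⁻¹) = (x • m) * m⁻¹ := h1 b hb
  rw [smul_mul', smul_inv', ← mul_smul, mul_inv_eq_iff_eq_mul] at h2
  rw [← hcv, mem_cv_singleton, smul_mul', smul_inv', ← mul_smul, h.A_comm x hx b hb, h2]
  calc x • m * m⁻¹ * b • m * (x • m)⁻¹ = (x • m) * ((m⁻¹ * b • m) * (x • m)⁻¹) := by group
    _ = (x • m) * ((x • m)⁻¹ * (m⁻¹ * b • m)) := by rw [h.comm (m⁻¹ * b • m)]
    _ = m⁻¹ * b • m := by group
    _ = b • m * m⁻¹ := h.comm _ _

/-- **`C_H(x) ≤ N_H(E)`** -/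
theorem InX.cent_le_EE (_h : InX H M K T A) {x : H} (hcv : cv M ({x} : Set H) = cv M (A : Set H)) :
    centralizer ({x} : Set H) ≤ normalizer ((EE (cv M (A : Set H)) : Subgroup H) : Set H) := by
  have key : ∀ g ∈ centralizer ({x} : Set H), ∀ m, m ∈ cv M (A : Set H) → g • m ∈ cv M (A : Set H) := by
    intro g hg m hm
    rw [← hcv, mem_cv_singleton] at hm ⊢
    rw [← mul_smul, mem_centralizer_iff.1 hg x rfl, mul_smul, hm]
  have key2 : ∀ g ∈ centralizer ({x} : Set H), ∀ m, m ∈ cv M (A : Set H) ↔ g • m ∈ cv M (A : Set H) := by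
    intro g hg m
    refine ⟨key g hg m, fun hm => ?_⟩
    have h1 := key g⁻¹ (inv_mem hg) _ hm
    rwa [inv_smul_smul] at h1
  intro g hg
  rw [mem_normalizer_iff]
  refine fun y => ⟨fun hy => smul_mem_EE (key2 g hg) hy, fun hy => ?_⟩
  have h1 := smul_mem_EE (key2 g⁻¹ (inv_mem hg)) hy
  have h2 : g⁻¹ * (g * y * g⁻¹) * g⁻¹⁻¹ = y := by group
  rwa [h2] at h1

/-- **No normal elementary abelian subgroup of `C_H(x)` contains `A`.** -/
theorem InX.false_of_no (h : InX H M K T A) {x : H} (hx : x ∈ A)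
    (hcv : cv M ({x} : Set H) = cv M (A : Set H))
    (hno : ∀ E : Subgroup H, A ≤ E → E ≤ centralizer ({x} : Set H) → (∀ e ∈ E, e * e = 1) →
      (∀ g, g * x = x * g → ∀ e ∈ E, g * e * g⁻¹ ∈ E) → False) : False := by
  have hle := h.le_EE hx hcv
  refine hno _ hle ?_ h.EE_el fun g hg e he => ?_
  · intro e he
    exact mem_centralizer_singleton_iff.2 (h.EE_comm he (hle hx))
  · exact (mem_normalizer_iff.1 (h.cent_le_EE hcv (mem_centralizer_singleton_iff.2 hg)) e).1 he

end Cfsg.Agent.Omega.ML.Ex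

end

section


/-!
# (F1'), the K-route: the piece `a6` (helper848)
-/

set_option autoImplicit false

namespace Cfsg.Agent.Omega.FOne.Glue.ASix

open Cfsg

universe u v w

end Cfsg.Agent.Omega.FOne.Glue.ASix

end

section


/-!
# THEOREM RED: from `PsR` to `Mn` (helper995)

* **`PsR.mn`** : `PsR T B p m → Mn T B m`.
-/

set_option autoImplicit false

namespace Cfsg.Agent.Omega.ML.Ex

open Subgroup Cfsg Cfsg.Agent.ZN Cfsg.Agent.Omega.ML.Ex.Red Cfsg.Agent.Omega.ML.MinFrame

universe u v w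

variable {X : Type u} [Group X] {M : Type v} [CommGroup M] [MulDistribMulAction X M] {W : Type w} [CommGroup W]
  [MulDistribMulAction X W] {T B : Subgroup X} {p : W →* M} {m : M}

/-- no normal subgroup of odd order: `C_W(T) ≤ C_W(X)` -/
theorem PsR.odd [Finite X] [Finite W] (h : PsR T B p m) {N : Subgroup X} (hN : N.Normal) (ho : Odd (Nat.card N)) :
    N = ⊥ := by
  have hTN : T ⊓ N = ⊥ := by
    have h1 : IsPGroup 2 (T ⊓ N : Subgroup X) := h.two.to_le inf_le_left
    have : Fact (Nat.Prime 2) := ⟨Nat.prime_two⟩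
    obtain ⟨k, hk⟩ := IsPGroup.iff_card.1 h1
    have h2 : Nat.card (T ⊓ N : Subgroup X) ∣ Nat.card N := card_dvd_of_le inf_le_right
    rw [← card_eq_one, hk]
    rcases Nat.eq_zero_or_pos k with h3 | h3
    · rw [h3, pow_zero]
    · exfalso
      rw [hk] at h2
      exact (Nat.not_even_iff_odd.2 ho) (even_iff_two_dvd.2 ((dvd_pow_self 2 h3.ne').trans h2))
  have h1 : ∀ w : W, ∀ k ∈ N, k • w = w := fun w =>
    odd_fix_mul h.sq h.two (fun t _ k hk => hN.conj_mem k hk t) (by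
      rw [hTN, relIndex_bot_left]
      exact fun h2 => (Nat.not_even_iff_odd.2 ho) (even_iff_two_dvd.2 h2))
      (fun w hw k _ => h.ker w (h.fixT w hw) k) (fun t ht => by
        rw [hTN, mem_bot] at ht
        rw [ht, one_smul])
  rw [eq_bot_iff]
  intro x hx
  rw [mem_bot]
  apply h.faith
  intro v
  obtain ⟨w, rfl⟩ := h.surj v
  rw [← h.eqv, h1 w x hx]

/-- **`PsR` gives the input of RED.** -/
theorem PsR.mn [Finite X] [Finite W] (h : PsR T B p m) : Mn T B m where
  sq := h.sqM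
  faith := h.faith
  gen := h.gen _ (fun x _ hu => smul_mem_orb (mem_top x) hu) (mem_orb_self _ _)
  fixT := h.la.fix
  odd := fun _ hN ho => h.odd hN ho
  two := h.two
  syl := h.syl
  el := h.el
  four := h.four
  exact := h.exact
  atom := h.atom
  low := h.low
  nmax := h.nmax

end Cfsg.Agent.Omega.ML.Ex

end

end

private theorem dce_acfa565b6103 : _root_.True := by
  try have : _root_.True := by simp only [_root_.Cfsg.Agent.Omega.ML.Ex.IrrPar.HK.congr_simp]
  exact _root_.True.intro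
end
end
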