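import Cfsg.Agent.Mrg.Omega.NO3S.EMany.Low_m3
import Cfsg.Agent.Mrg.Omega.ML.Ex.Two_m3
import Cfsg.Agent.Mrg.Omega.ML.Ex.RedDef
import Cfsg.Agent.Mrg.Omega.NO3b.Closed.Base_m3
import Cfsg.Agent.Mrg.Omega.ML.RowsList_m3
import Cfsg.Agent.Mrg.Omega.TwoF.RowTh_m3
import Cfsg.Agent.Mrg.Omega.ML.MinIrr
import Cfsg.Agent.Mrg.Omega.TwoF.LargeRk_m3
import Cfsg.Agent.Lib.FinFast
import Cfsg.Agent.Omega.KFacts_m3
import Cfsg.Agent.FastGrp
import Cfsg.Agent.Prune
set_option linter.all false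

section
prune_inst 0x7ffcfcf9afb8a9deffff7e7fa7fccffc39d01ffff6dffd4bffedfbff5bff032f2bc5fbaf8de0d0fecef6e21410b87813f97ec63fe26bdc7ffffd5ff41ffbee1ff7ffb50c5194b8341ffc6fff9bf0778e7f3fffffffffffffffffffffffffffffffbfffffffff

-- part: Mrg/Omega/ML/Ex/TwoOdd
section
prune_inst 0x200000014010000018058031003c42ce000090002b000100000a4006840d4380000720f0801310110aaa64003e8008101000d900100000200086004118008004aa32c63040b00021000640f887180c00000000000000000000000000000004000000000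
set_option linter.all false
open scoped Cfsg.Agent.FastGrp

section


/-!
# `O(H) = 1` for the consumers of EXT (helper529)

`Two.SysT` needs `odd : N ⊴ H` of odd order is trivial (RED and the rows have `K` simple).

* `SysW.sup_ne_top`, `SysW.le_center` : over helper566's `SysW` (no `fixN`): a normal subgroup of odd order is in the center
  of `H`; `SysW.ne_of_center` : `1 ≠ z ∈ Z(H)` fixes no `m ≠ 1`; `SysW.odd_of` : the form for the consumers with `q ≥ 4`;
* `sysE_of_sys` : `KL.Def.Sys T A V x y → SysE T A x y`;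
* `sysE_of_out` : `KLF.Def.Out T A x y → SysE T A x y ∨ SysE T A y x`.
-/

set_option autoImplicit false

namespace Cfsg.Agent.Omega.ML.Ex.TwoOdd

open Subgroup Cfsg Cfsg.Agent.ZN Cfsg.Agent.ClassTwoFusion.Quad Cfsg.Agent.Omega.ML.MinFrame
open Cfsg.Agent.MinSimple.MinParabolic (IsMinPar le_of_forall)
open Cfsg.Agent.MinSimple.VModule (o2_isPGroup o2_le le_o2 le_normalizer_o2 o2_le_of_sylow)
open Cfsg.Agent.Omega.NO3S.EMany.Low (SysW SysE Km Km_le eq_one_of_odd comm_odd)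

universe u v

section

variable {H : Type u} [Group H] [Finite H] {M : Type v} [Group M] [Finite M] [MulDistribMulAction H M]
  {T A : Subgroup H} {x y : M}

omit [Finite M] in
/-- `H ≠ N T` for `N` of odd order -/
theorem SysW.sup_ne_top (h : SysW T A x y) {N : Subgroup H} (hN : N.Normal) (hNo : Odd (Nat.card N)) :
    N ⊔ T ≠ ⊤ := by
  intro hNT
  let D : Subgroup H := N ⊓ centralizer {z : H | ∃ t ∈ T, ∃ a ∈ A, z = t * a * t⁻¹}
  have hDT : ∀ s ∈ T, ∀ d ∈ D, s * d * s⁻¹ ∈ D := by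
    intro s hs d hd
    refine ⟨hN.conj_mem d hd.1 s, mem_centralizer_iff.2 ?_⟩
    rintro _ ⟨t, ht, a, ha, rfl⟩
    have h1 := mem_centralizer_iff.1 hd.2 _ ⟨s⁻¹ * t, mul_mem (inv_mem hs) ht, a, ha, rfl⟩
    have h2 := congrArg (fun w => s * w * s⁻¹) h1
    simp only [mul_inv_rev, inv_inv] at h2
    calc t * a * t⁻¹ * (s * d * s⁻¹) = s * (s⁻¹ * t * a * (t⁻¹ * s) * d) * s⁻¹ := by group
      _ = s * (d * (s⁻¹ * t * a * (t⁻¹ * s))) * s⁻¹ := h2
      _ = s * d * s⁻¹ * (t * a * t⁻¹) := by group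
  have hDn : T ≤ normalizer (D : Set H) := by
    intro s hs
    rw [mem_normalizer_iff]
    intro z
    refine ⟨hDT s hs z, fun hz => ?_⟩
    have h1 := hDT s⁻¹ (inv_mem hs) _ hz
    have h2 : s⁻¹ * (s * z * s⁻¹) * s⁻¹⁻¹ = z := by group
    rwa [h2] at h1
  refine h.nmax ⟨D ⊔ T, ?_, ?_⟩
  · intro htop
    have hcen : ∀ n ∈ N, ∀ t ∈ T, ∀ a ∈ A, t * a * t⁻¹ * n = n * (t * a * t⁻¹) := by
      intro e he t' ht' a ha
      have h2 : e ∈ ((D ⊔ T : Subgroup H) : Set H) := htop ▸ mem_top e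
      rw [coe_mul_of_right_le_normalizer_left D T hDn] at h2
      obtain ⟨d, hd, t, ht, rfl⟩ := h2
      have h3 : t ∈ N := by
        have := N.mul_mem (N.inv_mem hd.1) he
        simpa using this
      have h4 : t = 1 := eq_one_of_odd hNo h.two h3 ht
      rw [h4]
      simp only [mul_one]
      exact mem_centralizer_iff.1 hd.2 _ ⟨t', ht', a, ha, rfl⟩
    let K1 : Subgroup H := closure {z : H | ∃ t ∈ T, ∃ a ∈ A, z = t * a * t⁻¹}
    have hK1T : K1 ≤ T := by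
      rw [closure_le]
      rintro _ ⟨t, ht, a, ha, rfl⟩
      exact T.mul_mem (T.mul_mem ht (h.AT ha)) (T.inv_mem ht)
    have hK1 : K1 ≤ o2 (⊤ : Subgroup H) := by
      refine le_o2 le_top (h.two.to_le hK1T) ?_
      rw [← hNT]
      refine sup_le ?_ ?_
      · intro n hn
        have h1 : n ∈ centralizer (K1 : Set H) := by
          rw [centralizer_closure, mem_centralizer_iff]
          rintro _ ⟨t, ht, a, ha, rfl⟩
          exact hcen n hn t ht a ha
        exact centralizer_le_normalizer _ h1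
      · have hconj : ∀ s ∈ T, ∀ k ∈ K1, s * k * s⁻¹ ∈ K1 := by
          intro s hs k hk
          have h1 : K1 ≤ K1.comap (MulAut.conj s).toMonoidHom := by
            rw [closure_le]
            rintro _ ⟨t, ht, a, ha, rfl⟩
            refine subset_closure ⟨s * t, T.mul_mem hs ht, a, ha, ?_⟩
            change s * (t * a * t⁻¹) * s⁻¹ = _
            group
          exact h1 hk
        intro s hs
        rw [mem_normalizer_iff]
        intro z
        refine ⟨hconj s hs z, fun hz => ?_⟩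
        have h1 := hconj s⁻¹ (inv_mem hs) _ hz
        have h2 : s⁻¹ * (s * z * s⁻¹) * s⁻¹⁻¹ = z := by group
        rwa [h2] at h1
    exact h.lb.nb fun a ha => hK1 (subset_closure ⟨1, one_mem T, a, ha, by group⟩)
  · intro R hTR hR
    have h1 : R ⊓ N ⊔ T = R := by
      apply le_antisymm (sup_le inf_le_left hTR)
      intro r hr
      have h1 : r ∈ N ⊔ T := hNT ▸ mem_top r
      rw [mem_sup_of_normal_left] at h1
      obtain ⟨n, hn, s, hs, rfl⟩ := h1
      refine mul_mem_sup ⟨?_, hn⟩ hs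
      have := R.mul_mem hr (R.inv_mem (hTR hs))
      rwa [mul_inv_cancel_right] at this
    rw [← h1]
    refine sup_le_sup_right ?_ T
    intro e he
    refine ⟨he.2, mem_centralizer_iff.2 ?_⟩
    rintro _ ⟨t, ht, a, ha, rfl⟩
    have h3 : t * a * t⁻¹ ∈ o2 R := (mem_normalizer_iff.1 (le_normalizer_o2 R (hTR ht)) a).1 (h.low R hTR hR ha)
    exact (comm_odd hN hNo he.2 he.1 h3).symm

omit [Finite M] in
/-- **A normal subgroup of odd order is in the center.** -/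
theorem SysW.le_center (h : SysW T A x y) {N : Subgroup H} (hN : N.Normal) (hNo : Odd (Nat.card N)) :
    N ≤ center H := by
  have hgen : Km A ⊔ T = ⊤ := h.lb.gen
  have hNT := SysW.sup_ne_top h hN hNo
  have hAN : Km A ≤ centralizer (N : Set H) := by
    refine Km_le inferInstance fun a ha => mem_centralizer_iff.2 fun n hn => ?_
    exact comm_odd hN hNo hn (mem_sup_left hn) (h.low _ le_sup_right hNT ha)
  have hP : ∀ P : Subgroup H, IsMinPar T P → P ≤ N ⊔ T → False := by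
    intro P hP hPN
    have h4 : P ⊓ N ⊔ T = P := by
      apply le_antisymm (sup_le inf_le_left hP.le)
      intro r hr
      have h1 : r ∈ N ⊔ T := hPN hr
      rw [mem_sup_of_normal_left] at h1
      obtain ⟨n, hn, s, hs, rfl⟩ := h1
      refine mul_mem_sup ⟨?_, hn⟩ hs
      have := P.mul_mem hr (P.inv_mem (hP.le hs))
      rwa [mul_inv_cancel_right] at this
    have h5 : (P ⊓ N).Normal := by
      rw [← normalizer_eq_top_iff, eq_top_iff, ← hgen]
      refine sup_le ?_ ?_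
      · intro k hk
        have h1 : k ∈ centralizer ((P ⊓ N : Subgroup H) : Set H) := by
          rw [mem_centralizer_iff]
          intro z hz
          exact mem_centralizer_iff.1 (hAN hk) z hz.2
        exact centralizer_le_normalizer _ h1
      · intro t ht
        rw [mem_normalizer_iff]
        intro z
        constructor
        · rintro ⟨hz1, hz2⟩
          exact ⟨P.mul_mem (P.mul_mem (hP.le ht) hz1) (P.inv_mem (hP.le ht)), hN.conj_mem z hz2 t⟩
        · rintro ⟨hz1, hz2⟩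
          have h7 : t⁻¹ * (t * z * t⁻¹) * t⁻¹⁻¹ = z := by group
          refine ⟨?_, ?_⟩
          · rw [← h7]
            exact P.mul_mem (P.mul_mem (P.inv_mem (hP.le ht)) hz1) (P.inv_mem (P.inv_mem (hP.le ht)))
          · rw [← h7]
            exact hN.conj_mem _ hz2 t⁻¹
    obtain ⟨m, hm, hPm⟩ := h.fixP P hP
    have h6 : P ⊓ N = ⊥ := h.bot_of_fix h5 hm fun n hn => hPm n hn.1
    rw [h6, bot_sup_eq] at h4
    exact hP.ne h4
  have hNT' : N ⊔ T ≤ normalizer (T : Set H) :=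
    le_of_forall le_sup_right inf_le_right fun P hP1 hP2 => (hP P hP1 hP2).elim
  intro n hn
  have h1 : (⊤ : Subgroup H) ≤ centralizer ({n} : Set H) := by
    rw [← hgen]
    refine sup_le ?_ ?_
    · intro k hk
      rw [mem_centralizer_singleton_iff]
      exact ((mem_centralizer_iff.1 (hAN hk)) n hn).symm
    · intro t ht
      rw [mem_centralizer_singleton_iff]
      -- `[n, t] ∈ N ∩ T = 1`
      have h2 : n * t * n⁻¹ ∈ T := (mem_normalizer_iff.1 (hNT' (mem_sup_left hn)) t).1 ht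
      have h3 : n * t * n⁻¹ * t⁻¹ ∈ N := by
        have h4 : t * n⁻¹ * t⁻¹ ∈ N := hN.conj_mem _ (inv_mem hn) t
        have h5 : n * t * n⁻¹ * t⁻¹ = n * (t * n⁻¹ * t⁻¹) := by group
        rw [h5]
        exact mul_mem hn h4
      have h4 : n * t * n⁻¹ * t⁻¹ = 1 := eq_one_of_odd hNo h.two h3 (mul_mem h2 (inv_mem ht))
      have h5 : n * t = (n * t * n⁻¹ * t⁻¹) * (t * n) := by group
      rw [h5, h4, one_mul]
  rw [mem_center_iff]
  intro g
  exact mem_centralizer_singleton_iff.1 (h1 (mem_top g))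

omit [Finite H] [Finite M] in
/-- `1 ≠ z ∈ Z(H)` fixes no `m ≠ 1` -/
theorem SysW.ne_of_center (h : SysW T A x y) {z : H} (hz : z ∈ center H) (h1 : z ≠ 1) {m : M} (hm : m ≠ 1) :
    z • m ≠ m := by
  intro h2
  have h3 : (zpowers z).Normal := by
    refine ⟨fun a ha g => ?_⟩
    have h4 : a ∈ center H := (zpowers_le.2 hz) ha
    rwa [mem_center_iff.1 h4 g, mul_assoc, mul_inv_cancel, mul_one]
  have h4 : zpowers z = ⊥ := by
    refine h.bot_of_fix h3 hm ?_
    have h5 : zpowers z ≤ MulAction.stabilizer H m := zpowers_le.2 (MulAction.mem_stabilizer_iff.2 h2)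
    exact fun n hn => MulAction.mem_stabilizer_iff.1 (h5 hn)
  exact h1 (zpowers_eq_bot.1 h4)

omit [Finite M] in
/-- **`O(H) = 1` if the center has odd elements only trivially.** -/
theorem SysW.odd_of (h : SysW T A x y) (hz : ∀ z ∈ center H, Odd (orderOf z) → z = 1) {N : Subgroup H}
    (hN : N.Normal) (hNo : Odd (Nat.card N)) : N = ⊥ := by
  rw [eq_bot_iff]
  intro n hn
  refine mem_bot.2 (hz n (SysW.le_center h hN hNo hn) (hNo.of_dvd_nat ?_))
  have := orderOf_dvd_natCard (⟨n, hn⟩ : N)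
  rwa [orderOf_mk] at this

/-! ### THEOREM KL -/

/-! ### THEOREM KLF -/

omit [Finite M] in
/-- `T`-minimal subgroups and `N(T)` generate: somebody moves `m` -/
theorem exists_mover (irr : ∀ W : Subgroup M, (∀ h : H, ∀ w ∈ W, h • w ∈ W) → W = ⊥ ∨ W = ⊤)
    (sq : ∀ m : M, m * m = 1) {m m' : M} (h1 : m ≠ 1) (h1' : m' ≠ 1) (hne : m ≠ m') :
    (∃ P : Subgroup H, IsMinPar T P ∧ ∃ p ∈ P, p • m ≠ m) ∨ ∃ g ∈ normalizer (T : Set H), g • m ≠ m := by
  by_contra hcon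
  push Not at hcon
  obtain ⟨hc1, hc2⟩ := hcon
  have h2 : (⊤ : Subgroup H) ≤ MulAction.stabilizer H m := by
    refine le_of_forall (S := T) le_top ?_ ?_
    · intro g hg
      exact MulAction.mem_stabilizer_iff.2 (hc2 g hg.2)
    · intro P hP _ p hp
      exact MulAction.mem_stabilizer_iff.2 (hc1 P hP p hp)
  have h3 : ∀ k : H, ∀ w ∈ zpowers m, k • w ∈ zpowers m := by
    rintro k w ⟨n, rfl⟩
    refine ⟨n, ?_⟩
    change m ^ n = k • (m ^ n)
    rw [smul_zpow', MulAction.mem_stabilizer_iff.1 (h2 (mem_top k))]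
  rcases irr _ h3 with h4 | h4
  · exact h1 (zpowers_eq_bot.1 h4)
  · have h5 : m' ∈ zpowers m := h4 ▸ mem_top m'
    obtain ⟨n, hn⟩ := h5
    have hn' : m ^ n = m' := hn
    rcases Int.even_or_odd' n with ⟨k, hk | hk⟩
    · rw [hk, zpow_mul, show m ^ (2 : ℤ) = 1 from by rw [zpow_two, sq], one_zpow] at hn'
      exact h1' hn'.symm
    · rw [hk, zpow_add, zpow_mul, show m ^ (2 : ℤ) = 1 from by rw [zpow_two, sq], one_zpow, one_mul,
        zpow_one] at hn'
      exact hne hn'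

omit [Finite M] in
/-- **the output of THEOREM KLF is helper566's output** -/
theorem sysE_of_out (h : KLF.Def.Out T A x y) : SysE T A x y ∨ SysE T A y x := by
  have hA1 : A ≠ ⊥ := by
    rintro rfl
    have := h.four
    rw [card_bot] at this
    omega
  have hfP : ∀ P : Subgroup H, IsMinPar T P → ∃ m : M, m ≠ 1 ∧ ∀ p ∈ P, p • m = m := by
    intro P hP
    by_cases h1 : ∃ p ∈ P, p • x ≠ x
    · exact ⟨y, h.y1, h.mP P hP h1⟩
    · push Not at h1
      exact ⟨x, h.x1, h1⟩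
  have hfN : ∃ m : M, m ≠ 1 ∧ ∀ g ∈ normalizer (T : Set H), g • m = m := by
    by_cases h1 : ∃ g ∈ normalizer (T : Set H), g • x ≠ x
    · exact ⟨y, h.y1, h.mN h1⟩
    · push Not at h1
      exact ⟨x, h.x1, h1⟩
  by_cases hx : ∃ P : Subgroup H, IsMinPar T P ∧ ∃ p ∈ P, p • x ≠ x
  · left
    obtain ⟨P, hP, hPx⟩ := hx
    exact ⟨⟨h.sq, h.faith, h.irr, h.two, h.syl, h.AT, h.el, hA1, h.four, h.exact, h.atom, h.low, h.nmax, h.KX, h.x1,
      h.y1, h.xy, h.fx, h.fy, hfP, ⟨P, hP, hPx, h.mP P hP hPx⟩⟩, hfN⟩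
  · right
    have hNx : ∃ g ∈ normalizer (T : Set H), g • x ≠ x :=
      (exists_mover (T := T) h.irr h.sq h.x1 h.y1 h.xy).resolve_left hx
    have hNy := h.mN hNx
    have hy : ∃ P : Subgroup H, IsMinPar T P ∧ ∃ p ∈ P, p • y ≠ y := by
      refine (exists_mover (T := T) h.irr h.sq h.y1 h.x1 (Ne.symm h.xy)).resolve_right ?_
      rintro ⟨g, hg, h2⟩
      exact h2 (hNy g hg)
    obtain ⟨P, hP, hPy⟩ := hy
    push Not at hx
    exact ⟨⟨h.sq, h.faith, h.irr, h.two, h.syl, h.AT, h.el, hA1, h.four, h.exact, h.atom, h.low, h.nmax, h.KX, h.y1,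
      h.x1, Ne.symm h.xy, h.fy, h.fx, hfP, ⟨P, hP, hPy, hx P hP⟩⟩, hfN⟩

end

end Cfsg.Agent.Omega.ML.Ex.TwoOdd

end

section


/-!
# THEOREM KLF, (9): the output is impossible, from the end EXT (helper903)

* `Out.exists_mover` : the output of THEOREM KLF has an overgroup `R` of `T` (a `T`-minimal subgroup or `N_X(T)`)
  which fixes `y` and moves `x`;
* `Out.odd` : `O(X) = 1` (helper529, helper566);
* `Out.sysT` : the output is a situation `SysT` of EXT (helper585);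
* **`Out.false`** : so the output is impossible.
-/

set_option autoImplicit false

namespace Cfsg.Agent.Omega.KLF.Def

open Subgroup Cfsg Cfsg.Agent.ZN Cfsg.Agent.ClassTwoFusion.Quad Cfsg.Agent.Omega.ML.MinFrame
open Cfsg.Agent.MinSimple.MinParabolic (IsMinPar)

universe u v

namespace Out

section

variable {X : Type u} [Group X] [Finite X] {M : Type v} [Group M] [MulDistribMulAction X M] {T A : Subgroup X}
  {x y : M}

/-- some `T`-minimal subgroup or `N_X(T)` moves `x` and fixes `y` -/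
theorem exists_mover (h : Out T A x y) : ∃ R : Subgroup X, T ≤ R ∧ (∀ r ∈ R, r • y = y) ∧ ∃ r ∈ R, r • x ≠ x := by
  rcases ML.Ex.TwoOdd.exists_mover (T := T) h.irr h.sq h.x1 h.y1 h.xy with ⟨P, hP, hx⟩ | hN
  · exact ⟨P, hP.le, h.mP P hP hx, hx⟩
  · exact ⟨normalizer (T : Set X), le_normalizer, h.mN hN, hN⟩

/-- `O(X) = 1` -/
theorem odd (h : Out T A x y) {N : Subgroup X} (hN : N.Normal) (hNo : Odd (Nat.card N)) : N = ⊥ := by
  rcases ML.Ex.TwoOdd.sysE_of_out h with h1 | h1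
  · exact h1.odd hN hNo
  · exact h1.odd hN hNo

/-- **the output of THEOREM KLF is a situation of EXT** -/
theorem sysT (h : Out T A x y) : ML.Ex.Two.SysT X M T A x y where
  x1 := h.x1
  y1 := h.y1
  tx := h.fx
  ty := h.fy
  mv := h.exists_mover
  sq := h.sq
  faith := h.faith
  irr := h.irr
  two := h.two
  syl := h.syl
  AT := h.AT
  el := h.el
  four := h.four
  exact := h.exact
  atom := h.atom
  low := h.low
  nmax := h.nmax
  odd := fun _ hN hNo => h.odd hN hNo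
  KH := h.KX

end

/-- **(9)** : the output of THEOREM KLF is impossible (EXT) -/
theorem false (hE : ML.Ex.Two.Ext.{u, v}) {X : Type u} [Group X] [Finite X] {M : Type v} [Group M] [Finite M]
    [MulDistribMulAction X M] {T A : Subgroup X} {x y : M} (h : Out T A x y) : False :=
  hE X M T A x y h.sysT

end Out

end Cfsg.Agent.Omega.KLF.Def

end

section


/-!
# THEOREM KLF: the input is impossible (helper903)

`Pre.false` : THEOREM KLF = `Low.exists_out` (helper462) + EXT (helper585) through `Out.sysT`. No case distinction on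
the size of the section and no transport of the movers is needed.
-/

set_option autoImplicit false

namespace Cfsg.Agent.Omega.KLF.Def

open Subgroup Cfsg Cfsg.Agent.Omega.ML.Final

universe u v

/-- **THEOREM KLF** (#21950, #22692 (8) + (9)) -/
theorem Pre.false (ml : MLK.{u, v}) (hE : ML.Ex.Two.Ext.{u, v}) {X : Type u} [Group X] [Finite X] {M : Type v}
    [Group M] [Finite M] [MulDistribMulAction X M] {T A E : Subgroup X} {Y : Subgroup M} {x : M}
    (h : Pre T A E Y x) : False := by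
  obtain ⟨R, H, _, _, N, _, _, _, π, U, q, A', y, hx, hy, -, -, -, -, hout⟩ := Low.exists_out ml h
  exact hout.false hE

end Cfsg.Agent.Omega.KLF.Def

end

section


/-!
# THEOREM RED (#21158), part (3): `B` normalises the components (helper592)

* `CmpG T K E` : the group theory of one component (the fields of `Cmp` without `Mn` and `BE`);
* `CmpG.wr` : for `T ∩ E ≤ P < E`, `P` invariant under `N_T(E)`: `W = ⋂ (P C_K(E))^t` and `WT < X`;
* **`CmpG.le_normalizer`** : low, `T` in two maximal subgroups ⟹ `B ≤ N(E)`.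
-/

set_option autoImplicit false

namespace Cfsg.Agent.Omega.ML.Ex.Red

open Subgroup Cfsg Cfsg.Agent.Omega.NOThree.NoOver Cfsg.Agent.Omega.ML.CD
open Cfsg.Agent.ZN (o2)
open Cfsg.Agent.ClassTwoFusion.Quad Cfsg.Agent.Omega.ML.MinFrame
open Cfsg.Agent.MinSimple.VModule (o2_isPGroup o2_le le_o2 le_normalizer_o2)

universe u v

/-- The group theory of one component. -/
structure CmpG {X : Type u} [Group X] (T K E : Subgroup X) : Prop where
  two : IsPGroup 2 T
  syl : ¬ 2 ∣ T.index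
  odd : ∀ N : Subgroup X, N.Normal → Odd (Nat.card N) → N = ⊥
  normK : K.Normal
  cenK : centralizer (K : Set X) = ⊥
  gen : K ⊔ T = ⊤
  EK : E ≤ K
  simple : IsSimpleGroup E
  nc : ¬ E ≤ centralizer (E : Set X)
  tcl : K ≤ tcl T E
  sup : E ⊔ (K ⊓ centralizer (E : Set X)) = K
  inf : E ⊓ centralizer (E : Set X) = ⊥
  conj : ∀ t ∈ T, t ∉ normalizer (E : Set X) → E.map (MulAut.conj t).toMonoidHom ≤ centralizer (E : Set X)

namespace CmpG

variable {X : Type u} [Group X] {T K E : Subgroup X}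

/-- `C_K(E)` -/
abbrev F (K E : Subgroup X) : Subgroup X := K ⊓ centralizer (E : Set X)

theorem FK : F K E ≤ K := inf_le_left

theorem comm {e f : X} (he : e ∈ E) (hf : f ∈ F K E) : e * f = f * e := mem_centralizer_iff.1 hf.2 e he

/-- `E ≤ N(F)` etc. -/
theorem mem_EF (h : CmpG T K E) {k : X} (hk : k ∈ K) : ∃ e ∈ E, ∃ f ∈ F K E, k = e * f := by
  rw [← h.sup] at hk
  refine sup_eq_mul ?_ hk
  intro f hf
  exact centralizer_le_normalizer _ hf.2

/-- the decomposition is unique -/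
theorem unique (h : CmpG T K E) {e e' f f' : X} (he : e ∈ E) (he' : e' ∈ E) (hf : f ∈ F K E) (hf' : f' ∈ F K E)
    (heq : e * f = e' * f') : e = e' ∧ f = f' := by
  have h1 : e'⁻¹ * e = f' * f⁻¹ := by
    have h2 : e'⁻¹ * (e * f) * f⁻¹ = e'⁻¹ * (e' * f') * f⁻¹ := by rw [heq]
    calc e'⁻¹ * e = e'⁻¹ * (e * f) * f⁻¹ := by group
      _ = e'⁻¹ * (e' * f') * f⁻¹ := h2
      _ = f' * f⁻¹ := by group
  have h2 : e'⁻¹ * e ∈ E ⊓ centralizer (E : Set X) :=
    ⟨E.mul_mem (E.inv_mem he') he, h1 ▸ Subgroup.mul_mem _ hf'.2 (Subgroup.inv_mem _ hf.2)⟩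
  rw [h.inf, mem_bot] at h2
  have h3 : e = e' := (inv_mul_eq_one.1 h2).symm
  refine ⟨h3, ?_⟩
  rw [h3] at heq
  exact mul_left_cancel heq

/-- `P C_K(E)` for `P ≤ E` -/
def PF (K E P : Subgroup X) : Subgroup X := P ⊔ F K E

theorem mem_PF {P : Subgroup X} (hP : P ≤ E) {k : X} : k ∈ PF K E P ↔ ∃ e ∈ P, ∃ f ∈ F K E, k = e * f := by
  constructor
  · intro hk
    refine sup_eq_mul ?_ hk
    intro f hf
    exact centralizer_le_normalizer _ (centralizer_le (SetLike.coe_subset_coe.2 hP) hf.2)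
  · rintro ⟨e, he, f, hf, rfl⟩
    exact Subgroup.mul_mem _ (mem_sup_left he) (mem_sup_right hf)

theorem PF_le (h : CmpG T K E) {P : Subgroup X} (hP : P ≤ E) : PF K E P ≤ K :=
  sup_le (hP.trans h.EK) FK

/-- `⋂ (P C_K(E))^t` -/
def W (T K E P : Subgroup X) : Subgroup X := ⨅ t : T, (PF K E P).map (MulAut.conj (t : X)).toMonoidHom

theorem W_le (P : Subgroup X) : W T K E P ≤ PF K E P := by
  refine (iInf_le _ (1 : T)).trans ?_
  rintro _ ⟨x, hx, rfl⟩
  simpa using hx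

theorem mem_W {P : Subgroup X} {x : X} : x ∈ W T K E P ↔ ∀ t ∈ T, t⁻¹ * x * t ∈ PF K E P := by
  constructor
  · intro hx t ht
    obtain ⟨y, hy, hyx⟩ := (mem_iInf.1 hx) ⟨t, ht⟩
    have h1 : t * y * t⁻¹ = x := hyx
    have h2 : t⁻¹ * x * t = y := by rw [← h1]; group
    rw [h2]
    exact hy
  · intro hx
    refine mem_iInf.2 fun t => ⟨(t : X)⁻¹ * x * t, hx t t.2, ?_⟩
    change (t : X) * ((t : X)⁻¹ * x * t) * (t : X)⁻¹ = x
    group

theorem T_le_normalizer_W (P : Subgroup X) : T ≤ normalizer (W T K E P : Set X) :=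
  le_normalizer_of fun g hg x hx => mem_W.2 fun t ht => by
    have h1 := mem_W.1 hx (g⁻¹ * t) (T.mul_mem (T.inv_mem hg) ht)
    have e : (g⁻¹ * t)⁻¹ * x * (g⁻¹ * t) = t⁻¹ * (g * x * g⁻¹) * t := by group
    rwa [e] at h1

/-- the `T`-conjugates of `F` -/
theorem eq_bot_of (h : CmpG T K E) {x : X} (hx : ∀ t ∈ T, t⁻¹ * x * t ∈ centralizer (E : Set X)) : x = 1 := by
  have h1 : x ∈ centralizer (K : Set X) := by
    have h2 : K ≤ centralizer ({x} : Set X) := by
      refine h.tcl.trans (tcl_le fun t ht => ?_)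
      rintro _ ⟨e, he, rfl⟩
      rw [mem_centralizer_singleton_iff]
      have h3 := mem_centralizer_iff.1 (hx t ht) e he
      change t * e * t⁻¹ * x = x * (t * e * t⁻¹)
      calc t * e * t⁻¹ * x = t * (e * (t⁻¹ * x * t)) * t⁻¹ := by group
        _ = t * ((t⁻¹ * x * t) * e) * t⁻¹ := by rw [h3]
        _ = x * (t * e * t⁻¹) := by group
    rw [mem_centralizer_iff]
    intro k hk
    exact mem_centralizer_singleton_iff.1 (h2 hk)
  rwa [h.cenK, mem_bot] at h1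

variable [Finite X]

/-- a 2-subgroup of `K` which contains `T ∩ E` and is normalised by it: its projection is `T ∩ E` -/
theorem le_PF (h : CmpG T K E) : T ⊓ K ≤ PF K E (T ⊓ E) := by
  have : Fact (Nat.Prime 2) := ⟨Nat.prime_two⟩
  -- `PP = E ∩ (T∩K)F`
  have hFn : T ⊓ K ≤ normalizer ((F K E : Subgroup X) : Set X) := by
    refine inf_le_right.trans ?_
    refine le_normalizer_of fun g hg x hx => ?_
    obtain ⟨e, he, f, hf, rfl⟩ := h.mem_EF hg
    have h1 : f * x * f⁻¹ ∈ F K E := Subgroup.mul_mem _ (Subgroup.mul_mem _ hf hx) (Subgroup.inv_mem _ hf)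
    have h2 := comm he h1
    have h3 : e * f * x * (e * f)⁻¹ = f * x * f⁻¹ := by
      calc e * f * x * (e * f)⁻¹ = e * (f * x * f⁻¹) * e⁻¹ := by group
        _ = (f * x * f⁻¹) * e * e⁻¹ := by rw [h2]
        _ = f * x * f⁻¹ := by group
    rw [h3]
    exact h1
  -- the projection
  let P : Subgroup X :=
    { carrier := {e | e ∈ E ∧ ∃ f ∈ F K E, e * f ∈ T}
      one_mem' := ⟨E.one_mem, 1, one_mem _, by rw [one_mul]; exact T.one_mem⟩
      mul_mem' := by
        rintro a b ⟨ha, f, hf, h1⟩ ⟨hb, g, hg, h2⟩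
        refine ⟨E.mul_mem ha hb, f * g, Subgroup.mul_mem _ hf hg, ?_⟩
        have h3 := comm hb hf
        have h4 : a * b * (f * g) = (a * f) * (b * g) := by
          calc a * b * (f * g) = a * (b * f) * g := by group
            _ = a * (f * b) * g := by rw [h3]
            _ = _ := by group
        rw [h4]
        exact T.mul_mem h1 h2
      inv_mem' := by
        rintro a ⟨ha, f, hf, h1⟩
        refine ⟨E.inv_mem ha, f⁻¹, Subgroup.inv_mem _ hf, ?_⟩
        have h3 := comm ha hf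
        have h4 : a⁻¹ * f⁻¹ = (a * f)⁻¹ := by rw [h3, mul_inv_rev]
        rw [h4]
        exact T.inv_mem h1 }
  have hP2 : IsPGroup 2 P := by
    rintro ⟨e, he, f, hf, h1⟩
    obtain ⟨k, hk⟩ := h.two ⟨_, h1⟩
    refine ⟨k, Subtype.ext ?_⟩
    have h2 : (e * f) ^ 2 ^ k = 1 := congrArg Subtype.val hk
    have h3 : Commute e f := comm he hf
    rw [h3.mul_pow] at h2
    have h4 : e ^ 2 ^ k ∈ E ⊓ centralizer (E : Set X) :=
      ⟨E.pow_mem he _, by rw [mul_eq_one_iff_eq_inv.1 h2]; exact Subgroup.inv_mem _ (Subgroup.pow_mem _ hf.2 _)⟩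
    rw [h.inf] at h4
    exact mem_bot.1 h4
  have hPE : P ≤ E := fun x hx => hx.1
  have hSP : T ⊓ E ≤ P := fun x hx => ⟨hx.2, 1, one_mem _, by rw [mul_one]; exact hx.1⟩
  -- `T ∩ E` is a Sylow subgroup of `E`
  have hEs : E.IsSubnormal := by
    have h1 : (E.subgroupOf K).Normal := (normal_subgroupOf_iff_le_normalizer h.EK).2 (by
      rw [← h.sup]
      exact sup_le le_normalizer fun f hf => centralizer_le_normalizer _ hf.2)
    exact IsSubnormal.trans h.EK h1.isSubnormal h.normK.isSubnormal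
  have h1 := not_dvd_relIndex_of_subnormal h.two h.syl hEs
  have hPS : P = T ⊓ E := by
    have h2 : IsPGroup 2 ((T ⊓ E).subgroupOf E) :=
      (h.two.to_le inf_le_left).comap_of_injective E.subtype E.subtype_injective
    have h3 : ¬ 2 ∣ ((T ⊓ E).subgroupOf E).index := by
      rw [← inf_relIndex_right] at h1
      exact h1
    have h4 := (h2.toSylow h3).is_maximal' (Q := P.subgroupOf E)
      (hP2.comap_of_injective E.subtype E.subtype_injective) (by
        intro x hx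
        exact hSP hx)
    apply le_antisymm _ hSP
    intro x hx
    have h5 : (⟨x, hx.1⟩ : E) ∈ P.subgroupOf E := hx
    rw [h4] at h5
    exact h5
  intro x hx
  obtain ⟨e, he, f, hf, rfl⟩ := h.mem_EF hx.2
  rw [mem_PF inf_le_right]
  refine ⟨e, ?_, f, hf, rfl⟩
  rw [← hPS]
  exact ⟨he, f, hf, hx.1⟩

/-- `WT ∩ K = W`, for `T ∩ E ≤ P` -/
theorem inf_W_sup (h : CmpG T K E) {P : Subgroup X} (hP : P ≤ E) (hTP : T ⊓ E ≤ P) :
    (W T K E P ⊔ T) ⊓ K ≤ W T K E P := by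
  rintro x ⟨hx, hxK⟩
  obtain ⟨w, hw, t, ht, rfl⟩ := sup_eq_mul (T_le_normalizer_W P) hx
  have hwK : w ∈ K := h.PF_le hP (W_le P hw)
  have htK : t ∈ K := by
    have h1 := K.mul_mem (K.inv_mem hwK) hxK
    rwa [inv_mul_cancel_left] at h1
  refine Subgroup.mul_mem _ hw (mem_W.2 fun s hs => ?_)
  have h1 : s⁻¹ * t * s ∈ T ⊓ K := ⟨T.mul_mem (T.mul_mem (T.inv_mem hs) ht) hs, by
    have := h.normK.conj_mem t htK s⁻¹
    rwa [inv_inv] at this⟩
  exact sup_le_sup_right hTP _ (h.le_PF h1)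

/-- `WT < X` for `P < E` -/
theorem sup_ne_top (h : CmpG T K E) {P : Subgroup X} (hP : P ≤ E) (hne : P ≠ E) (hTP : T ⊓ E ≤ P) :
    W T K E P ⊔ T ≠ ⊤ := by
  intro h1
  apply hne
  apply le_antisymm hP
  intro e he
  have h2 : e ∈ W T K E P := h.inf_W_sup hP hTP ⟨h1 ▸ mem_top e, h.EK he⟩
  obtain ⟨p, hp, f, hf, h3⟩ := (mem_PF hP).1 (W_le P h2)
  have h4 := (h.unique he (hP hp) (one_mem _) hf (by rw [mul_one]; exact h3)).1
  rwa [h4]

omit [Finite X] in
/-- `P ≤ W` if `P` is invariant under `N_T(E)` -/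
theorem le_W (h : CmpG T K E) {P : Subgroup X} (hP : P ≤ E)
    (hn : ∀ t ∈ T, t ∈ normalizer (E : Set X) → ∀ p ∈ P, t * p * t⁻¹ ∈ P) : P ≤ W T K E P := by
  intro x hx
  refine mem_W.2 fun t ht => ?_
  by_cases htE : t⁻¹ ∈ normalizer (E : Set X)
  · have h1 := hn _ (T.inv_mem ht) htE x hx
    rw [inv_inv] at h1
    exact mem_sup_left h1
  · have h1 : t⁻¹ * x * t ∈ centralizer (E : Set X) := by
      have h2 := h.conj _ (T.inv_mem ht) htE ⟨x, hP hx, rfl⟩
      have e : t⁻¹ * x * t⁻¹⁻¹ = t⁻¹ * x * t := by rw [inv_inv]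
      rw [← e]
      exact h2
    refine mem_sup_right ⟨?_, h1⟩
    have h2 := h.normK.conj_mem x (h.EK (hP hx)) t⁻¹
    rwa [inv_inv] at h2

/-- `E` is not a 2-group etc.: `K` is not of odd order -/
theorem inf_ne_bot (h : CmpG T K E) : T ⊓ E ≠ ⊥ := by
  have : Fact (Nat.Prime 2) := ⟨Nat.prime_two⟩
  intro h1
  -- `T ∩ K = 1`
  have h2 : T ⊓ K = ⊥ := by
    rw [eq_bot_iff]
    intro x hx
    rw [mem_bot]
    refine h.eq_bot_of fun t ht => ?_
    have h3 : t⁻¹ * x * t ∈ T ⊓ K := ⟨T.mul_mem (T.mul_mem (T.inv_mem ht) hx.1) ht, by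
      have := h.normK.conj_mem x hx.2 t⁻¹
      rwa [inv_inv] at this⟩
    obtain ⟨e, he, f, hf, h4⟩ := (mem_PF inf_le_right).1 (h.le_PF h3)
    rw [h1, mem_bot] at he
    rw [h4, he, one_mul]
    exact hf.2
  have h3 := not_dvd_relIndex_of_subnormal h.two h.syl h.normK.isSubnormal
  have h4 := h.odd K h.normK (odd_of_relIndex h3 h2)
  apply h.nc
  intro x hx
  have h5 := h.EK hx
  rw [h4, mem_bot] at h5
  rw [h5]
  exact one_mem _

/-- **(3a)** `T ∩ E ≤ P < E`, `P` invariant under `N_T(E)`, `b ∈ O₂(WT)` does not normalise `E`: `P = T ∩ E` -/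
theorem eq_of_not_mem (h : CmpG T K E) {P : Subgroup X} (hP : P ≤ E) (hTP : T ⊓ E ≤ P)
    (hn : ∀ t ∈ T, t ∈ normalizer (E : Set X) → ∀ p ∈ P, t * p * t⁻¹ ∈ P) {b : X} (hb : b ∈ o2 (W T K E P ⊔ T))
    (hbT : b ∈ T) (hbE : b ∉ normalizer (E : Set X)) : P = T ⊓ E := by
  have : Fact (Nat.Prime 2) := ⟨Nat.prime_two⟩
  have hcen := h.conj b hbT hbE
  -- `P` is a 2-group
  have hP2 : IsPGroup 2 P := by
    rintro ⟨x, hx⟩
    have hxR : x ∈ W T K E P ⊔ T := mem_sup_left (h.le_W hP hn hx)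
    have h1 : x⁻¹ * (b * x * b⁻¹) ∈ o2 (W T K E P ⊔ T) := by
      have h2 := conj_mem_of_le (le_normalizer_o2 (W T K E P ⊔ T)) (Subgroup.inv_mem _ hxR) hb
      have h3 := Subgroup.mul_mem _ h2 (Subgroup.inv_mem _ hb)
      have e : x⁻¹ * b * x⁻¹⁻¹ * b⁻¹ = x⁻¹ * (b * x * b⁻¹) := by group
      rwa [e] at h3
    obtain ⟨k, hk⟩ := o2_isPGroup _ ⟨_, h1⟩
    have hk1 : (x⁻¹ * (b * x * b⁻¹)) ^ 2 ^ k = 1 := congrArg Subtype.val hk
    have hbx : b * x * b⁻¹ ∈ centralizer (E : Set X) := hcen ⟨x, hP hx, rfl⟩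
    have hc : Commute x⁻¹ (b * x * b⁻¹) := Commute.inv_left (mem_centralizer_iff.1 hbx x (hP hx))
    rw [hc.mul_pow, inv_pow, inv_mul_eq_one] at hk1
    have h4 : x ^ 2 ^ k ∈ E ⊓ centralizer (E : Set X) := ⟨E.pow_mem (hP hx) _, hk1 ▸ Subgroup.pow_mem _ hbx _⟩
    rw [h.inf, mem_bot] at h4
    exact ⟨k, Subtype.ext h4⟩
  -- `T ∩ E` is a Sylow subgroup of `E`
  have hEs : E.IsSubnormal := by
    have h1 : (E.subgroupOf K).Normal := (normal_subgroupOf_iff_le_normalizer h.EK).2 (by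
      rw [← h.sup]
      exact sup_le le_normalizer fun f hf => centralizer_le_normalizer _ hf.2)
    exact IsSubnormal.trans h.EK h1.isSubnormal h.normK.isSubnormal
  have h1 := not_dvd_relIndex_of_subnormal h.two h.syl hEs
  have h2 : IsPGroup 2 ((T ⊓ E).subgroupOf E) :=
    (h.two.to_le inf_le_left).comap_of_injective E.subtype E.subtype_injective
  have h3 : ¬ 2 ∣ ((T ⊓ E).subgroupOf E).index := by
    rw [← inf_relIndex_right] at h1
    exact h1
  have h4 := (h2.toSylow h3).is_maximal' (Q := P.subgroupOf E)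
    (hP2.comap_of_injective E.subtype E.subtype_injective) (by
      intro x hx
      exact hTP hx)
  apply le_antisymm _ hTP
  intro x hx
  have h5 : (⟨x, hP hx⟩ : E) ∈ P.subgroupOf E := hx
  rw [h4] at h5
  exact h5

/-- **(3b)** if `T ∩ E` is the only `N_T(E)`-invariant subgroup `P`, `T ∩ E ≤ P < E`, then `T` is maximal in `X` -/
theorem eq_of_only (h : CmpG T K E) (hP : ∀ P : Subgroup X, P ≤ E → P ≠ E → T ⊓ E ≤ P →
    (∀ t ∈ T, t ∈ normalizer (E : Set X) → ∀ p ∈ P, t * p * t⁻¹ ∈ P) → P = T ⊓ E) {R : Subgroup X} (hTR : T ≤ R)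
    (hR : R ≠ ⊤) : R ≤ T := by
  have : Fact (Nat.Prime 2) := ⟨Nat.prime_two⟩
  -- the projection of `R ∩ K`
  let P : Subgroup X :=
    { carrier := {e | e ∈ E ∧ ∃ f ∈ F K E, e * f ∈ R}
      one_mem' := ⟨E.one_mem, 1, one_mem _, by rw [one_mul]; exact R.one_mem⟩
      mul_mem' := by
        rintro a b ⟨ha, f, hf, h1⟩ ⟨hb, g, hg, h2⟩
        refine ⟨E.mul_mem ha hb, f * g, Subgroup.mul_mem _ hf hg, ?_⟩
        have h3 := comm hb hf
        have h4 : a * b * (f * g) = (a * f) * (b * g) := by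
          calc a * b * (f * g) = a * (b * f) * g := by group
            _ = a * (f * b) * g := by rw [h3]
            _ = _ := by group
        rw [h4]
        exact R.mul_mem h1 h2
      inv_mem' := by
        rintro a ⟨ha, f, hf, h1⟩
        refine ⟨E.inv_mem ha, f⁻¹, Subgroup.inv_mem _ hf, ?_⟩
        have h3 := comm ha hf
        have h4 : a⁻¹ * f⁻¹ = (a * f)⁻¹ := by rw [h3, mul_inv_rev]
        rw [h4]
        exact R.inv_mem h1 }
  have hPE : P ≤ E := fun x hx => hx.1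
  have hSP : T ⊓ E ≤ P := fun x hx => ⟨hx.2, 1, one_mem _, by rw [mul_one]; exact hTR hx.1⟩
  have hcT : ∀ t ∈ T, t ∈ normalizer (E : Set X) → ∀ f ∈ F K E, t * f * t⁻¹ ∈ F K E := by
    intro t ht htE f hf
    refine ⟨h.normK.conj_mem f hf.1 t, mem_centralizer_iff.2 ?_⟩
    intro e he
    have h1 : t⁻¹ * e * t ∈ E := by
      have := (mem_normalizer_iff.1 (inv_mem htE) e).1 he
      rwa [inv_inv] at this
    have h2 := mem_centralizer_iff.1 hf.2 _ h1
    calc e * (t * f * t⁻¹) = t * ((t⁻¹ * e * t) * f) * t⁻¹ := by group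
      _ = t * (f * (t⁻¹ * e * t)) * t⁻¹ := by rw [h2]
      _ = t * f * t⁻¹ * e := by group
  have hPn : ∀ t ∈ T, t ∈ normalizer (E : Set X) → ∀ p ∈ P, t * p * t⁻¹ ∈ P := by
    rintro t ht htE p ⟨hp, f, hf, h1⟩
    refine ⟨(mem_normalizer_iff.1 htE p).1 hp, t * f * t⁻¹, hcT t ht htE f hf, ?_⟩
    have h2 := R.mul_mem (R.mul_mem (hTR ht) h1) (R.inv_mem (hTR ht))
    have e : t * (p * f) * t⁻¹ = t * p * t⁻¹ * (t * f * t⁻¹) := by group
    rwa [e] at h2
  by_cases hne : P = E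
  · -- `E ≤ R`
    exfalso
    apply hR
    have hER : E ≤ R := by
      -- `N = ⟨S₁^E⟩`
      have hsim := h.simple
      have hNn : ((R ⊓ E).subgroupOf E).Normal := by
        refine ⟨fun n hn g => ?_⟩
        have hg : ∀ g ∈ E, ∃ f ∈ F K E, g * f ∈ R := fun g hg => by
          have hg' : g ∈ P := by rw [hne]; exact hg
          exact hg'.2
        obtain ⟨f, hf, h1⟩ := hg g g.2
        refine ⟨?_, (g * n * g⁻¹ : E).2⟩
        have h2 := R.mul_mem (R.mul_mem h1 hn.1) (R.inv_mem h1)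
        have h3 := comm n.2 hf
        have e : (g : X) * f * n * ((g : X) * f)⁻¹ = g * n * (g : X)⁻¹ := by
          calc (g : X) * f * n * ((g : X) * f)⁻¹ = g * (f * n) * f⁻¹ * (g : X)⁻¹ := by group
            _ = g * (n * f) * f⁻¹ * (g : X)⁻¹ := by rw [h3]
            _ = g * n * (g : X)⁻¹ := by group
        change (g : X) * n * (g : X)⁻¹ ∈ R
        rw [← e]
        exact h2
      rcases hNn.eq_bot_or_eq_top with h1 | h1
      · exfalso
        apply h.inf_ne_bot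
        rw [eq_bot_iff]
        intro x hx
        have h2 : (⟨x, hx.2⟩ : E) ∈ (R ⊓ E).subgroupOf E := ⟨hTR hx.1, hx.2⟩
        rw [h1, mem_bot] at h2
        exact mem_bot.2 (congrArg Subtype.val h2)
      · intro x hx
        have h2 : (⟨x, hx⟩ : E) ∈ (R ⊓ E).subgroupOf E := h1 ▸ mem_top _
        exact h2.1
    rw [← top_le_iff, ← h.gen]
    refine sup_le (h.tcl.trans (tcl_le fun t ht => ?_)) hTR
    rintro _ ⟨x, hx, rfl⟩
    exact R.mul_mem (R.mul_mem (hTR ht) (hER hx)) (R.inv_mem (hTR ht))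
  · have hPS := hP P hPE hne hSP hPn
    -- `R ∩ K` is a 2-group
    have h2 : IsPGroup 2 (R ⊓ K : Subgroup X) := by
      rintro ⟨x, hx⟩
      -- a common power
      obtain ⟨n, hn⟩ := (IsPGroup.iff_card.1 (h.two.to_le (inf_le_left : T ⊓ E ≤ T)))
      refine ⟨n, Subtype.ext ?_⟩
      change x ^ 2 ^ n = 1
      refine h.eq_bot_of fun t ht => ?_
      have h1 : t⁻¹ * x * t ∈ R ⊓ K := ⟨R.mul_mem (R.mul_mem (R.inv_mem (hTR ht)) hx.1) (hTR ht), by
        have := h.normK.conj_mem x hx.2 t⁻¹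
        rwa [inv_inv] at this⟩
      obtain ⟨e, he, f, hf, h3⟩ := h.mem_EF h1.2
      have h4 : e ∈ P := ⟨he, f, hf, h3 ▸ h1.1⟩
      rw [hPS] at h4
      have h5 : e ^ 2 ^ n = 1 := by
        have h6 : (⟨e, h4⟩ : (T ⊓ E : Subgroup X)) ^ Nat.card (T ⊓ E : Subgroup X) = 1 := pow_card_eq_one'
        rw [hn] at h6
        exact congrArg Subtype.val h6
      have h6 : t⁻¹ * x ^ 2 ^ n * t = (t⁻¹ * x * t) ^ 2 ^ n := by
        have := conj_pow (a := t⁻¹) (b := x) (i := 2 ^ n)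
        rw [inv_inv] at this
        exact this.symm
      have h7 : Commute e f := comm he hf
      rw [h6, h3, h7.mul_pow, h5, one_mul]
      exact Subgroup.pow_mem _ hf.2 _
    -- `R = (R ∩ K) T`
    have h3 : R ≤ (R ⊓ K) ⊔ T := by
      intro x hx
      have h4 : x ∈ K ⊔ T := h.gen ▸ mem_top x
      have := h.normK
      obtain ⟨k, hk, t, ht, rfl⟩ := mem_sup_of_normal_left.1 h4
      refine Subgroup.mul_mem _ (mem_sup_left ⟨?_, hk⟩) (mem_sup_right ht)
      have h5 := R.mul_mem hx (R.inv_mem (hTR ht))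
      rwa [mul_inv_cancel_right] at h5
    have h4 : IsPGroup 2 ((R ⊓ K) ⊔ T : Subgroup X) := by
      refine h2.to_sup_of_normal_left' h.two ?_
      intro t ht
      exact ((le_normalizer_of fun g hg x hx => ⟨R.mul_mem (R.mul_mem (hTR hg) hx.1) (R.inv_mem (hTR hg)),
        h.normK.conj_mem x hx.2 g⟩) : T ≤ normalizer ((R ⊓ K : Subgroup X) : Set X)) ht
    have h5 := (h.two.toSylow h.syl).is_maximal' (Q := (R ⊓ K) ⊔ T) h4 (fun x hx => mem_sup_right hx)
    exact h3.trans h5.le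

/-- **(3)** `B` normalises `E`. -/
theorem le_normalizer (h : CmpG T K E) {B : Subgroup X} (low : ∀ R : Subgroup X, T ≤ R → R ≠ ⊤ → B ≤ o2 R)
    (nmax : ¬ ∃ L : Subgroup X, L ≠ ⊤ ∧ ∀ R : Subgroup X, T ≤ R → R ≠ ⊤ → R ≤ L) : B ≤ normalizer (E : Set X) := by
  have : Fact (Nat.Prime 2) := ⟨Nat.prime_two⟩
  intro b hb
  by_contra hbE
  by_cases hT : T = ⊤
  · apply nmax
    refine ⟨⊥, ?_, fun R h1 h2 => absurd (top_le_iff.1 (hT ▸ h1)) h2⟩
    intro h1
    apply h.nc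
    intro x _
    have h2 : x ∈ (⊥ : Subgroup X) := h1 ▸ mem_top x
    rw [mem_bot.1 h2]
    exact one_mem _
  · have hbT : b ∈ T := o2_le T (low T le_rfl hT hb)
    refine nmax ⟨T, hT, fun R h1 h2 => h.eq_of_only (fun P hP hne hTP hn => ?_) h1 h2⟩
    exact h.eq_of_not_mem hP hTP hn (low _ le_sup_right (h.sup_ne_top hP hne hTP) hb) hbT hbE

end CmpG

end Cfsg.Agent.Omega.ML.Ex.Red

end

section


/-!
# The dichotomy (D) of the exact K-list (helper441 #21600, helper269): `|M : C_M(x)| < |A|` or EQ(x)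

* `quad_of_eq` : EQ(x), i.e. `C_M(x) = C_M(A)` for one `x ∈ A`, makes `A` quadratic (`A` abelian);
* `InX.quad` : an atom `A` is quadratic on `M`;
* `InX.eq_bot_of_normal` : `H` has no normal subgroup `≠ 1` of exponent 2;
* `InX.tie` : EQ(x), i.e. `C_M(x) = C_M(A)`, gives `TieX A (EE F) F x`, `F = C_M(A)`;
* **`InX.lt_or_tie`** : `|M : C_M(x)| < |A|` or `TieX A (EE F) F x`, for `x ∈ A#`;
* `NoTie A x` : there is no elementary abelian `E` with `A ≤ E ⊴ C_H(x)`, `N_H(E) ≠ H`, `x^g ∈ E → g ∈ N_H(E)`;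
* **`InX.index_lt`** : `NoTie A x → |M : C_M(x)| < |A|`;
* `InX.index_le_two` : `|A| = 4`, `NoTie A x` : `|M : C_M(x)| ≤ 2`;
* **`InX.false_of_four`** : `|A| = 4`, `A` an atom, `NoTie A x` for one `x ∈ A#` : impossible.
-/

set_option autoImplicit false

namespace Cfsg.Agent.Omega.ML.Ex

open Subgroup Cfsg Cfsg.Agent.ZN Cfsg.Agent.ClassTwoFusion.Quad Cfsg.Agent.Omega.ML.Ex.TIE
  Cfsg.Agent.Omega.ML.Ex.TieX

universe u v

variable {H : Type u} [Group H] {M : Type v} [Group M] [MulDistribMulAction H M] {K T A : Subgroup H}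

/-- EQ(x) makes an abelian `A` quadratic: `[M, x] ≤ C_M(x) = C_M(A)` and `M / C_M(x) ≅ [M, x]` over `A`. -/
theorem quad_of_eq (hM : ∀ m : M, m * m = 1) (hA : ∀ a ∈ A, ∀ b ∈ A, a * b = b * a) (hel : ∀ a ∈ A, a * a = 1)
    {x : H} (hx : x ∈ A) (eq : cv M ({x} : Set H) = cv M (A : Set H)) :
    ∀ a ∈ A, ∀ b ∈ A, ∀ m : M, b • ((a • m) * m⁻¹) = (a • m) * m⁻¹ := by
  have hinv : ∀ z : M, z⁻¹ = z := fun z => inv_eq_of_mul_eq_one_right (hM z)
  have hcm : ∀ y z : M, y * z = z * y := by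
    intro y z
    calc y * z = (y * z)⁻¹ := (hinv _).symm
      _ = z⁻¹ * y⁻¹ := mul_inv_rev _ _
      _ = z * y := by rw [hinv, hinv]
  have hxf : ∀ m : M, x • ((x • m) * m⁻¹) = (x • m) * m⁻¹ := by
    intro m
    rw [smul_mul', smul_inv', smul_smul, hel x hx, one_smul, hinv, hinv, hcm]
  have hmem : ∀ m : M, x • m = m → ∀ b ∈ A, b • m = m := by
    intro m hm b hb
    have h1 : m ∈ cv M ({x} : Set H) := by
      intro y hy
      rw [Set.mem_singleton_iff.1 hy]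
      exact hm
    rw [eq] at h1
    exact h1 b hb
  intro a ha b hb m
  refine hmem _ ?_ b hb
  have h2 := hmem _ (hxf m) a ha
  rw [smul_mul', smul_inv', smul_smul, hA a ha x hx, ← smul_smul, hinv, hinv] at h2
  -- `x a m * a m = x m * m`
  rw [smul_mul', smul_inv', hinv, hinv]
  calc x • a • m * x • m = (x • a • m * a • m) * (a • m * x • m) := by
        rw [mul_assoc, ← mul_assoc (a • m) (a • m), hM, one_mul]
    _ = (x • m * m) * (a • m * x • m) := by rw [h2]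
    _ = a • m * m := by
        rw [hcm (a • m), mul_assoc, ← mul_assoc m, hcm m, ← mul_assoc, ← mul_assoc, hM, one_mul, hcm]

namespace InX

/-- `|A| |C_M(A)| = |M|` -/
theorem card_eq_mul (h : InX H M K T A) : Nat.card A * Nat.card (cv M (A : Set H)) = Nat.card M := by
  rw [← h.exact, mul_comm]
  exact card_mul_index _

/-- An atom `A` is quadratic on `M`. -/
theorem quad (h : InX H M K T A) (hat : Atm M A) [Finite H] [Finite M] :
    ∀ a ∈ A, ∀ b ∈ A, ∀ m : M, b • ((a • m) * m⁻¹) = (a • m) * m⁻¹ := by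
  refine quad_of_atom h.sq h.A_comm h.A_ne_bot h.card_eq_mul.ge fun D hD hD1 => ?_
  rw [h.card_eq_mul, ← card_mul_index (cv M (D : Set H)), mul_comm]
  exact Nat.mul_lt_mul_of_pos_left (hat D hD.le hD1 hD.ne) Nat.card_pos

/-- no normal subgroup `≠ 1` of exponent 2 -/
theorem eq_bot_of_normal (h : InX H M K T A) {E : Subgroup H} (hE : E.Normal) (el : ∀ e ∈ E, e * e = 1) : E = ⊥ :=
  normal_eq_bot h.norm h.simple h.cen hE el

/-- EQ(x) gives `TieX`. -/
theorem tie (h : InX H M K T A) [Finite H] [Finite M] {x : H} (hx : x ∈ A)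
    (eq : cv M ({x} : Set H) = cv M (A : Set H)) :
    TieX A (EE (cv M (A : Set H)) : Subgroup H) (cv M (A : Set H)) x :=
  exists_tieX h.sq h.faith hx eq (quad_of_eq h.sq h.A_comm h.el hx eq)

/-- `N_H(E) ≠ H` -/
theorem normalizer_ne_top (h : InX H M K T A) {E : Subgroup H} (el : ∀ e ∈ E, e * e = 1) (hAE : A ≤ E) :
    normalizer (E : Set H) ≠ ⊤ := by
  intro h1
  have h2 := h.eq_bot_of_normal (normalizer_eq_top_iff.1 h1) el
  rw [h2, le_bot_iff] at hAE
  exact h.A_ne_bot hAE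

/-- **The dichotomy (D).** -/
theorem lt_or_tie (h : InX H M K T A) [Finite H] [Finite M] {x : H} (hx : x ∈ A) :
    (cv M ({x} : Set H)).index < Nat.card A ∨
      TieX A (EE (cv M (A : Set H)) : Subgroup H) (cv M (A : Set H)) x := by
  by_cases h1 : (cv M ({x} : Set H)).index < Nat.card A
  · exact Or.inl h1
  · right
    refine h.tie hx ?_
    have hle : cv M (A : Set H) ≤ cv M ({x} : Set H) := cv_anti (by simpa using hx)
    refine (Subgroup.eq_of_le_of_card_ge hle ?_).symm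
    have h2 := card_mul_index (cv M ({x} : Set H))
    have h3 := h.card_eq_mul
    have h4 : Nat.card (cv M ({x} : Set H)) * Nat.card A ≤ Nat.card A * Nat.card (cv M (A : Set H)) := by
      rw [h3, ← h2]
      exact Nat.mul_le_mul_left _ (not_lt.1 h1)
    rw [mul_comm] at h4
    exact Nat.le_of_mul_le_mul_left h4 Nat.card_pos

end InX

/-- There is no elementary abelian `E ⊴ C_H(x)` over `A` with `N_H(E) ≠ H` and `x^g ∈ E → g ∈ N_H(E)`. -/
def NoTie (A : Subgroup H) (x : H) : Prop :=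
  ∀ E : Subgroup H, (∀ e ∈ E, e * e = 1) → A ≤ E → x ∈ E → E ≤ centralizer {x} →
    centralizer {x} ≤ normalizer (E : Set H) → normalizer (E : Set H) ≠ ⊤ →
    (∀ g : H, g * x * g⁻¹ ∈ E → g ∈ normalizer (E : Set H)) → False

theorem NoTie.false (hn : ∀ x : H, NoTie A x) (h : InX H M K T A) [Finite H] [Finite M] {x : H}
    (ht : TieX A (EE (cv M (A : Set H)) : Subgroup H) (cv M (A : Set H)) x) : False :=
  hn x _ ht.el ht.le ht.mem ht.le_centralizer ht.cent (h.normalizer_ne_top ht.el ht.le) ht.ti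

/-- **`NoTie A x → |M : C_M(x)| < |A|`.** -/
theorem InX.index_lt (h : InX H M K T A) [Finite H] [Finite M] {x : H} (hx : x ∈ A) (hn : NoTie A x) :
    (cv M ({x} : Set H)).index < Nat.card A := by
  rcases h.lt_or_tie hx with h1 | ht
  · exact h1
  · exact (hn _ ht.el ht.le ht.mem ht.le_centralizer ht.cent (h.normalizer_ne_top ht.el ht.le) ht.ti).elim

/-- **`|A| = 4`** -/
theorem InX.index_le_two (h : InX H M K T A) [Finite H] [Finite M] (h4 : Nat.card A = 4) {x : H} (hx : x ∈ A)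
    (hn : NoTie A x) : (cv M ({x} : Set H)).index ≤ 2 := by
  have h1 := h.index_lt hx hn
  rw [h4] at h1
  obtain ⟨n, hn⟩ := IsPGroup.iff_card.1 h.M_two
  have h7 : (cv M ({x} : Set H)).index ∣ 2 ^ n := by
    rw [← hn]
    exact index_dvd_card _
  obtain ⟨k, -, hk⟩ := (Nat.dvd_prime_pow Nat.prime_two).1 h7
  rw [hk] at h1 ⊢
  match k, h1 with
  | 0, _ => simp
  | 1, _ => simp
  | k + 2, h1 => rw [pow_add] at h1; have := Nat.one_le_two_pow (n := k); omega

/-- **`|A| = 4`**, `A` an atom -/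
theorem InX.false_of_four (h : InX H M K T A) (hat : Atm M A) [Finite H] [Finite M] (h4 : Nat.card A = 4) {x : H}
    (hx : x ∈ A) (hx1 : x ≠ 1) (hn : NoTie A x) : False := by
  have h1 := h.index_lt hx hn
  rw [h.index_four hat h4 hx hx1, h4] at h1
  exact lt_irrefl _ h1

end Cfsg.Agent.Omega.ML.Ex

end
end

-- part: Mrg/Omega/ML/Ex/RowU33X
section
prune_inst 0x20040040000000000580110000000400009000000000000002400200000000000000000010000008000000000000000400800000000000000000000000000002000000000000000000001080000000000000000000000000000000000004000000000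
set_option linter.all false
open scoped Cfsg.Agent.FastGrp

-- part: Mrg/Omega/ML/Ex/UThreeGrp
section
/-!
# `U₃(3)`: facts for the exit of the exact K-list (helper919)

* `exists_conj_phi` : an outer involutory automorphism of `SU₃(3)` fixing `t0` is conjugate to the field automorphism `φ`;
* `diag_of_real` : the normal four-group of `C(φ) = SO₃(3) ≅ S₄` consists of diagonal matrices;
* `ww` of order 7, `φ ww = ww⁻¹`, **`gen` : `⟨t0, t1, ww⟩ = SU₃(3)`**;
* `aa`, `bb`, `ss` : an extraspecial group `3^{1+2}` with centre `⟨ss⟩ ≤ C(t0)`;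
* `no_four` : `C(t0) = GU₂(3)` has no normal subgroup of exponent 2 other than `⟨t0⟩`;
* `exists_inv_conj` : all involutions are conjugate to `t0`.
-/

set_option autoImplicit false

namespace Cfsg.Agent.Omega.ML.Ex.UThreeGrp

open Matrix Subgroup Cfsg
open Cfsg.Agent.Classification.RTwo.UThreeThree (K9 card_k9 card_k9' IsGood psuEquiv center_SU)
open Cfsg.Agent.OddHalf.Small.U33
open Cfsg.Agent.OddHalf.D4.Small.KU33
open Cfsg.Agent.OddHalf.D6.RThree.U33

/-- conjugating elements -/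
def rtab (k : Fin 36) : Matrix (Fin 3) (Fin 3) K9 :=
  ![!![⟨0, 0⟩, ⟨0, 0⟩, ⟨0, 1⟩; ⟨1, 2⟩, ⟨1, 2⟩, ⟨0, 0⟩; ⟨2, 1⟩, ⟨1, 2⟩, ⟨0, 0⟩],
    !![⟨0, 0⟩, ⟨0, 0⟩, ⟨1, 0⟩; ⟨1, 2⟩, ⟨1, 1⟩, ⟨0, 0⟩; ⟨2, 1⟩, ⟨1, 1⟩, ⟨0, 0⟩],
    !![⟨0, 0⟩, ⟨1, 0⟩, ⟨0, 0⟩; ⟨2, 1⟩, ⟨0, 0⟩, ⟨1, 1⟩; ⟨1, 2⟩, ⟨0, 0⟩, ⟨1, 1⟩],
    !![⟨0, 0⟩, ⟨1, 1⟩, ⟨2, 1⟩; ⟨1, 2⟩, ⟨0, 1⟩, ⟨1, 0⟩; ⟨2, 1⟩, ⟨0, 1⟩, ⟨1, 0⟩],
    !![⟨0, 0⟩, ⟨1, 1⟩, ⟨1, 2⟩; ⟨1, 2⟩, ⟨0, 1⟩, ⟨2, 0⟩; ⟨1, 2⟩, ⟨0, 2⟩, ⟨1, 0⟩],
    !![⟨0, 0⟩, ⟨1, 2⟩, ⟨2, 1⟩; ⟨1, 2⟩, ⟨0, 1⟩, ⟨0, 1⟩; ⟨2, 1⟩, ⟨0, 1⟩, ⟨0, 1⟩],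
    !![⟨0, 0⟩, ⟨1, 2⟩, ⟨1, 2⟩; ⟨1, 2⟩, ⟨0, 1⟩, ⟨0, 2⟩; ⟨1, 2⟩, ⟨0, 2⟩, ⟨0, 1⟩],
    !![⟨0, 0⟩, ⟨0, 1⟩, ⟨0, 0⟩; ⟨1, 2⟩, ⟨0, 0⟩, ⟨1, 2⟩; ⟨1, 2⟩, ⟨0, 0⟩, ⟨2, 1⟩],
    !![⟨0, 0⟩, ⟨1, 1⟩, ⟨1, 1⟩; ⟨1, 2⟩, ⟨1, 0⟩, ⟨2, 0⟩; ⟨1, 2⟩, ⟨2, 0⟩, ⟨1, 0⟩],
    !![⟨0, 0⟩, ⟨1, 1⟩, ⟨2, 2⟩; ⟨1, 2⟩, ⟨1, 0⟩, ⟨1, 0⟩; ⟨2, 1⟩, ⟨1, 0⟩, ⟨1, 0⟩],
    !![⟨0, 0⟩, ⟨2, 1⟩, ⟨1, 1⟩; ⟨2, 1⟩, ⟨1, 0⟩, ⟨0, 1⟩; ⟨1, 2⟩, ⟨1, 0⟩, ⟨0, 1⟩],
    !![⟨0, 0⟩, ⟨1, 2⟩, ⟨1, 1⟩; ⟨1, 2⟩, ⟨1, 0⟩, ⟨0, 2⟩; ⟨1, 2⟩, ⟨2, 0⟩, ⟨0, 1⟩],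
    !![⟨0, 0⟩, ⟨0, 0⟩, ⟨1, 0⟩; ⟨1, 1⟩, ⟨2, 1⟩, ⟨0, 0⟩; ⟨1, 1⟩, ⟨1, 2⟩, ⟨0, 0⟩],
    !![⟨0, 0⟩, ⟨0, 0⟩, ⟨0, 1⟩; ⟨1, 1⟩, ⟨1, 1⟩, ⟨0, 0⟩; ⟨1, 1⟩, ⟨2, 2⟩, ⟨0, 0⟩],
    !![⟨0, 0⟩, ⟨1, 0⟩, ⟨0, 0⟩; ⟨1, 1⟩, ⟨0, 0⟩, ⟨1, 2⟩; ⟨1, 1⟩, ⟨0, 0⟩, ⟨2, 1⟩],
    !![⟨0, 0⟩, ⟨1, 1⟩, ⟨2, 2⟩; ⟨1, 1⟩, ⟨0, 1⟩, ⟨0, 1⟩; ⟨1, 1⟩, ⟨0, 2⟩, ⟨0, 2⟩],
    !![⟨0, 0⟩, ⟨1, 1⟩, ⟨1, 1⟩; ⟨1, 1⟩, ⟨0, 2⟩, ⟨0, 1⟩; ⟨1, 1⟩, ⟨0, 1⟩, ⟨0, 2⟩],
    !![⟨0, 0⟩, ⟨2, 1⟩, ⟨1, 1⟩; ⟨1, 1⟩, ⟨0, 2⟩, ⟨1, 0⟩; ⟨1, 1⟩, ⟨0, 1⟩, ⟨2, 0⟩],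
    !![⟨0, 0⟩, ⟨1, 2⟩, ⟨1, 1⟩; ⟨1, 1⟩, ⟨0, 1⟩, ⟨1, 0⟩; ⟨2, 2⟩, ⟨0, 1⟩, ⟨1, 0⟩],
    !![⟨0, 0⟩, ⟨0, 1⟩, ⟨0, 0⟩; ⟨1, 1⟩, ⟨0, 0⟩, ⟨1, 1⟩; ⟨2, 2⟩, ⟨0, 0⟩, ⟨1, 1⟩],
    !![⟨0, 0⟩, ⟨1, 1⟩, ⟨2, 1⟩; ⟨1, 1⟩, ⟨2, 0⟩, ⟨0, 1⟩; ⟨1, 1⟩, ⟨1, 0⟩, ⟨0, 2⟩],
    !![⟨0, 0⟩, ⟨1, 1⟩, ⟨1, 2⟩; ⟨1, 1⟩, ⟨1, 0⟩, ⟨0, 1⟩; ⟨1, 1⟩, ⟨2, 0⟩, ⟨0, 2⟩],
    !![⟨0, 0⟩, ⟨1, 2⟩, ⟨1, 2⟩; ⟨1, 1⟩, ⟨1, 0⟩, ⟨2, 0⟩; ⟨1, 1⟩, ⟨2, 0⟩, ⟨1, 0⟩],
    !![⟨0, 0⟩, ⟨1, 2⟩, ⟨2, 1⟩; ⟨1, 1⟩, ⟨1, 0⟩, ⟨1, 0⟩; ⟨2, 2⟩, ⟨1, 0⟩, ⟨1, 0⟩],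
    !![⟨0, 0⟩, ⟨1, 1⟩, ⟨2, 2⟩; ⟨0, 0⟩, ⟨1, 2⟩, ⟨1, 2⟩; ⟨1, 0⟩, ⟨0, 0⟩, ⟨0, 0⟩],
    !![⟨0, 0⟩, ⟨1, 1⟩, ⟨1, 1⟩; ⟨0, 0⟩, ⟨2, 1⟩, ⟨1, 2⟩; ⟨1, 0⟩, ⟨0, 0⟩, ⟨0, 0⟩],
    !![⟨0, 0⟩, ⟨1, 2⟩, ⟨1, 1⟩; ⟨0, 0⟩, ⟨2, 1⟩, ⟨1, 1⟩; ⟨1, 0⟩, ⟨0, 0⟩, ⟨0, 0⟩],
    !![⟨0, 0⟩, ⟨1, 1⟩, ⟨1, 2⟩; ⟨1, 0⟩, ⟨0, 0⟩, ⟨0, 0⟩; ⟨0, 0⟩, ⟨1, 1⟩, ⟨2, 1⟩],
    !![⟨0, 0⟩, ⟨0, 0⟩, ⟨1, 0⟩; ⟨1, 0⟩, ⟨0, 0⟩, ⟨0, 0⟩; ⟨0, 0⟩, ⟨1, 0⟩, ⟨0, 0⟩],
    !![⟨0, 0⟩, ⟨0, 0⟩, ⟨0, 1⟩; ⟨0, 0⟩, ⟨0, 1⟩, ⟨0, 0⟩; ⟨1, 0⟩, ⟨0, 0⟩, ⟨0, 0⟩],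
    !![⟨0, 0⟩, ⟨1, 1⟩, ⟨1, 2⟩; ⟨0, 1⟩, ⟨0, 0⟩, ⟨0, 0⟩; ⟨0, 0⟩, ⟨1, 2⟩, ⟨1, 1⟩],
    !![⟨0, 0⟩, ⟨1, 1⟩, ⟨2, 1⟩; ⟨0, 1⟩, ⟨0, 0⟩, ⟨0, 0⟩; ⟨0, 0⟩, ⟨2, 1⟩, ⟨1, 1⟩],
    !![⟨0, 0⟩, ⟨1, 2⟩, ⟨1, 2⟩; ⟨0, 0⟩, ⟨2, 1⟩, ⟨1, 2⟩; ⟨0, 1⟩, ⟨0, 0⟩, ⟨0, 0⟩],
    !![⟨0, 0⟩, ⟨1, 1⟩, ⟨1, 1⟩; ⟨0, 0⟩, ⟨1, 1⟩, ⟨2, 2⟩; ⟨0, 1⟩, ⟨0, 0⟩, ⟨0, 0⟩],
    !![⟨0, 0⟩, ⟨0, 0⟩, ⟨0, 1⟩; ⟨0, 0⟩, ⟨1, 0⟩, ⟨0, 0⟩; ⟨0, 1⟩, ⟨0, 0⟩, ⟨0, 0⟩],
    !![⟨0, 0⟩, ⟨0, 0⟩, ⟨1, 0⟩; ⟨0, 0⟩, ⟨0, 1⟩, ⟨0, 0⟩; ⟨0, 1⟩, ⟨0, 0⟩, ⟨0, 0⟩]] k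

theorem rtab_good : ∀ k : Fin 36, IsGood (rtab k) := by (refine of_decide_eq_true ?_; (try (delta Cfsg.Agent.Classification.RTwo.UThreeThree.IsGood Cfsg.Agent.Classification.RTwo.UThreeThree.instDecidableIsGood; rewrite [Cfsg.Agent.LsF.zdecEq_eq, Cfsg.Agent.LsF.instZAdd_pat, Cfsg.Agent.LsF.instZMul_pat, Cfsg.Agent.LsF.instZSub_pat, Cfsg.Agent.LsF.dAnd_eq, Cfsg.Agent.LsF.dFinEq_eq, Cfsg.Agent.LsF.dForallFin_eq, Cfsg.Agent.LsF.ite_eq, Cfsg.Agent.LsF.decide_eq])); decide +kernel)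

private def wit (d1 d2 a1 a2 b1 b2 : ZMod 3) : Fin 36 := Fin.ofNat 36 (Nat.land (Nat.shiftRight
  0x2c00000000000060000000000000000000000000090000000000001000000000000000000000000000000000000000000000000000000000000005800000000000110000000000000000000000000140000000000003c00000000000000000000000000000000000000000000000000000000000000000000000000000000000000000000000000000000000000000000000000000000000000000000000000000000000000000000000000000000000006400005c00000000000120000000000000000000000000150000000000004000000000000000000000000000000000000000000000000000000000000000000000002800000000000050000000000000000000000000080000000000000c000000000000000000000000000000000000000000000000000000000000000000000000000000000000000000000000000000000000000000000000000000000000000000000000000000000000000000000000000000001800000000000000000000000000000000000000000000000000000000000000000000000000000000000000000000000000000000000000000000001f00000000000000000000000000000000000000000000000000000000000000000000000000000000000000000000000000000000000000000000000078000000000000000000000000000000000d0000616c000000000000000000000000000000030000081a0000130001e374000038000289c000000000000000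
  (6 * (d1.val + 3 * d2.val + 9 * a1.val + 27 * a2.val + 81 * b1.val + 243 * b2.val))) 63)

private noncomputable def _root_.Cfsg.Agent.KOc733777.k0 : type_of% @Decidable.decide := @(fun x0 x1 => @Decidable.rec.{1} _ @(fun x2 => @Bool) @(fun x2 => @Bool.false) @(fun x2 => @Bool.true) @x1)
private theorem _root_.Cfsg.Agent.KOc733777.e0 : @Decidable.decide = @_root_.Cfsg.Agent.KOc733777.k0 := by delta _root_.Cfsg.Agent.KOc733777.k0; rfl'
private noncomputable def _root_.Cfsg.Agent.KOc733777.k3.{ku0, ku1} : type_of% @Quot.rec.{ku0, ku1} := @(fun x0 x1 x2 x3 x4 x5 => @Eq.rec.{ku1, ku0} (@Quot.{ku0} _ @x1) (@PSigma.fst.{ku0, ku1} _ _ (@Quot.lift.{ku0, (max (max 1 ku1) ku0)} _ _ _ (@Quot.indep.{ku0, ku1} _ _ _ @x3) (@Quot.indepCoherent.{ku0, ku1} _ _ _ @x3 @x4) @x5)) @(fun x6 x7 => @x2 @x6) (@PSigma.snd.{ku0, ku1} _ _ (@Quot.lift.{ku0, (max (max 1 ku1) ku0)} _ _ _ (@Quot.indep.{ku0, ku1} _ _ _ @x3) (@Quot.indepCoherent.{ku0,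 ku1} _ _ _ @x3 @x4) @x5)) @x5 (@Quot.liftIndepPr1.{ku0, ku1} _ _ _ @x3 @x4 @x5))
private theorem _root_.Cfsg.Agent.KOc733777.e3.{ku0, ku1} : @Quot.rec.{ku0, ku1} = @_root_.Cfsg.Agent.KOc733777.k3.{ku0, ku1} := by delta _root_.Cfsg.Agent.KOc733777.k3; rfl'
private noncomputable def _root_.Cfsg.Agent.KOc733777.k4.{ku0, ku1} : type_of% @Quot.recOnSubsingleton.{ku0, ku1} := @(fun x0 x1 x2 x3 x4 x5 => @Cfsg.Agent.KOc733777.k3.{ku0, ku1} _ _ @(fun x6 => @x2 @x6) @(fun x6 => @x5 @x6) (@Quot.recOnSubsingleton._proof_1.{ku1, ku0} _ _ _ _ @x5) @x4)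
private theorem _root_.Cfsg.Agent.KOc733777.e4.{ku0, ku1} : @Quot.recOnSubsingleton.{ku0, ku1} = @_root_.Cfsg.Agent.KOc733777.k4.{ku0, ku1} := by delta _root_.Cfsg.Agent.KOc733777.k4; rewrite [← Cfsg.Agent.KOc733777.e3.{ku0, ku1}]; rfl'
private theorem _root_.Cfsg.Agent.KOc733777.e5.{ku, kv} {α : Type kv} {M : List α → Sort ku} (φ : ∀ l, M l) {z : M List.nil} {s : ∀ a l, M l → M (List.cons a l)} (h0 : φ List.nil = z) (hs : ∀ a l, φ (List.cons a l) = s a l (φ l)) (l : List α) : φ l = @List.rec α M z s l := List.rec h0 (fun a l ih => (hs a l).trans (congrArg (s a l) ih)) l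
private noncomputable def _root_.Cfsg.Agent.KOc733777.k6.{ku0} : type_of% @List.decidableBAll.{ku0} := @(fun x0 x1 x2 x3 => @List.rec.{1, ku0} @x0 @(fun x4 => @Decidable ((x5 : @x0) → (@Membership.mem.{ku0, ku0} _ _ _ @x4 @x5) → @x1 @x5)) (@Decidable.isTrue _ (@List.decidableBAll._proof_1.{ku0} _ @x1)) @(fun x4 x5 x6 => @Decidable.rec.{1} _ @(fun x7 => @Decidable ((x8 : @x0) → (@Membership.mem.{ku0, ku0} _ _ _ (@x4 :: @x5) @x8) → @x1 @x8)) @(fun x7 => @Decidable.isFalse _ (@List.decidableBAll._proof_4.{ku0} _ @x1 @x4 @x5 @x7)) @(fun x7 => @Decidable.rec.{1} _ @(fun x8 => @Decidable ((x9 : @x0) → (@Membership.mem.{ku0, ku0} _ _ _ (@x4 :: @x5) @x9) → @x1 @x9)) @(fun x8 => @Decidable.isFalse _ (@List.decidableBAll._proof_3.{ku0} _ @x1 @x4 @x5 @x8)) @(fun x8 => @Decidable.isTrue _ (@List.decidableBAll._proof_2.{ku0} _ @x1 @x4 @x5 @x7 @x8)) @x6) (@x2 @x4)) @x3)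
private theorem _root_.Cfsg.Agent.KOc733777.e6.{ku0} : @List.decidableBAll.{ku0} = @_root_.Cfsg.Agent.KOc733777.k6.{ku0} := by delta _root_.Cfsg.Agent.KOc733777.k6; funext a0 a1 a2 a3; refine (_root_.Cfsg.Agent.KOc733777.e5 (fun a3 => @List.decidableBAll.{ku0} a0 a1 a2 a3) ?_ (fun c0 c1 => ?_) a3 :) <;> (rfl')
private noncomputable def _root_.Cfsg.Agent.KOc733777.k7.{ku0} : type_of% @Multiset.decidableForallMultiset.{ku0} := @(fun (x0 : Sort (ku0+1)) (x1 : @Multiset.{ku0} @x0) (x2 : (x0 → Prop)) (x3 : ((x3 : x0) → @Decidable (@x2 @x3))) => @Cfsg.Agent.KOc733777.k4.{(ku0+1), 1} (@List.{ku0} @x0) (@Setoid.r.{(ku0+1)} (@List.{ku0} @x0) (@List.isSetoid.{ku0} @x0)) @(fun (x4 : @Quotient.{(ku0+1)} (@List.{ku0} @x0) (@List.isSetoid.{ku0} @x0)) => @Decidable ((x5 : x0) → ((@Membership.mem.{ku0, ku0} @x0 (@Multiset.{ku0} @x0) (@Multiset.instMembership.{ku0} @x0) @x4 @x5) → @x2 @x5))) (@Multiset.decidableForallMultiset._proof_2.{ku0}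 @x0 @x2) @x1 @(fun (x4 : @List.{ku0} @x0) => @Decidable.rec.{1} ((x5 : x0) → ((@Membership.mem.{ku0, ku0} @x0 (@List.{ku0} @x0) (@List.instMembership.{ku0} @x0) @x4 @x5) → @x2 @x5)) @(fun (x5 : @Decidable ((x5 : x0) → ((@Membership.mem.{ku0, ku0} @x0 (@List.{ku0} @x0) (@List.instMembership.{ku0} @x0) @x4 @x5) → @x2 @x5))) => @Decidable ((x6 : x0) → ((@Membership.mem.{ku0, ku0} @x0 (@Multiset.{ku0} @x0) (@Multiset.instMembership.{ku0} @x0) (@Quotient.mk.{(ku0+1)} (@List.{ku0} @x0) (@List.isSetoid.{ku0} @x0) @x4) @x6) → @x2 @x6))) @(fun (x5 : @Not ((x5 : x0) → ((@Membership.mem.{ku0, ku0} @x0 (@List.{ku0} @x0) (@List.instMembership.{ku0} @x0) @x4 @x5) → @x2 @x5))) => @Decidable.isFalse ((x6 : x0) → ((@Membership.mem.{ku0, ku0} @x0 (@Multiset.{ku0} @x0) (@Multiset.instMembership.{ku0} @x0) (@Quotient.mk.{(ku0+1)} (@List.{ku0} @x0) (@List.isSetoid.{ku0} @x0) @x4) @x6) → @x2 @x6)) (@decidable_of_decidable_of_iff._proof_1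 ((x6 : x0) → ((@Membership.mem.{ku0, ku0} @x0 (@List.{ku0} @x0) (@List.instMembership.{ku0} @x0) @x4 @x6) → @x2 @x6)) ((x6 : x0) → ((@Membership.mem.{ku0, ku0} @x0 (@Multiset.{ku0} @x0) (@Multiset.instMembership.{ku0} @x0) (@Quotient.mk.{(ku0+1)} (@List.{ku0} @x0) (@List.isSetoid.{ku0} @x0) @x4) @x6) → @x2 @x6)) (@Multiset.decidableForallMultiset._proof_1.{ku0} @x0 @x2 @x4) @x5)) @(fun (x5 : ((x5 : x0) → ((@Membership.mem.{ku0, ku0} @x0 (@List.{ku0} @x0) (@List.instMembership.{ku0} @x0) @x4 @x5) → @x2 @x5))) => @Decidable.isTrue ((x6 : x0) → ((@Membership.mem.{ku0, ku0} @x0 (@Multiset.{ku0} @x0) (@Multiset.instMembership.{ku0} @x0) (@Quotient.mk.{(ku0+1)} (@List.{ku0} @x0) (@List.isSetoid.{ku0} @x0) @x4) @x6) → @x2 @x6)) (@Iff.mp ((x6 : x0) → ((@Membership.mem.{ku0, ku0} @x0 (@List.{ku0} @x0) (@List.instMembership.{ku0} @x0) @x4 @x6) → @x2 @x6)) ((x6 : x0) → ((@Membership.mem.{ku0, ku0} @x0 (@Multiset.{ku0} @x0) (@Multiset.instMembership.{ku0}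 @x0) (@Quotient.mk.{(ku0+1)} (@List.{ku0} @x0) (@List.isSetoid.{ku0} @x0) @x4) @x6) → @x2 @x6)) (@Multiset.decidableForallMultiset._proof_1.{ku0} @x0 @x2 @x4) @x5)) (@Cfsg.Agent.KOc733777.k6.{ku0} @x0 @x2 @x3 @x4)))
private theorem _root_.Cfsg.Agent.KOc733777.e7.{ku0} : @Multiset.decidableForallMultiset.{ku0} = @_root_.Cfsg.Agent.KOc733777.k7.{ku0} := by delta _root_.Cfsg.Agent.KOc733777.k7; rewrite [← Cfsg.Agent.KOc733777.e6.{ku0}, ← Cfsg.Agent.KOc733777.e4.{(ku0+1), 1}]; rfl'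
private noncomputable def _root_.Cfsg.Agent.KOc733777.k11.{ku0} : type_of% @Multiset.decidableDforallMultiset.{ku0} := @(fun x0 x1 x2 x3 => @Decidable.rec.{1} _ @(fun x4 => @Decidable ((x5 : @x0) → (x6 : @Membership.mem.{ku0, ku0} _ _ _ @x1 @x5) → @x2 @x5 @x6)) @(fun x4 => @Decidable.isFalse _ (@decidable_of_decidable_of_iff._proof_1 _ _ (@Multiset.decidableDforallMultiset._proof_2.{ku0} _ _ _) @x4)) @(fun x4 => @Decidable.isTrue _ (@Iff.mp _ _ (@Multiset.decidableDforallMultiset._proof_2.{ku0} _ _ _) @x4)) (@Cfsg.Agent.KOc733777.k7.{ku0} _ _ @(fun x4 => @x2 (@Subtype.val.{(ku0+1)} _ @(fun x5 => @Membership.mem.{ku0, ku0} _ _ _ @x1 @x5) @x4) (@Multiset.decidableDforallMultiset._proof_1.{ku0} _ _ @x4)) @(fun x4 => @x3 (@Subtype.val.{(ku0+1)} _ @(fun x5 => @Membership.mem.{ku0, ku0} _ _ _ @x1 @x5) @x4) (@Multiset.decidableDforallMultiset._proof_1.{ku0} _ _ @x4))))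
private theorem _root_.Cfsg.Agent.KOc733777.e11.{ku0} : @Multiset.decidableDforallMultiset.{ku0} = @_root_.Cfsg.Agent.KOc733777.k11.{ku0} := by delta _root_.Cfsg.Agent.KOc733777.k11; rewrite [← Cfsg.Agent.KOc733777.e7.{ku0}]; rfl'
private noncomputable def _root_.Cfsg.Agent.KOc733777.k12.{ku0} : type_of% @Finset.decidableDforallFinset.{ku0} := @(fun x0 x1 x2 x3 => @Cfsg.Agent.KOc733777.k11.{ku0} _ _ _ @x3)
private theorem _root_.Cfsg.Agent.KOc733777.e12.{ku0} : @Finset.decidableDforallFinset.{ku0} = @_root_.Cfsg.Agent.KOc733777.k12.{ku0} := by delta _root_.Cfsg.Agent.KOc733777.k12; rewrite [← Cfsg.Agent.KOc733777.e11.{ku0}]; rfl'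
private noncomputable def _root_.Cfsg.Agent.KOc733777.k13.{ku0} : type_of% @Fintype.decidableForallFintype.{ku0} := @(fun x0 x1 x2 x3 => @Decidable.rec.{1} _ @(fun x4 => @Decidable ((x5 : @x0) → @x1 @x5)) @(fun x4 => @Decidable.isFalse _ (@decidable_of_decidable_of_iff._proof_1 _ _ (@Fintype.decidableForallFintype._proof_1.{ku0} _ _ _) @x4)) @(fun x4 => @Decidable.isTrue _ (@Iff.mp _ _ (@Fintype.decidableForallFintype._proof_1.{ku0} _ _ _) @x4)) (@Cfsg.Agent.KOc733777.k12.{ku0} _ _ @(fun x4 x5 => @x1 @x4) @(fun x4 x5 => @x2 @x4)))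
private theorem _root_.Cfsg.Agent.KOc733777.e13.{ku0} : @Fintype.decidableForallFintype.{ku0} = @_root_.Cfsg.Agent.KOc733777.k13.{ku0} := by delta _root_.Cfsg.Agent.KOc733777.k13; rewrite [← Cfsg.Agent.KOc733777.e12.{ku0}]; rfl'
private noncomputable def _root_.Cfsg.Agent.KOc733777.k14 : type_of% @forall_prop_decidable := @(fun x0 x1 x2 x3 => @Decidable.rec.{1} _ @(fun x4 => @Decidable ((x5 : @x0) → @x1 @x5)) @(fun x4 => @Decidable.isTrue _ (@forall_prop_decidable._proof_2 _ @x1 @x4)) @(fun x4 => @Decidable.rec.{1} _ @(fun x5 => @Decidable ((x6 : @x0) → @x1 @x6)) @(fun x5 => @Decidable.isFalse _ (@decidable_of_decidable_of_iff._proof_1 _ _ (@forall_prop_decidable._proof_1 _ @x1 @x4) @x5)) @(fun x5 => @Decidable.isTrue _ (@Iff.mp _ _ (@forall_prop_decidable._proof_1 _ @x1 @x4) @x5)) (@x3 @x4)) @x2)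
private theorem _root_.Cfsg.Agent.KOc733777.e14 : @forall_prop_decidable = @_root_.Cfsg.Agent.KOc733777.k14 := by delta _root_.Cfsg.Agent.KOc733777.k14; rfl'
private noncomputable def _root_.Cfsg.Agent.KOc733777.k15.{ku0} : type_of% @instDecidableEqQuadraticAlgebra.decEq.{ku0} := @(fun x0 x1 x2 x3 x4 x5 => @QuadraticAlgebra.rec.{1, ku0} @x0 @x1 @x2 @(fun x6 => @Decidable (@Eq.{(ku0+1)} _ @x6 @x5)) @(fun x6 x7 => @QuadraticAlgebra.rec.{1, ku0} @x0 @x1 @x2 @(fun x8 => @Decidable (@Eq.{(ku0+1)} _ (@QuadraticAlgebra.mk.{ku0} _ _ _ @x6 @x7) @x8)) @(fun x8 x9 => @Decidable.rec.{1} _ @(fun x10 => @Decidable (@Eq.{(ku0+1)} _ (@QuadraticAlgebra.mk.{ku0} _ _ _ @x6 @x7) (@QuadraticAlgebra.mk.{ku0} _ _ _ @x8 @x9))) @(fun x10 => @Decidable.isFalse _ (@instDecidableEqQuadraticAlgebra.decEq._proof_4.{ku0} _ _ _ @x6 @x7 @x8 @x9 @x10)) @(fun x10 => @Eq.rec.{1, (ku0+1)} @x0 @x6 @(fun x11 x12 => @Decidable (@Eq.{(ku0+1)} _ (@QuadraticAlgebra.mk.{ku0}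 _ _ _ @x6 @x7) (@QuadraticAlgebra.mk.{ku0} _ _ _ @x11 @x9))) (@Decidable.rec.{1} _ @(fun x11 => @Decidable (@Eq.{(ku0+1)} _ (@QuadraticAlgebra.mk.{ku0} _ _ _ @x6 @x7) (@QuadraticAlgebra.mk.{ku0} _ _ _ @x6 @x9))) @(fun x11 => @Decidable.isFalse _ (@instDecidableEqQuadraticAlgebra.decEq._proof_3.{ku0} _ _ _ @x6 @x7 @x9 @x11)) @(fun x11 => @Eq.rec.{1, (ku0+1)} @x0 @x7 @(fun x12 x13 => @Decidable (@Eq.{(ku0+1)} _ (@QuadraticAlgebra.mk.{ku0} _ _ _ @x6 @x7) (@QuadraticAlgebra.mk.{ku0} _ _ _ @x6 @x12))) (@Decidable.isTrue _ (@instDecidableEqQuadraticAlgebra.decEq._proof_1.{ku0} _ _ _ @x6 @x7)) @x9 @x11) (@x3 @x7 @x9)) @x8 @x10) (@x3 @x6 @x8)) @x5) @x4)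
private theorem _root_.Cfsg.Agent.KOc733777.e15.{ku0} : @instDecidableEqQuadraticAlgebra.decEq.{ku0} = @_root_.Cfsg.Agent.KOc733777.k15.{ku0} := by delta _root_.Cfsg.Agent.KOc733777.k15; rfl'
private noncomputable def _root_.Cfsg.Agent.KOc733777.k16.{ku0} : type_of% @instDecidableEqQuadraticAlgebra.{ku0} := @(fun x0 x1 x2 x3 => @Cfsg.Agent.KOc733777.k15.{ku0} _ _ _ @x3)
private theorem _root_.Cfsg.Agent.KOc733777.e16.{ku0} : @instDecidableEqQuadraticAlgebra.{ku0} = @_root_.Cfsg.Agent.KOc733777.k16.{ku0} := by delta _root_.Cfsg.Agent.KOc733777.k16; rewrite [← Cfsg.Agent.KOc733777.e15.{ku0}]; rfl'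
private noncomputable def _root_.Cfsg.Agent.KOc733777.k17 : type_of% @Nat.decEq := @(fun x0 x1 => @Bool.rec.{1} @(fun x2 => (@Eq.{1} _ (@Nat.beq @x0 @x1) @x2) → @Decidable (@Eq.{1} _ @x0 @x1)) @(fun x2 => @Decidable.isFalse _ (@Nat.ne_of_beq_eq_false _ _ @x2)) @(fun x2 => @Decidable.isTrue _ (@Nat.eq_of_beq_eq_true _ _ @x2)) (@Nat.beq @x0 @x1) (@Eq.refl.{1} _ (@Nat.beq @x0 @x1)))
private theorem _root_.Cfsg.Agent.KOc733777.e17 : @Nat.decEq = @_root_.Cfsg.Agent.KOc733777.k17 := by delta _root_.Cfsg.Agent.KOc733777.k17; rfl'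
private noncomputable def _root_.Cfsg.Agent.KOc733777.k18 : type_of% @Int.decEq := @(fun x0 x1 => @Int.rec.{1} @(fun x2 => @Decidable (@Eq.{1} _ @x2 @x1)) @(fun x2 => @Int.rec.{1} @(fun x3 => @Decidable (@Eq.{1} _ (@Int.ofNat @x2) @x3)) @(fun x3 => @Decidable.rec.{1} _ @(fun x4 => @Decidable (@Eq.{1} _ (@Int.ofNat @x2) (@Int.ofNat @x3))) @(fun x4 => @Decidable.isFalse _ (@Int.decEq._proof_2 @x2 @x3 @x4)) @(fun x4 => @Decidable.isTrue _ (@Int.decEq._proof_1 @x2 @x3 @x4)) (@Cfsg.Agent.KOc733777.k17 @x2 @x3)) @(fun x3 => @Decidable.isFalse _ (@Int.decEq._proof_3 @x2 @x3)) @x1) @(fun x2 => @Int.rec.{1} @(fun x3 => @Decidable (@Eq.{1} _ (@Int.negSucc @x2) @x3)) @(fun x3 => @Decidable.isFalse _ (@Int.decEq._proof_4 @x2 @x3)) @(fun x3 => @Decidable.rec.{1} _ @(fun x4 => @Decidable (@Eq.{1} _ (@Int.negSucc @x2) (@Int.negSucc @x3))) @(fun x4 => @Decidable.isFalse _ (@Int.decEq._proof_6 @x2 @x3 @x4)) @(fun x4 => @Decidable.isTrue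 _ (@Int.decEq._proof_5 @x2 @x3 @x4)) (@Cfsg.Agent.KOc733777.k17 @x2 @x3)) @x1) @x0)
private theorem _root_.Cfsg.Agent.KOc733777.e18 : @Int.decEq = @_root_.Cfsg.Agent.KOc733777.k18 := by delta _root_.Cfsg.Agent.KOc733777.k18; rewrite [← Cfsg.Agent.KOc733777.e17]; rfl'
private noncomputable def _root_.Cfsg.Agent.KOc733777.k19 : type_of% @instDecidableEqFin := @(fun x0 x1 x2 => @Decidable.rec.{1} _ @(fun x3 => @Decidable (@Eq.{1} _ @x1 @x2)) @(fun x3 => @Decidable.isFalse _ (@instDecidableEqFin._proof_1 @x0 @x1 @x2 @x3)) @(fun x3 => @Decidable.isTrue _ (@Fin.eq_of_val_eq _ _ _ @x3)) (@Cfsg.Agent.KOc733777.k17 (@Fin.val _ @x1) (@Fin.val _ @x2)))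
private theorem _root_.Cfsg.Agent.KOc733777.e19 : @instDecidableEqFin = @_root_.Cfsg.Agent.KOc733777.k19 := by delta _root_.Cfsg.Agent.KOc733777.k19; rewrite [← Cfsg.Agent.KOc733777.e17]; rfl'
private noncomputable def _root_.Cfsg.Agent.KOc733777.k20 : type_of% @ZMod.decidableEq := @(fun x0 => @Nat.rec.{1} @(fun x1 => @DecidableEq.{1} (@ZMod @x1)) @Cfsg.Agent.KOc733777.k18 @(fun x1 x2 => @Cfsg.Agent.KOc733777.k19 (@Nat.add @x1 (nat_lit 1))) @x0)
private theorem _root_.Cfsg.Agent.KOc733777.e20 : @ZMod.decidableEq = @_root_.Cfsg.Agent.KOc733777.k20 := by delta _root_.Cfsg.Agent.KOc733777.k20; rewrite [← Cfsg.Agent.KOc733777.e19, ← Cfsg.Agent.KOc733777.e18]; rfl'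
private noncomputable def _root_.Cfsg.Agent.KOc733777.k21.{ku0, ku1} : type_of% @Fintype.decidablePiFintype.{ku0, ku1} := @(fun x0 x1 x2 x3 x4 x5 => @Decidable.rec.{1} _ @(fun x6 => @Decidable (@Eq.{(max (ku0+1) (ku1+1))} _ @x4 @x5)) @(fun x6 => @Decidable.isFalse _ (@decidable_of_decidable_of_iff._proof_1 _ _ (@Fintype.decidablePiFintype._proof_2.{ku1, ku0} _ _ _ @x4 @x5) @x6)) @(fun x6 => @Decidable.isTrue _ (@Iff.mp _ _ (@Fintype.decidablePiFintype._proof_2.{ku1, ku0} _ _ _ @x4 @x5) @x6)) (@Cfsg.Agent.KOc733777.k12.{ku1} _ _ @(fun x6 x7 => @Eq.{(ku0+1)} _ (@x4 @x6) (@x5 @x6)) @(fun x6 x7 => @x2 @x6 (@x4 @x6) (@x5 @x6))))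
private theorem _root_.Cfsg.Agent.KOc733777.e21.{ku0, ku1} : @Fintype.decidablePiFintype.{ku0, ku1} = @_root_.Cfsg.Agent.KOc733777.k21.{ku0, ku1} := by delta _root_.Cfsg.Agent.KOc733777.k21; rewrite [← Cfsg.Agent.KOc733777.e12.{ku1}]; rfl'
private noncomputable def _root_.Cfsg.Agent.KOc733777.k22.{ku0, ku1, ku2} : type_of% @Matrix.decidableEq.{ku0, ku1, ku2} := @(fun x0 x1 x2 x3 x4 x5 => @Cfsg.Agent.KOc733777.k21.{(max ku2 ku1), ku0} _ @(fun x6 => @x1 → @x2) @(fun x6 x7 x8 => @Cfsg.Agent.KOc733777.k21.{ku2, ku1} _ @(fun x9 => @x2) @(fun x9 => @x3) @x5 @x7 @x8) @x4)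
private theorem _root_.Cfsg.Agent.KOc733777.e22.{ku0, ku1, ku2} : @Matrix.decidableEq.{ku0, ku1, ku2} = @_root_.Cfsg.Agent.KOc733777.k22.{ku0, ku1, ku2} := by delta _root_.Cfsg.Agent.KOc733777.k22; rewrite [← Cfsg.Agent.KOc733777.e21.{(max ku2 ku1), ku0}, ← Cfsg.Agent.KOc733777.e21.{ku2, ku1}]; rfl'
private noncomputable def _root_.Cfsg.Agent.KOc733777.k23.{ku0, ku1, ku2, ku3} : type_of% @Matrix.map.{ku0, ku1, ku2, ku3} := @(fun x0 x1 x2 x3 x4 x5 x6 x7 => @x5 (@x4 @x6 @x7))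
private theorem _root_.Cfsg.Agent.KOc733777.e23.{ku0, ku1, ku2, ku3} : @Matrix.map.{ku0, ku1, ku2, ku3} = @_root_.Cfsg.Agent.KOc733777.k23.{ku0, ku1, ku2, ku3} := by delta _root_.Cfsg.Agent.KOc733777.k23; rfl'

theorem cover : ∀ d1 d2 a1 a2 b1 b2 : ZMod 3, (⟨d1, d2⟩ : K9) * cj ⟨d1, d2⟩ = 1 →
    (⟨a1, a2⟩ : K9) * cj ⟨a1, a2⟩ + ⟨b1, b2⟩ * cj ⟨b1, b2⟩ = 1 →
    cm ⟨d1, d2⟩ ⟨a1, a2⟩ ⟨b1, b2⟩ * (cm ⟨d1, d2⟩ ⟨a1, a2⟩ ⟨b1, b2⟩).map cj = 1 →
    ∃ k : Fin 36, rtab k * cm ⟨d1, d2⟩ ⟨a1, a2⟩ ⟨b1, b2⟩ = (rtab k).map cj := by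
  have h : ∀ d1 d2 : ZMod 3, (⟨d1, d2⟩ : K9) * cj ⟨d1, d2⟩ = 1 → ∀ a1 a2 b1 b2 : ZMod 3,
      (⟨a1, a2⟩ : K9) * cj ⟨a1, a2⟩ + ⟨b1, b2⟩ * cj ⟨b1, b2⟩ = 1 →
      cm ⟨d1, d2⟩ ⟨a1, a2⟩ ⟨b1, b2⟩ * (cm ⟨d1, d2⟩ ⟨a1, a2⟩ ⟨b1, b2⟩).map cj = 1 →
      rtab (wit d1 d2 a1 a2 b1 b2) * cm ⟨d1, d2⟩ ⟨a1, a2⟩ ⟨b1, b2⟩ = (rtab (wit d1 d2 a1 a2 b1 b2)).map cj := by
    (first | (refine of_decide_eq_true ?_; rewrite [Cfsg.Agent.KOc733777.e0, Cfsg.Agent.KOc733777.e13.{0}, Cfsg.Agent.KOc733777.e14, Cfsg.Agent.KOc733777.e16.{0}, Cfsg.Agent.KOc733777.e20, Cfsg.Agent.KOc733777.e22.{0, 0, 0}, Cfsg.Agent.KOc733777.e23.{0, 0, 0, 0}, Cfsg.Agent.KOc733777.e19]; decide +kernel) | decide +kernel)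
  exact fun d1 d2 a1 a2 b1 b2 h1 h2 h3 => ⟨_, h d1 d2 h1 a1 a2 b1 b2 h2 h3⟩

theorem exists_r {h : SU33} (hh : h * t0 = t0 * h) (hs : h * φ h = 1) : ∃ r : SU33, r * h = φ r := by
  obtain ⟨h00, h21, h22, h11⟩ := param hh
  have hm : _root_.Cfsg.Agent.OddHalf.Small.U33.mt h = cm (_root_.Cfsg.Agent.OddHalf.Small.U33.mt h 0 0) (_root_.Cfsg.Agent.OddHalf.Small.U33.mt h 1 1) (_root_.Cfsg.Agent.OddHalf.Small.U33.mt h 1 2) := mt_cm hh rfl
  have hs' : _root_.Cfsg.Agent.OddHalf.Small.U33.mt h * (_root_.Cfsg.Agent.OddHalf.Small.U33.mt h).map cj = 1 := by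
    have := congrArg (fun x : SU33 => _root_.Cfsg.Agent.OddHalf.Small.U33.mt x) hs
    exact this
  generalize _root_.Cfsg.Agent.OddHalf.Small.U33.mt h 0 0 = d at hm h00
  generalize _root_.Cfsg.Agent.OddHalf.Small.U33.mt h 1 1 = a at hm h11
  generalize _root_.Cfsg.Agent.OddHalf.Small.U33.mt h 1 2 = b at hm h11
  rw [hm] at hs'
  obtain ⟨d1, d2⟩ := d
  obtain ⟨a1, a2⟩ := a
  obtain ⟨b1, b2⟩ := b
  obtain ⟨k, hk⟩ := cover d1 d2 a1 a2 b1 b2 h00 h11 hs'
  refine ⟨(rtab_good k).su, ?_⟩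
  apply mt_ext
  rw [mt_mul, mt_φ, hm]
  exact hk

/-- an outer involutory automorphism fixing `t0` is conjugate to `φ` -/
theorem exists_conj_phi {α : MulAut SU33} (h0 : α t0 = t0) (h2 : α * α = 1)
    (ho : α ∉ (MulAut.conj : SU33 →* MulAut SU33).range) : ∃ r : SU33, MulAut.conj r * α * (MulAut.conj r)⁻¹ = φ := by
  obtain ⟨g, hg, h7 | h7⟩ := fix_cases h0
  · exact absurd ⟨g, h7.symm⟩ ho
  have h8' : ∀ x, α x = (g * gi) * φ x * (g * gi)⁻¹ := by
    intro x
    rw [h7, MulAut.mul_apply, MulAut.conj_apply, f_apply]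
    group
  have h9 : (g * gi) * φ (g * gi) = 1 := by
    apply conj_inj
    rw [map_one, ← h2]
    refine MulEquiv.ext fun x => ?_
    have e1 : φ ((g * gi) * φ x * (g * gi)⁻¹) = φ (g * gi) * x * (φ (g * gi))⁻¹ := by
      rw [map_mul, map_mul _ (g * gi), map_inv, φφ]
    rw [MulAut.mul_apply, h8' (α x), h8' x, e1, MulAut.conj_apply]
    group
  obtain ⟨r, hr⟩ := exists_r (comm_mul hg gi_t0) h9
  refine ⟨r, MulEquiv.ext fun x => ?_⟩
  rw [MulAut.mul_apply, MulAut.mul_apply, ← map_inv, MulAut.conj_apply, h8', MulAut.conj_apply]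
  have e2 : r * (g * gi * φ (r⁻¹ * x * r⁻¹⁻¹) * (g * gi)⁻¹) * r⁻¹ =
      (r * (g * gi)) * φ (r⁻¹ * x * r) * (r * (g * gi))⁻¹ := by
    rw [inv_inv]; group
  rw [e2, hr, map_mul, map_mul, map_inv]
  group

/-! ### the element of order 7 -/

def wMat : Matrix (Fin 3) (Fin 3) K9 := !![⟨0, 1⟩, ⟨0, 1⟩, ⟨1, 2⟩; ⟨0, 1⟩, ⟨1, 1⟩, ⟨1, 0⟩; ⟨1, 2⟩, ⟨1, 0⟩, ⟨0, 2⟩]
def t1Mat : Matrix (Fin 3) (Fin 3) K9 := !![-1, 0, 0; 0, -1, 0; 0, 0, 1]
def aMat : Matrix (Fin 3) (Fin 3) K9 := !![⟨1, 0⟩, ⟨1, 0⟩, ⟨2, 2⟩; ⟨2, 0⟩, ⟨2, 0⟩, ⟨2, 2⟩; ⟨1, 2⟩, ⟨2, 1⟩, ⟨0, 0⟩]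
def bMat : Matrix (Fin 3) (Fin 3) K9 := !![⟨1, 0⟩, ⟨2, 2⟩, ⟨0, 2⟩; ⟨1, 2⟩, ⟨0, 0⟩, ⟨1, 1⟩; ⟨0, 2⟩, ⟨1, 2⟩, ⟨2, 0⟩]
def sMat : Matrix (Fin 3) (Fin 3) K9 := !![⟨1, 0⟩, ⟨0, 0⟩, ⟨0, 0⟩; ⟨0, 0⟩, ⟨1, 1⟩, ⟨1, 2⟩; ⟨0, 0⟩, ⟨2, 2⟩, ⟨1, 2⟩]
def uMat : Matrix (Fin 3) (Fin 3) K9 := !![⟨0, 1⟩, 0, 0; 0, ⟨0, 1⟩, 0; 0, 0, -1]

theorem w_good : IsGood wMat := by decide +kernel
theorem t1_good : IsGood t1Mat := by decide +kernel
theorem a_good : IsGood aMat := by decide +kernel
theorem b_good : IsGood bMat := by decide +kernel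
theorem s_good : IsGood sMat := by decide +kernel
theorem u_good : IsGood uMat := by decide +kernel

/-- the element of order 7 inverted by `φ` -/
def ww : SU33 := w_good.su
/-- `diag(-1,-1,1)` -/
def t1 : SU33 := t1_good.su
def aa : SU33 := a_good.su
def bb : SU33 := b_good.su
def ss : SU33 := s_good.su
/-- `diag(i,i,-1)` -/
def uu : SU33 := u_good.su

theorem mt_ww : _root_.Cfsg.Agent.OddHalf.Small.U33.mt ww = wMat := rfl
theorem mt_t1 : _root_.Cfsg.Agent.OddHalf.Small.U33.mt t1 = t1Mat := rfl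
theorem mt_aa : _root_.Cfsg.Agent.OddHalf.Small.U33.mt aa = aMat := rfl
theorem mt_bb : _root_.Cfsg.Agent.OddHalf.Small.U33.mt bb = bMat := rfl
theorem mt_ss : _root_.Cfsg.Agent.OddHalf.Small.U33.mt ss = sMat := rfl
theorem mt_uu : _root_.Cfsg.Agent.OddHalf.Small.U33.mt uu = uMat := rfl

theorem φ_ww' : φ ww * ww = 1 := by
  apply mt_ext
  rw [mt_mul, mt_φ, mt_ww, mt_one]
  decide +kernel

theorem φ_ww : φ ww = ww⁻¹ := eq_inv_of_mul_eq_one_left φ_ww'

theorem ww_seven : ww ^ 7 = 1 := by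
  have h1 : ∀ x : SU33, x ^ 7 = x * x * x * (x * x * x) * x := by
    intro x; simp only [pow_succ, pow_zero, one_mul, mul_assoc]
  rw [h1]
  apply mt_ext
  simp only [mt_mul, mt_ww, mt_one]
  decide +kernel

theorem ww_ne : ww ≠ 1 := by
  intro h
  have := congrArg (fun x : SU33 => _root_.Cfsg.Agent.OddHalf.Small.U33.mt x) h
  exact absurd this (by change wMat ≠ 1; decide +kernel)

theorem ss_t0 : ss * t0 = t0 * ss := by
  apply mt_ext
  rw [mt_mul, mt_mul, mt_ss, mt_t0]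
  decide +kernel

theorem ss_three : ss * ss * ss = 1 := by
  apply mt_ext
  simp only [mt_mul, mt_ss, mt_one]
  decide +kernel

theorem aa_three : aa * aa * aa = 1 := by
  apply mt_ext
  simp only [mt_mul, mt_aa, mt_one]
  decide +kernel

theorem bb_three : bb * bb * bb = 1 := by
  apply mt_ext
  simp only [mt_mul, mt_bb, mt_one]
  decide +kernel

theorem ss_ne : ss ≠ 1 := by
  intro h
  have := congrArg (fun x : SU33 => _root_.Cfsg.Agent.OddHalf.Small.U33.mt x) h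
  exact absurd this (by change sMat ≠ 1; decide +kernel)

theorem ss_aa : ss * aa = aa * ss := by
  apply mt_ext
  rw [mt_mul, mt_mul, mt_ss, mt_aa]
  decide +kernel

theorem ss_bb : ss * bb = bb * ss := by
  apply mt_ext
  rw [mt_mul, mt_mul, mt_ss, mt_bb]
  decide +kernel

theorem bb_aa : bb * aa = aa * bb * ss := by
  apply mt_ext
  simp only [mt_mul, mt_ss, mt_bb, mt_aa]
  decide +kernel

theorem φ_t0 : φ t0 = t0 := by
  apply mt_ext
  rw [mt_φ, mt_t0]
  decide +kernel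

/-! ### generation -/

/-- `ww⁻¹` -/
def vv : SU33 := φ ww

theorem mt_vv : _root_.Cfsg.Agent.OddHalf.Small.U33.mt vv = wMat.map cj := rfl

theorem uu_word : uu = (ww * t1 * vv) * (vv * t0 * ww) * (t1 * ww * ww) := by
  apply mt_ext
  simp only [mt_mul, mt_uu, mt_ww, mt_t1, mt_vv, mt_t0]
  decide +kernel

theorem gi_word : gi = (t1 * ww * t1) * (vv * vv * t1) * ((ww * ww) * (t1 * vv)) := by
  apply mt_ext
  simp only [mt_mul, mt_gi, mt_ww, mt_t1, mt_vv]
  decide +kernel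

theorem aa_word : aa = (vv * t0) * (ww * t0) := by
  apply mt_ext
  simp only [mt_mul, mt_aa, mt_ww, mt_vv, mt_t0]
  decide +kernel

theorem bb_word : bb = (t0 * ww * t0) * (t1 * vv) := by
  apply mt_ext
  simp only [mt_mul, mt_bb, mt_ww, mt_t1, mt_vv, mt_t0]
  decide +kernel

/-- `diag(i,-1,i)` -/
def u2Mat : Matrix (Fin 3) (Fin 3) K9 := !![⟨0, 1⟩, 0, 0; 0, -1, 0; 0, 0, ⟨0, 1⟩]
theorem u2_good : IsGood u2Mat := by decide +kernel
def u2 : SU33 := u2_good.su
theorem mt_u2 : _root_.Cfsg.Agent.OddHalf.Small.U33.mt u2 = u2Mat := rfl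

theorem u2_gi : u2 * gi = gi * uu := by
  apply mt_ext
  rw [mt_mul, mt_mul, mt_u2, mt_gi, mt_uu]
  decide +kernel

def pw (m : Matrix (Fin 3) (Fin 3) K9) (a : Fin 4) : Matrix (Fin 3) (Fin 3) K9 := ![1, m, m * m, m * m * m] a

private noncomputable def _root_.Cfsg.Agent.LsF.f3a057c_0 : {f // @Cfsg.Agent.OddHalf.D4.Small.KU33.un = f} := ⟨_, by first | (delta Cfsg.Agent.OddHalf.D4.Small.KU33.un; rewrite [Cfsg.Agent.LsF.vecCons_eq]; exact rfl) | exact rfl⟩
private noncomputable def _root_.Cfsg.Agent.LsF.f3a057c_1 : {f // @Cfsg.Agent.OddHalf.D4.Small.KU33.cj = f} := ⟨_, by first | (delta Cfsg.Agent.OddHalf.D4.Small.KU33.cj; rewrite [Cfsg.Agent.LsF.instZAdd_pat, Cfsg.Agent.LsF.instZMul_pat]; exact rfl) | exact rfl⟩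
private noncomputable def _root_.Cfsg.Agent.LsF.f3a057c_2 : {f // @Cfsg.Agent.OddHalf.D4.Small.KU33.sm = f} := ⟨_, by first | (delta Cfsg.Agent.OddHalf.D4.Small.KU33.sm; rewrite [Cfsg.Agent.LsF.f3a057c_0.2, Cfsg.Agent.LsF.f3a057c_1.2, Cfsg.Agent.LsF.mof_pat, Cfsg.Agent.LsF.vecCons_eq, Cfsg.Agent.LsF.instZAdd_pat, Cfsg.Agent.LsF.instZMul_pat, Cfsg.Agent.LsF.dBoolEq_eq, Cfsg.Agent.LsF.ite_eq]; exact rfl) | exact rfl⟩
private noncomputable def _root_.Cfsg.Agent.LsF.f3a057c_3 : {f // @Cfsg.Agent.Omega.ML.Ex.UThreeGrp.pw = f} := ⟨_, by first | (delta Cfsg.Agent.Omega.ML.Ex.UThreeGrp.pw; rewrite [Cfsg.Agent.LsF.mmulF_pat, Cfsg.Agent.LsF.vecCons_eq, Cfsg.Agent.LsF.instMOne_eq, Cfsg.Agent.LsF.instZAdd_pat, Cfsg.Agent.LsF.instZMul_pat, Cfsg.Agent.LsF.zACM_pat, Cfsg.Agent.LsF.dFinEq_eq]; exact rfl) | exact rfl⟩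
private noncomputable def _root_.Cfsg.Agent.LsF.f3a057c_4 : {f // @Cfsg.Agent.Omega.ML.Ex.UThreeGrp.uMat = f} := ⟨_, by first | (delta Cfsg.Agent.Omega.ML.Ex.UThreeGrp.uMat; rewrite [Cfsg.Agent.LsF.mof_pat, Cfsg.Agent.LsF.vecCons_eq]; exact rfl) | exact rfl⟩
private noncomputable def _root_.Cfsg.Agent.LsF.f3a057c_5 : {f // @Cfsg.Agent.Omega.ML.Ex.UThreeGrp.u2Mat = f} := ⟨_, by first | (delta Cfsg.Agent.Omega.ML.Ex.UThreeGrp.u2Mat; rewrite [Cfsg.Agent.LsF.mof_pat, Cfsg.Agent.LsF.vecCons_eq]; exact rfl) | exact rfl⟩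
private noncomputable def _root_.Cfsg.Agent.LsF.f3a057c_6 : {f // @Cfsg.Agent.OddHalf.Small.U33.iMat = f} := ⟨_, by first | (delta Cfsg.Agent.OddHalf.Small.U33.iMat; rewrite [Cfsg.Agent.LsF.mof_pat, Cfsg.Agent.LsF.vecCons_eq]; exact rfl) | exact rfl⟩
theorem sm_eq : ∀ k l : Fin 4, ∀ e : Bool, ∃ a b : Fin 4,
    sm k l e = pw uMat a * pw u2Mat b * (if e then iMat else 1) := by
  (refine of_decide_eq_true ?_; (try (rewrite [Cfsg.Agent.LsF.mmulF_pat, Cfsg.Agent.LsF.f3a057c_2.2, Cfsg.Agent.LsF.f3a057c_3.2, Cfsg.Agent.LsF.f3a057c_4.2, Cfsg.Agent.LsF.f3a057c_5.2, Cfsg.Agent.LsF.f3a057c_6.2, Cfsg.Agent.LsF.zdecEq_eq, Cfsg.Agent.LsF.finFintype_eq, Cfsg.Agent.LsF.dMat_eq, Cfsg.Agent.LsF.instMOne_eq, Cfsg.Agent.LsF.instZAdd_pat, Cfsg.Agent.LsF.instZMul_pat, Cfsg.Agent.LsF.zACM_pat, Cfsg.Agent.LsF.dFinEq_eq, Cfsg.Agent.LsF.dBoolEq_eq, Cfsg.Agent.LsF.dForallFin_eq, Cfsg.Agent.LsF.dExistsFin_eq, Cfsg.Agent.LsF.ite_eq, Cfsg.Agent.LsF.decide_eq]));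 decide +kernel)

def pg (x : SU33) (a : Fin 4) : SU33 := ![1, x, x * x, x * x * x] a

theorem mt_pg (x : SU33) (a : Fin 4) : _root_.Cfsg.Agent.OddHalf.Small.U33.mt (pg x a) = pw (_root_.Cfsg.Agent.OddHalf.Small.U33.mt x) a := by
  fin_cases a <;> rfl

theorem pg_mem {R : Subgroup SU33} {x : SU33} (hx : x ∈ R) (a : Fin 4) : pg x a ∈ R := by
  fin_cases a
  · exact one_mem R
  · exact hx
  · exact mul_mem hx hx
  · exact mul_mem (mul_mem hx hx) hx

theorem sm_mem {R : Subgroup SU33} (hu : uu ∈ R) (hg : gi ∈ R) (k l : Fin 4) (e : Bool) : (sm_good k l e).su ∈ R := by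
  have h2 : u2 ∈ R := by
    have : u2 = gi * uu * gi⁻¹ := by rw [← u2_gi]; group
    rw [this]
    exact mul_mem (mul_mem hg hu) (inv_mem hg)
  obtain ⟨a, b, h⟩ := sm_eq k l e
  have h3 : (sm_good k l e).su = pg uu a * pg u2 b * (if e then gi else 1) := by
    apply mt_ext
    have h4 : _root_.Cfsg.Agent.OddHalf.Small.U33.mt (if e then gi else 1) = (if e then iMat else 1) := by
      cases e <;> rfl
    rw [mt_mul, mt_mul, mt_pg, mt_pg, h4, mt_uu, mt_u2]
    exact h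
  rw [h3]
  refine mul_mem (mul_mem (pg_mem hu a) (pg_mem h2 b)) ?_
  cases e
  · exact one_mem R
  · exact hg

theorem dvd_of_S {R : Subgroup SU33} (hu : uu ∈ R) (hg : gi ∈ R) : 32 ∣ Nat.card R := by
  have h1 : IsPGroup 2 (S ⊓ R : Subgroup SU33) := isPGroup_S.to_le inf_le_left
  obtain ⟨n, hn⟩ := IsPGroup.iff_card.1 h1
  have h2 : 32 ≤ Nat.card (S ⊓ R : Subgroup SU33) := by
    let f : Fin 4 × Fin 4 × Bool → (S ⊓ R : Subgroup SU33) := fun p => ⟨(sm_good p.1 p.2.1 p.2.2).su, by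
      have h := sm_pat p.1 p.2.1 p.2.2
      exact ⟨⟨comm_iff.mpr ⟨h.1, h.2.1, h.2.2.1, h.2.2.2.1⟩, h.2.2.2.2⟩, sm_mem hu hg _ _ _⟩⟩
    have hf : Function.Injective f := by
      rintro ⟨k, l, e⟩ ⟨k', l', e'⟩ h
      have h1 : _root_.Cfsg.Agent.OddHalf.Small.U33.mt (sm_good k l e).su = _root_.Cfsg.Agent.OddHalf.Small.U33.mt (sm_good k' l' e').su :=
        congrArg (fun x : (S ⊓ R : Subgroup SU33) => _root_.Cfsg.Agent.OddHalf.Small.U33.mt (x : SU33)) h
      have h2 : sm k l e = sm k' l' e' := h1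
      obtain ⟨h3, h4, h5⟩ := sm_inj k l e k' l' e' (by rw [h2]) (by rw [h2]) (by rw [h2])
      rw [h3, h4, h5]
    have h1 := Nat.card_le_card_of_injective f hf
    have h2 : Nat.card (Fin 4 × Fin 4 × Bool) = 32 := by simp
    rwa [h2] at h1
  have h3 : 5 ≤ n := by
    by_contra hc
    have h4 : 2 ^ n ≤ 2 ^ 4 := Nat.pow_le_pow_right (by norm_num) (by omega)
    rw [hn] at h2
    omega
  have h4 : 32 ∣ 2 ^ n := by
    have : (32 : ℕ) = 2 ^ 5 := by norm_num
    rw [this]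
    exact pow_dvd_pow 2 h3
  rw [← hn] at h4
  exact h4.trans (card_dvd_of_le inf_le_right)

theorem three_mul_le {G : Type*} [Group G] [Finite G] {P Q : Subgroup G} (hP : IsPGroup 3 Q) (h : P < Q) :
    3 * Nat.card P ≤ Nat.card Q := by
  have h1 := card_mul_index (P.subgroupOf Q)
  have h2 : Nat.card (P.subgroupOf Q) = Nat.card P := Nat.card_congr (subgroupOfEquivOfLe h.le).toEquiv
  rw [h2] at h1
  obtain ⟨n, hn⟩ := IsPGroup.iff_card.1 hP
  have h3 : (P.subgroupOf Q).index ∣ 3 ^ n := by rw [← hn]; exact index_dvd_card _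
  obtain ⟨k, -, hk⟩ := (Nat.dvd_prime_pow Nat.prime_three).1 h3
  have h4 : (P.subgroupOf Q).index ≠ 1 := by
    intro h5
    rw [index_eq_one, subgroupOf_eq_top] at h5
    exact absurd h5 (not_le_of_gt h)
  have h5 : 3 ≤ (P.subgroupOf Q).index := by
    rw [hk] at h4 ⊢
    match k, h4 with
    | 0, h4 => simp at h4
    | k + 1, _ => rw [pow_succ]; have := Nat.one_le_pow k 3 (by norm_num); omega
  calc 3 * Nat.card P ≤ (P.subgroupOf Q).index * Nat.card P := Nat.mul_le_mul_right _ h5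
    _ = Nat.card Q := by rw [mul_comm]; exact h1

theorem zp_three {G : Type*} [Group G] {x : G} (h : x * x * x = 1) : IsPGroup 3 (zpowers x) := by
  rintro ⟨y, hy⟩
  refine ⟨1, Subtype.ext ?_⟩
  obtain ⟨k, rfl⟩ := mem_zpowers_iff.1 hy
  show (x ^ k) ^ (3 ^ 1) = 1
  have h3 : x ^ (3 : ℤ) = 1 := by
    have : x ^ (3 : ℤ) = x * x * x := by
      rw [show (3 : ℤ) = 1 + 1 + 1 from rfl, _root_.zpow_add, _root_.zpow_add, _root_.zpow_one]
    rw [this, h]
  rw [← _root_.zpow_natCast, ← _root_.zpow_mul, mul_comm, _root_.zpow_mul]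
  norm_num [h3]

theorem dvd27 {G : Type*} [Group G] [Finite G] {a b s : G} (ha : a * a * a = 1) (hb : b * b * b = 1)
    (hs : s * s * s = 1) (hsa : s * a = a * s) (hsb : s * b = b * s) (hba : b * a = a * b * s) (hs1 : s ≠ 1)
    {R : Subgroup G} (haR : a ∈ R) (hbR : b ∈ R) : 27 ∣ Nat.card R := by
  have hsR : s ∈ R := by
    have : s = (a * b)⁻¹ * (b * a) := by rw [hba]; group
    rw [this]
    exact mul_mem (inv_mem (mul_mem haR hbR)) (mul_mem hbR haR)
  set Z := zpowers s with hZ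
  set Y := zpowers a ⊔ Z with hY
  set P := zpowers b ⊔ Y with hPdef
  have hZp : IsPGroup 3 Z := zp_three hs
  have hnZ : zpowers a ≤ normalizer (Z : Set G) := by
    rw [zpowers_le]
    have hcz : ∀ z ∈ Z, a * z * a⁻¹ = z := by
      intro z hz
      obtain ⟨k, rfl⟩ := mem_zpowers_iff.1 hz
      have h1 : Commute a s := hsa.symm
      rw [(h1.zpow_right k).eq, mul_inv_cancel_right]
    refine mem_normalizer_iff.2 fun z => ⟨fun hz => by rw [hcz z hz]; exact hz, fun hz => ?_⟩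
    have h2 := hcz _ hz
    have h3 : a * z * a⁻¹ = z := by
      have h4 : a * (a * z * a⁻¹) * a⁻¹ = a * z * a⁻¹ := h2
      have h5 := mul_right_cancel h4
      exact mul_left_cancel h5
    rwa [h3] at hz
  have hYp : IsPGroup 3 Y := IsPGroup.to_sup_of_normal_right' (zp_three ha) hZp hnZ
  have hYcl : Y = _root_.Subgroup.closure {a, s} := by
    rw [hY, hZ, zpowers_eq_closure, zpowers_eq_closure, ← Subgroup.closure_union]
    rfl
  -- `Y` is abelian
  have hYc : ∀ y ∈ Y, ∀ y' ∈ Y, y * y' = y' * y := by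
    have h2 : ∀ x ∈ ({a, s} : Set G), ∀ y ∈ ({a, s} : Set G), x * y = y * x := by
      rintro x (rfl | rfl) y (rfl | rfl)
      · rfl
      · exact hsa.symm
      · exact hsa
      · rfl
    have h3 : closure ({a, s} : Set G) ≤ centralizer ({a, s} : Set G) := by
      rw [closure_le]
      exact fun x hx => mem_centralizer_iff.2 fun y hy => h2 y hy x hx
    have h4 : closure ({a, s} : Set G) ≤ centralizer (closure ({a, s} : Set G) : Set G) := by
      rw [closure_le]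
      exact fun x hx => mem_centralizer_iff.2 fun y hy => (mem_centralizer_iff.1 (h3 hy) x hx).symm
    rw [hYcl]
    intro y hy y' hy'
    exact (mem_centralizer_iff.1 (h4 hy) y' hy').symm
  have hbn : ∀ y ∈ Y, b * y * b⁻¹ ∈ Y := by
    have h2 : closure ({a, s} : Set G) ≤ Y.comap (MulAut.conj b).toMonoidHom := by
      rw [closure_le]
      rintro x (rfl | rfl)
      · show b * x * b⁻¹ ∈ Y
        have h3 : b * x * b⁻¹ = x * s := by
          rw [hba, mul_assoc x b s, ← hsb]; group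
        rw [h3]
        exact mul_mem (mem_sup_left (mem_zpowers x)) (mem_sup_right (mem_zpowers s))
      · show b * x * b⁻¹ ∈ Y
        rw [← hsb, mul_inv_cancel_right]
        exact mem_sup_right (mem_zpowers x)
    intro y hy
    rw [hYcl] at hy
    exact h2 hy
  have hnY : zpowers b ≤ normalizer (Y : Set G) := by
    rw [zpowers_le]
    have h1 : Y.map (MulAut.conj b).toMonoidHom = Y := by
      refine Subgroup.eq_of_le_of_card_ge ?_ ?_
      · rintro _ ⟨y, hy, rfl⟩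
        exact hbn y hy
      · rw [card_map_of_injective (MulAut.conj b).injective]
    refine mem_normalizer_iff.2 fun z => ⟨fun hz => hbn z hz, fun hz => ?_⟩
    rw [← h1] at hz
    obtain ⟨y, hy, hyz⟩ := hz
    have h2 : b * y * b⁻¹ = b * z * b⁻¹ := hyz
    have h3 : y = z := mul_left_cancel (mul_right_cancel h2)
    rwa [← h3]
  have hPp : IsPGroup 3 P := IsPGroup.to_sup_of_normal_right' (zp_three hb) hYp hnY
  have hne : b * a ≠ a * b := by
    intro h
    rw [hba] at h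
    exact hs1 (mul_left_cancel (a := a * b) (by rw [h, mul_one]))
  have h0 : (⊥ : Subgroup G) < Z := by
    rw [bot_lt_iff_ne_bot, Ne, zpowers_eq_bot]
    exact hs1
  have h1 : Z < Y := by
    refine lt_of_le_of_ne le_sup_right fun h => hne ?_
    have h2 : a ∈ Z := by rw [h]; exact mem_sup_left (mem_zpowers a)
    obtain ⟨k, hk⟩ := mem_zpowers_iff.1 h2
    rw [← hk]
    have h3 : Commute b s := hsb.symm
    exact (h3.zpow_right k).eq
  have h2 : Y < P := by
    refine lt_of_le_of_ne le_sup_right fun h => hne ?_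
    have h3 : b ∈ Y := by rw [h]; exact mem_sup_left (mem_zpowers b)
    exact hYc b h3 a (mem_sup_left (mem_zpowers a))
  have e0 := three_mul_le hZp h0
  have e1 := three_mul_le hYp h1
  have e2 := three_mul_le hPp h2
  rw [card_bot] at e0
  obtain ⟨n, hn⟩ := IsPGroup.iff_card.1 hPp
  have h3 : 3 ≤ n := by
    by_contra hc
    have h4 : 3 ^ n ≤ 3 ^ 2 := Nat.pow_le_pow_right (by norm_num) (by omega)
    rw [hn] at e2
    omega
  have h4 : 27 ∣ 3 ^ n := by
    have : (27 : ℕ) = 3 ^ 3 := by norm_num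
    rw [this]
    exact pow_dvd_pow 3 h3
  rw [← hn] at h4
  refine h4.trans (card_dvd_of_le ?_)
  rw [hPdef, hY, hZ]
  exact sup_le (zpowers_le.2 hbR) (sup_le (zpowers_le.2 haR) (zpowers_le.2 hsR))

theorem twentyseven {R : Subgroup SU33} (ha : aa ∈ R) (hb : bb ∈ R) : 27 ∣ Nat.card R :=
  dvd27 aa_three bb_three ss_three ss_aa ss_bb bb_aa ss_ne ha hb

/-- **`⟨t0, t1, ww⟩ = SU₃(3)`** -/
theorem gen {R : Subgroup SU33} (h0 : t0 ∈ R) (h1 : t1 ∈ R) (hw : ww ∈ R) : R = ⊤ := by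
  have hv : vv ∈ R := by
    have : vv = ww⁻¹ := φ_ww
    rw [this]
    exact inv_mem hw
  have hu : uu ∈ R := by
    rw [uu_word]
    exact mul_mem (mul_mem (mul_mem (mul_mem hw h1) hv) (mul_mem (mul_mem hv h0) hw))
      (mul_mem (mul_mem h1 hw) hw)
  have hg : gi ∈ R := by
    rw [gi_word]
    exact mul_mem (mul_mem (mul_mem (mul_mem h1 hw) h1) (mul_mem (mul_mem hv hv) h1))
      (mul_mem (mul_mem hw hw) (mul_mem h1 hv))
  have ha : aa ∈ R := by
    rw [aa_word]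
    exact mul_mem (mul_mem hv h0) (mul_mem hw h0)
  have hb : bb ∈ R := by
    rw [bb_word]
    exact mul_mem (mul_mem (mul_mem h0 hw) h0) (mul_mem h1 hv)
  have d1 := dvd_of_S hu hg
  have d2 := twentyseven ha hb
  have d3 : 7 ∣ Nat.card R := by
    have : Fact (Nat.Prime 7) := ⟨by norm_num⟩
    have h2 : orderOf ww = 7 := orderOf_eq_prime ww_seven ww_ne
    rw [← h2, ← Nat.card_zpowers]
    exact card_dvd_of_le (zpowers_le.2 hw)
  have d4 : 6048 ∣ Nat.card R := by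
    have e1 : 32 * 27 ∣ Nat.card R := Nat.Coprime.mul_dvd_of_dvd_of_dvd (by norm_num) d1 d2
    have e2 : 32 * 27 * 7 ∣ Nat.card R := Nat.Coprime.mul_dvd_of_dvd_of_dvd (by norm_num) e1 d3
    exact e2
  refine Subgroup.eq_top_of_card_eq R ?_
  refine Nat.dvd_antisymm R.card_subgroup_dvd_card ?_
  rw [card_SU]
  exact d4

/-! ### involutions -/

theorem exists_inv_conj {T : SU33} (hTT : T * T = 1) (hT1 : T ≠ 1) : ∃ g : SU33, T = g * t0 * g⁻¹ := by
  obtain ⟨v, hv, hTv⟩ := exists_fixed hTT hT1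
  obtain ⟨g, hg⟩ := exists_su hv
  have hgi : _root_.Cfsg.Agent.OddHalf.Small.U33.mt g⁻¹ * _root_.Cfsg.Agent.OddHalf.Small.U33.mt g = 1 := by rw [← mt_mul, inv_mul_cancel, mt_one]
  have hS : g⁻¹ * T * g = t0 := by
    apply eq_t0
    · calc g⁻¹ * T * g * (g⁻¹ * T * g) = g⁻¹ * (T * T) * g := by group
        _ = 1 := by rw [hTT]; group
    · intro h
      apply hT1
      calc T = g * (g⁻¹ * T * g) * g⁻¹ := by group
        _ = 1 := by rw [h]; group
    · rw [mt_mul, mt_mul, ← Matrix.mulVec_mulVec, ← Matrix.mulVec_mulVec, hg, hTv, ← hg,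
        Matrix.mulVec_mulVec, hgi, Matrix.one_mulVec]
  refine ⟨g, ?_⟩
  rw [← hS]
  group

/-! ### `C(t0)` has no normal four-group -/

theorem four_aux : ∀ a1 a2 b1 b2 : ZMod 3, (⟨a1, a2⟩ : K9) * cj ⟨a1, a2⟩ + ⟨b1, b2⟩ * cj ⟨b1, b2⟩ = 1 →
    cm (-1) ⟨a1, a2⟩ ⟨b1, b2⟩ * cm (-1) ⟨a1, a2⟩ ⟨b1, b2⟩ = 1 →
    (cm (-1) ⟨a1, a2⟩ ⟨b1, b2⟩ * (sMat * cm (-1) ⟨a1, a2⟩ ⟨b1, b2⟩ * (sMat * sMat))) *
      (cm (-1) ⟨a1, a2⟩ ⟨b1, b2⟩ * (sMat * cm (-1) ⟨a1, a2⟩ ⟨b1, b2⟩ * (sMat * sMat))) ≠ 1 := by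
  decide +kernel

theorem ss_inv : ss⁻¹ = ss * ss := by
  rw [inv_eq_iff_mul_eq_one, ← mul_assoc, ss_three]

theorem no_four {E : Subgroup SU33} (he : ∀ x ∈ E, x * x = 1) (h0 : t0 ∈ E)
    (hn : ∀ g : SU33, g * t0 = t0 * g → ∀ x ∈ E, g * x * g⁻¹ ∈ E) : ∀ x ∈ E, x = 1 ∨ x = t0 := by
  intro x hx
  have hcomm : ∀ y ∈ E, ∀ z ∈ E, y * z = z * y := by
    have h1 : ∀ z ∈ E, z⁻¹ = z := fun z hz => inv_eq_of_mul_eq_one_right (he z hz)
    intro y hy z hz
    rw [← h1 _ (mul_mem hy hz), _root_.mul_inv_rev, h1 y hy, h1 z hz]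
  have hc : x * t0 = t0 * x := hcomm x hx t0 h0
  have h1 : D x * D x = 1 := by rw [← D_mul hc, he x hx, D_one]
  rcases mul_self_eq_one_iff.1 h1 with hd | hd
  · have h3 : InQ x := inQ_of_two hc (isP_of_pow (k := 1) (by rw [pow_one, pow_two, he x hx])) (Or.inl hd)
    by_contra hcon
    push Not at hcon
    have h4 := isQ.sq x ⟨h3, hd⟩ hcon.1 hcon.2
    rw [he x hx] at h4
    exact t0_ne h4.symm
  · exfalso
    set y := ss * x * (ss * ss) with hy
    have hyE : y ∈ E := by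
      rw [hy, ← ss_inv]
      exact hn ss ss_t0 x hx
    have h5 : (x * y) * (x * y) = 1 := he _ (mul_mem hx hyE)
    obtain ⟨h00, h21, h22, h11⟩ := param hc
    have hm : _root_.Cfsg.Agent.OddHalf.Small.U33.mt x = cm (_root_.Cfsg.Agent.OddHalf.Small.U33.mt x 0 0) (_root_.Cfsg.Agent.OddHalf.Small.U33.mt x 1 1) (_root_.Cfsg.Agent.OddHalf.Small.U33.mt x 1 2) := mt_cm hc rfl
    have hd' : _root_.Cfsg.Agent.OddHalf.Small.U33.mt x 0 0 = -1 := hd
    rw [hd'] at hm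
    have h6 := congrArg (fun z : SU33 => _root_.Cfsg.Agent.OddHalf.Small.U33.mt z) h5
    simp only [mt_mul, hy, mt_ss, mt_one] at h6
    have h7 := congrArg (fun z : SU33 => _root_.Cfsg.Agent.OddHalf.Small.U33.mt z) (he x hx)
    simp only [mt_mul, mt_one] at h7
    rw [hm] at h6 h7
    generalize _root_.Cfsg.Agent.OddHalf.Small.U33.mt x 1 1 = a at *
    generalize _root_.Cfsg.Agent.OddHalf.Small.U33.mt x 1 2 = b at *
    obtain ⟨a1, a2⟩ := a
    obtain ⟨b1, b2⟩ := b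
    exact four_aux a1 a2 b1 b2 h11 h7 h6

/-! ### real elements -/

/-- the cyclic permutation -/
def rMat : Matrix (Fin 3) (Fin 3) K9 := !![0, 1, 0; 0, 0, 1; 1, 0, 0]
def rMat' : Matrix (Fin 3) (Fin 3) K9 := !![0, 0, 1; 1, 0, 0; 0, 1, 0]
theorem r_good : IsGood rMat := by decide +kernel
theorem r_good' : IsGood rMat' := by decide +kernel
def rr : SU33 := r_good.su
def rr' : SU33 := r_good'.su
theorem mt_rr : _root_.Cfsg.Agent.OddHalf.Small.U33.mt rr = rMat := rfl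
theorem mt_rr' : _root_.Cfsg.Agent.OddHalf.Small.U33.mt rr' = rMat' := rfl

theorem rr_rr' : rr * rr' = 1 := by
  apply mt_ext
  rw [mt_mul, mt_rr, mt_rr', mt_one]
  decide +kernel

theorem φ_rr : φ rr = rr := by
  apply mt_ext
  rw [mt_φ, mt_rr]
  decide +kernel

theorem real_aux : ∀ x1 x2 : ZMod 3, cj (⟨x1, x2⟩ : K9) = ⟨x1, x2⟩ → x2 = 0 := by decide +kernel

/-- a real matrix -/
def rm (a b c d e f g h i : ZMod 3) : Matrix (Fin 3) (Fin 3) K9 :=
  !![⟨a, 0⟩, ⟨b, 0⟩, ⟨c, 0⟩; ⟨d, 0⟩, ⟨e, 0⟩, ⟨f, 0⟩; ⟨g, 0⟩, ⟨h, 0⟩, ⟨i, 0⟩]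

set_option synthInstance.maxHeartbeats 2000000 in
set_option synthInstance.maxSize 4000 in
theorem diag_aux : ∀ a d g : ZMod 3, a * a + d * d + g * g = 1 →
    ∀ b e h : ZMod 3, b * b + e * e + h * h = 1 → a * b + d * e + g * h = 0 →
    ∀ c f i : ZMod 3, c * c + f * f + i * i = 1 → a * c + d * f + g * i = 0 → b * c + e * f + h * i = 0 →
    rm a b c d e f g h i * rm a b c d e f g h i = 1 → (rm a b c d e f g h i).det = 1 →
    (rm a b c d e f g h i * (rMat * rm a b c d e f g h i * rMat')) *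
      (rm a b c d e f g h i * (rMat * rm a b c d e f g h i * rMat')) = 1 →
    rm a b c d e f g h i = 1 ∨ rm a b c d e f g h i = dg ∨ rm a b c d e f g h i = t1Mat ∨
      rm a b c d e f g h i = dg * t1Mat := by
  decide +kernel

theorem diag_of_real {V : Subgroup SU33} (he : ∀ x ∈ V, x * x = 1) (hf : ∀ x ∈ V, φ x = x)
    (hn : ∀ g : SU33, φ g = g → ∀ x ∈ V, g * x * g⁻¹ ∈ V) : ∀ x ∈ V, x = 1 ∨ x = t0 ∨ x = t1 ∨ x = t0 * t1 := by
  intro x hx
  have hr : rr * x * rr' ∈ V := by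
    have : rr' = rr⁻¹ := eq_inv_of_mul_eq_one_right rr_rr'
    rw [this]
    exact hn rr φ_rr x hx
  have h5 := congrArg (fun z : SU33 => _root_.Cfsg.Agent.OddHalf.Small.U33.mt z) (he _ (mul_mem hx hr))
  have h7 := congrArg (fun z : SU33 => _root_.Cfsg.Agent.OddHalf.Small.U33.mt z) (he x hx)
  simp only [mt_mul, mt_rr, mt_rr', mt_one] at h5 h7
  have hre : ∀ i j, ∃ y : ZMod 3, _root_.Cfsg.Agent.OddHalf.Small.U33.mt x i j = ⟨y, 0⟩ := by
    intro i j
    have h1 : cj (_root_.Cfsg.Agent.OddHalf.Small.U33.mt x i j) = _root_.Cfsg.Agent.OddHalf.Small.U33.mt x i j := by rw [← mt_φ_apply, hf x hx]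
    generalize _root_.Cfsg.Agent.OddHalf.Small.U33.mt x i j = z at h1 ⊢
    obtain ⟨z1, z2⟩ := z
    exact ⟨z1, by rw [real_aux z1 z2 h1]⟩
  obtain ⟨a, ha⟩ := hre 0 0
  obtain ⟨b, hb⟩ := hre 0 1
  obtain ⟨c, hc⟩ := hre 0 2
  obtain ⟨d, hd⟩ := hre 1 0
  obtain ⟨e, hee⟩ := hre 1 1
  obtain ⟨f, hff⟩ := hre 1 2
  obtain ⟨g, hg⟩ := hre 2 0
  obtain ⟨h, hh⟩ := hre 2 1
  obtain ⟨i, hi⟩ := hre 2 2
  have hm : _root_.Cfsg.Agent.OddHalf.Small.U33.mt x = rm a b c d e f g h i := by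
    refine Matrix.ext fun j k => ?_
    fin_cases j <;> fin_cases k
    · exact ha
    · exact hb
    · exact hc
    · exact hd
    · exact hee
    · exact hff
    · exact hg
    · exact hh
    · exact hi
  have hcube : ∀ y z : ZMod 3, (⟨y, 0⟩ : K9) * (⟨z, 0⟩ * ⟨z, 0⟩ * ⟨z, 0⟩) = ⟨y * z, 0⟩ := by decide +kernel
  have hadd : ∀ y z : ZMod 3, (⟨y, 0⟩ : K9) + ⟨z, 0⟩ = ⟨y + z, 0⟩ := by decide +kernel
  have hone : ∀ y : ZMod 3, (⟨y, 0⟩ : K9) = 1 → y = 1 := by decide +kernel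
  have hzero : ∀ y : ZMod 3, (⟨y, 0⟩ : K9) = 0 → y = 0 := by decide +kernel
  have u00 := _root_.Cfsg.Agent.OddHalf.Small.U33.unitary x 0 0
  have u11 := _root_.Cfsg.Agent.OddHalf.Small.U33.unitary x 1 1
  have u22 := _root_.Cfsg.Agent.OddHalf.Small.U33.unitary x 2 2
  have u01 := _root_.Cfsg.Agent.OddHalf.Small.U33.unitary x 0 1
  have u02 := _root_.Cfsg.Agent.OddHalf.Small.U33.unitary x 0 2
  have u12 := _root_.Cfsg.Agent.OddHalf.Small.U33.unitary x 1 2
  rw [ha, hd, hg, hcube, hcube, hcube, hadd, hadd, if_pos rfl] at u00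
  rw [hb, hee, hh, hcube, hcube, hcube, hadd, hadd, if_pos rfl] at u11
  rw [hc, hff, hi, hcube, hcube, hcube, hadd, hadd, if_pos rfl] at u22
  rw [ha, hd, hg, hb, hee, hh, hcube, hcube, hcube, hadd, hadd, if_neg (by decide)] at u01
  rw [ha, hd, hg, hc, hff, hi, hcube, hcube, hcube, hadd, hadd, if_neg (by decide)] at u02
  rw [hb, hee, hh, hc, hff, hi, hcube, hcube, hcube, hadd, hadd, if_neg (by decide)] at u12
  have hdet := det_eq x
  rw [hm] at h5 h7 hdet
  rcases diag_aux a d g (hone _ u00) b e h (hone _ u11) (hzero _ u01) c f i (hone _ u22) (hzero _ u02) (hzero _ u12)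
    h7 hdet h5 with h8 | h8 | h8 | h8
  · exact Or.inl (mt_ext (hm.trans h8))
  · exact Or.inr (Or.inl (mt_ext (hm.trans h8)))
  · exact Or.inr (Or.inr (Or.inl (mt_ext (hm.trans h8))))
  · exact Or.inr (Or.inr (Or.inr (mt_ext (hm.trans (by rw [mt_mul]; exact h8)))))

/-! ### the Sylow 2-subgroup `S` -/

theorem gi_S : gi ∈ S := Q_le_S gi_Q

theorem uu_t0 : uu * t0 = t0 * uu := comm_iff.mpr ⟨rfl, rfl, rfl, rfl⟩

theorem uu_S : uu ∈ S := ⟨uu_t0, Or.inr rfl⟩

theorem comm_word : gi * uu = gj * uu * gi := by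
  apply mt_ext
  simp only [mt_mul, mt_gi, mt_gj, mt_uu]
  decide +kernel

theorem gj_t0 : gj * t0 = t0 * gj := comm_of_inQ gj_Q

theorem gj_t1 : gj * t1 = t1 * gj := by
  apply mt_ext
  rw [mt_mul, mt_mul, mt_gj, mt_t1]
  decide +kernel

theorem gj_gj : gj * gj = t0 := by
  apply mt_ext
  rw [mt_mul, mt_gj, mt_t0]
  decide +kernel

/-- `S` normalises `⟨t0, t1⟩` -/
theorem S_t1 {c : SU33} (hc : c ∈ S) : c * t1 = t1 * c ∨ c * t1 = (t0 * t1) * c := by
  obtain ⟨h01, h02, h10, h20⟩ := pattern hc.1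
  rcases InS.cases hc with ⟨h1, h2⟩ | ⟨h1, h2⟩
  · right
    apply mt_ext
    simp only [mt_mul, mt_t0, mt_t1]
    refine Matrix.ext fun i j => ?_
    (revert i j; simp only [dg, t1Mat, Matrix.mul_apply, Fin.sum_univ_three, h01, h02, h10, h20, h1, h2, _root_.Fin.forall_fin_succ, _root_.Matrix.of_apply, _root_.Matrix.cons_val', _root_.Matrix.cons_val_fin_one, Fin.isValue, _root_.Matrix.cons_val_zero, _root_.Matrix.cons_val_one, _root_.Matrix.cons_val, _root_.Matrix.cons_mul, _root_.Nat.succ_eq_add_one, Nat.reduceAdd, _root_.Matrix.vecMul_cons, _root_.Matrix.head_cons, _root_.one_smul, _root_.Matrix.tail_cons, _root_.zero_smul, _root_.Matrix.empty_vecMul, _root_.add_zero, _root_.neg_smul, _root_.Matrix.neg_cons, _root_.neg_zero, _root_.neg_neg, _root_.Matrix.neg_empty, _root_.zero_add, _root_.Matrix.empty_mul, _root_.Equiv.symm_apply_apply, _root_.mul_neg, _root_.mul_one, _root_.MulZeroClass.mul_zero, _root_.Matrix.cons_val_succ,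 _root_.Fin.succ_zero_eq_one, _root_.Fin.succ_one_eq_two, _root_.IsEmpty.forall_iff, _root_.and_true, _root_.neg_mul, _root_.one_mul, _root_.MulZeroClass.zero_mul, _root_.and_self, _root_.neg_eq_zero, _root_.neg_inj])
  · left
    apply mt_ext
    simp only [mt_mul, mt_t1]
    refine Matrix.ext fun i j => ?_
    (revert i j; simp only [t1Mat, Matrix.mul_apply, Fin.sum_univ_three, h01, h02, h10, h20, h1, h2, _root_.Fin.forall_fin_succ, _root_.Matrix.of_apply, _root_.Matrix.cons_val', _root_.Matrix.cons_val_fin_one, Fin.isValue, _root_.Matrix.cons_val_zero, _root_.Matrix.cons_val_one, _root_.Matrix.cons_val, _root_.mul_neg, _root_.mul_one, _root_.MulZeroClass.mul_zero, _root_.add_zero, _root_.Matrix.cons_val_succ, _root_.zero_add, _root_.Fin.succ_zero_eq_one, _root_.Fin.succ_one_eq_two, _root_.IsEmpty.forall_iff, _root_.and_true, _root_.neg_mul, _root_.one_mul, _root_.neg_zero, _root_.MulZeroClass.zero_mul, _root_.and_self,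 _root_.neg_eq_zero])

theorem φ_S {c : SU33} (hc : c ∈ S) : φ c ∈ S := by
  refine ⟨?_, ?_⟩
  · have := congrArg φ hc.1
    rwa [map_mul, map_mul, φ_t0] at this
  · rcases hc.2 with h | h
    · left
      rw [mt_φ_apply, h, cj_zero]
    · right
      rw [mt_φ_apply, h, cj_zero]

/-! ### `ss` is a product of four involutions -/

def x1Mat : Matrix (Fin 3) (Fin 3) K9 := !![⟨1, 0⟩, ⟨0, 1⟩, ⟨1, 2⟩; ⟨0, 2⟩, ⟨1, 0⟩, ⟨1, 1⟩; ⟨1, 1⟩, ⟨1, 2⟩, ⟨0, 0⟩]
def x3Mat : Matrix (Fin 3) (Fin 3) K9 := !![⟨1, 0⟩, ⟨1, 2⟩, ⟨1, 0⟩; ⟨1, 1⟩, ⟨0, 0⟩, ⟨2, 2⟩; ⟨1, 0⟩, ⟨2, 1⟩, ⟨1, 0⟩]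
def x4Mat : Matrix (Fin 3) (Fin 3) K9 := !![⟨1, 0⟩, ⟨1, 0⟩, ⟨2, 2⟩; ⟨1, 0⟩, ⟨1, 0⟩, ⟨1, 1⟩; ⟨2, 1⟩, ⟨1, 2⟩, ⟨0, 0⟩]
theorem x1_good : IsGood x1Mat := by decide +kernel
theorem x3_good : IsGood x3Mat := by decide +kernel
theorem x4_good : IsGood x4Mat := by decide +kernel
def x1 : SU33 := x1_good.su
def x3 : SU33 := x3_good.su
def x4 : SU33 := x4_good.su
theorem mt_x1 : _root_.Cfsg.Agent.OddHalf.Small.U33.mt x1 = x1Mat := rfl
theorem mt_x3 : _root_.Cfsg.Agent.OddHalf.Small.U33.mt x3 = x3Mat := rfl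
theorem mt_x4 : _root_.Cfsg.Agent.OddHalf.Small.U33.mt x4 = x4Mat := rfl

theorem ss_word : ss = (x1 * t0) * (x3 * x4) := by
  apply mt_ext
  simp only [mt_mul, mt_ss, mt_x1, mt_x3, mt_x4, mt_t0]
  decide +kernel

theorem x1_x1 : x1 * x1 = 1 := by
  apply mt_ext
  rw [mt_mul, mt_x1, mt_one]
  decide +kernel

theorem x3_x3 : x3 * x3 = 1 := by
  apply mt_ext
  rw [mt_mul, mt_x3, mt_one]
  decide +kernel

theorem x4_x4 : x4 * x4 = 1 := by
  apply mt_ext
  rw [mt_mul, mt_x4, mt_one]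
  decide +kernel

end Cfsg.Agent.Omega.ML.Ex.UThreeGrp
end

-- part: Mrg/Omega/ML/Ex/RowU33X
section
section


/-!
# The exit `U₃(3) = G₂(2)'` of the exact K-list (helper919)

Only `sq, faith, irr, norm, simple, cen, gen, two, syl, AT, el, four, exact` of `InX` are used (no `sub`, no `low`, no
atoms).

* `Emb` : the embedding of `SU₃(3)` and the action of `H`;
* **`u33`** : `InX H M K T A`, `K ≅ U₃(3)` ⟹ `|A| = 8`, `|M| = 64`, `C_M(T)` has at most 2 elements.
-/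

set_option autoImplicit false

namespace Cfsg.Agent.Omega.ML.Ex.RowU33X

open Subgroup Cfsg Cfsg.Agent.ZN Cfsg.Agent.ClassTwoFusion.Quad Cfsg.Agent.Omega.ML.Ex.TIE
open Cfsg.Agent.OddHalf.Small.U33 (SU33 t0 finite_SU33)
open Cfsg.Agent.OddHalf.D4.Small.KU33 (S isPGroup_S odd_S gi gj card_SU)
open Cfsg.Agent.OddHalf.D6.RThree.U33 (φ f D D_mul D_one D_t0 D_f D_inv fix_cases index_inn conj_inj t0_t0 t0_ne f_comm
  comm_inv D_conj)
open Cfsg.Agent.Omega.ML.Ex.UThreeGrp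

universe u v w

/-! ### the embedding -/

/-- `K ≅ SU₃(3)` and the action of `H` -/
structure Emb {H : Type u} [Group H] (K : Subgroup H) (κ : SU33 →* H) (F : H →* MulAut SU33) : Prop where
  inj : Function.Injective κ
  range : κ.range = K
  injF : Function.Injective F
  act : ∀ h g, h * κ g * h⁻¹ = κ (F h g)
  Fκ : ∀ g, F (κ g) = MulAut.conj g

section emb

variable {H : Type u} [Group H] {K : Subgroup H}

theorem exists_emb (hK : K.Normal) (cen : centralizer (K : Set H) = ⊥) (e : K ≃* SU33) :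
    ∃ (κ : SU33 →* H) (F : H →* MulAut SU33), Emb K κ F := by
  refine ⟨K.subtype.comp e.symm.toMonoidHom, (MulAut.congr e).toMonoidHom.comp MulAut.conjNormal, ?_, ?_, ?_, ?_, ?_⟩
  · exact K.subtype_injective.comp e.symm.injective
  · ext x
    constructor
    · rintro ⟨g, rfl⟩
      exact (e.symm g).2
    · intro hx
      exact ⟨e ⟨x, hx⟩, by simp only [_root_.MulEquiv.toMonoidHom_eq_coe, _root_.MonoidHom.coe_comp, _root_.Subgroup.coe_subtype, _root_.MonoidHom.coe_coe, _root_.Function.comp_apply, _root_.MulEquiv.symm_apply_apply]⟩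
  · rw [injective_iff_map_eq_one]
    intro h hh
    have h1 : (MulAut.conjNormal h : MulAut K) = 1 := (MulAut.congr e).injective (by rw [map_one]; exact hh)
    rw [← mem_bot, ← cen, mem_centralizer_iff]
    intro k hk
    have h2 := DFunLike.congr_fun h1 (⟨k, hk⟩ : K)
    have h3 : h * k * h⁻¹ = k := congrArg Subtype.val h2
    exact (mul_inv_eq_iff_eq_mul.1 h3).symm
  · intro h g
    show h * (e.symm g : H) * h⁻¹ = ((e.symm (e (MulAut.conjNormal h (e.symm g))) : K) : H)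
    rw [e.symm_apply_apply, MulAut.conjNormal_apply]
  · intro g
    refine MulEquiv.ext fun x => ?_
    show e (MulAut.conjNormal ((e.symm g : K) : H) (e.symm x)) = g * x * g⁻¹
    have h1 : (MulAut.conjNormal ((e.symm g : K) : H) (e.symm x) : K) = e.symm g * e.symm x * (e.symm g)⁻¹ :=
      Subtype.ext (by rw [MulAut.conjNormal_apply]; rfl)
    rw [h1, map_mul, map_mul, map_inv, e.apply_symm_apply, e.apply_symm_apply]

namespace Emb

variable {κ : SU33 →* H} {F : H →* MulAut SU33}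

theorem mem (E : Emb K κ F) (g : SU33) : κ g ∈ K := by rw [← E.range]; exact ⟨g, rfl⟩

theorem exists_of_mem (E : Emb K κ F) {x : H} (hx : x ∈ K) : ∃ g, κ g = x := by
  rw [← E.range] at hx; exact hx

/-- change of the embedding by an automorphism -/
theorem twist (E : Emb K κ F) (β : MulAut SU33) :
    Emb K (κ.comp (β⁻¹ : MulAut SU33).toMonoidHom) ((MulAut.conj β).toMonoidHom.comp F) where
  inj := E.inj.comp (β⁻¹ : MulAut SU33).injective
  range := by
    rw [← E.range]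
    ext x
    constructor
    · rintro ⟨g, rfl⟩
      exact ⟨β⁻¹ g, rfl⟩
    · rintro ⟨g, rfl⟩
      exact ⟨β g, by show κ (β⁻¹ (β g)) = κ g; rw [MulAut.inv_apply_self]⟩
  injF := (MulAut.conj β).injective.comp E.injF
  act := by
    intro h g
    show h * κ (β⁻¹ g) * h⁻¹ = κ (β⁻¹ ((β * F h * β⁻¹) g))
    rw [E.act, MulAut.mul_apply, MulAut.mul_apply, MulAut.inv_apply_self]
  Fκ := by
    intro g
    show β * F (κ (β⁻¹ g)) * β⁻¹ = MulAut.conj g
    rw [E.Fκ]
    refine MulEquiv.ext fun x => ?_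
    rw [MulAut.mul_apply, MulAut.mul_apply, MulAut.conj_apply, MulAut.conj_apply, map_mul, map_mul, map_inv,
      MulAut.apply_inv_self, MulAut.apply_inv_self]

theorem twist_κ (β : MulAut SU33) (g : SU33) : (κ.comp (β⁻¹ : MulAut SU33).toMonoidHom) g = κ (β⁻¹ g) := rfl

theorem comap_inn (E : Emb K κ F) : (MulAut.conj : SU33 →* MulAut SU33).range.comap F = K := by
  ext x
  rw [mem_comap]
  constructor
  · rintro ⟨g, hg⟩
    have : κ g = x := E.injF (by rw [E.Fκ, hg])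
    rw [← this]
    exact E.mem g
  · intro hx
    obtain ⟨g, rfl⟩ := E.exists_of_mem hx
    exact ⟨g, (E.Fκ g).symm⟩

theorem relIndex_le (E : Emb K κ F) (B : Subgroup H) : K.relIndex B ≤ 2 := by
  have h1 : K.relIndex B = ((MulAut.conj : SU33 →* MulAut SU33).range).relIndex (B.map F) := by
    rw [← E.comap_inn, relIndex_comap]
  rw [h1]
  refine (relIndex_le_of_le_right le_top ?_).trans ?_
  · rw [relIndex_top_right, index_inn]; norm_num
  · rw [relIndex_top_right, index_inn]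

theorem card_mul (E : Emb K κ F) (B : Subgroup H) :
    Nat.card (B.comap κ) * K.relIndex B = Nat.card B := by
  have h5 := relIndex_mul_relIndex (⊥ : Subgroup H) (K ⊓ B) B bot_le inf_le_right
  rw [relIndex_bot_left, relIndex_bot_left, inf_relIndex_right] at h5
  have h4 : (B.comap κ).map κ = K ⊓ B := by rw [map_comap_eq, E.range]
  rw [← h4, card_map_of_injective E.inj] at h5
  exact h5

/-- `F x` is outer for `x ∉ K` -/
theorem outer (E : Emb K κ F) {x : H} (hx : x ∉ K) : F x ∉ (MulAut.conj : SU33 →* MulAut SU33).range := by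
  intro h
  apply hx
  rw [← E.comap_inn, mem_comap]
  exact h

theorem comm_iff (E : Emb K κ F) {x : H} {g : SU33} : x * κ g = κ g * x ↔ F x g = g := by
  rw [← mul_inv_eq_iff_eq_mul, E.act]
  exact ⟨fun h => E.inj h, fun h => by rw [h]⟩

end Emb

end emb

variable {H : Type u} [Group H] {M : Type v} [Group M] [MulDistribMulAction H M] {K T A : Subgroup H}
  {κ : SU33 →* H} {F : H →* MulAut SU33}

instance : Finite SU33 := finite_SU33

/-! ### indices -/

section index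

variable {H : Type u} [Group H] {M : Type v} [Group M] [MulDistribMulAction H M]

theorem mcomm (sq : ∀ m : M, m * m = 1) (a b : M) : a * b = b * a := by
  have h1 : ∀ c : M, c⁻¹ = c := fun c => inv_eq_of_mul_eq_one_left (sq c)
  calc a * b = (a * b)⁻¹ := (h1 _).symm
    _ = b * a := by rw [mul_inv_rev, h1, h1]

theorem index_map_tm (e : M ≃* M) (C : Subgroup M) : (C.map e.toMonoidHom).index = C.index := by
  have h1 : Function.Bijective e.toMonoidHom := e.bijective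
  exact index_map_of_bijective h1 C

theorem cv_conj (g x : H) : cv M ({g * x * g⁻¹} : Set H) =
    (cv M ({x} : Set H)).map (MulDistribMulAction.toMulEquiv M g : M ≃* M).toMonoidHom := by
  ext m
  rw [mem_cv_singleton]
  constructor
  · intro h
    refine ⟨g⁻¹ • m, ?_, smul_inv_smul g m⟩
    change g⁻¹ • m ∈ cv M ({x} : Set H)
    rw [mem_cv_singleton]
    rw [mul_smul, mul_smul] at h
    calc x • g⁻¹ • m = g⁻¹ • (g • x • g⁻¹ • m) := (inv_smul_smul _ _).symm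
      _ = g⁻¹ • m := by rw [h]
  · rintro ⟨n, hn, rfl⟩
    change n ∈ cv M ({x} : Set H) at hn
    rw [mem_cv_singleton] at hn
    change (g * x * g⁻¹) • (g • n) = g • n
    rw [mul_smul, mul_smul, inv_smul_smul, hn]

theorem index_conj (g x : H) : (cv M ({g * x * g⁻¹} : Set H)).index = (cv M ({x} : Set H)).index := by
  rw [cv_conj]
  exact index_map_tm _ _

theorem index_mul_le [Finite M] (x y : H) :
    (cv M ({x * y} : Set H)).index ≤ (cv M ({x} : Set H)).index * (cv M ({y} : Set H)).index := by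
  have h1 : cv M ({x} : Set H) ⊓ cv M ({y} : Set H) ≤ cv M ({x * y} : Set H) := by
    rintro m ⟨h1, h2⟩
    have h1' := mem_cv_singleton.1 h1
    have h2' := mem_cv_singleton.1 h2
    rw [mem_cv_singleton, mul_smul, h2', h1']
  have h3 : (cv M ({x * y} : Set H)).index ≤ (cv M ({x} : Set H) ⊓ cv M ({y} : Set H)).index :=
    Nat.le_of_dvd (Nat.pos_of_ne_zero index_ne_zero_of_finite) (index_dvd_of_le h1)
  exact h3.trans index_inf_le

theorem index_le_of_le' [Finite M] {C C' : Subgroup M} (h : C ≤ C') : C'.index ≤ C.index :=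
  Nat.le_of_dvd (Nat.pos_of_ne_zero index_ne_zero_of_finite) (index_dvd_of_le h)

theorem two_group (sq : ∀ m : M, m * m = 1) : IsPGroup 2 M := by
  intro m
  exact ⟨1, by rw [pow_one, pow_two, sq]⟩

/-- indices are powers of 2 -/
theorem index_pow [Finite M] (sq : ∀ m : M, m * m = 1) (C : Subgroup M) : ∃ k, C.index = 2 ^ k := by
  obtain ⟨n, hn⟩ := IsPGroup.iff_card.1 (two_group sq)
  have h3 : C.index ∣ 2 ^ n := by rw [← hn]; exact index_dvd_card _
  obtain ⟨k, -, hk⟩ := (Nat.dvd_prime_pow Nat.prime_two).1 h3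
  exact ⟨k, hk⟩

end index

variable {H : Type u} [Group H] {M : Type v} [Group M] [MulDistribMulAction H M] {K T A : Subgroup H}
  {κ : SU33 →* H} {F : H →* MulAut SU33}

instance : Finite SU33 := finite_SU33

theorem sixtyfour [Finite M] (sq : ∀ m : M, m * m = 1) (faith : ∀ x : H, (∀ m : M, x • m = m) → x = 1)
    (E : Emb K κ F) : 64 ≤ (cv M ({κ ss} : Set H)).index := by
  let _ : CommGroup M := { (inferInstance : Group M) with mul_comm := mcomm sq }
  refine HeisThree.heis (a := κ aa) (b := κ bb) (s := κ ss) sq ?_ ?_ ?_ ?_ ?_ ?_ _ ?_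
  · rw [← map_mul, ← map_mul, aa_three, map_one]
  · rw [← map_mul, ← map_mul, ss_three, map_one]
  · rw [← map_mul, ss_aa, map_mul]
  · rw [← map_mul, ss_bb, map_mul]
  · rw [← map_mul, bb_aa, map_mul, map_mul]
  · by_contra hcon
    push Not at hcon
    have h1 := faith _ hcon
    exact ss_ne (E.inj (by rw [h1, map_one]))
  · intro m hm
    exact mem_cv_singleton.1 hm

theorem conj_eq {G : Type*} [Group G] {q r t g y : G} (hq : y = q * t * q⁻¹) (hr : g = r * t * r⁻¹) :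
    y = (q * r⁻¹) * g * (q * r⁻¹)⁻¹ := by
  rw [hq, hr]
  group

/-- no transvections in `K` -/
theorem four_le [Finite M] (sq : ∀ m : M, m * m = 1) (faith : ∀ x : H, (∀ m : M, x • m = m) → x = 1)
    (E : Emb K κ F) {g : SU33} (hg : g * g = 1) (hg1 : g ≠ 1) : 4 ≤ (cv M ({κ g} : Set H)).index := by
  by_contra hlt
  push Not at hlt
  have h2 : (cv M ({κ g} : Set H)).index ≤ 2 := by
    obtain ⟨k, hk⟩ := index_pow (M := M) sq (cv M ({κ g} : Set H))
    rw [hk] at hlt ⊢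
    have h6 : k < 2 := by
      by_contra hc
      have := Nat.pow_le_pow_right (n := 2) (by norm_num) (show 2 ≤ k by omega)
      omega
    interval_cases k <;> norm_num
  obtain ⟨r, hr⟩ := exists_inv_conj hg hg1
  have h3 : ∀ y : SU33, y * y = 1 → (cv M ({κ y} : Set H)).index ≤ 2 := by
    intro y hy
    rcases eq_or_ne y 1 with rfl | hy1
    · have h0 : cv M ({κ (1 : SU33)} : Set H) = ⊤ := by
        rw [eq_top_iff]
        intro m _
        rw [mem_cv_singleton, map_one, one_smul]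
      rw [h0, index_top]
      norm_num
    obtain ⟨q, hq⟩ := exists_inv_conj hy hy1
    have h4 : κ y = κ (q * r⁻¹) * κ g * (κ (q * r⁻¹))⁻¹ := by
      rw [← map_inv, ← map_mul, ← map_mul]
      exact congrArg κ ((conj_eq hq hr :))
    rw [h4, index_conj]
    exact h2
  have h5 := sixtyfour sq faith E
  rw [ss_word, map_mul, map_mul, map_mul] at h5
  have h6 := index_mul_le (M := M) (κ x1 * κ t0) (κ x3 * κ x4)
  have h7 := index_mul_le (M := M) (κ x1) (κ t0)
  have h8 := index_mul_le (M := M) (κ x3) (κ x4)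
  have h9 := Nat.mul_le_mul (h3 x1 x1_x1) (h3 t0 t0_t0)
  have h10 := Nat.mul_le_mul (h3 x3 x3_x3) (h3 x4 x4_x4)
  have h11 := Nat.mul_le_mul (h7.trans h9) (h8.trans h10)
  have h12 := h5.trans (h6.trans h11)
  norm_num at h12

/-- the centraliser of `x` stabilises `C_M(x)` -/
theorem stab_of_comm {g x : H} (hg : g * x = x * g) : ∀ m : M, m ∈ cv M ({x} : Set H) ↔ g • m ∈ cv M ({x} : Set H) := by
  intro m
  rw [mem_cv_singleton, mem_cv_singleton, ← mul_smul, ← hg, mul_smul, smul_left_cancel_iff]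

/-- `[M, x] ≤ C_M(x)` for involutions -/
theorem comm_mem (sq : ∀ m : M, m * m = 1) {e : H} (he2 : e * e = 1) (m : M) : (e • m) * m⁻¹ ∈ cv M ({e} : Set H) := by
  rw [mem_cv_singleton, smul_mul', ← mul_smul, he2, one_smul, smul_inv']
  have h3 : m⁻¹ = m := inv_eq_of_mul_eq_one_left (sq m)
  have h4 : (e • m)⁻¹ = e • m := inv_eq_of_mul_eq_one_left (sq _)
  rw [h3, h4, mcomm sq]

/-- **no four-group of `K` is exact** -/
theorem four_index [Finite M] (sq : ∀ m : M, m * m = 1) (faith : ∀ x : H, (∀ m : M, x • m = m) → x = 1)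
    (E : Emb K κ F) {V : Subgroup SU33} (hV : ∀ x ∈ V, x * x = 1) (h0 : t0 ∈ V) {t : SU33} (ht : t ∈ V) (ht1 : t ≠ 1)
    (ht0 : t ≠ t0) {C : Subgroup M} (hC : ∀ g ∈ V, C ≤ cv M ({κ g} : Set H)) (hi : C.index ≤ 4) : False := by
  have h1 : ∀ g ∈ V, g ≠ 1 → cv M ({κ g} : Set H) = C := by
    intro g hg hg1
    have h2 := four_le (M := M) sq faith E (hV g hg) hg1
    have h3 := hC g hg
    refine (Subgroup.eq_of_le_of_card_ge h3 ?_).symm
    have h4 := card_mul_index C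
    have h5 := card_mul_index (cv M ({κ g} : Set H))
    have h6 : Nat.card (cv M ({κ g} : Set H)) * 4 ≤ Nat.card C * 4 := by
      calc _ ≤ Nat.card (cv M ({κ g} : Set H)) * (cv M ({κ g} : Set H)).index := Nat.mul_le_mul_left _ h2
        _ = Nat.card C * C.index := by rw [h4, h5]
        _ ≤ Nat.card C * 4 := Nat.mul_le_mul_left _ hi
    omega
  have h2 : ∀ g ∈ V, κ g ∈ (EE C : Subgroup H) := by
    intro g hg
    rcases eq_or_ne g 1 with rfl | hg1
    · rw [map_one]; exact one_mem _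
    · refine ⟨fun m hm => mem_cv_singleton.1 (hC g hg hm), fun m => ?_⟩
      rw [← h1 g hg hg1]
      exact comm_mem sq (by rw [← map_mul, hV g hg, map_one]) m
  have h3 := no_four (E := (EE C : Subgroup H).comap κ)
    (fun x hx => E.inj (by rw [map_mul, map_one]; exact EE_sq sq faith hx)) (h2 t0 h0)
    (by
      intro g hg x hx
      rw [mem_comap, map_mul, map_mul, map_inv]
      refine smul_mem_EE ?_ hx
      rw [← h1 t0 h0 t0_ne]
      exact stab_of_comm (by rw [← map_mul, hg, map_mul]))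
    t (h2 t ht)
  rcases h3 with h | h
  · exact ht1 h
  · exact ht0 h

/-- outer involutions -/
theorem exists_phi (E : Emb K κ F) {x : H} (hxx : x * x = 1) (hxK : x ∉ K) (h0 : F x t0 = t0) :
    ∃ (κ' : SU33 →* H) (F' : H →* MulAut SU33), Emb K κ' F' ∧ F' x = φ := by
  obtain ⟨r, hr⟩ := exists_conj_phi h0 (by rw [← map_mul, hxx, map_one]) (E.outer hxK)
  exact ⟨_, _, E.twist (MulAut.conj r), hr⟩

theorem w_inv (E : Emb K κ F) {x : H} (hx : F x = φ) : x * κ ww * x⁻¹ = (κ ww)⁻¹ := by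
  rw [E.act, hx, φ_ww, map_inv]

theorem w_seven : κ ww ^ 7 = 1 := by rw [← map_pow, ww_seven, map_one]

theorem eight_le [Finite M] (sq : ∀ m : M, m * m = 1) (faith : ∀ x : H, (∀ m : M, x • m = m) → x = 1)
    (E : Emb K κ F) {x : H} (hxx : x * x = 1) (hx : F x = φ) : 8 ≤ (cv M ({x} : Set H)).index := by
  refine RowU33.eight_le sq hxx w_seven (w_inv E hx) ?_
  by_contra hcon
  push Not at hcon
  have h1 := faith _ hcon
  exact ww_ne (E.inj (by rw [h1, map_one]))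

section row

variable [Finite H] [Finite M]

theorem exists_t0 (el : ∀ a ∈ A, a * a = 1) (E : Emb K κ F) (hV : 2 ≤ Nat.card (A.comap κ)) :
    ∃ (κ' : SU33 →* H) (F' : H →* MulAut SU33), Emb K κ' F' ∧ κ' t0 ∈ A := by
  obtain ⟨T0, hT0, hne⟩ : ∃ T0 ∈ A.comap κ, T0 ≠ 1 := by
    by_contra hcon
    push Not at hcon
    have h1 : A.comap κ = ⊥ := (eq_bot_iff_forall _).2 hcon
    rw [h1, card_bot] at hV
    omega
  have hTT : T0 * T0 = 1 := E.inj (by rw [map_mul, el _ hT0, map_one])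
  obtain ⟨g, hg⟩ := exists_inv_conj hTT hne
  refine ⟨_, _, E.twist (MulAut.conj g)⁻¹, ?_⟩
  rw [Emb.twist_κ, inv_inv, MulAut.conj_apply, ← hg]
  exact hT0

/-- `A` contains `κ t0` -/
theorem exists_emb_t0 (h : InX H M K T A) (e : K ≃* SU33) :
    ∃ (κ : SU33 →* H) (F : H →* MulAut SU33), Emb K κ F ∧ κ t0 ∈ A := by
  obtain ⟨κ, F, E⟩ := exists_emb h.norm h.cen e
  refine exists_t0 h.el E ?_
  have h1 := E.card_mul A
  have h2 := E.relIndex_le A
  have h3 := h.four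
  by_contra hc
  push Not at hc
  have h4 : Nat.card (A.comap κ) * K.relIndex A ≤ 1 * 2 := Nat.mul_le_mul (by omega) h2
  omega

theorem fix_t0 (h : InX H M K T A) (E : Emb K κ F) (h0 : κ t0 ∈ A) {x : H} (hx : x ∈ A) : F x t0 = t0 :=
  E.comm_iff.1 (h.A_comm x hx _ h0)

theorem outer_index (h : InX H M K T A) (E : Emb K κ F) (h0 : κ t0 ∈ A) {x : H} (hx : x ∈ A) (hxK : x ∉ K) :
    8 ≤ (cv M ({x} : Set H)).index := by
  obtain ⟨κ', F', E', hF'⟩ := exists_phi E (h.el x hx) hxK (fix_t0 h E h0 hx)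
  exact eight_le h.sq h.faith E' (h.el x hx) hF'

theorem card_ge (h : InX H M K T A) (E : Emb K κ F) (h0 : κ t0 ∈ A) : 8 ≤ Nat.card A := by
  by_contra hlt
  push Not at hlt
  have h4 : Nat.card A = 4 := by
    obtain ⟨n, hn⟩ := IsPGroup.iff_card.1 h.A_two
    have h5 := h.four
    rw [hn] at hlt h5 ⊢
    have h6 : n < 3 := by
      by_contra hc
      have := Nat.pow_le_pow_right (n := 2) (by norm_num) (show 3 ≤ n by omega)
      omega
    interval_cases n
    · norm_num at h5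
    · norm_num at h5
    · rfl
  by_cases hAK : A ≤ K
  · -- a four-group of `K`
    have h5 : Nat.card (A.comap κ) = 4 := by
      have h6 := E.card_mul A
      rw [relIndex_eq_one.2 hAK, mul_one, h4] at h6
      exact h6
    obtain ⟨t, ht, ht1, ht0⟩ : ∃ t ∈ A.comap κ, t ≠ 1 ∧ t ≠ t0 := by
      by_contra hcon
      push Not at hcon
      classical
      have h3 : ((A.comap κ : Subgroup SU33) : Set SU33) ⊆ (({1, t0} : Finset SU33) : Set SU33) := by
        intro b hb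
        by_cases hb1 : b = 1
        · simp only [hb1, _root_.Finset.coe_insert, _root_.Finset.coe_singleton, _root_.Set.mem_insert_iff, _root_.Set.mem_singleton_iff, _root_.true_or]
        · simp only [hcon b hb hb1, _root_.Finset.coe_insert, _root_.Finset.coe_singleton, _root_.Set.mem_insert_iff, _root_.Set.mem_singleton_iff, _root_.or_true]
      have h7 := Set.ncard_le_ncard h3 (Finset.finite_toSet _)
      rw [Set.ncard_coe_finset] at h7
      have h8 : Nat.card (A.comap κ) ≤ 2 := h7.trans Finset.card_le_two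
      omega
    refine four_index h.sq h.faith E (V := A.comap κ) (fun x hx => E.inj (by rw [map_mul, h.el _ hx, map_one])) h0 ht
      ht1 ht0 (C := cv M (A : Set H)) ?_ (by rw [h.exact, h4])
    intro g hg m hm
    exact mem_cv_singleton.2 (hm _ hg)
  · obtain ⟨x, hx, hxK⟩ := SetLike.not_le_iff_exists.1 hAK
    have h5 := outer_index h E h0 hx hxK
    have h6 : (cv M ({x} : Set H)).index ≤ (cv M (A : Set H)).index :=
      index_le_of_le' (cv_anti (by simpa using hx))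
    rw [h.exact, h4] at h6
    omega

theorem card_eight (h : InX H M K T A) (E : Emb K κ F) (h0 : κ t0 ∈ A) : Nat.card A = 8 := by
  refine le_antisymm ?_ (card_ge h E h0)
  have h1 : Nat.card (A.map F) = Nat.card A := card_map_of_injective E.injF
  have h2 := (RowU33.key (B := A.map F) (by
    rintro _ ⟨a, ha, rfl⟩
    rw [← map_mul, h.el a ha, map_one]) (by rw [h1]; exact card_ge h E h0)).1
  rwa [h1] at h2

/-- the good position -/
structure Pos (A : Subgroup H) (C : Subgroup M) (κ : SU33 →* H) (F : H →* MulAut SU33) (x : H) : Prop where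
  xA : x ∈ A
  Fx : F x = φ
  t0A : κ t0 ∈ A
  t1A : κ t1 ∈ A
  cx : cv M ({x} : Set H) = C
  cA : C = cv M (A : Set H)
  EE : (EE C : Subgroup H) = A

theorem exists_pos (h : InX H M K T A) (e : K ≃* SU33) :
    Nat.card A = 8 ∧ ∃ (κ : SU33 →* H) (F : H →* MulAut SU33) (x : H), Emb K κ F ∧
      Pos A (cv M (A : Set H)) κ F x := by
  obtain ⟨κ₁, F₁, E₁, h0⟩ := exists_emb_t0 h e
  have h8 := card_eight h E₁ h0
  refine ⟨h8, ?_⟩
  have hV₁ : Nat.card (A.comap κ₁) ≤ 4 :=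
    RowU33.inner_le h0 (fun b hb => E₁.inj (by rw [map_mul, h.el _ hb, map_one]))
  have hm₁ := E₁.card_mul A
  have hr₁ := E₁.relIndex_le A
  have hV4 : Nat.card (A.comap κ₁) = 4 ∧ K.relIndex A = 2 := by
    rw [h8] at hm₁
    interval_cases hK : K.relIndex A
    · omega
    · omega
    · exact ⟨by omega, rfl⟩
  obtain ⟨x, hx, hxK⟩ : ∃ x ∈ A, x ∉ K := by
    by_contra hcon
    push Not at hcon
    have h6 : K.relIndex A = 1 := relIndex_eq_one.2 hcon
    omega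
  set C := cv M (A : Set H) with hC
  have hout : ∀ y ∈ A, y ∉ K → cv M ({y} : Set H) = C := by
    intro y hy hyK
    have h2 := outer_index h E₁ h0 hy hyK
    have h3 : C ≤ cv M ({y} : Set H) := cv_anti (by simpa using hy)
    refine (Subgroup.eq_of_le_of_card_ge h3 ?_).symm
    have h4 := card_mul_index C
    have h5 := card_mul_index (cv M ({y} : Set H))
    rw [h.exact, h8] at h4
    have h6 : Nat.card (cv M ({y} : Set H)) * 8 ≤ Nat.card C * 8 := by
      calc _ ≤ Nat.card (cv M ({y} : Set H)) * (cv M ({y} : Set H)).index := Nat.mul_le_mul_left _ h2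
        _ = Nat.card C * 8 := by rw [h4, h5]
    omega
  have hEy : ∀ y ∈ A, y ∉ K → y ∈ (TIE.EE C : Subgroup H) := by
    intro y hy hyK
    refine ⟨fun m hm => hm y hy, fun m => ?_⟩
    rw [← hout y hy hyK]
    exact comm_mem h.sq (h.el y hy) m
  have hAE : A ≤ (TIE.EE C : Subgroup H) := by
    intro a ha
    by_cases haK : a ∈ K
    · have h1 : x * a ∉ K := fun h2 => hxK (by
        have := mul_mem h2 (inv_mem haK)
        rwa [mul_inv_cancel_right] at this)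
      have h2 := mul_mem (hEy x hx hxK) (hEy (x * a) (mul_mem hx ha) h1)
      rwa [← mul_assoc, h.el x hx, one_mul] at h2
    · exact hEy a ha haK
  have hEA : (TIE.EE C : Subgroup H) = A := by
    refine (Subgroup.eq_of_le_of_card_ge hAE ?_).symm
    have h1 : Nat.card ((TIE.EE C : Subgroup H).map F₁) = Nat.card (TIE.EE C : Subgroup H) :=
      card_map_of_injective E₁.injF
    have h2 := (RowU33.key (B := (TIE.EE C : Subgroup H).map F₁) (by
      rintro _ ⟨a, ha, rfl⟩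
      rw [← map_mul, EE_sq h.sq h.faith ha, map_one]) (by rw [h1, ← h8]; exact card_le_of_le hAE)).1
    rw [h8, ← h1]
    exact h2
  obtain ⟨κ, F, E, hF⟩ := exists_phi E₁ (h.el x hx) hxK (fix_t0 h E₁ h0 hx)
  -- `A ∩ K`
  have hm := E.card_mul A
  rw [hV4.2, h8] at hm
  have hV : Nat.card (A.comap κ) = 4 := by omega
  have hdiag := diag_of_real (V := A.comap κ) (fun v hv => E.inj (by rw [map_mul, h.el _ hv, map_one]))
    (by
      intro v hv
      rw [← hF]
      exact E.comm_iff.1 (h.A_comm x hx _ hv))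
    (by
      intro g hg v hv
      rw [mem_comap, map_mul, map_mul, map_inv, ← hEA]
      rw [mem_comap, ← hEA] at hv
      refine smul_mem_EE ?_ hv
      rw [← hout x hx hxK]
      refine stab_of_comm ?_
      have := E.comm_iff.2 (show F x g = g by rw [hF]; exact hg)
      exact this.symm)
  have hall : ∀ s : SU33, s ∈ ({t0, t1} : Set SU33) → s ∈ A.comap κ := by
    intro s hs
    by_contra hcon
    classical
    obtain ⟨a, b, hab⟩ : ∃ a b : SU33, ((A.comap κ : Subgroup SU33) : Set SU33) ⊆ (({1, a, b} : Finset SU33) : Set SU33) := by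
      rcases hs with rfl | rfl
      · refine ⟨t1, t0 * t1, fun y hy => ?_⟩
        rcases hdiag y hy with h1 | h1 | h1 | h1
        · simp only [h1, _root_.Finset.coe_insert, _root_.Finset.coe_singleton, _root_.Set.mem_insert_iff, _root_.Set.mem_singleton_iff, _root_.true_or]
        · exact absurd (h1 ▸ hy) hcon
        · simp only [h1, _root_.Finset.coe_insert, _root_.Finset.coe_singleton, _root_.Set.mem_insert_iff, _root_.Set.mem_singleton_iff, _root_.right_eq_mul, _root_.true_or, _root_.or_true]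
        · simp only [h1, _root_.Finset.coe_insert, _root_.Finset.coe_singleton, _root_.Set.mem_insert_iff, _root_.mul_eq_right, _root_.Set.mem_singleton_iff, _root_.or_true]
      · refine ⟨t0, t0 * t1, fun y hy => ?_⟩
        rcases hdiag y hy with h1 | h1 | h1 | h1
        · simp only [h1, _root_.Finset.coe_insert, _root_.Finset.coe_singleton, _root_.Set.mem_insert_iff, _root_.Set.mem_singleton_iff, _root_.true_or]
        · simp only [h1, _root_.Finset.coe_insert, _root_.Finset.coe_singleton, _root_.Set.mem_insert_iff, _root_.Set.mem_singleton_iff, _root_.left_eq_mul, _root_.true_or, _root_.or_true]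
        · exact absurd (h1 ▸ hy) hcon
        · simp only [h1, _root_.Finset.coe_insert, _root_.Finset.coe_singleton, _root_.Set.mem_insert_iff, _root_.mul_eq_left, _root_.Set.mem_singleton_iff, _root_.or_true]
    have h7 := Set.ncard_le_ncard hab (Finset.finite_toSet _)
    rw [Set.ncard_coe_finset] at h7
    have h8' : Nat.card (A.comap κ) ≤ 3 := h7.trans Finset.card_le_three
    omega
  exact ⟨κ, F, x, E, ⟨hx, hF, hall t0 (by simp), hall t1 (by simp), hout x hx hxK, rfl, hEA⟩⟩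

/-- a vector fixed by `K` is trivial -/
theorem eq_one_of_fix (h : InX H M K T A) {m : M} (hm : ∀ k ∈ K, k • m = m) : m = 1 := by
  have hK := h.norm
  have h1 : ∀ x : H, ∀ w ∈ cv M (K : Set H), x • w ∈ cv M (K : Set H) := by
    intro x w hw k hk
    have h2 : x⁻¹ * k * x ∈ K := by
      have := hK.conj_mem k hk x⁻¹
      rwa [inv_inv] at this
    have h3 : (x⁻¹ * k * x) • w = w := hw _ h2
    calc k • x • w = x • ((x⁻¹ * k * x) • w) := by rw [mul_smul, mul_smul, smul_inv_smul]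
      _ = x • w := by rw [h3]
  rcases h.irr _ h1 with h2 | h2
  · rw [← mem_bot, ← h2]
    exact fun k hk => hm k hk
  · exfalso
    have hsim := h.simple
    obtain ⟨k, hk⟩ := exists_ne (1 : K)
    apply hk
    apply Subtype.ext
    refine h.faith _ fun m => ?_
    have h3 : m ∈ cv M (K : Set H) := h2 ▸ mem_top m
    exact h3 k k.2

/-- **`|M| = 64`** -/
theorem card_M (h : InX H M K T A) (h8 : Nat.card A = 8) (E : Emb K κ F) {x : H} {C : Subgroup M}
    (P : Pos A C κ F x) : Nat.card M = 64 := by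
  set w : H := κ ww with hw
  have hwi : x * w * x⁻¹ = w⁻¹ := w_inv E P.Fx
  have hC8 : C.index = 8 := by rw [P.cA, h.exact, h8]
  set C' := C.map (MulDistribMulAction.toMulEquiv M w : M ≃* M).toMonoidHom with hC'
  have hC'8 : C'.index = 8 := by rw [hC', index_map_tm, hC8]
  have hbot : C ⊓ C' = ⊥ := by
    rw [eq_bot_iff]
    rintro m ⟨h1, n, hn, hnm⟩
    have hnm' : w • n = m := hnm
    rw [mem_bot]
    have hx : x • m = m := by
      rw [P.cA] at h1
      exact h1 x P.xA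
    have hxn : x • n = n := by
      rw [SetLike.mem_coe, P.cA] at hn
      exact hn x P.xA
    -- `w² m = m`
    have h2 : (w * w) • m = m := by
      have e1 : w * w = w * x * w⁻¹ * x⁻¹ := by
        have : x * w⁻¹ * x⁻¹ = w := by
          rw [← hwi]
          have hxx := h.el x P.xA
          have hxi : x⁻¹ = x := inv_eq_of_mul_eq_one_right hxx
          calc x * (x * w * x⁻¹) * x⁻¹ = (x * x) * w * (x⁻¹ * x⁻¹) := by group
            _ = w := by rw [hxx, hxi, hxx, one_mul, mul_one]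
        calc w * w = w * (x * w⁻¹ * x⁻¹) := by rw [this]
          _ = w * x * w⁻¹ * x⁻¹ := by group
      have e2 : x⁻¹ • m = m := by rw [inv_smul_eq_iff, hx]
      rw [e1, mul_smul, e2, mul_smul, ← hnm', inv_smul_smul, mul_smul, hxn]
    have h3 : w • m = m := by
      have e1 : w = (w * w) * (w * w) * (w * w) * (w * w) := by
        have h7 : w ^ 7 = 1 := w_seven
        calc w = w ^ 7 * w := by rw [h7, one_mul]
          _ = w ^ (7 + 1) := (pow_succ w 7).symm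
          _ = _ := by simp only [pow_succ, pow_zero, one_mul, mul_assoc]
      rw [e1, mul_smul, mul_smul, mul_smul, h2, h2, h2, h2]
    have h4 : (MulAction.stabilizer H m).comap κ = ⊤ := by
      refine gen ?_ ?_ ?_
      · rw [P.cA] at h1
        exact h1 _ P.t0A
      · rw [P.cA] at h1
        exact h1 _ P.t1A
      · exact h3
    refine eq_one_of_fix h fun k hk => ?_
    obtain ⟨g, rfl⟩ := E.exists_of_mem hk
    have h5 : g ∈ (MulAction.stabilizer H m).comap κ := h4 ▸ mem_top g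
    exact h5
  have h1 : Nat.card M ≤ 64 := by
    have h2 : (C ⊓ C').index ≤ C.index * C'.index := index_inf_le
    rw [hbot, index_bot, hC8, hC'8] at h2
    exact h2
  have h2 : 64 ≤ Nat.card M := by
    refine (sixtyfour h.sq h.faith E).trans ?_
    exact Nat.le_of_dvd Nat.card_pos (index_dvd_card _)
  omega

/-- `C_M(⟨t0, t1⟩) = C_M(A)` -/
theorem mem_C (h : InX H M K T A) (h8 : Nat.card A = 8) (E : Emb K κ F) {x : H} {C : Subgroup M}
    (P : Pos A C κ F x) {m : M} (h0 : κ t0 • m = m) (h1 : κ t1 • m = m) : m ∈ C := by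
  set C₁ := cv M ({κ t0} : Set H) ⊓ cv M ({κ t1} : Set H) with hC₁
  have hle : C ≤ C₁ := by
    intro n hn
    rw [P.cA] at hn
    exact ⟨mem_cv_singleton.2 (hn _ P.t0A), mem_cv_singleton.2 (hn _ P.t1A)⟩
  have hC8 : C.index = 8 := by rw [P.cA, h.exact, h8]
  have h5 : C₁ = C := by
    refine (Subgroup.eq_of_le_of_card_ge hle ?_).symm
    have h4 : 4 < C₁.index := by
      by_contra hcon
      push Not at hcon
      have ht10 : t1 ≠ t0 := by
        intro h
        have := congrArg (fun x : SU33 => Cfsg.Agent.OddHalf.Small.U33.mt x 0 0) h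
        exact absurd this (by change t1Mat 0 0 ≠ Cfsg.Agent.OddHalf.Small.U33.dg 0 0; decide +kernel)
      have ht11 : t1 ≠ 1 := by
        intro h
        have := congrArg (fun x : SU33 => Cfsg.Agent.OddHalf.Small.U33.mt x 0 0) h
        exact absurd this (by change t1Mat 0 0 ≠ (1 : Matrix (Fin 3) (Fin 3) _) 0 0; decide +kernel)
      -- the four-group
      set V : Subgroup SU33 := A.comap κ ⊓ centralizer {t0} with hV
      refine four_index h.sq h.faith E (V := zpowers t0 ⊔ zpowers t1) ?_ ?_ ?_ ht11 ht10 (C := C₁) ?_ hcon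
      · intro g hg
        have hg' : κ g ∈ A := by
          have : zpowers t0 ⊔ zpowers t1 ≤ A.comap κ := sup_le (zpowers_le.2 P.t0A) (zpowers_le.2 P.t1A)
          exact this hg
        exact E.inj (by rw [map_mul, h.el _ hg', map_one])
      · exact mem_sup_left (mem_zpowers t0)
      · exact mem_sup_right (mem_zpowers t1)
      · intro g hg m hm
        have : zpowers t0 ⊔ zpowers t1 ≤ (MulAction.stabilizer H m).comap κ :=
          sup_le (zpowers_le.2 (mem_cv_singleton.1 hm.1)) (zpowers_le.2 (mem_cv_singleton.1 hm.2))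
        exact mem_cv_singleton.2 (this hg)
    have h6 : 8 ≤ C₁.index := by
      obtain ⟨k, hk⟩ := index_pow (M := M) h.sq C₁
      rw [hk] at h4 ⊢
      have h7 : 2 < k := by
        by_contra hc
        have := Nat.pow_le_pow_right (n := 2) (by norm_num) (show k ≤ 2 by omega)
        omega
      calc 8 = 2 ^ 3 := by norm_num
        _ ≤ 2 ^ k := Nat.pow_le_pow_right (by norm_num) h7
    have e4 := card_mul_index C
    have e5 := card_mul_index C₁
    rw [hC8] at e4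
    have e6 : Nat.card C₁ * 8 ≤ Nat.card C * 8 := by
      calc _ ≤ Nat.card C₁ * C₁.index := Nat.mul_le_mul_left _ h6
        _ = Nat.card C * 8 := by rw [e4, e5]
    omega
  rw [← h5]
  exact ⟨mem_cv_singleton.2 h0, mem_cv_singleton.2 h1⟩

/-- `κ(S)` normalises `C` -/
theorem smul_C (h : InX H M K T A) (h8 : Nat.card A = 8) (E : Emb K κ F) {x : H} {C : Subgroup M}
    (P : Pos A C κ F x) {c : SU33} (hc : c ∈ S) {m : M} (hm : m ∈ C) : κ c • m ∈ C := by
  have m0 : κ t0 • m = m := by rw [P.cA] at hm; exact hm _ P.t0A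
  have m1 : κ t1 • m = m := by rw [P.cA] at hm; exact hm _ P.t1A
  refine mem_C h h8 E P ?_ ?_
  · rw [← mul_smul, ← map_mul, ← hc.1, map_mul, mul_smul, m0]
  · have h1 : t1 * c = c * t1 ∨ t1 * c = c * (t0 * t1) := by
      rcases S_t1 hc with h2 | h2
      · exact Or.inl h2.symm
      · right
        calc t1 * c = (t0 * t0) * t1 * c := by rw [t0_t0, one_mul]
          _ = t0 * (t0 * t1 * c) := by group
          _ = t0 * (c * t1) := by rw [← h2]
          _ = (c * t0) * t1 := by rw [hc.1, mul_assoc]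
          _ = c * (t0 * t1) := mul_assoc _ _ _
    rcases h1 with h2 | h2
    · rw [← mul_smul, ← map_mul, h2, map_mul, mul_smul, m1]
    · rw [← mul_smul, ← map_mul, h2, map_mul, map_mul, mul_smul, mul_smul, m1, m0]

/-- a Sylow 2-subgroup -/
theorem exists_TA (E : Emb K κ F) {x : H} (hxx : x * x = 1) (hxK : x ∉ K) (hF : F x = φ) :
    IsPGroup 2 (zpowers x ⊔ S.map κ : Subgroup H) ∧ ¬ 2 ∣ (zpowers x ⊔ S.map κ : Subgroup H).index := by
  have hxi : x⁻¹ = x := inv_eq_of_mul_eq_one_right hxx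
  have hfw : ∀ y ∈ S.map κ, x * y * x⁻¹ ∈ S.map κ := by
    rintro _ ⟨c, hc, rfl⟩
    rw [E.act, hF]
    exact ⟨φ c, φ_S hc, rfl⟩
  have hn : zpowers x ≤ normalizer ((S.map κ : Subgroup H) : Set H) := by
    rw [zpowers_le]
    refine mem_normalizer_iff.2 fun y => ⟨hfw y, fun hy => ?_⟩
    have h1 := hfw _ hy
    have h2 : x * (x * y * x⁻¹) * x⁻¹ = y := by
      calc x * (x * y * x⁻¹) * x⁻¹ = (x * x) * y * (x⁻¹ * x⁻¹) := by group
        _ = y := by rw [hxx, hxi, hxx, one_mul, mul_one]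
    rwa [h2] at h1
  have hx2 : IsPGroup 2 (zpowers x) := by
    rintro ⟨y, hy⟩
    refine ⟨1, Subtype.ext ?_⟩
    obtain ⟨k, rfl⟩ := mem_zpowers_iff.1 hy
    show (x ^ k) ^ (2 ^ 1) = 1
    have h3 : x ^ (2 : ℤ) = 1 := by
      rw [show (2 : ℤ) = 1 + 1 from rfl, zpow_add, zpow_one, hxx]
    rw [← zpow_natCast, ← zpow_mul, mul_comm, zpow_mul]
    norm_num [h3]
  have h2 : IsPGroup 2 (zpowers x ⊔ S.map κ : Subgroup H) :=
    IsPGroup.to_sup_of_normal_right' hx2 (isPGroup_S.map κ) hn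
  refine ⟨h2, ?_⟩
  set TA : Subgroup H := zpowers x ⊔ S.map κ with hTA
  have hS : Nat.card (S.map κ) = Nat.card S := card_map_of_injective E.inj
  have hlt : S.map κ < TA := by
    refine lt_of_le_of_ne le_sup_right fun h => hxK ?_
    have h3 : x ∈ S.map κ := by rw [h]; exact mem_sup_left (mem_zpowers x)
    obtain ⟨c, -, hc⟩ := h3
    rw [← hc]
    exact E.mem c
  have h64 : 64 ≤ Nat.card TA := by
    obtain ⟨r, hr⟩ := card_dvd_of_le hlt.le
    have h3 : Nat.card (S.map κ) < Nat.card TA := by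
      by_contra hc
      exact hlt.ne (Subgroup.eq_of_le_of_card_ge hlt.le (not_lt.1 hc))
    have h5 : 32 ≤ Nat.card (S.map κ) := by rw [hS]; exact Cfsg.Agent.OddHalf.D4.Small.KU33.card_S
    have h6 : 2 ≤ r := by
      by_contra hc
      have h7 : r ≤ 1 := by omega
      have := Nat.mul_le_mul_left (Nat.card (S.map κ)) h7
      omega
    calc 64 = 32 * 2 := by norm_num
      _ ≤ _ := Nat.mul_le_mul h5 h6
      _ = Nat.card TA := hr.symm
  obtain ⟨n, hn'⟩ := IsPGroup.iff_card.1 h2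
  have hK : Nat.card K = 6048 := by
    rw [← E.range, ← card_SU]
    exact (Nat.card_congr (MonoidHom.ofInjective E.inj).toEquiv).symm
  have hKi : K.index ≤ 2 := by
    have := E.relIndex_le ⊤
    rwa [relIndex_top_right] at this
  have hH : Nat.card H ∣ 12096 := by
    have h3 := card_mul_index K
    have h4 : K.index ≠ 0 := index_ne_zero_of_finite
    rw [← h3, hK]
    have h5 : K.index = 1 ∨ K.index = 2 := by omega
    rcases h5 with h5 | h5 <;> rw [h5] <;> norm_num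
  intro h3
  have h4 : 64 ∣ Nat.card TA := by
    rw [hn'] at h64 ⊢
    have h5 : 6 ≤ n := by
      by_contra hc
      have := Nat.pow_le_pow_right (n := 2) (by norm_num) (show n ≤ 5 by omega)
      omega
    calc 64 = 2 ^ 6 := by norm_num
      _ ∣ 2 ^ n := pow_dvd_pow 2 h5
  have h5 : 128 ∣ Nat.card H := by
    rw [← card_mul_index TA]
    exact mul_dvd_mul h4 h3
  have h6 := h5.trans hH
  norm_num at h6

/-- **`|C_M(T)| ≤ 2`** -/
theorem card_fix (h : InX H M K T A) (h8 : Nat.card A = 8) (E : Emb K κ F) {x : H} {C : Subgroup M}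
    (P : Pos A C κ F x) : Nat.card (cv M (T : Set H)) ≤ 2 := by
  have hxx := h.el x P.xA
  have hxK : x ∉ K := by
    intro hx
    obtain ⟨g, hg⟩ := E.exists_of_mem hx
    have h1 := P.Fx
    rw [← hg, E.Fκ] at h1
    have h2 : ww⁻¹ = g * ww * g⁻¹ := by rw [← φ_ww, ← h1, MulAut.conj_apply]
    have hD : Cfsg.Agent.OddHalf.D6.RThree.U33.f ∈ (MulAut.conj : SU33 →* MulAut SU33).range := by
      refine ⟨gi * g, ?_⟩
      rw [map_mul, h1]
      rfl
    exact Cfsg.Agent.OddHalf.D6.RThree.U33.f_outer hD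
  obtain ⟨hT2, hTi⟩ := exists_TA E hxx hxK P.Fx
  set TA : Subgroup H := zpowers x ⊔ S.map κ with hTA
  -- conjugacy
  have hconj : ∃ g : H, ∀ y ∈ TA, g * y * g⁻¹ ∈ T := by
    obtain ⟨g, hg⟩ := MulAction.exists_smul_eq H (IsPGroup.toSylow hT2 hTi) (IsPGroup.toSylow h.two h.syl)
    refine ⟨g, fun y hy => ?_⟩
    have h1 : g * y * g⁻¹ ∈ (g • (IsPGroup.toSylow hT2 hTi) : Sylow 2 H) := by
      change g * y * g⁻¹ ∈ ((g • (IsPGroup.toSylow hT2 hTi) : Sylow 2 H) : Subgroup H)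
      rw [Sylow.coe_subgroup_smul]
      exact ⟨y, hy, rfl⟩
    rw [hg] at h1
    exact h1
  obtain ⟨g, hg⟩ := hconj
  have hle : Nat.card (cv M (T : Set H)) ≤ Nat.card (cv M (TA : Set H)) := by
    refine Nat.card_le_card_of_injective (fun m : cv M (T : Set H) => (⟨g⁻¹ • (m : M), ?_⟩ : cv M (TA : Set H))) ?_
    · intro y hy
      have h1 : (g * y * g⁻¹) • (m : M) = m := m.2 _ (hg y hy)
      calc y • g⁻¹ • (m : M) = g⁻¹ • ((g * y * g⁻¹) • (m : M)) := by
            rw [mul_smul, mul_smul, inv_smul_smul]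
        _ = g⁻¹ • (m : M) := by rw [h1]
    · intro a b hab
      have h1 : g⁻¹ • (a : M) = g⁻¹ • (b : M) := congrArg Subtype.val hab
      exact Subtype.ext (smul_left_cancel _ h1)
  refine hle.trans ?_
  set U := cv M (TA : Set H) with hU
  by_contra hcon
  push Not at hcon
  have hUC : U ≤ C := by
    rw [← P.cx]
    intro m hm
    exact mem_cv_singleton.2 (hm x (mem_sup_left (mem_zpowers x)))
  have hUS : ∀ c ∈ S, ∀ u ∈ U, κ c • u = u := fun c hc u hu => hu _ (mem_sup_right ⟨c, hc, rfl⟩)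
  have hM := card_M h h8 E P
  have hC8 : Nat.card C = 8 := by
    have h1 := card_mul_index C
    rw [P.cA, h.exact, h8, ← P.cA, hM] at h1
    omega
  -- `|C : U| ≤ 2`
  have hrel : (U.subgroupOf C).index ≤ 2 := by
    have h1 := card_mul_index (U.subgroupOf C)
    have h2 : Nat.card (U.subgroupOf C) = Nat.card U := Nat.card_congr (subgroupOfEquivOfLe hUC).toEquiv
    rw [h2, hC8] at h1
    by_contra hc
    push Not at hc
    have := Nat.mul_le_mul hcon hc
    omega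
  have hstep : ∀ c ∈ S, ∀ m ∈ C, (κ c • m) * m⁻¹ ∈ U := by
    intro c hc m hm
    have hcm := smul_C h h8 E P hc hm
    by_cases h1 : (U.subgroupOf C).index = 2
    · have h2 := mul_mem_iff_of_index_two h1 (a := ⟨κ c • m, hcm⟩) (b := ⟨m, hm⟩⁻¹)
      have h3 : (κ c • m ∈ U ↔ m ∈ U) := by
        constructor
        · intro h4
          have h5 := hUS c⁻¹ (inv_mem hc) _ h4
          rw [map_inv, inv_smul_smul] at h5
          rw [h5]
          exact h4
        · intro h4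
          rw [hUS c hc m h4]
          exact h4
      have h6 : ((⟨κ c • m, hcm⟩ : C) * (⟨m, hm⟩ : C)⁻¹) ∈ U.subgroupOf C := by
        rw [h2, mem_subgroupOf, mem_subgroupOf]
        show κ c • m ∈ U ↔ m⁻¹ ∈ U
        rw [inv_mem_iff]
        exact h3
      exact h6
    · have h4 : (U.subgroupOf C).index ≠ 0 := index_ne_zero_of_finite
      have h5 : (U.subgroupOf C).index = 1 := by omega
      rw [index_eq_one, subgroupOf_eq_top] at h5
      exact mul_mem (h5 hcm) (inv_mem (h5 hm))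
  have hcomm : ∀ a b : M, a * b = b * a := mcomm h.sq
  -- `gj` fixes `C`
  have hj : ∀ m ∈ C, κ gj • m = m := by
    intro m hm
    have u1 := hstep gi gi_S m hm
    have u2 := hstep uu uu_S m hm
    set a := (κ gi • m) * m⁻¹ with ha
    set b := (κ uu • m) * m⁻¹ with hb
    have e1 : κ gi • m = a * m := by rw [ha, inv_mul_cancel_right]
    have e2 : κ uu • m = b * m := by rw [hb, inv_mul_cancel_right]
    clear_value a b
    have h1 : κ gi • κ uu • m = b * (a * m) := by rw [e2, smul_mul', hUS gi gi_S b u2, e1]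
    have h2 : κ gj • κ uu • κ gi • m = a * (b * (κ gj • m)) := by
      rw [e1, smul_mul', hUS uu uu_S a u1, e2, smul_mul', smul_mul']
      have hgjS : gj ∈ S := Cfsg.Agent.OddHalf.D4.Small.KU33.Q_le_S Cfsg.Agent.OddHalf.D4.Small.KU33.gj_Q
      rw [hUS gj hgjS a u1, hUS gj hgjS b u2]
    have h3 : κ gi • κ uu • m = κ gj • κ uu • κ gi • m := by
      rw [← mul_smul, ← map_mul, comm_word, map_mul, map_mul, mul_smul, mul_smul]
    rw [h1, h2, ← mul_assoc, ← mul_assoc, hcomm b a] at h3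
    exact (mul_left_cancel h3).symm
  -- `gj ∈ A`
  have hjA : κ gj ∈ A := by
    rw [← P.EE]
    refine ⟨hj, fun m => ?_⟩
    have hfix : ∀ s : SU33, κ s ∈ A → gj * s = s * gj → κ s • ((κ gj • m) * m⁻¹) = (κ gj • m) * m⁻¹ := by
      intro s hs hsj
      rw [← P.EE] at hs
      have hd := hs.2 m
      set d := (κ s • m) * m⁻¹ with hd'
      have e1 : κ s • m = d * m := by rw [hd', inv_mul_cancel_right]
      rw [smul_mul', smul_inv', ← mul_smul, ← map_mul, ← hsj, map_mul, mul_smul, e1, smul_mul', hj d hd, mul_inv_rev,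
        hcomm d (κ gj • m)]
      calc κ gj • m * d * (m⁻¹ * d⁻¹) = κ gj • m * (d * (m⁻¹ * d⁻¹)) := mul_assoc _ _ _
        _ = κ gj • m * (d * (d⁻¹ * m⁻¹)) := by rw [hcomm m⁻¹ d⁻¹]
        _ = κ gj • m * m⁻¹ := by rw [mul_inv_cancel_left]
    exact mem_C h h8 E P (hfix t0 P.t0A gj_t0) (hfix t1 P.t1A gj_t1)
  have h1 := h.el _ hjA
  rw [← map_mul, gj_gj] at h1
  exact t0_ne (E.inj (by rw [h1, map_one]))

/-- **The exit `U₃(3)`.** -/
theorem u33' (h : InX H M K T A) (e : Nonempty (K ≃* SU33)) :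
    Nat.card A = 8 ∧ Nat.card M = 64 ∧ Nat.card (cv M (T : Set H)) ≤ 2 := by
  obtain ⟨e⟩ := e
  obtain ⟨h8, κ, F, x, E, P⟩ := exists_pos h e
  exact ⟨h8, card_M h h8 E P, card_fix h h8 E P⟩

open Cfsg.Agent.Classification.RTwo.UThreeThree (K9 card_k9 psuEquiv) in
/-- **The exit `U₃(3)`**, over `Rows.IsUThreeThree`. -/
theorem u33 (h : InX H M K T A) (hK : Cfsg.Agent.Omega.ML.Rows.IsUThreeThree K) :
    Nat.card A = 8 ∧ Nat.card M = 64 ∧ Nat.card (cv M (T : Set H)) ≤ 2 := by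
  obtain ⟨F, _, _, hF, ⟨e⟩⟩ := hK
  have hcard : Fintype.card F = Fintype.card K9 := by rw [hF, card_k9]
  let g : F ≃+* K9 := FiniteField.ringEquivOfCardEq hcard
  exact u33' h ⟨e.trans ((psuEquiv hF).trans (LieClassical.FieldTransfer.suCongr 3 3 g))⟩

theorem dead_four (h : InX H M K T A) (hK : Cfsg.Agent.Omega.ML.Rows.IsUThreeThree K)
    (hF : 4 ≤ Nat.card (cv M (T : Set H))) : False := by
  have h1 := (u33 h hK).2.2
  omega

/-- two different non-trivial `T`-fixed vectors -/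
theorem dead_two (h : InX H M K T A) (hK : Cfsg.Agent.Omega.ML.Rows.IsUThreeThree K) {x y : M} (x1 : x ≠ 1)
    (y1 : y ≠ 1) (xy : x ≠ y) (tx : ∀ t ∈ T, t • x = x) (ty : ∀ t ∈ T, t • y = y) : False := by
  have h1 := (u33 h hK).2.2
  classical
  have h2 : (({1, x, y} : Finset M) : Set M) ⊆ (cv M (T : Set H) : Set M) := by
    intro m hm
    simp only [Finset.coe_insert, Finset.coe_singleton, Set.mem_insert_iff, Set.mem_singleton_iff] at hm
    rcases hm with rfl | rfl | rfl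
    · exact one_mem _
    · exact tx
    · exact ty
  have h3 := Set.ncard_le_ncard h2 (Set.toFinite _)
  rw [Set.ncard_coe_finset, Finset.card_insert_of_notMem (by simp [x1.symm, y1.symm]),
    Finset.card_pair xy] at h3
  have h4 : (cv M (T : Set H) : Set M).ncard = Nat.card (cv M (T : Set H)) := rfl
  omega

end row

end Cfsg.Agent.Omega.ML.Ex.RowU33X

end

section


/-!
# (E4) of EXT: the exit `U₃(3)` with two fixed vectors (helper919)
-/

set_option autoImplicit false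

namespace Cfsg.Agent.Omega.ML.Ex.Two

universe u v

/-- **(E4).** -/
theorem uThreeT : UThreeT.{u, v} := by
  intro H _ _ M _ _ _ K T A x y hI _ hm hK
  refine RowU33X.dead_two hI hK hm.x1 hm.y1 ?_ hm.tx hm.ty
  rintro rfl
  obtain ⟨R, -, h1, r, hr, h2⟩ := hm.mv
  exact h2 (h1 r hr)

end Cfsg.Agent.Omega.ML.Ex.Two

end

section


/-!
# THEOREM IRR (helper410 #22122 (A)), parts (a), (b)

`X = KT` is faithful and irreducible on `M`, `K` normal and simple, `C_X(K) = 1`, `1 ≠ A ≤ T` exact, sub-exact and low.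

* `Dec H M K S M₁` : `S` is a simple `K`-submodule, all conjugates of `S` which are `≠ S` are in `M₁`, `S ∩ M₁ = 1`,
  `N_H(S)` normalises `M₁`;
* `Sit.inv` : a minimal exact `A` normalises `S`;  `Sit.le_relIndex` : `|A| ≤ |S : C_S(A)|`;
* **`Sit.bot`**, **`Sit.eq_top`** : `M₁ = 1`, `S = M`;
* **`InX.eq_top_of_dec`** : the same for `InX` (a minimal exact subgroup of `A` is an atom).
-/

set_option autoImplicit false

namespace Cfsg.Agent.Omega.ML.Ex.IrrAB

open Subgroup Cfsg Cfsg.Agent.ClassTwoFusion.Quad Cfsg.Agent.Omega.NOThree.NoOver Cfsg.Agent.Omega.ML.CD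
open Cfsg.Agent.Omega.ML.MinFrame Cfsg.Agent.Omega.ML.Final Cfsg.Agent.ZN Cfsg.Agent.MinSimple.VModule

universe u v

/-- A simple `K`-submodule `S` of `M` with all the other conjugates in `M₁`, `S ∩ M₁ = 1`. -/
structure Dec (H : Type u) [Group H] (M : Type v) [Group M] [MulDistribMulAction H M] (K : Subgroup H)
    (S M₁ : Subgroup M) : Prop where
  ne : S ≠ ⊥
  inv : ∀ k ∈ K, ∀ s ∈ S, k • s ∈ S
  simple : ∀ W ≤ S, (∀ k ∈ K, ∀ w ∈ W, k • w ∈ W) → W = ⊥ ∨ W = S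
  inf : S ⊓ M₁ = ⊥
  alt : ∀ x : H, (∀ s ∈ S, x • s ∈ S) ∨ (∀ s ∈ S, x • s ∈ M₁)
  inv₁ : ∀ x : H, (∀ s ∈ S, x • s ∈ S) → ∀ m ∈ M₁, x • m ∈ M₁

/-- The situation of THEOREM IRR, for an exact `A` which is an atom. -/
structure Sit (H : Type u) [Group H] (M : Type v) [Group M] [MulDistribMulAction H M] (K T A : Subgroup H) :
    Prop where
  sq : ∀ m : M, m * m = 1
  faith : ∀ h : H, (∀ m : M, h • m = m) → h = 1
  irr : ∀ W : Subgroup M, (∀ h : H, ∀ w ∈ W, h • w ∈ W) → W = ⊥ ∨ W = ⊤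
  norm : K.Normal
  simple : IsSimpleGroup K
  cen : centralizer (K : Set H) = ⊥
  gen : K ⊔ T = ⊤
  two : IsPGroup 2 T
  syl : ¬ 2 ∣ T.index
  AT : A ≤ T
  el : ∀ a ∈ A, a * a = 1
  ne : A ≠ ⊥
  exact : (cv M (A : Set H)).index = Nat.card A
  sub : ∀ C : Subgroup H, C ≤ A → Nat.card C ≤ (cv M (C : Set H)).index
  low : ∀ R : Subgroup H, T ≤ R → R ≠ ⊤ → A ≤ o2 R
  atm : ∀ C : Subgroup H, C ≤ A → C ≠ ⊥ → C ≠ A → Nat.card C < (cv M (C : Set H)).index

variable {H : Type u} [Group H] [Finite H] {M : Type v} [Group M] [Finite M] [MulDistribMulAction H M]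

/-- `N_H(S)` -/
def nrm (H : Type u) [Group H] [Finite H] {M : Type v} [Group M] [MulDistribMulAction H M] (S : Subgroup M) :
    Subgroup H where
  carrier := {x | ∀ s ∈ S, x • s ∈ S}
  one_mem' := fun s hs => by rwa [one_smul]
  mul_mem' := fun {x y} hx hy s hs => by
    rw [mul_smul]
    exact hx _ (hy s hs)
  inv_mem' := fun {x} hx s hs => by
    have h1 : ∀ n : ℕ, ∀ s ∈ S, x ^ n • s ∈ S := by
      intro n
      induction n with
      | zero => intro s hs; rwa [pow_zero, one_smul]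
      | succ n ih => intro s hs; rw [pow_succ, mul_smul]; exact ih _ (hx s hs)
    have h2 : x⁻¹ = x ^ (orderOf x - 1) := by
      rw [← mul_eq_one_iff_inv_eq, ← pow_succ']
      rw [Nat.sub_add_cancel (orderOf_pos x), pow_orderOf_eq_one]
    rw [h2]
    exact h1 _ s hs

namespace Dec

variable {K : Subgroup H} {S M₁ : Subgroup M}

omit [Finite M] in
theorem K_le (d : Dec H M K S M₁) : K ≤ nrm H S := fun k hk => d.inv k hk

omit [Finite M] in
theorem not_mem (d : Dec H M K S M₁) {x : H} (hx : x ∉ nrm H S) : ∀ s ∈ S, x • s ∈ M₁ :=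
  (d.alt x).resolve_left hx

omit [Finite M] [Finite H] in
theorem eq_one (d : Dec H M K S M₁) {s : M} (hs : s ∈ S) (h1 : s ∈ M₁) : s = 1 := by
  have : s ∈ S ⊓ M₁ := ⟨hs, h1⟩
  rwa [d.inf, mem_bot] at this

omit [Finite M] [Finite H] in
/-- uniqueness of the components -/
theorem uniq (d : Dec H M K S M₁) {s s' u u' : M} (hs : s ∈ S) (hs' : s' ∈ S) (hu : u ∈ M₁) (hu' : u' ∈ M₁)
    (h : s * u = s' * u') : s = s' ∧ u = u' := by
  have h1 : s'⁻¹ * s = u' * u⁻¹ := by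
    rw [inv_mul_eq_iff_eq_mul, ← mul_assoc, ← h, mul_inv_cancel_right]
  have h2 := d.eq_one (s := s'⁻¹ * s) (mul_mem (inv_mem hs') hs) (h1 ▸ mul_mem hu' (inv_mem hu))
  have h3 : s = s' := (inv_mul_eq_one.1 h2).symm
  refine ⟨h3, ?_⟩
  rw [h3] at h
  exact mul_left_cancel h

end Dec

namespace Sit

variable {K T A : Subgroup H} {S M₁ : Subgroup M}

omit [Finite H] [Finite M] in
theorem comm (h : Sit H M K T A) (x y : M) : x * y = y * x := comm_of_sq h.sq x y

omit [Finite H] [Finite M] in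
theorem inv_eq (h : Sit H M K T A) (x : M) : x⁻¹ = x := inv_eq_of_mul_eq_one_right (h.sq x)

omit [Finite H] [Finite M] in
theorem K_ne (h : Sit H M K T A) : K ≠ ⊥ := by
  intro h1
  have hsim := h.simple
  obtain ⟨x, hx⟩ := exists_ne (1 : K)
  exact hx (Subtype.ext (mem_bot.1 (h1 ▸ x.2)))

omit [Finite H] [Finite M] in
theorem normM (h : Sit H M K T A) (W : Subgroup M) : W.Normal :=
  ⟨fun x hx g => by rw [h.comm g x, mul_inv_cancel_right]; exact hx⟩

omit [Finite M] [Finite H] in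
/-- `C_H(S) = 1` -/
theorem fxr_eq (h : Sit H M K T A) (d : Dec H M K S M₁) : fxr H S = ⊥ := by
  have hKn := h.norm
  have hsim := h.simple
  have hinvK : ∀ k ∈ K, ∀ f ∈ fxr H S, k * f * k⁻¹ ∈ fxr H S := fun k hk f hf =>
    conj_mem_fxr (R := K) (fun g hg m hm => d.inv g hg m hm) hk hf
  have h1 : fxr H S ⊓ K = ⊥ := by
    have hn : ((fxr H S).subgroupOf K).Normal := by
      constructor
      intro f hf g
      exact hinvK g g.2 f hf
    rcases IsSimpleGroup.eq_bot_or_eq_top_of_normal _ hn with h2 | h2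
    · exact (subgroupOf_eq_bot.1 h2).eq_bot
    · exfalso
      have h3 : K ≤ fxr H S := subgroupOf_eq_top.1 h2
      have h4 : cv M (K : Set H) = ⊤ := by
        refine (h.irr (cv M (K : Set H)) ?_).resolve_left fun h4 => d.ne (eq_bot_iff.2 fun s hs => ?_)
        · intro g m hm k hk
          have h5 : g⁻¹ * k * g ∈ K := by
            have := hKn.conj_mem k hk g⁻¹
            rwa [inv_inv] at this
          have h6 := hm _ h5
          rw [mul_smul, mul_smul, inv_smul_eq_iff] at h6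
          exact h6
        · rw [← h4]
          exact fun k hk => h3 hk s hs
      apply h.K_ne
      rw [eq_bot_iff]
      intro k hk
      rw [mem_bot]
      exact h.faith k fun m => (h4 ▸ mem_top m : m ∈ cv M (K : Set H)) k hk
  rw [eq_bot_iff, ← h.cen]
  intro f hf
  refine mem_centralizer_iff.2 fun k hk => ?_
  have h2 : k * f * k⁻¹ * f⁻¹ ∈ fxr H S ⊓ K := by
    refine ⟨(fxr H S).mul_mem (hinvK k hk f hf) ((fxr H S).inv_mem hf), ?_⟩
    have h3 := hKn.conj_mem k⁻¹ (K.inv_mem hk) f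
    have e : k * f * k⁻¹ * f⁻¹ = k * (f * k⁻¹ * f⁻¹) := by group
    rw [e]
    exact K.mul_mem hk h3
  rw [h1, mem_bot, mul_inv_eq_one, mul_inv_eq_iff_eq_mul] at h2
  exact h2

omit [Finite H] in
/-- `|S| > 2` -/
theorem two_lt (h : Sit H M K T A) (d : Dec H M K S M₁) : 2 < Nat.card S := by
  by_contra hc
  apply h.K_ne
  rw [eq_bot_iff, ← h.fxr_eq d]
  intro k hk s hs
  by_cases h1 : s = 1
  · rw [h1, smul_one]
  by_contra h2
  have h3 : ({1, s, k • s} : Set M) ⊆ S := by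
    rintro x (rfl | rfl | rfl)
    · exact one_mem _
    · exact hs
    · exact d.inv k hk s hs
  have h4 : ({1, s, k • s} : Set M).ncard = 3 := by
    rw [Set.ncard_eq_three]
    refine ⟨1, s, k • s, Ne.symm h1, fun h5 => h1 ?_, fun h5 => h2 h5.symm, rfl⟩
    rw [eq_comm, ← smul_one k] at h5
    exact smul_left_cancel k h5
  have h5 := Set.ncard_le_ncard h3 (Set.toFinite _)
  rw [h4, ← Nat.card_coe_set_eq] at h5
  have h6 : Nat.card (S : Set M) = Nat.card S := rfl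
  omega

omit [Finite M] [Finite H] in
theorem sup_eq (h : Sit H M K T A) (d : Dec H M K S M₁) : S ⊔ M₁ = ⊤ := by
  let J : Subgroup M := Subgroup.closure {m | ∃ x : H, ∃ s ∈ S, m = x • s}
  have h1 : J = ⊤ := by
    refine (h.irr J fun g w hw => ?_).resolve_left fun h2 => d.ne (eq_bot_iff.2 fun s hs => ?_)
    · have h2 : J ≤ J.comap (MulDistribMulAction.toMonoidHom M g) := by
        change Subgroup.closure _ ≤ _
        rw [Subgroup.closure_le]
        rintro _ ⟨x, s, hs, rfl⟩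
        exact Subgroup.subset_closure ⟨g * x, s, hs, (mul_smul _ _ _).symm⟩
      exact h2 hw
    · rw [← h2]
      exact Subgroup.subset_closure ⟨1, s, hs, (one_smul _ _).symm⟩
  rw [eq_top_iff, ← h1]
  change Subgroup.closure _ ≤ _
  rw [Subgroup.closure_le]
  rintro _ ⟨x, s, hs, rfl⟩
  rcases d.alt x with h2 | h2
  · exact mem_sup_left (h2 s hs)
  · exact mem_sup_right (h2 s hs)

omit [Finite M] [Finite H] in
theorem exists_comp (h : Sit H M K T A) (d : Dec H M K S M₁) (m : M) : ∃ s ∈ S, ∃ u ∈ M₁, m = s * u := by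
  have hn := h.normM M₁
  have h1 : m ∈ S ⊔ M₁ := by rw [h.sup_eq d]; exact mem_top m
  obtain ⟨s, hs, u, hu, h2⟩ := mem_sup_of_normal_right.1 h1
  exact ⟨s, hs, u, hu, h2.symm⟩

omit [Finite M] [Finite H] in
/-- a `T`-fixed vector `≠ 1` has a nontrivial component in `S` -/
theorem comp_ne (h : Sit H M K T A) (d : Dec H M K S M₁) {s u : M} (hs : s ∈ S) (hu : u ∈ M₁)
    (hT : ∀ t ∈ T, t • (s * u) = s * u) (h1 : s * u ≠ 1) : s ≠ 1 := by
  rintro rfl
  rw [one_mul] at hT h1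
  let J : Subgroup M :=
    { carrier := {m | ∀ x : H, x • m ∈ M₁}
      one_mem' := fun x => by rw [smul_one]; exact one_mem _
      mul_mem' := fun {a b} ha hb x => by rw [smul_mul']; exact mul_mem (ha x) (hb x)
      inv_mem' := fun {a} ha x => by rw [smul_inv']; exact inv_mem (ha x) }
  have hJ : J = ⊥ := by
    refine (h.irr J fun g w hw x => ?_).resolve_right fun h2 => d.ne (eq_bot_iff.2 fun s hs => ?_)
    · rw [← mul_smul]
      exact hw _
    · have h3 : s ∈ J := h2 ▸ mem_top s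
      have h4 := h3 1
      rw [one_smul] at h4
      exact mem_bot.2 (d.eq_one hs h4)
  apply h1
  rw [← mem_bot, ← hJ]
  intro x
  have hx : x ∈ K ⊔ T := by rw [h.gen]; exact mem_top x
  have hKn := h.norm
  obtain ⟨k, hk, t, ht, rfl⟩ := mem_sup_of_normal_left.1 hx
  rw [mul_smul, hT t ht]
  exact d.inv₁ k (d.inv k hk) u hu

/-! ### (a) `A` normalises `S` -/

omit [Finite H] in
/-- hyperplanes -/
theorem cv_eq (h : Sit H M K T A) {D : Subgroup H} (hD : D ≤ A) (h1 : D ≠ ⊥) (h2 : Nat.card A ≤ 2 * Nat.card D) :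
    cv M (D : Set H) = cv M (A : Set H) := by
  by_cases hDA : D = A
  · rw [hDA]
  have hle : cv M (A : Set H) ≤ cv M (D : Set H) := cv_anti (SetLike.coe_subset_coe.2 hD)
  refine le_antisymm ?_ hle
  rw [← relIndex_eq_one]
  have h3 := h.atm D hD h1 hDA
  have h4 : (cv M (A : Set H)).relIndex (cv M (D : Set H)) * (cv M (D : Set H)).index =
      (cv M (A : Set H)).index := relIndex_mul_index hle
  rw [h.exact] at h4
  have h5 : (cv M (A : Set H)).relIndex (cv M (D : Set H)) ≠ 0 := relIndex_ne _ _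
  by_contra h6
  have h7 : 2 ≤ (cv M (A : Set H)).relIndex (cv M (D : Set H)) := by omega
  have h8 : 2 * (cv M (D : Set H)).index ≤ Nat.card A := by
    rw [← h4]
    exact Nat.mul_le_mul_right _ h7
  omega

omit [Finite H] [Finite M] in
theorem A_comm (h : Sit H M K T A) {a b : H} (ha : a ∈ A) (hb : b ∈ A) : a * b = b * a := by
  have h1 : ∀ z ∈ A, z⁻¹ = z := fun z hz => inv_eq_of_mul_eq_one_right (h.el z hz)
  calc a * b = (a * b)⁻¹ := (h1 _ (A.mul_mem ha hb)).symm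
    _ = b⁻¹ * a⁻¹ := mul_inv_rev _ _
    _ = b * a := by rw [h1 _ ha, h1 _ hb]

omit [Finite M] in
/-- a hyperplane of `A` over `A₁ < A` -/
theorem exists_hyp (h : Sit H M K T A) {A₁ : Subgroup H} (h1 : A₁ < A) :
    ∃ D, A₁ ≤ D ∧ D < A ∧ Nat.card A ≤ 2 * Nat.card D := by
  obtain ⟨D, ⟨hD1, hD2⟩, hmax⟩ := Set.exists_max_image {D : Subgroup H | A₁ ≤ D ∧ D < A} (fun D => Nat.card D)
    (Set.toFinite _) ⟨A₁, le_rfl, h1⟩
  refine ⟨D, hD1, hD2, ?_⟩
  obtain ⟨a, ha, haD⟩ := SetLike.exists_of_lt hD2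
  have hD3 : D < adj D a (h.el a ha) (fun b hb => h.A_comm ha (hD2.le hb)) := by
    rw [SetLike.lt_iff_le_and_exists]
    refine ⟨fun b hb => mem_adj.2 (Or.inl hb), a, mem_adj.2 (Or.inr ?_), haD⟩
    rw [h.el a ha]
    exact one_mem _
  have hD4 : adj D a (h.el a ha) (fun b hb => h.A_comm ha (hD2.le hb)) ≤ A := by
    rintro x (hx | hx)
    · exact hD2.le hx
    · have h2 := A.mul_mem (hD2.le hx) ha
      rwa [mul_assoc, h.el a ha, mul_one] at h2
  have hD5 : adj D a (h.el a ha) (fun b hb => h.A_comm ha (hD2.le hb)) = A := by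
    by_contra hc
    have h3 := hmax _ ⟨hD1.trans hD3.le, lt_of_le_of_ne hD4 hc⟩
    have h4 := Set.ncard_lt_ncard (SetLike.coe_ssubset_coe.2 hD3) (Set.toFinite _)
    rw [← Nat.card_coe_set_eq, ← Nat.card_coe_set_eq] at h4
    exact absurd h4 (not_lt.2 h3)
  rw [← hD5]
  have h6 : ((adj D a (h.el a ha) (fun b hb => h.A_comm ha (hD2.le hb)) : Subgroup H) : Set H) ⊆
      (D : Set H) ∪ (fun x => x * a) '' (D : Set H) := by
    rintro x (hx | hx)
    · exact Or.inl hx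
    · refine Or.inr ⟨x * a, hx, ?_⟩
      change x * a * a = x
      rw [mul_assoc, h.el a ha, mul_one]
  have h7 := Set.ncard_le_ncard h6 (Set.toFinite _)
  have h8 := h7.trans (Set.ncard_union_le _ _)
  have h9 : ((fun x => x * a) '' (D : Set H)).ncard ≤ (D : Set H).ncard := Set.ncard_image_le (Set.toFinite _)
  rw [← Nat.card_coe_set_eq] at h8
  rw [← Nat.card_coe_set_eq (D : Set H)] at h8 h9
  have h10 : Nat.card (D : Set H) = Nat.card D := rfl
  change Nat.card (((adj D a (h.el a ha) (fun b hb => h.A_comm ha (hD2.le hb)) : Subgroup H) : Set H)) ≤ _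
  omega

/-- **(a)** `A` normalises `S` -/
theorem A_le (h : Sit H M K T A) (d : Dec H M K S M₁) : A ≤ nrm H S := by
  classical
  by_contra hc
  have hlt : A ⊓ nrm H S < A := lt_of_le_of_ne inf_le_left fun h1 => hc (inf_eq_left.1 h1)
  obtain ⟨D, hD1, hD2, hD3⟩ := h.exists_hyp hlt
  obtain ⟨a, ha, haD⟩ := SetLike.exists_of_lt hD2
  have haS : ∀ b ∈ A, b ∉ D → b ∉ nrm H S := fun b hb hbD hbS => hbD (hD1 ⟨hb, hbS⟩)
  by_cases hDb : D = ⊥
  · -- `|A| = 2`
    have h1 : Nat.card A ≤ 2 := by rwa [hDb, card_bot] at hD3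
    have h2 : cv M (A : Set H) ⊓ S = ⊥ := by
      rw [eq_bot_iff]
      rintro s ⟨hs1, hs2⟩
      have h3 := d.not_mem (haS a ha haD) s hs2
      rw [hs1 a ha] at h3
      exact mem_bot.2 (d.eq_one hs2 h3)
    have h3 : (cv M (A : Set H)).relIndex S = Nat.card S := by
      rw [← inf_relIndex_right, h2, relIndex_bot_left]
    have h4 : (cv M (A : Set H)).relIndex S ≤ (cv M (A : Set H)).index := by
      rw [← relIndex_top_right]
      exact relIndex_le_of_le_right le_top (relIndex_ne _ _)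
    have h5 := h.two_lt d
    rw [h3, h.exact] at h4
    omega
  · have hcv := h.cv_eq hD2.le hDb hD3
    -- a vector of `S` fixed by `N_A(S)`
    obtain ⟨s, hs, hs1, hsA⟩ := exists_fixed (H := H) h.sq (B := A ⊓ nrm H S) (h.two.to_le (inf_le_left.trans h.AT))
      d.ne (fun b hb x hx => hb.2 x hx)
    let _ : CommGroup M := { (inferInstance : Group M) with mul_comm := h.comm }
    let O := MulAction.orbit D s
    have : Fintype O := Fintype.ofFinite O
    have hsO : s ∈ O := MulAction.mem_orbit_self s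
    have hO : ∀ x : O, x ≠ ⟨s, hsO⟩ → (x : M) ∈ M₁ := by
      intro x hx
      obtain ⟨g, hg⟩ := x.2
      have hg' : (g : H) • s = (x : M) := hg
      rw [← hg']
      refine d.not_mem (fun h1 => hx (Subtype.ext ?_)) s hs
      rw [← hg']
      exact hsA g ⟨hD2.le g.2, h1⟩
    let p : M := ∏ x : O, (x : M)
    have hp1 : p = s * ∏ x ∈ Finset.univ.erase (⟨s, hsO⟩ : O), (x : M) :=
      (Finset.mul_prod_erase Finset.univ (fun x : O => (x : M)) (Finset.mem_univ (⟨s, hsO⟩ : O))).symm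
    have hp2 : ∏ x ∈ Finset.univ.erase (⟨s, hsO⟩ : O), (x : M) ∈ M₁ :=
      Subgroup.prod_mem _ fun x hx => hO x (Finset.ne_of_mem_erase hx)
    have hp3 : p ∈ cv M (D : Set H) := by
      intro g hg
      have h1 := map_prod (MulDistribMulAction.toMonoidHom M g) (fun x : O => (x : M)) Finset.univ
      have h2 : g • p = ∏ x : O, g • (x : M) := h1
      rw [h2]
      exact (Equiv.prod_comp (MulAction.toPerm (⟨g, hg⟩ : D) : Equiv.Perm O) fun x : O => (x : M))
    have hp4 : a • p ∈ M₁ := by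
      have h1 := map_prod (MulDistribMulAction.toMonoidHom M a) (fun x : O => (x : M)) Finset.univ
      have h2 : a • p = ∏ x : O, a • (x : M) := h1
      rw [h2]
      refine Subgroup.prod_mem _ fun x _ => ?_
      obtain ⟨g, hg⟩ := x.2
      have hg' : (g : H) • s = (x : M) := hg
      rw [← hg', ← mul_smul]
      refine d.not_mem (haS _ (A.mul_mem ha (hD2.le g.2)) fun h3 => haD ?_) s hs
      have h4 := D.mul_mem h3 (D.inv_mem g.2)
      rwa [mul_inv_cancel_right] at h4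
    rw [hcv] at hp3
    rw [hp3 a ha, hp1] at hp4
    have h5 := M₁.mul_mem hp4 (M₁.inv_mem hp2)
    rw [mul_inv_cancel_right] at h5
    exact hs1 (d.eq_one hs h5)

/-! ### (b) -/

omit [Finite M] in
/-- `T ∩ N_H(S)` is a Sylow 2-subgroup of `N_H(S)` -/
theorem odd_nrm (h : Sit H M K T A) (d : Dec H M K S M₁) : ¬ 2 ∣ (T ⊓ nrm H S).relIndex (nrm H S) := by
  have hKn := h.norm
  have h1 : T ⊓ nrm H S ⊔ K = nrm H S := by
    refine le_antisymm (sup_le inf_le_right d.K_le) fun x hx => ?_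
    have h2 : x ∈ K ⊔ T := by rw [h.gen]; exact mem_top x
    obtain ⟨k, hk, t, ht, rfl⟩ := mem_sup_of_normal_left.1 h2
    refine Subgroup.mul_mem _ (mem_sup_right hk) (mem_sup_left ⟨ht, ?_⟩)
    have h3 := (nrm H S).mul_mem ((nrm H S).inv_mem (d.K_le hk)) hx
    rwa [inv_mul_cancel_left] at h3
  have h2 : (T ⊓ nrm H S).relIndex K = T.relIndex K := by
    rw [← inf_relIndex_right, inf_assoc, inf_eq_right.2 d.K_le, inf_relIndex_right]
  have h3 : (T ⊓ nrm H S).relIndex (nrm H S) = T.index := by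
    have h4 := Lib.SylowNormalInf.relIndex_sup_of_normal (T ⊓ nrm H S) K
    rw [h1, h2, ← Lib.SylowNormalInf.relIndex_sup_of_normal T K, sup_comm, h.gen, relIndex_top_right] at h4
    exact h4
  rw [h3]
  exact h.syl

/-- **(b)** `|A| ≤ |S : C_S(A)|` -/
theorem le_relIndex (h : Sit H M K T A) (d : Dec H M K S M₁) (hK : IsKGroup H) (ml : MLK.{u, v}) :
    Nat.card A ≤ (cv M (A : Set H)).relIndex S := by
  have hKn := h.norm
  have hM1 := h.normM M₁
  have hAN := h.A_le d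
  have hAcv : (cv M (A : Set H)).Normal := h.normM _
  -- a `T`-fixed vector
  have htop : (⊤ : Subgroup M) ≠ ⊥ := fun h1 => d.ne (le_bot_iff.1 (le_top.trans h1.le))
  obtain ⟨v, -, hv1, hvT⟩ := exists_fixed (H := H) h.sq h.two htop (fun _ _ _ _ => mem_top _)
  obtain ⟨s, hs, u, hu, rfl⟩ := h.exists_comp d v
  have hs1 := h.comp_ne d hs hu hvT hv1
  have hsplit : ∀ x ∈ nrm H S, x • (s * u) = s * u → x • s = s := by
    intro x hx h1
    rw [smul_mul'] at h1
    exact (d.uniq (hx s hs) hs (d.inv₁ x hx u hu) hu h1).1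
  set R : Subgroup H := nrm H S ⊓ MulAction.stabilizer H s with hRdef
  have hTR : T ⊓ nrm H S ≤ R := fun t ht => ⟨ht.2, hsplit t ht.2 (hvT t ht.1)⟩
  have hAT : A ≤ T ⊓ nrm H S := le_inf h.AT hAN
  have hoddR : ¬ 2 ∣ (T ⊓ nrm H S).relIndex R := fun h1 =>
    h.odd_nrm d (h1.trans (Dvd.intro _ (relIndex_mul_relIndex _ _ _ hTR inf_le_left)))
  -- the stabiliser of `v`
  have hst : MulAction.stabilizer H (s * u) ≠ ⊤ := by
    intro h1
    have h2 : ∀ g : H, g • (s * u) = s * u := fun g => by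
      have : g ∈ MulAction.stabilizer H (s * u) := by rw [h1]; exact mem_top g
      exact this
    have h3 : cv M (Set.univ : Set H) = ⊤ := by
      refine (h.irr (cv M (Set.univ : Set H)) ?_).resolve_left fun h3 => hv1 ?_
      · intro g w hw
        rwa [hw g (Set.mem_univ g)]
      · rw [← mem_bot, ← h3]
        exact fun g _ => h2 g
    apply h.K_ne
    rw [eq_bot_iff]
    intro k _
    rw [mem_bot]
    exact h.faith k fun m => (h3 ▸ mem_top m : m ∈ cv M (Set.univ : Set H)) k (Set.mem_univ k)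
  have hAo : A ≤ o2 (MulAction.stabilizer H (s * u)) := h.low _ (fun t ht => hvT t ht) hst
  -- (ML) for `R` and `v`
  have hrelR := rel_subgroup (M := M) R (ml R M (sec_KG.sub H hK R) h.sq)
  have hml1 := hrelR (T ⊓ nrm H S) (o2 (MulAction.stabilizer H (s * u)) ⊓ R) A (s * u) (mem_top _)
    (h.two.to_le inf_le_left) hTR hoddR (fun t ht => hvT t ht.1) ((o2_isPGroup _).to_le inf_le_left) inf_le_right
    (fun q hq => o2_le _ hq.1)
    (fun g hg hgv q hq => ⟨conj_mem_of_le (le_normalizer_o2 _) hgv hq.1,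
      R.mul_mem (R.mul_mem hg hq.2) (R.inv_mem hg)⟩)
    (le_inf hAo (hAT.trans hTR)) h.el False.elim
  set N := orb R (s * u) with hN
  set D := A ⊓ fxr H N with hD
  have hDA : D ≤ A := inf_le_left
  have hND : N ≤ cv M (D : Set H) := fun m hm x hx => hx.2 m hm
  have e1 : Nat.card D * (fxr H N).relIndex A = Nat.card A := by
    rw [← inf_relIndex_right, inf_comm, ← relIndex_bot_left, ← relIndex_bot_left A]
    exact relIndex_mul_relIndex _ _ _ bot_le hDA
  have e2 : (cv M (A : Set H)).relIndex N ≤ (cv M (A : Set H)).relIndex (cv M (D : Set H)) :=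
    relIndex_le_of_le_right hND (relIndex_ne _ _)
  have e3 : (cv M (A : Set H)).relIndex (cv M (D : Set H)) * (cv M (D : Set H)).index = Nat.card A := by
    rw [relIndex_mul_index (cv_anti (SetLike.coe_subset_coe.2 hDA)), h.exact]
  have e4 := h.sub D hDA
  have hDpos : 0 < Nat.card D := Nat.card_pos
  have hpos : 0 < (cv M (D : Set H)).index := Nat.pos_of_ne_zero index_ne_zero_of_finite
  have hpos2 : 0 < (fxr H N).relIndex A := Nat.pos_of_ne_zero (relIndex_ne _ _)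
  have hDeq : (cv M (D : Set H)).index = Nat.card D := by
    refine le_antisymm ?_ e4
    by_contra hc
    rw [not_le] at hc
    have h1 : Nat.card D * (fxr H N).relIndex A < (cv M (D : Set H)).index * (fxr H N).relIndex A :=
      Nat.mul_lt_mul_of_pos_right hc hpos2
    have h2 : (cv M (D : Set H)).index * (fxr H N).relIndex A ≤
        (cv M (D : Set H)).index * (cv M (A : Set H)).relIndex (cv M (D : Set H)) :=
      Nat.mul_le_mul_left _ (hml1.trans e2)
    rw [e1] at h1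
    rw [mul_comm _ ((cv M (A : Set H)).relIndex _), e3] at h2
    omega
  have hDalt : D = ⊥ ∨ D = A := by
    by_contra hc
    push Not at hc
    exact absurd (h.atm D hDA hc.1 hc.2) (by rw [hDeq]; exact lt_irrefl _)
  have hDA2 : D = A := by
    rcases hDalt with h1 | h1
    · exfalso
      rw [h1, card_bot, one_mul] at e1
      -- `M = N C_M(A)`
      have h2 : (cv M (A : Set H)).relIndex N = (cv M (A : Set H)).index := by
        refine le_antisymm ?_ (by rw [h.exact, ← e1]; exact hml1)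
        rw [← relIndex_top_right]
        exact relIndex_le_of_le_right le_top (relIndex_ne _ _)
      have h3 : cv M (A : Set H) ⊔ N = ⊤ := by
        have h4 : (cv M (A : Set H)).relIndex (cv M (A : Set H) ⊔ N) = (cv M (A : Set H)).relIndex N := by
          rw [sup_comm, relIndex_sup_right]
        have h5 := relIndex_mul_index (le_sup_left : cv M (A : Set H) ≤ cv M (A : Set H) ⊔ N)
        rw [h4, h2] at h5
        have h6 : 0 < (cv M (A : Set H)).index := Nat.pos_of_ne_zero index_ne_zero_of_finite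
        rw [← index_eq_one]
        exact Nat.eq_of_mul_eq_mul_left h6 (by rw [h5, mul_one])
      -- the `S`-component of `N`
      have h4 : N ≤ zpowers s ⊔ M₁ := by
        refine orb_le fun g hg => ?_
        rw [smul_mul']
        have hg2 : g • s = s := hg.2
        rw [hg2]
        exact Subgroup.mul_mem _ (mem_sup_left (mem_zpowers s)) (mem_sup_right (d.inv₁ g hg.1 u hu))
      apply h.ne
      rw [eq_bot_iff, ← h.fxr_eq d]
      intro a ha x hx
      have h5 : x ∈ cv M (A : Set H) ⊔ N := by rw [h3]; exact mem_top x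
      obtain ⟨c, hc, n, hn, hcn⟩ := mem_sup_of_normal_left.1 h5
      obtain ⟨z, hz, w, hw, hzw⟩ := mem_sup_of_normal_right.1 (h4 hn)
      obtain ⟨j, rfl⟩ := mem_zpowers_iff.1 hz
      have has : a • s = s := (hTR (hAT ha)).2
      have hsj : s ^ j ∈ S := zpow_mem hs j
      have hasj : a • s ^ j = s ^ j := by rw [smul_zpow', has]
      -- `c = (x s^-j) w^-1`
      have h6 : c = (x * (s ^ j)⁻¹) * w⁻¹ := by
        rw [← hcn, ← hzw, h.comm (s ^ j) w]
        group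
      have h7 : a • c = c := hc a ha
      rw [h6, smul_mul'] at h7
      have h8 := (d.uniq (hAN ha _ (S.mul_mem hx (S.inv_mem hsj))) (S.mul_mem hx (S.inv_mem hsj))
        (d.inv₁ a (hAN ha) _ (M₁.inv_mem hw)) (M₁.inv_mem hw) h7).1
      rw [smul_mul', smul_inv', hasj] at h8
      exact mul_right_cancel h8
    · exact h1
  -- `A ≤ O₂(R)`
  have hAfx : A ≤ fxr H N := hDA2.ge.trans inf_le_right
  have hAR : A ≤ o2 R := by
    have hinv : ∀ g ∈ R, ∀ m ∈ N, g • m ∈ N := fun g hg m hm => smul_mem_orb hg hm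
    have h2 : o2 (R ⊓ fxr H N) ≤ o2 R := o2_le_o2 inf_le_left fun g hg x hx =>
      ⟨R.mul_mem (R.mul_mem hg hx.1) (R.inv_mem hg), conj_mem_fxr hinv hg hx.2⟩
    refine le_trans ?_ h2
    have h3 : o2 (MulAction.stabilizer H (s * u)) ⊓ (R ⊓ fxr H N) ≤ o2 (R ⊓ fxr H N) := by
      refine le_o2 inf_le_right ((o2_isPGroup _).to_le inf_le_left) (le_normalizer_of fun g hg x hx => ⟨?_, ?_⟩)
      · exact conj_mem_of_le (le_normalizer_o2 _) (hg.2 _ (mem_orb_self R (s * u))) hx.1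
      · exact Subgroup.mul_mem _ (Subgroup.mul_mem _ hg hx.2) (Subgroup.inv_mem _ hg)
    exact le_trans (le_inf hAo (le_inf (hAT.trans hTR) hAfx)) h3
  -- (ML) for `N_H(S)` and `s`
  have hrelS := rel_subgroup (M := M) (nrm H S) (ml (nrm H S) M (sec_KG.sub H hK _) h.sq)
  have hml2 := hrelS (T ⊓ nrm H S) (o2 R) A s (mem_top _)
    (h.two.to_le inf_le_left) inf_le_right (h.odd_nrm d) (fun t ht => (hTR ht).2) (o2_isPGroup _)
    ((o2_le _).trans inf_le_left) (fun q hq => (o2_le R hq).2)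
    (fun g hg hgs q hq => conj_mem_of_le (le_normalizer_o2 R) (show g ∈ R from ⟨hg, hgs⟩) hq) hAR h.el False.elim
  have horb : orb (nrm H S) s = S := by
    have h0 : orb (nrm H S) s ≤ S := orb_le fun g hg => hg s hs
    refine (d.simple _ h0 fun k hk w hw => smul_mem_orb (d.K_le hk) hw).resolve_left fun h1 => hs1 ?_
    rw [← mem_bot, ← h1]
    exact mem_orb_self _ s
  rwa [horb, h.fxr_eq d, relIndex_bot_left] at hml2

open Pointwise in
omit [Finite M] [Finite H] in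
/-- the conjugates of `S` -/
theorem _root_.Cfsg.Agent.Omega.ML.Ex.IrrAB.Dec.smul (hKn : K.Normal) (d : Dec H M K S M₁) (x : H) :
    Dec H M K (x • S) (x • M₁) where
  ne := fun h1 => d.ne (by
    have h2 : x⁻¹ • (x • S) = x⁻¹ • (⊥ : Subgroup M) := by rw [h1]
    rwa [inv_smul_smul, Subgroup.smul_bot] at h2)
  inv := fun k hk s hs => by
    rw [Subgroup.mem_pointwise_smul_iff_inv_smul_mem] at hs ⊢
    have h1 : x⁻¹ * k * x ∈ K := by
      have := hKn.conj_mem k hk x⁻¹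
      rwa [inv_inv] at this
    have h2 := d.inv _ h1 _ hs
    rwa [← mul_smul, mul_inv_cancel_right, mul_smul] at h2
  simple := fun W hW hWK => by
    have h1 : x⁻¹ • W ≤ S := by
      intro m hm
      rw [Subgroup.mem_pointwise_smul_iff_inv_smul_mem, inv_inv] at hm
      have h2 := hW hm
      rwa [Subgroup.mem_pointwise_smul_iff_inv_smul_mem, inv_smul_smul] at h2
    rcases d.simple _ h1 (fun k hk w hw => by
      rw [Subgroup.mem_pointwise_smul_iff_inv_smul_mem, inv_inv] at hw ⊢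
      have h3 := hWK _ (hKn.conj_mem k hk x) _ hw
      rwa [← mul_smul, inv_mul_cancel_right, mul_smul] at h3) with h2 | h2
    · left
      rw [inv_smul_eq_iff, Subgroup.smul_bot] at h2
      exact h2
    · right
      rwa [inv_smul_eq_iff] at h2
  inf := by
    rw [← Subgroup.smul_inf, d.inf, Subgroup.smul_bot]
  alt := fun y => by
    rcases d.alt (x⁻¹ * y * x) with h1 | h1
    · left
      intro s hs
      rw [Subgroup.mem_pointwise_smul_iff_inv_smul_mem] at hs ⊢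
      have h2 := h1 _ hs
      rwa [← mul_smul, mul_inv_cancel_right, mul_smul] at h2
    · right
      intro s hs
      rw [Subgroup.mem_pointwise_smul_iff_inv_smul_mem] at hs ⊢
      have h2 := h1 _ hs
      rwa [← mul_smul, mul_inv_cancel_right, mul_smul] at h2
  inv₁ := fun y hy m hm => by
    rw [Subgroup.mem_pointwise_smul_iff_inv_smul_mem] at hm ⊢
    have h1 : ∀ s ∈ S, (x⁻¹ * y * x) • s ∈ S := by
      intro s hs
      have h2 := hy (x • s) (Subgroup.smul_mem_pointwise_smul s x S hs)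
      rw [Subgroup.mem_pointwise_smul_iff_inv_smul_mem] at h2
      rwa [mul_smul, mul_smul]
    have h2 := d.inv₁ _ h1 _ hm
    rwa [← mul_smul, mul_inv_cancel_right, mul_smul] at h2

open Pointwise in
/-- **(b)** `S = M` -/
theorem bot (h : Sit H M K T A) (d : Dec H M K S M₁) (hK : IsKGroup H) (ml : MLK.{u, v}) : M₁ = ⊥ := by
  by_contra hne
  have hAcv : (cv M (A : Set H)).Normal := h.normM _
  have hM1 := h.normM M₁
  obtain ⟨x, hx⟩ : ∃ x, x ∉ nrm H S := by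
    by_contra hc
    push Not at hc
    rcases h.irr S fun g w hw => hc g w hw with h1 | h1
    · exact d.ne h1
    · apply hne
      have h2 := d.inf
      rwa [h1, top_inf_eq] at h2
  have h1 := h.le_relIndex d hK ml
  have h2 := h.le_relIndex (d.smul h.norm x) hK ml
  have h3 : x • S ≤ M₁ := by
    intro m hm
    rw [Subgroup.mem_pointwise_smul_iff_inv_smul_mem] at hm
    have h4 := d.not_mem hx _ hm
    rwa [smul_inv_smul] at h4
  have h4 : Nat.card A ≤ (cv M (A : Set H)).relIndex M₁ := h2.trans (relIndex_le_of_le_right h3 (relIndex_ne _ _))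
  -- the product
  have h5 : (cv M (A : Set H)).relIndex (cv M (A : Set H) ⊔ M₁) = (cv M (A : Set H)).relIndex M₁ := by
    rw [sup_comm, relIndex_sup_right]
  have h6 := relIndex_mul_index (le_sup_left : cv M (A : Set H) ≤ cv M (A : Set H) ⊔ M₁)
  have h7 : (cv M (A : Set H) ⊔ M₁) ⊓ S ≤ cv M (A : Set H) := by
    rintro s ⟨hs1, hs2⟩ a ha
    obtain ⟨c, hc, w, hw, hcw⟩ := mem_sup_of_normal_left.1 hs1
    have haN := h.A_le d ha
    have e : c = s * w⁻¹ := by rw [← hcw, mul_inv_cancel_right]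
    have h8 : a • c = c := hc a ha
    rw [e, smul_mul'] at h8
    exact (d.uniq (haN _ hs2) hs2 (d.inv₁ a haN _ (M₁.inv_mem hw)) (M₁.inv_mem hw) h8).1
  have h8 : Nat.card A ≤ (cv M (A : Set H) ⊔ M₁).index := by
    refine h1.trans ?_
    have h9 : (cv M (A : Set H)).relIndex S ≤ (cv M (A : Set H) ⊔ M₁).relIndex S := by
      rw [← inf_relIndex_right (cv M (A : Set H) ⊔ M₁), ← inf_relIndex_right (cv M (A : Set H))]
      exact relIndex_le_of_le_left (le_inf h7 inf_le_right) (relIndex_ne _ _)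
    refine h9.trans ?_
    rw [← relIndex_top_right]
    exact relIndex_le_of_le_right le_top (relIndex_ne _ _)
  rw [h5, h.exact] at h6
  have h9 : Nat.card A * Nat.card A ≤ Nat.card A := by
    conv_rhs => rw [← h6]
    exact Nat.mul_le_mul h4 h8
  have h10 : 1 < Nat.card A := (Subgroup.one_lt_card_iff_ne_bot _).2 h.ne
  nlinarith only [h9, h10]

/-- **(b)** `M|_K` is simple -/
theorem eq_top (h : Sit H M K T A) (d : Dec H M K S M₁) (hK : IsKGroup H) (ml : MLK.{u, v}) : S = ⊤ := by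
  have h1 := h.sup_eq d
  rwa [h.bot d hK ml, sup_bot_eq] at h1

end Sit


end Cfsg.Agent.Omega.ML.Ex.IrrAB

end

section


/-!
# `O(H) = 1` from (U) (helper690)

* `Low H M T A` : `H` faithful and irreducible on `M`, `T` a Sylow 2-subgroup in at least two maximal subgroups, `1 ≠ A ≤ T`,
  `A ≤ O₂(R)` for all `T ≤ R < H`;
* `Low.comm_odd` : `A` centralises the normal subgroups of odd order;  `Low.sup_closure` : `H = ⟨A^H⟩ T`;
* **`Low.odd_of_uni`** : `O(H) = 1` if `N_H(T)` fixes `x` and every `T`-minimal `P` which moves `x` fixes the vector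
  `y ≠ 1`.
-/

set_option autoImplicit false
set_option linter.unusedSectionVars false

namespace Cfsg.Agent.Omega.ML.Ex.OddU

open Subgroup Cfsg Cfsg.Agent.ZN Cfsg.Agent.ClassTwoFusion.Quad Cfsg.Agent.Omega.ML.MinFrame
open Cfsg.Agent.Omega.KL.Str (eq_bot_of_fix normal_of_sup dedekind le_o2_top)
open Cfsg.Agent.MinSimple.MinParabolic (IsMinPar le_of_forall)
open Cfsg.Agent.MinSimple.VModule (o2_isPGroup o2_le le_o2 le_normalizer_o2)

universe u v

/-- the data -/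
structure Low (H : Type u) [Group H] (M : Type v) [Group M] [MulDistribMulAction H M] (T A : Subgroup H) : Prop where
  faith : ∀ h : H, (∀ m : M, h • m = m) → h = 1
  irr : ∀ W : Subgroup M, (∀ h : H, ∀ w ∈ W, h • w ∈ W) → W = ⊥ ∨ W = ⊤
  two : IsPGroup 2 T
  syl : ¬ 2 ∣ T.index
  AT : A ≤ T
  A1 : A ≠ ⊥
  low : ∀ R : Subgroup H, T ≤ R → R ≠ ⊤ → A ≤ o2 R
  nmax : ¬ ∃ N : Subgroup H, N ≠ ⊤ ∧ ∀ R : Subgroup H, T ≤ R → R ≠ ⊤ → R ≤ N

variable {H : Type u} [Group H] [Finite H] {M : Type v} [Group M] [MulDistribMulAction H M]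
  {T A : Subgroup H} {x y : M}

namespace Low

variable (h : Low H M T A)
include h

/-- `A` centralises `R ∩ N` for a normal subgroup `N` of odd order and `T ≤ R < H` -/
theorem comm_inf {N : Subgroup H} (hN : N.Normal) (ho : Odd (Nat.card N)) {R : Subgroup H} (hTR : T ≤ R)
    (hR : R ≠ ⊤) : R ⊓ N ≤ centralizer (A : Set H) := by
  intro n hn
  rw [mem_centralizer_iff]
  intro a ha
  have ha2 := h.low R hTR hR ha
  have h1 : a * n * a⁻¹ * n⁻¹ ∈ N := N.mul_mem (hN.conj_mem n hn.2 a) (N.inv_mem hn.2)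
  have h2 : a * n * a⁻¹ * n⁻¹ ∈ o2 R := by
    have h3 : n * a⁻¹ * n⁻¹ ∈ o2 R :=
      (mem_normalizer_iff.1 (le_normalizer_o2 R hn.1) a⁻¹).1 ((o2 R).inv_mem ha2)
    have h4 : a * n * a⁻¹ * n⁻¹ = a * (n * a⁻¹ * n⁻¹) := by group
    rw [h4]
    exact (o2 R).mul_mem ha2 h3
  have h3 : N ⊓ o2 R = ⊥ := by
    rw [← card_eq_one]
    have h4 : Nat.card (N ⊓ o2 R : Subgroup H) ∣ Nat.card N := card_dvd_of_le inf_le_left
    have h5 : IsPGroup 2 (N ⊓ o2 R : Subgroup H) := (o2_isPGroup R).to_le inf_le_right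
    obtain ⟨k, hk⟩ := IsPGroup.iff_card.1 h5
    rcases Nat.eq_zero_or_pos k with h6 | h6
    · rw [hk, h6, pow_zero]
    · exfalso
      rw [hk] at h4
      have h7 : 2 ∣ Nat.card N := (dvd_pow_self 2 h6.ne').trans h4
      exact (Nat.not_even_iff_odd.2 ho) (even_iff_two_dvd.2 h7)
  have h4 : a * n * a⁻¹ * n⁻¹ = 1 := by
    rw [← mem_bot, ← h3]
    exact ⟨h1, h2⟩
  calc a * n = (a * n * a⁻¹ * n⁻¹) * (n * a) := by group
    _ = n * a := by rw [h4, one_mul]

/-- **`A` centralises the normal subgroups of odd order.** -/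
theorem comm_odd {N : Subgroup H} (hN : N.Normal) (ho : Odd (Nat.card N)) : N ≤ centralizer (A : Set H) := by
  have hNT : N ⊓ T = ⊥ := by
    rw [← card_eq_one]
    have h4 : Nat.card (N ⊓ T : Subgroup H) ∣ Nat.card N := card_dvd_of_le inf_le_left
    obtain ⟨k, hk⟩ := IsPGroup.iff_card.1 (h.two.to_le (inf_le_right : N ⊓ T ≤ T))
    rcases Nat.eq_zero_or_pos k with h6 | h6
    · rw [hk, h6, pow_zero]
    · exfalso
      rw [hk] at h4
      have h7 : 2 ∣ Nat.card N := (dvd_pow_self 2 h6.ne').trans h4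
      exact (Nat.not_even_iff_odd.2 ho) (even_iff_two_dvd.2 h7)
  by_cases hne : N ⊔ T = ⊤
  · -- `N = ⟨R ∩ N : T ≤ R < H⟩`
    let N' : Subgroup H := ⨆ R : {R : Subgroup H // T ≤ R ∧ R ≠ ⊤}, (R : Subgroup H) ⊓ N
    have h1 : N' ≤ N := iSup_le fun R => inf_le_right
    have h2 : N' ≤ centralizer (A : Set H) := iSup_le fun R => comm_inf h hN ho R.2.1 R.2.2
    have h3 : T ≤ normalizer (N' : Set H) := by
      have h4 : ∀ t ∈ T, ∀ z ∈ N', t * z * t⁻¹ ∈ N' := by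
        intro t ht z hz
        have h5 : N' ≤ N'.comap (MulAut.conj t).toMonoidHom := by
          refine iSup_le fun R => ?_
          intro w hw
          have h6 : t * w * t⁻¹ ∈ (R : Subgroup H) ⊓ N :=
            ⟨(R : Subgroup H).mul_mem ((R : Subgroup H).mul_mem (R.2.1 ht) hw.1) ((R : Subgroup H).inv_mem (R.2.1 ht)),
              hN.conj_mem w hw.2 t⟩
          exact mem_comap.2 (le_iSup (fun R : {R : Subgroup H // T ≤ R ∧ R ≠ ⊤} => (R : Subgroup H) ⊓ N) R h6)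
        exact h5 hz
      intro t ht
      rw [mem_normalizer_iff]
      intro z
      refine ⟨h4 t ht z, fun hz => ?_⟩
      have h5 := h4 t⁻¹ (inv_mem ht) _ hz
      have h6 : t⁻¹ * (t * z * t⁻¹) * t⁻¹⁻¹ = z := by group
      rwa [h6] at h5
    have h4 : N' ⊔ T = ⊤ := by
      by_contra hc
      refine h.nmax ⟨N' ⊔ T, hc, fun R hTR hR => ?_⟩
      rw [← dedekind hN hTR (hne ▸ le_top)]
      exact sup_le_sup_right (le_iSup (fun R : {R : Subgroup H // T ≤ R ∧ R ≠ ⊤} => (R : Subgroup H) ⊓ N) ⟨R, hTR, hR⟩) T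
    intro n hn
    have h5 : n ∈ N' ⊔ T := h4 ▸ mem_top n
    have h6 : N' ≤ normalizer (N' : Set H) := le_normalizer
    have hN'n : N'.Normal := normal_of_sup h4 h6 h3
    rw [mem_sup_of_normal_left] at h5
    obtain ⟨m, hm, t, ht, rfl⟩ := h5
    have h7 : t ∈ N ⊓ T := by
      refine ⟨?_, ht⟩
      have := N.mul_mem (N.inv_mem (h1 hm)) hn
      rwa [inv_mul_cancel_left] at this
    rw [hNT, mem_bot] at h7
    rw [h7, mul_one]
    exact h2 hm
  · exact fun n hn => comm_inf h hN ho le_sup_right hne ⟨mem_sup_left hn, hn⟩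

end Low

end Cfsg.Agent.Omega.ML.Ex.OddU

end

section


/-!
# Exact low groups: no normal subgroup of odd order (helper699)

`H` is faithful and irreducible on `M`, `T` is a Sylow 2-subgroup of `H` which is in at least two maximal subgroups,
`1 ≠ A ≤ T` is LOW (`A ≤ O₂(R)` for all `T ≤ R < H`).  (No exactness, no K-groups.)

* `Core T A (M)` : this situation, with a `T`-fixed vector `x ≠ 1`;
* `Core.o2_top` : `O₂(H) = 1`;  `Core.comm_of_ne` : `N ⊴ H`, `NT < H` ⟹ `[N,A] = 1`;  `Core.sup_closure` : `H = ⟨A^H⟩T`;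
* **`Core.comm_of_odd`** : a normal subgroup of odd order is centralised by `A`, hence by `⟨A^H⟩`;
* **`Core.odd_of`** : if `N_H(T)` fixes `x` or some vector `≠ 1`, and every `T`-minimal `P` which moves `x` fixes some
  vector `≠ 1`, then `H` has no normal subgroup `≠ 1` of odd order (#21261 (2), #22527 (7), #22713 (6)).
* `Core.inf_min`, `Core.inf_norm` : the two steps, for a normal subgroup `N` centralised by `A`.
-/

set_option autoImplicit false
set_option linter.unusedSectionVars false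

namespace Cfsg.Agent.Omega.ML.Ex.OddCore

open Subgroup Cfsg Cfsg.Agent.ZN Cfsg.Agent.ClassTwoFusion.Quad
open Cfsg.Agent.Omega.KL.Str (eq_bot_of_fix normal_of_sup dedekind le_o2_top)
open Cfsg.Agent.MinSimple.MinParabolic (IsMinPar le_of_forall)
open Cfsg.Agent.MinSimple.VModule (o2_isPGroup o2_le le_o2 le_normalizer_o2)

universe u v

/-- The situation. -/
structure Core {H : Type u} [Group H] {M : Type v} [Group M] [MulDistribMulAction H M] (T A : Subgroup H) (x : M) :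
    Prop where
  faith : ∀ h : H, (∀ m : M, h • m = m) → h = 1
  irr : ∀ W : Subgroup M, (∀ h : H, ∀ w ∈ W, h • w ∈ W) → W = ⊥ ∨ W = ⊤
  two : IsPGroup 2 T
  syl : ¬ 2 ∣ T.index
  x1 : x ≠ 1
  tx : ∀ t ∈ T, t • x = x
  AT : A ≤ T
  A1 : A ≠ ⊥
  low : ∀ R : Subgroup H, T ≤ R → R ≠ ⊤ → A ≤ o2 R
  nmax : ¬ ∃ N : Subgroup H, N ≠ ⊤ ∧ ∀ R : Subgroup H, T ≤ R → R ≠ ⊤ → R ≤ N

variable {H : Type u} [Group H] [Finite H] {M : Type v} [Group M] [MulDistribMulAction H M]
  {T A : Subgroup H} {x : M}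

namespace Core

variable (h : Core T A x)
include h

/-- `O₂(H) = 1` -/
theorem o2_top : o2 (⊤ : Subgroup H) = ⊥ := by
  have h1 : o2 (⊤ : Subgroup H) ≤ T := by
    have h2 : T ≤ normalizer (o2 (⊤ : Subgroup H) : Set H) := le_top.trans (le_normalizer_o2 _)
    have h3 : IsPGroup 2 (o2 (⊤ : Subgroup H) ⊔ T : Subgroup H) :=
      IsPGroup.to_sup_of_normal_left' (o2_isPGroup _) h.two h2
    have h4 := Subgroup.relIndex_mul_index (le_sup_right : T ≤ o2 (⊤ : Subgroup H) ⊔ T)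
    have h5 : T.relIndex (o2 (⊤ : Subgroup H) ⊔ T) = 1 := by
      obtain ⟨n, hn⟩ := IsPGroup.iff_card.1 h3
      have h6 : T.relIndex (o2 (⊤ : Subgroup H) ⊔ T) ∣ 2 ^ n := by
        rw [← hn]
        exact relIndex_dvd_card _ _
      obtain ⟨k, -, hk⟩ := (Nat.dvd_prime_pow Nat.prime_two).1 h6
      rcases Nat.eq_zero_or_pos k with h7 | h7
      · rw [hk, h7, pow_zero]
      · exfalso
        apply h.syl
        rw [← h4, hk]
        exact dvd_mul_of_dvd_left (dvd_pow_self 2 h7.ne') _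
    exact le_sup_left.trans (relIndex_eq_one.1 h5)
  refine eq_bot_of_fix h.faith h.irr ?_ h.x1 fun n hn => h.tx n (h1 hn)
  rw [← normalizer_eq_top_iff, eq_top_iff]
  exact le_normalizer_o2 _

/-- a normal subgroup has no normal 2-subgroup -/
theorem bot_of_norm {N Q : Subgroup H} (hN : N.Normal) (hQN : Q ≤ N) (hQ : IsPGroup 2 Q)
    (hn : N ≤ normalizer (Q : Set H)) : Q = ⊥ := by
  have h1 := le_o2_top hN hQN hQ hn
  rw [o2_top h] at h1
  exact le_bot_iff.1 h1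

theorem comm_sub {N : Subgroup H} (hN : N.Normal) (hA : A ≤ centralizer (N : Set H)) :
    N ≤ centralizer (normalClosure (A : Set H) : Set H) := by
  have h1 : normalClosure (A : Set H) ≤ centralizer (N : Set H) := by
    have : (centralizer (N : Set H)).Normal := inferInstance
    exact normalClosure_le_normal hA
  intro n hn
  rw [mem_centralizer_iff]
  intro k hk
  exact (mem_centralizer_iff.1 (h1 hk) n hn).symm

/-- `N ∩ O₂(R) = 1` for `N ⊴ H`, `N ≤ R` -/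
theorem inf_o2 {N R : Subgroup H} (hN : N.Normal) (hNR : N ≤ R) : N ⊓ o2 R = ⊥ := by
  refine bot_of_norm h hN inf_le_left ((o2_isPGroup _).to_le inf_le_right) ?_
  intro n hn
  have h3 := le_normalizer_o2 R (hNR hn)
  rw [mem_normalizer_iff] at h3 ⊢
  intro z
  constructor
  · rintro ⟨hz1, hz2⟩
    exact ⟨hN.conj_mem z hz1 n, (h3 z).1 hz2⟩
  · rintro ⟨hz1, hz2⟩
    refine ⟨?_, (h3 z).2 hz2⟩
    have := hN.conj_mem _ hz1 n⁻¹
    have h6 : n⁻¹ * (n * z * n⁻¹) * n⁻¹⁻¹ = z := by group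
    rwa [h6] at this

/-- `[N, A] = 1` if `NT < H` -/
theorem comm_of_ne {N : Subgroup H} (hN : N.Normal) (hne : N ⊔ T ≠ ⊤) : A ≤ centralizer (N : Set H) := by
  have h1 := h.low (N ⊔ T) le_sup_right hne
  have h2 : N ⊓ o2 (N ⊔ T) = ⊥ := inf_o2 h hN le_sup_left
  intro a ha
  rw [mem_centralizer_iff]
  intro n hn
  have h3 : n * a * n⁻¹ * a⁻¹ ∈ N ⊓ o2 (N ⊔ T) := by
    constructor
    · have h4 : a * n⁻¹ * a⁻¹ ∈ N := hN.conj_mem _ (inv_mem hn) a
      have h5 : n * a * n⁻¹ * a⁻¹ = n * (a * n⁻¹ * a⁻¹) := by group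
      rw [h5]
      exact N.mul_mem hn h4
    · exact (o2 (N ⊔ T)).mul_mem ((mem_normalizer_iff.1 (le_normalizer_o2 (N ⊔ T) (mem_sup_left hn)) a).1 (h1 ha))
        ((o2 (N ⊔ T)).inv_mem (h1 ha))
  rw [h2, mem_bot] at h3
  have h4 : n * a = (n * a * n⁻¹ * a⁻¹) * (a * n) := by group
  rw [h4, h3, one_mul]

/-- `H = ⟨A^H⟩T` -/
theorem sup_closure : normalClosure (A : Set H) ⊔ T = ⊤ := by
  by_contra hne
  have h2 := h.low _ le_sup_right hne
  have h3 : normalClosure (A : Set H) ⊓ o2 (normalClosure (A : Set H) ⊔ T) = ⊥ :=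
    inf_o2 h inferInstance le_sup_left
  apply h.A1
  rw [eq_bot_iff, ← h3]
  exact le_inf subset_normalClosure h2

/-- a subgroup of `N` which is normalised by `T` is normal in `H` if `N` is centralised by `A` -/
theorem normal_of {N Y : Subgroup H} (hN : N.Normal) (hA : A ≤ centralizer (N : Set H)) (hYN : Y ≤ N)
    (hT : ∀ t ∈ T, ∀ y ∈ Y, t * y * t⁻¹ ∈ Y) : Y.Normal := by
  have hc := comm_sub h hN hA
  refine normal_of_sup (sup_closure h) ?_ ?_
  · intro k hk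
    rw [mem_normalizer_iff]
    intro z
    have h6 : ∀ z ∈ N, k * z * k⁻¹ = z := fun z hz => by
      rw [mem_centralizer_iff.1 (hc hz) k hk, mul_inv_cancel_right]
    constructor
    · intro hz
      rwa [h6 z (hYN hz)]
    · intro hz
      have h7 : k * (k * z * k⁻¹) * k⁻¹ = k * z * k⁻¹ := h6 _ (hYN hz)
      have h8 : k * z * k⁻¹ = z := by
        have h9 := congrArg (fun w => k⁻¹ * w * k) h7
        simpa only [mul_assoc, _root_.inv_mul_cancel_left, _root_.inv_mul_cancel, _root_.mul_one] using h9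
      rwa [h8] at hz
  · intro t ht
    rw [mem_normalizer_iff]
    intro z
    refine ⟨hT t ht z, fun hz => ?_⟩
    have h7 : t⁻¹ * (t * z * t⁻¹) * t⁻¹⁻¹ = z := by group
    rw [← h7]
    exact hT t⁻¹ (inv_mem ht) _ hz

/-- a `T`-minimal `P ≤ NT` fixes no vector `≠ 1` if the normal subgroup `N` is centralised by `A` -/
theorem inf_min {N : Subgroup H} (hN : N.Normal) (hA : A ≤ centralizer (N : Set H)) {P : Subgroup H}
    (hP : IsMinPar T P) (hPN : P ≤ N ⊔ T) {v : M} (hv : v ≠ 1) : ∃ p ∈ P, p • v ≠ v := by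
  by_contra hc
  push Not at hc
  have h5 : (P ⊓ N).Normal := by
    refine normal_of h hN hA inf_le_right fun t ht y hy => ?_
    exact ⟨P.mul_mem (P.mul_mem (hP.le ht) hy.1) (P.inv_mem (hP.le ht)), hN.conj_mem y hy.2 t⟩
  have h6 : P ⊓ N = ⊥ := eq_bot_of_fix h.faith h.irr h5 hv fun n hn => hc n hn.1
  have h4 := dedekind hN hP.le hPN
  rw [h6, bot_sup_eq] at h4
  exact hP.ne h4

/-- `N ∩ N_H(T)` fixes no vector `≠ 1`, or is trivial -/
theorem inf_norm {N : Subgroup H} (hN : N.Normal) (hA : A ≤ centralizer (N : Set H)) {v : M} (hv : v ≠ 1)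
    (hf : ∀ n ∈ N ⊓ normalizer (T : Set H), n • v = v) : N ⊓ normalizer (T : Set H) = ⊥ := by
  refine eq_bot_of_fix h.faith h.irr ?_ hv hf
  refine normal_of h hN hA inf_le_left fun t ht y hy => ?_
  refine ⟨hN.conj_mem y hy.1 t, ?_⟩
  have h1 : t ∈ normalizer (T : Set H) := le_normalizer ht
  have h2 : y ∈ normalizer (T : Set H) := hy.2
  change t * y * t⁻¹ ∈ normalizer (T : Set H)
  exact mul_mem (mul_mem h1 h2) (inv_mem h1)

/-- **no non-trivial normal subgroup is centralised by `A`** -/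
theorem bot_of_comm (nf : (∃ n ∈ normalizer (T : Set H), n • x ≠ x) → ∃ v : M, v ≠ 1 ∧
      ∀ n ∈ normalizer (T : Set H), n • v = v)
    (pf : ∀ P : Subgroup H, IsMinPar T P → (∃ p ∈ P, p • x ≠ x) → ∃ v : M, v ≠ 1 ∧ ∀ p ∈ P, p • v = v)
    {N : Subgroup H} (hN : N.Normal) (hA : A ≤ centralizer (N : Set H)) : N = ⊥ := by
  by_cases hfix : ∀ n ∈ N, n • x = x
  · exact eq_bot_of_fix h.faith h.irr hN h.x1 hfix
  exfalso
  push Not at hfix
  obtain ⟨n, hn, hnx⟩ := hfix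
  refine hnx (MulAction.mem_stabilizer_iff.1 ((?_ : N ⊔ T ≤ MulAction.stabilizer H x) (mem_sup_left hn)))
  refine le_of_forall (S := T) le_sup_right ?_ ?_
  · intro g hg
    have hg1 : g ∈ N ⊔ T := hg.1
    have hg2 : g ∈ normalizer (T : Set H) := hg.2
    rw [MulAction.mem_stabilizer_iff]
    by_contra hgx
    obtain ⟨v, hv, hvf⟩ := nf ⟨g, hg2, hgx⟩
    have h1 := inf_norm h hN hA hv fun n hn => hvf n hn.2
    rw [mem_sup_of_normal_left] at hg1
    obtain ⟨a, ha, t, ht, rfl⟩ := hg1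
    have h3 : t ∈ normalizer (T : Set H) := le_normalizer ht
    have h2 : a ∈ N ⊓ normalizer (T : Set H) := by
      refine ⟨ha, ?_⟩
      change a ∈ normalizer (T : Set H)
      have := mul_mem hg2 (inv_mem h3)
      rwa [mul_inv_cancel_right] at this
    rw [h1, mem_bot] at h2
    apply hgx
    rw [h2, one_mul, h.tx t ht]
  · intro P hP hPN p hp
    rw [MulAction.mem_stabilizer_iff]
    by_contra hpx
    obtain ⟨v, hv, hvf⟩ := pf P hP ⟨p, hp, hpx⟩
    obtain ⟨q, hq, hqv⟩ := inf_min h hN hA hP hPN hv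
    exact hqv (hvf q hq)

/-- **a normal subgroup of odd order is centralised by `A`** -/
theorem comm_of_odd {E : Subgroup H} (hE : E.Normal) (hodd : Odd (Nat.card E)) : A ≤ centralizer (E : Set H) := by
  by_cases hET : E ⊔ T = ⊤
  swap
  · exact comm_of_ne h hE hET
  have htriv : ∀ z : H, z ∈ E → ∀ Q : Subgroup H, IsPGroup 2 Q → z ∈ Q → z = 1 := by
    intro z hz Q hQ hzQ
    obtain ⟨k, hk⟩ := hQ ⟨z, hzQ⟩
    have h1 : z ^ 2 ^ k = 1 := congrArg Subtype.val hk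
    have h2 : orderOf z ∣ 2 ^ k := orderOf_dvd_of_pow_eq_one h1
    have h3 : orderOf z ∣ Nat.card E := by
      have h4 : orderOf (⟨z, hz⟩ : E) ∣ Nat.card E := _root_.orderOf_dvd_natCard _
      rwa [← orderOf_submonoid] at h4
    have h4 : Nat.Coprime (2 ^ k) (Nat.card E) := (Nat.coprime_two_left.2 hodd).pow_left k
    rw [← orderOf_eq_one_iff]
    exact Nat.eq_one_of_dvd_coprimes h4 h2 h3
  -- the subgroup `D` of `E` centralised by all `T`-conjugates of `A`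
  let D : Subgroup H := E ⊓ centralizer {z : H | ∃ t ∈ T, ∃ a ∈ A, z = t * a * t⁻¹}
  have hDT : ∀ s ∈ T, ∀ d ∈ D, s * d * s⁻¹ ∈ D := by
    intro s hs d hd
    refine ⟨hE.conj_mem d hd.1 s, mem_centralizer_iff.2 ?_⟩
    rintro _ ⟨t, ht, a, ha, rfl⟩
    have h1 := mem_centralizer_iff.1 hd.2 _ ⟨s⁻¹ * t, mul_mem (inv_mem hs) ht, a, ha, rfl⟩
    have h2 := congrArg (fun w => s * w * s⁻¹) h1
    simp only [mul_inv_rev, inv_inv] at h2
    calc t * a * t⁻¹ * (s * d * s⁻¹) = s * (s⁻¹ * t * a * (t⁻¹ * s) * d) * s⁻¹ := by group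
      _ = s * (d * (s⁻¹ * t * a * (t⁻¹ * s))) * s⁻¹ := h2
      _ = s * d * s⁻¹ * (t * a * t⁻¹) := by group
  have hDn : T ≤ normalizer (D : Set H) := by
    intro s hs
    rw [mem_normalizer_iff]
    intro z
    refine ⟨hDT s hs z, fun hz => ?_⟩
    have h1 := hDT s⁻¹ (inv_mem hs) _ hz
    have h2 : s⁻¹ * (s * z * s⁻¹) * s⁻¹⁻¹ = z := by group
    rwa [h2] at h1
  have hDT' : D ⊔ T = ⊤ := by
    by_contra hne
    refine h.nmax ⟨D ⊔ T, hne, ?_⟩
    intro R hTR hR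
    have h1 : R ⊓ E ⊔ T = R := dedekind hE hTR (by rw [hET]; exact le_top)
    rw [← h1]
    refine sup_le_sup_right ?_ T
    intro e he
    refine ⟨he.2, mem_centralizer_iff.2 ?_⟩
    rintro _ ⟨t, ht, a, ha, rfl⟩
    have h2 := h.low R hTR hR ha
    have h3 : t * a * t⁻¹ ∈ o2 R := (mem_normalizer_iff.1 (le_normalizer_o2 R (hTR ht)) a).1 h2
    set b := t * a * t⁻¹ with hb
    have h4 : e * b * e⁻¹ ∈ o2 R := (mem_normalizer_iff.1 (le_normalizer_o2 R he.1) b).1 h3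
    have h5 : e * b * e⁻¹ * b⁻¹ = 1 := by
      refine htriv _ ?_ (o2 R) (o2_isPGroup R) (mul_mem h4 (inv_mem h3))
      have h6 : b * e⁻¹ * b⁻¹ ∈ E := hE.conj_mem _ (inv_mem he.2) b
      have h7 : e * b * e⁻¹ * b⁻¹ = e * (b * e⁻¹ * b⁻¹) := by group
      rw [h7]
      exact mul_mem he.2 h6
    have h6 : e * b = (e * b * e⁻¹ * b⁻¹) * (b * e) := by group
    rw [h6, h5, one_mul]
  intro a ha
  rw [mem_centralizer_iff]
  intro e he
  have h1 : e ∈ D ⊔ T := hDT' ▸ mem_top e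
  have h2 : e ∈ ((D ⊔ T : Subgroup H) : Set H) := h1
  rw [coe_mul_of_right_le_normalizer_left D T hDn] at h2
  obtain ⟨d, hd, t, ht, rfl⟩ := h2
  have h3 : t ∈ E := by
    have := E.mul_mem (E.inv_mem hd.1) he
    simpa using this
  have h4 : t = 1 := htriv t h3 T h.two ht
  rw [h4]
  simp only [mul_one]
  have h5 := mem_centralizer_iff.1 hd.2 a ⟨1, one_mem T, a, ha, by group⟩
  exact h5.symm

/-- **`H` has no normal subgroup `≠ 1` of odd order** -/
theorem odd_of (nf : (∃ n ∈ normalizer (T : Set H), n • x ≠ x) → ∃ v : M, v ≠ 1 ∧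
      ∀ n ∈ normalizer (T : Set H), n • v = v)
    (pf : ∀ P : Subgroup H, IsMinPar T P → (∃ p ∈ P, p • x ≠ x) → ∃ v : M, v ≠ 1 ∧ ∀ p ∈ P, p • v = v) :
    ∀ N : Subgroup H, N.Normal → Odd (Nat.card N) → N = ⊥ :=
  fun _ hN hodd => bot_of_comm h nf pf hN (comm_of_odd h hN hodd)

end Core

end Cfsg.Agent.Omega.ML.Ex.OddCore

end

section


/-!
# The K-list for EXACT subgroups: small involutions of `K` (helper815)

* **`ASx.exists_comm`** : `1 ≠ a ∈ A` : there are `T ≤ R < X` and `k ∈ R ∩ S` with `1 ≠ [a, k] ∈ O₂(R) ∩ S`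
  (otherwise `a` centralises `R ∩ S` for all overgroups `R` of `T`; the join of these groups is normal);
* **`InX.exists_inv`** : `1 ≠ a ∈ A` : `K` has an involution `x` with `|M : C_M(x)| ≤ |M : C_M(a)|²`.
  So `A ∩ K = 1` is impossible if `|M : C_M(x)| > |A|²` for the involutions of `K`.
-/

set_option autoImplicit false

namespace Cfsg.Agent.Omega.ML.Ex.OutX

open Subgroup Cfsg Cfsg.Agent.ZN Cfsg.Agent.Omega.NOThree.NoOver Cfsg.Agent.Omega.ML.CD
open Cfsg.Agent.ClassTwoFusion.Quad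
open Cfsg.Agent.MinSimple.VModule (o2_isPGroup o2_le le_o2 le_normalizer_o2)

universe u v

theorem exists_comm {X : Type u} [Group X] {S T A : Subgroup X} (h : ASx S T A) {a : X} (ha : a ∈ A)
    (ha1 : a ≠ 1) :
    ∃ R : Subgroup X, T ≤ R ∧ R ≠ ⊤ ∧ ∃ k ∈ R, k ∈ S ∧ a * k * a⁻¹ * k⁻¹ ≠ 1 ∧
      a * k * a⁻¹ * k⁻¹ ∈ o2 R ∧ a * k * a⁻¹ * k⁻¹ ∈ S := by
  by_contra hc
  push Not at hc
  have hSn := h.norm
  -- `a` centralises `R ∩ S`
  have h1 : ∀ R : Subgroup X, T ≤ R → R ≠ ⊤ → ∀ k ∈ R, k ∈ S → k * a = a * k := by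
    intro R hTR hR k hk hkS
    have haR : a ∈ o2 R := h.low R hTR hR ha
    have h2 : a * k * a⁻¹ * k⁻¹ ∈ o2 R := by
      have h3 : k * a⁻¹ * k⁻¹ ∈ o2 R := (mem_normalizer_iff.1 (le_normalizer_o2 R hk) a⁻¹).1 (inv_mem haR)
      have := mul_mem haR h3
      simpa only [mul_assoc] using this
    have h4 : a * k * a⁻¹ * k⁻¹ ∈ S := mul_mem (hSn.conj_mem k hkS a) (inv_mem hkS)
    have h5 : a * k * a⁻¹ * k⁻¹ = 1 := by
      by_contra h6
      exact hc R hTR hR k hk hkS h6 h2 h4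
    have h6 : a * k * a⁻¹ = k := mul_inv_eq_one.1 h5
    exact (mul_inv_eq_iff_eq_mul.1 h6).symm
  -- the join
  let 𝒬 : Set (Subgroup X) := {Q | ∃ R : Subgroup X, T ≤ R ∧ R ≠ ⊤ ∧ Q = R ⊓ S}
  let N : Subgroup X := sSup 𝒬
  have hNS : N ≤ S := sSup_le fun Q ⟨R, _, _, hQ⟩ => hQ ▸ inf_le_right
  have hNa : N ≤ centralizer ({a} : Set X) := sSup_le fun Q ⟨R, hTR, hR, hQ⟩ => by
    rw [hQ]
    intro k hk
    exact mem_centralizer_singleton_iff.2 (h1 R hTR hR k hk.1 hk.2)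
  have hTN : T ≤ normalizer (N : Set X) := by
    intro t ht
    have h2 : N.map (MulAut.conj t).toMonoidHom ≤ N := by
      rw [map_le_iff_le_comap]
      refine sSup_le ?_
      rintro Q ⟨R, hTR, hR, rfl⟩ k hk
      exact (le_sSup (⟨R, hTR, hR, rfl⟩ : R ⊓ S ∈ 𝒬) : R ⊓ S ≤ N)
        ⟨R.mul_mem (R.mul_mem (hTR ht) hk.1) (R.inv_mem (hTR ht)), hSn.conj_mem k hk.2 t⟩
    have h2' : N.map (MulAut.conj t⁻¹).toMonoidHom ≤ N := by
      rw [map_le_iff_le_comap]
      refine sSup_le ?_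
      rintro Q ⟨R, hTR, hR, rfl⟩ k hk
      exact (le_sSup (⟨R, hTR, hR, rfl⟩ : R ⊓ S ∈ 𝒬) : R ⊓ S ≤ N)
        ⟨R.mul_mem (R.mul_mem (hTR (inv_mem ht)) hk.1) (R.inv_mem (hTR (inv_mem ht))), hSn.conj_mem k hk.2 t⁻¹⟩
    rw [mem_normalizer_iff]
    intro g
    constructor
    · intro hg
      exact h2 ⟨g, hg, rfl⟩
    · intro hg
      have h3 := h2' ⟨_, hg, rfl⟩
      have h4 : (MulAut.conj t⁻¹).toMonoidHom (t * g * t⁻¹) = g := by
        show t⁻¹ * (t * g * t⁻¹) * t⁻¹⁻¹ = g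
        group
      rwa [h4] at h3
  have hle : ∀ R : Subgroup X, T ≤ R → R ≠ ⊤ → R ≤ N ⊔ T := by
    intro R hTR hR r hr
    have h2 : r ∈ S ⊔ T := h.gen ▸ mem_top r
    obtain ⟨s, hs, t, ht, rfl⟩ := mem_sup_of_normal_left.1 h2
    have h3 : s ∈ R := by
      have := mul_mem hr (inv_mem (hTR ht))
      rwa [mul_inv_cancel_right] at this
    have h4 : s ∈ N := (le_sSup (⟨R, hTR, hR, rfl⟩ : R ⊓ S ∈ 𝒬) : R ⊓ S ≤ N) ⟨h3, hs⟩
    exact mul_mem (mem_sup_left h4) (mem_sup_right ht)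
  have htop : N ⊔ T = ⊤ := by
    by_contra h2
    exact h.nmax ⟨N ⊔ T, h2, hle⟩
  have hNn : N.Normal := by
    rw [← normalizer_eq_top_iff, eq_top_iff, ← htop]
    exact sup_le le_normalizer hTN
  have hsim := h.simple
  rcases hsim.eq_bot_or_eq_top_of_normal (N.subgroupOf S) inferInstance with h2 | h2
  · have h3 : N = ⊥ := by
      rw [subgroupOf_eq_bot] at h2
      exact h2.eq_bot_of_le hNS
    rw [h3, bot_sup_eq] at htop
    exact h.ne_top htop
  · have h3 : S ≤ N := subgroupOf_eq_top.1 h2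
    have h4 : a ∈ centralizer (S : Set X) := by
      rw [mem_centralizer_iff]
      intro s hs
      exact mem_centralizer_singleton_iff.1 (hNa (h3 hs))
    rw [h.cen] at h4
    exact ha1 (mem_bot.1 h4)

section module

variable {H : Type u} [Group H] {M : Type v} [Group M] [MulDistribMulAction H M] {K T A : Subgroup H}

end module

end Cfsg.Agent.Omega.ML.Ex.OutX

end
end

private theorem dce_7d7953fef305 : _root_.True := by
  try have : _root_.True := by simp only [_root_.Cfsg.Agent.Omega.ML.Ex.UThreeGrp.t1Mat.eq_1]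
  try have : _root_.True := by simp only [_root_.Cfsg.Agent.Omega.ML.Ex.IrrAB.nrm.congr_simp]
  exact _root_.True.intro
end

-- part: Omega/EH3/CoTwo/Facts
section
prune_inst 0x30302504552210000018000020001c42fa000002000b000020400800058d0c4380400620f2e003100002804400340068139c0010420000000a008400411c008004801206b048a000000006002802000000000000000000000000000000000000000000000
set_option linter.all false
open scoped Cfsg.Agent.FastGrp

-- merged: Cfsg.Agent.Omega.EH3.CoTwo.Tri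
section

/-!
# EH3: the trilinear form (helper665, for the row `Co₂`)

For the configuration `C : Cfg ρ b q a D X w` : `D^⊥ = D`, `(a^⊥)^⊥ = ⟨a⟩`, `C_V(X) = {0, a}`,
`σ : X → a^⊥/D` is bijective, and `T c x y t = b([c, x, y], [c, t])` is symmetric, alternating, additive in each
variable, independent of `c ∉ a^⊥` and nondegenerate.
-/

set_option autoImplicit false
set_option linter.unusedSectionVars false
set_option linter.unusedVariables false

namespace Cfsg.Agent.Omega.EH3.CoTwo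

open Subgroup Cfsg.Agent.Omega.EH3

variable {H V : Type*} [Group H] [AddCommGroup V] [Module (ZMod 2) V]
  {ρ : H →* (V ≃ₗ[ZMod 2] V)} {b : LinearMap.BilinForm (ZMod 2) V} {q : V → ZMod 2}
  {a : V} {D : Submodule (ZMod 2) V} {X : Subgroup H} {w : ℕ}

/-- `[v, x] = x v + v`. -/
def cm (ρ : H →* (V ≃ₗ[ZMod 2] V)) (x : H) (v : V) : V := ρ x v + v

theorem cm_add (x : H) (u v : V) : cm ρ x (u + v) = cm ρ x u + cm ρ x v := by
  unfold cm; rw [map_add]; abel

theorem cm_zero (x : H) : cm ρ x (0 : V) = 0 := by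
  unfold cm; rw [map_zero, add_zero]

/-- `T c x y t = b([c, x, y], [c, t])`. -/
def TT (ρ : H →* (V ≃ₗ[ZMod 2] V)) (b : LinearMap.BilinForm (ZMod 2) V) (c : V) (x y t : H) :
    ZMod 2 := b (cm ρ y (cm ρ x c)) (cm ρ t c)

theorem cm_eq_zero_iff (C : Cfg ρ b q a D X w) {x : H} {v : V} : cm ρ x v = 0 ↔ ρ x v = v :=
  C.add_eq_zero

theorem cm_mul (C : Cfg ρ b q a D X w) (x y : H) (v : V) :
    cm ρ (x * y) v = cm ρ x v + cm ρ y v + cm ρ x (cm ρ y v) := by
  unfold cm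
  rw [C.ρ_mul, map_add]
  have h2 : ρ x v + v + (ρ y v + v) + (ρ x (ρ y v) + ρ x v + (ρ y v + v)) =
      ρ x (ρ y v) + v + (ρ x v + ρ x v) + (v + v) + (ρ y v + ρ y v) := by abel
  rw [h2, C.add_self (ρ x v), C.add_self v, C.add_self (ρ y v), add_zero, add_zero, add_zero]

theorem cm_conj (C : Cfg ρ b q a D X w) (h x : H) (v : V) :
    cm ρ (h * x * h⁻¹) (ρ h v) = ρ h (cm ρ x v) := by
  unfold cm
  rw [map_add, ← C.ρ_mul, ← C.ρ_mul, inv_mul_cancel_right]

theorem cm_comm (C : Cfg ρ b q a D X w) {x y : H} (hxy : x * y = y * x) (v : V) :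
    cm ρ x (cm ρ y v) = cm ρ y (cm ρ x v) := by
  unfold cm
  rw [map_add, map_add, ← C.ρ_mul, ← C.ρ_mul, hxy]
  abel

theorem cm_self (C : Cfg ρ b q a D X w) {x : H} (hx : x ∈ X) (v : V) : cm ρ x (cm ρ x v) = 0 := by
  rw [cm_eq_zero_iff C]
  exact C.X_fix_delta hx v

/-- `b([u, x], v) = b(u, [v, x])`. -/
theorem b_cm (C : Cfg ρ b q a D X w) {x : H} (hx : x ∈ X) (u v : V) :
    b (cm ρ x u) v = b u (cm ρ x v) := by
  have h := C.b_inv x u (ρ x v)
  rw [← C.ρ_mul, C.X_sq x hx, C.ρ_one] at h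
  unfold cm
  rw [map_add, map_add, LinearMap.add_apply, h]

theorem cm_perp (C : Cfg ρ b q a D X w) {x : H} (hx : x ∈ X) (v : V) : b a (cm ρ x v) = 0 :=
  C.b_a_delta (C.X_a hx) v

theorem cm_D (C : Cfg ρ b q a D X w) {x : H} (hx : x ∈ X) {d : V} (hd : d ∈ D) :
    cm ρ x d = 0 ∨ cm ρ x d = a := by
  rcases C.X_D x hx d hd with h | h
  · left; exact (cm_eq_zero_iff C).2 h
  · right
    unfold cm
    rw [h, add_comm d a, add_assoc, C.add_self, add_zero]

theorem cm_P (C : Cfg ρ b q a D X w) {x : H} (hx : x ∈ X) {v : V} (hv : b a v = 0) :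
    cm ρ x v ∈ D := C.X_perp x hx v hv

theorem cm_a (C : Cfg ρ b q a D X w) {x : H} (hx : x ∈ X) : cm ρ x a = 0 :=
  (cm_eq_zero_iff C).2 (C.X_a hx)

/-- `(a^⊥)^⊥ = ⟨a⟩`. -/
theorem mem_a (C : Cfg ρ b q a D X w) {v : V} (h : ∀ u, b a u = 0 → b u v = 0) :
    v = 0 ∨ v = a := by
  obtain ⟨c, hc⟩ := C.exists_off
  have h2 : ∀ u, b u v = b c v * b a u := by
    intro u
    rcases zmod_two (b a u) with h3 | h3
    · rw [h u h3, h3, mul_zero]
    · have h4 : b a (u + c) = 0 := by rw [map_add, h3, hc]; decide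
      have h5 := h _ h4
      rw [map_add, LinearMap.add_apply] at h5
      have h6 : ∀ r s : ZMod 2, r + s = 0 → r = s * 1 := by decide
      rw [h3]
      exact h6 _ _ h5
  rcases zmod_two (b c v) with h3 | h3
  · left
    apply C.nondeg
    intro u
    rw [C.b_comm, h2, h3, zero_mul]
  · right
    rw [← C.add_eq_zero]
    apply C.nondeg
    intro u
    rw [C.b_comm, map_add, h2, h3, one_mul, C.b_comm u a]
    exact CharTwo.add_self_eq_zero _

theorem nondeg (C : Cfg ρ b q a D X w) : b.Nondegenerate :=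
  ⟨fun v h => C.nondeg v h, fun v h => C.nondeg v fun u => by rw [C.b_comm]; exact h u⟩

theorem finrank_V (C : Cfg ρ b q a D X w) : Module.finrank (ZMod 2) V = 2 * w := by
  have := C.finite_V
  have h1 := Module.natCard_eq_pow_finrank (K := ZMod 2) (V := V)
  rw [C.card_V, Nat.card_zmod] at h1
  exact (Nat.pow_right_injective le_rfl h1).symm

theorem finrank_D (C : Cfg ρ b q a D X w) : Module.finrank (ZMod 2) D = w := by
  have := C.finite_V
  have h1 := Module.natCard_eq_pow_finrank (K := ZMod 2) (V := D)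
  rw [C.card_D, Nat.card_zmod] at h1
  exact (Nat.pow_right_injective le_rfl h1).symm

/-- `D^⊥ = D`. -/
theorem perp_D (C : Cfg ρ b q a D X w) {v : V} (h : ∀ d ∈ D, b d v = 0) : v ∈ D := by
  have := C.finite_V
  have h1 := LinearMap.BilinForm.finrank_orthogonal (nondeg C) D
  rw [finrank_V C, finrank_D C] at h1
  have h2 : D ≤ b.orthogonal D := by
    intro d hd
    rw [LinearMap.BilinForm.mem_orthogonal_iff]
    intro e he
    exact C.b_D he hd
  have h3 : D = b.orthogonal D :=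
    Submodule.eq_of_le_of_finrank_le h2 (by rw [h1, finrank_D C]; omega)
  rw [h3, LinearMap.BilinForm.mem_orthogonal_iff]
  exact h

/-- the hyperplane `a^⊥`. -/
def aP (b : LinearMap.BilinForm (ZMod 2) V) (a : V) : Submodule (ZMod 2) V := LinearMap.ker (b a)

theorem mem_aP {v : V} : v ∈ aP b a ↔ b a v = 0 := LinearMap.mem_ker

theorem card_aP (C : Cfg ρ b q a D X w) : Nat.card (aP b a) = 2 ^ (2 * w - 1) := by
  have := C.finite_V
  have h1 := LinearMap.finrank_range_add_finrank_ker (b a)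
  have h2 : LinearMap.range (b a) = ⊤ := by
    rw [LinearMap.range_eq_top]
    intro r
    obtain ⟨c, hc⟩ := C.exists_off
    refine ⟨r • c, ?_⟩
    rw [map_smul, hc, smul_eq_mul, mul_one]
  rw [h2, finrank_top, Module.finrank_self, finrank_V C] at h1
  have h3 := Module.natCard_eq_pow_finrank (K := ZMod 2) (V := aP b a)
  rw [h3, Nat.card_zmod]
  congr 1
  unfold aP
  omega

/-- **`σ` is surjective**: `a^⊥ = {[c, y] + d}`. -/
theorem exists_sigma (C : Cfg ρ b q a D X w) {c : V} (hc : b a c = 1) {v : V} (hv : b a v = 0) :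
    ∃ y ∈ X, v + cm ρ y c ∈ D := by
  classical
  have := C.finite_V
  have := C.finite_H
  let f : X × D → aP b a := fun p =>
    ⟨cm ρ (p.1 : H) c + p.2, by
      rw [mem_aP, map_add, cm_perp C p.1.2, C.b_aD p.2.2, add_zero]⟩
  have hf : Function.Injective f := by
    rintro ⟨x, d⟩ ⟨y, e⟩ h
    have h1 : cm ρ (x : H) c + (d : V) = cm ρ (y : H) c + e := congrArg Subtype.val h
    have h2 : cm ρ ((x : H) * y) c ∈ D := by
      rw [cm_mul C]
      refine D.add_mem ?_ (cm_P C x.2 (cm_perp C y.2 c))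
      have h3 : cm ρ (x : H) c + cm ρ (y : H) c = (d : V) + e := by
        have h4 : cm ρ (x : H) c + cm ρ (y : H) c = (cm ρ (x : H) c + (d : V)) + d + cm ρ (y : H) c := by
          rw [C.add_add_self]
        rw [h4, h1]
        have h5 : cm ρ (y : H) c + (e : V) + d + cm ρ (y : H) c =
          (d : V) + e + (cm ρ (y : H) c + cm ρ (y : H) c) := by abel
        rw [h5, C.add_self, add_zero]
      rw [h3]
      exact D.add_mem d.2 e.2
    have h3 := C.X_semi _ (X.mul_mem x.2 y.2) c hc h2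
    have h4 : (x : H) = y := by
      rw [← C.X_inv y.2]
      exact eq_inv_of_mul_eq_one_left h3
    have h5 : x = y := Subtype.ext h4
    subst h5
    have h6 : (d : V) = e := add_left_cancel h1
    have h7 : d = e := Subtype.ext h6
    rw [h7]
  have hcard : Nat.card (X × D) = Nat.card (aP b a) := by
    rw [Nat.card_prod, C.card_X, C.card_D, card_aP C, ← pow_add]
    congr 1
    have := C.five
    omega
  have hb := (Nat.bijective_iff_injective_and_card f).2 ⟨hf, hcard⟩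
  obtain ⟨⟨y, d⟩, hyd⟩ := hb.2 ⟨v, mem_aP.2 hv⟩
  refine ⟨y, y.2, ?_⟩
  have h1 : cm ρ (y : H) c + (d : V) = v := congrArg Subtype.val hyd
  rw [← h1, add_comm (cm ρ (y : H) c) (d : V), C.add_add_self]
  exact d.2

/-! ### The trilinear form -/

section TT

variable (C : Cfg ρ b q a D X w) {c : V} (hc : b a c = 1)

include C in
theorem cmcm_mem {x y : H} (hx : x ∈ X) (hy : y ∈ X) (v : V) : cm ρ y (cm ρ x v) ∈ D :=
  cm_P C hy (cm_perp C hx v)

include C in
theorem b_D_cmcm {x y : H} (hx : x ∈ X) (hy : y ∈ X) {d : V} (hd : d ∈ D) (v : V) :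
    b (cm ρ y (cm ρ x v)) d = 0 := C.b_D (cmcm_mem C hx hy v) hd

include C in
/-- `b([c, x, y], v)` only depends on `v` mod `D`; and `b(⟨a⟩, [·, t]) = 0`. -/
theorem b_zero_a {e v : V} (he : e = 0 ∨ e = a) (hv : b a v = 0) : b e v = 0 := by
  rcases he with rfl | rfl
  · simp
  · exact hv

include C in
theorem TT_comm12 {x y t : H} (hx : x ∈ X) (hy : y ∈ X) : TT ρ b c x y t = TT ρ b c y x t := by
  unfold TT
  rw [cm_comm C (C.X_comm hx hy)]

include C in
theorem TT_comm13 {x y t : H} (hx : x ∈ X) (hy : y ∈ X) (ht : t ∈ X) :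
    TT ρ b c x y t = TT ρ b c t y x := by
  unfold TT
  rw [b_cm C hy, C.b_comm]

include C in
theorem TT_comm23 {x y t : H} (hx : x ∈ X) (hy : y ∈ X) (ht : t ∈ X) :
    TT ρ b c x y t = TT ρ b c x t y := by
  rw [TT_comm13 C hx hy ht, TT_comm12 C ht hy, TT_comm13 C hy ht hx]

include C in
theorem TT_self12 {x t : H} (hx : x ∈ X) : TT ρ b c x x t = 0 := by
  unfold TT
  rw [cm_self C hx]
  simp

include C in
theorem TT_self13 {x y : H} (hx : x ∈ X) (hy : y ∈ X) : TT ρ b c x y x = 0 := by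
  rw [TT_comm23 C hx hy hx]
  exact TT_self12 C hx

include C in
theorem TT_self23 {x y : H} (hx : x ∈ X) (hy : y ∈ X) : TT ρ b c x y y = 0 := by
  rw [TT_comm12 C hx hy]
  exact TT_self13 C hy hx

include C in
theorem TT_mul1 {x x' y t : H} (hx : x ∈ X) (hx' : x' ∈ X) (hy : y ∈ X) (ht : t ∈ X) :
    TT ρ b c (x * x') y t = TT ρ b c x y t + TT ρ b c x' y t := by
  unfold TT
  rw [cm_mul C, cm_add, cm_add, map_add, map_add, LinearMap.add_apply, LinearMap.add_apply]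
  have h1 : b (cm ρ y (cm ρ x (cm ρ x' c))) (cm ρ t c) = 0 :=
    b_zero_a C (cm_D C hy (cmcm_mem C hx' hx c)) (cm_perp C ht c)
  rw [h1, add_zero]

include C in
theorem TT_mul2 {x y y' t : H} (hx : x ∈ X) (hy : y ∈ X) (hy' : y' ∈ X) (ht : t ∈ X) :
    TT ρ b c x (y * y') t = TT ρ b c x y t + TT ρ b c x y' t := by
  rw [TT_comm12 C hx (X.mul_mem hy hy'), TT_mul1 C hy hy' hx ht, TT_comm12 C hy hx,
    TT_comm12 C hy' hx]

include C in
theorem TT_mul3 {x y t t' : H} (hx : x ∈ X) (hy : y ∈ X) (ht : t ∈ X) (ht' : t' ∈ X) :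
    TT ρ b c x y (t * t') = TT ρ b c x y t + TT ρ b c x y t' := by
  rw [TT_comm13 C hx hy (X.mul_mem ht ht'), TT_mul1 C ht ht' hy hx, TT_comm13 C ht hy hx,
    TT_comm13 C ht' hy hx]

include C hc in
/-- independence of `c`. -/
theorem b_indep {c' c'' : V} (hc' : b a c' = 1) (hc'' : b a c'' = 1) {x y t : H} (hx : x ∈ X)
    (hy : y ∈ X) (ht : t ∈ X) :
    b (cm ρ y (cm ρ x c')) (cm ρ t c'') = TT ρ b c x y t := by
  obtain ⟨δ, hδ, p1⟩ : ∃ δ, c' = c + δ ∧ b a δ = 0 :=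
    ⟨c + c', by rw [← add_assoc, C.add_self, zero_add], by rw [map_add, hc, hc']; decide⟩
  obtain ⟨ε, hε, p2⟩ : ∃ ε, c'' = c + ε ∧ b a ε = 0 :=
    ⟨c + c'', by rw [← add_assoc, C.add_self, zero_add], by rw [map_add, hc, hc'']; decide⟩
  subst hδ
  subst hε
  unfold TT
  have h1 : b (cm ρ y (cm ρ x c)) (cm ρ t ε) = 0 := b_D_cmcm C hx hy (cm_P C ht p2) c
  have h2 := cm_D C hy (cm_P C hx p1)
  have h3 := b_zero_a C h2 (cm_perp C ht c)
  have h4 := b_zero_a C h2 (cm_perp C ht ε)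
  simp only [cm_add, map_add, LinearMap.add_apply, h1, h3, h4, add_zero]

include C hc in
/-- **(x4)** for `v ≡ [c, y]` mod `D`: `b([v, x], [c, t]) = T(y, x, t)`. -/
theorem b_eq_TT {v : V} {y : H} (hy : y ∈ X) (hv : v + cm ρ y c ∈ D) {x t : H} (hx : x ∈ X)
    (ht : t ∈ X) {c' : V} (hc' : b a c' = 1) : b (cm ρ x v) (cm ρ t c') = TT ρ b c y x t := by
  have e1 : v = cm ρ y c + (v + cm ρ y c) := by
    rw [add_comm v, ← add_assoc, C.add_self, zero_add]
  rw [e1, cm_add, map_add, LinearMap.add_apply]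
  rw [b_zero_a C (cm_D C hx hv) (cm_perp C ht c'), add_zero]
  exact b_indep C hc hc hc' hy hx ht

include C hc in
/-- the functional of `d ∈ D` is `t ↦ b(d, [c, t])`. -/
theorem b_functional {d : V} {t : H} (ht : t ∈ X) :
    (cm ρ t d = a → b d (cm ρ t c) = 1) ∧ (cm ρ t d = 0 → b d (cm ρ t c) = 0) := by
  rw [← b_cm C ht]
  refine ⟨fun h => ?_, fun h => ?_⟩
  · rw [h, hc]
  · rw [h]; simp

include C hc in
/-- **`T` is nondegenerate.** -/
theorem eq_one_of_TT {y : H} (hy : y ∈ X) (h : ∀ x ∈ X, ∀ t ∈ X, TT ρ b c y x t = 0) : y = 1 := by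
  by_contra hy1
  obtain ⟨v, hv, h1, h2⟩ := C.X_T y hy hy1
  have h3 : cm ρ y v = 0 ∨ cm ρ y v = a := by
    apply mem_a C
    intro u hu
    obtain ⟨t, ht, htu⟩ := exists_sigma C hc hu
    obtain ⟨x, hx, hxv⟩ := exists_sigma C hc hv
    have e1 : u = cm ρ t c + (u + cm ρ t c) := by
      rw [add_comm u, ← add_assoc, C.add_self, zero_add]
    rw [e1, map_add, LinearMap.add_apply, C.b_comm, b_eq_TT C hc hx hxv hy ht hc,
      TT_comm12 C hx hy, h x hx t ht, zero_add]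
    exact C.b_D htu (cm_P C hy hv)
  rcases h3 with h3 | h3
  · exact h1 h3
  · exact h2 h3

end TT

/-- `C_V(X) = {0, a}`, and more: `[v, X] ≤ ⟨a⟩` implies `v ∈ D`. -/
theorem mem_D_of (C : Cfg ρ b q a D X w) {v : V} (h : ∀ x ∈ X, cm ρ x v = 0 ∨ cm ρ x v = a) :
    v ∈ D := by
  obtain ⟨c, hc⟩ := C.exists_off
  have hX : ∃ x ∈ X, x ≠ 1 := by
    by_contra hcon
    push Not at hcon
    have : X = ⊥ := (Subgroup.eq_bot_iff_forall X).2 hcon
    have h1 := C.card_X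
    rw [this, Subgroup.card_bot] at h1
    have h2 := C.five
    have h3 : 2 ^ 1 ≤ 2 ^ (w - 1) := Nat.pow_le_pow_right (by norm_num) (by omega)
    omega
  have hD : ∀ x ∈ X, cm ρ x v ∈ D := by
    intro x hx
    rcases h x hx with h1 | h1
    · rw [h1]; exact D.zero_mem
    · rw [h1]; exact C.a_mem
  have hv : b a v = 0 := by
    rcases zmod_two (b a v) with h1 | h1
    · exact h1
    · obtain ⟨x, hx, hx1⟩ := hX
      exact absurd (C.X_semi x hx v h1 (hD x hx)) hx1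
  obtain ⟨y, hy, hyv⟩ := exists_sigma C hc hv
  have hy1 : y = 1 := by
    apply eq_one_of_TT C hc hy
    intro x hx t ht
    rw [← b_eq_TT C hc hy hyv hx ht hc]
    exact b_zero_a C (h x hx) (cm_perp C ht c)
  rw [hy1] at hyv
  have h2 : cm ρ (1 : H) c = 0 := by
    rw [cm_eq_zero_iff C]; exact C.ρ_one c
  rwa [h2, add_zero] at hyv

/-- `C_V(X) = {0, a}`. -/
theorem fix_X (C : Cfg ρ b q a D X w) {v : V} (h : ∀ x ∈ X, ρ x v = v) : v = 0 ∨ v = a := by
  have hv : v ∈ D := mem_D_of C fun x hx => Or.inl ((cm_eq_zero_iff C).2 (h x hx))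
  by_contra hcon
  push Not at hcon
  obtain ⟨h0, ha⟩ := hcon
  -- a functional vanishing at `a` and not at `v`
  have h1 : v ∉ Submodule.span (ZMod 2) {a} := by
    intro h2
    rw [Submodule.mem_span_singleton] at h2
    obtain ⟨r, hr⟩ := h2
    rcases zmod_two r with h3 | h3
    · rw [h3, zero_smul] at hr; exact h0 hr.symm
    · rw [h3, one_smul] at hr; exact ha hr.symm
  obtain ⟨φ, hφ1, hφ2⟩ := Submodule.exists_dual_map_eq_bot_of_notMem h1 inferInstance
  have hφa : φ a = 0 := by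
    have : φ a ∈ (Submodule.span (ZMod 2) {a}).map φ :=
      Submodule.mem_map_of_mem (Submodule.mem_span_singleton_self a)
    rw [hφ2] at this
    exact (Submodule.mem_bot _).1 this
  obtain ⟨x, hx, hxd⟩ := C.X_all φ hφa
  have h3 := hxd v hv
  rw [h x hx, zmod_two_ne hφ1, one_smul] at h3
  apply C.a_ne
  have h4 : v + 0 = v + a := by rw [add_zero]; exact h3
  exact (add_left_cancel h4).symm

/-- a functional vanishing on a subspace of `D` containing `a`, nonzero at `v`: an element of `X` fixing the subspace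
and moving `v`. -/
theorem exists_ann (C : Cfg ρ b q a D X w) {F : Submodule (ZMod 2) V} (hFD : F ≤ D) (haF : a ∈ F)
    {v : V} (hv : v ∈ D) (hvF : v ∉ F) : ∃ x ∈ X, (∀ f ∈ F, ρ x f = f) ∧ ρ x v = v + a := by
  obtain ⟨φ, hφ1, hφ2⟩ := Submodule.exists_dual_map_eq_bot_of_notMem hvF inferInstance
  have hφ : ∀ f ∈ F, φ f = 0 := by
    intro f hf
    have : φ f ∈ F.map φ := Submodule.mem_map_of_mem hf
    rw [hφ2] at this
    exact (Submodule.mem_bot _).1 this
  obtain ⟨x, hx, hxd⟩ := C.X_all φ (hφ a haF)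
  refine ⟨x, hx, fun f hf => ?_, ?_⟩
  · rw [hxd f (hFD hf), hφ f hf, zero_smul, add_zero]
  · rw [hxd v hv, zmod_two_ne hφ1, one_smul]

end Cfsg.Agent.Omega.EH3.CoTwo

end

-- merged: Cfsg.Agent.Omega.EH3.CoTwo.Facts
section

/-!
# EH3, row `Co₂` : the facts about `K` (helper665; #12091, #12404)

`X, Ξ, Ξ_f, P` are subgroups of the finite group `H`, `N = N_H(X)` is the stabiliser of `a`.
-/

set_option autoImplicit false

namespace Cfsg.Agent.Omega.EH3.CoTwo

open Subgroup Cfsg.Agent.Omega.EH3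

/-- the facts on `K` used in the row `Co₂` (`Xi = Ξ`, `Xf = Ξ_f`). -/
structure CoFacts {H : Type*} [Group H] (X Xi Xf P : Subgroup H) : Prop where
  card : Nat.card X = 2 ^ 10
  r89 : ¬ 89 ∣ Nat.card H
  irr : ∀ Y : Subgroup H, Y ≤ X → Y ≠ ⊥ →
    normalizer (X : Set H) ≤ normalizer (Y : Set H) → Y = X
  pi_le : Xi ≤ X
  pi_card : Nat.card Xi = 2 ^ 9
  pi_ind : (normalizer (X : Set H) ⊓ normalizer (Xi : Set H)).relIndex
    (normalizer (X : Set H)) = 22
  pi_two : ∀ U : Subgroup H, U ≤ normalizer (X : Set H) ⊓ normalizer (Xi : Set H) →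
    IsPGroup 2 U → normalizer (X : Set H) ⊓ normalizer (Xi : Set H) ≤ normalizer (U : Set H) →
    U ≤ X
  pi_min : ∀ Y : Subgroup H, Y ≤ X → Y ≠ ⊥ →
    normalizer (X : Set H) ⊓ normalizer (Xi : Set H) ≤ normalizer (Y : Set H) → Xi ≤ Y
  pi_cen : normalizer (X : Set H) ⊓ centralizer (Xi : Set H) ≤ X
  X_P : X ≤ P
  P_ind : (P ⊓ normalizer (X : Set H)).relIndex P = 3
  Xf_def : ∀ x : H, x ∈ Xf ↔ x ∈ X ∧ ∀ g ∈ P, g * x * g⁻¹ ∈ normalizer (X : Set H)
  f_uniq : ∀ Y : Subgroup H, Y ≤ X → Nat.card Y = 2 ^ 9 →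
    normalizer (X : Set H) ⊓ normalizer (Xf : Set H) ≤ normalizer (Y : Set H) → Y = Xf
  f_max : ∀ R : Subgroup H, R ≤ Xf → R ≠ Xf →
    normalizer (X : Set H) ⊓ normalizer (Xf : Set H) ≤ normalizer (R : Set H) → R ≤ Xi
  f_ne : Xi ≠ Xf

variable {H V : Type*} [Group H] [AddCommGroup V] [Module (ZMod 2) V]
  {ρ : H →* (V ≃ₗ[ZMod 2] V)} {b : LinearMap.BilinForm (ZMod 2) V} {q : V → ZMod 2}
  {a : V} {D : Submodule (ZMod 2) V} {X : Subgroup H} {w : ℕ}

/-- `N_H(X) = H_a`. -/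
theorem mem_N_iff (C : Cfg ρ b q a D X w) {h : H} :
    h ∈ normalizer (X : Set H) ↔ ρ h a = a := by
  constructor
  · intro hh
    have h1 : ρ h a = 0 ∨ ρ h a = a := by
      apply fix_X C
      intro x hx
      have h2 : h⁻¹ * x * h ∈ X := by
        have h3 := (mem_normalizer_iff.1 (inv_mem hh) x).1 hx
        rwa [inv_inv] at h3
      have h4 := C.X_a h2
      rw [← C.ρ_mul]
      have h5 : x * h = h * (h⁻¹ * x * h) := by group
      rw [h5, C.ρ_mul, h4]
    rcases h1 with h1 | h1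
    · exfalso
      apply C.a_ne
      have h2 := C.ρ_inv_apply h a
      rw [h1, map_zero] at h2
      exact h2.symm
    · exact h1
  · intro hh
    rw [mem_normalizer_iff]
    intro x
    constructor
    · exact fun hx => C.X_norm h hh x hx
    · intro hx
      have h1 := C.X_norm h⁻¹ (C.fix_inv hh) _ hx
      have h2 : h⁻¹ * (h * x * h⁻¹) * h⁻¹⁻¹ = x := by group
      rwa [h2] at h1

end Cfsg.Agent.Omega.EH3.CoTwo

end
end
end
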