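import Cfsg.Agent.Mrg.Omega.Lie.End.RowFE_m3
import Cfsg.Agent.H996.AllSplit_m3
import Cfsg.Agent.Mrg.Omega.NO3b.Closed.Base_m3
import Cfsg.Agent.Mrg.Omega.ML.RowsList_m3
import Cfsg.Agent.Mrg.Omega.ML.MinIrr
import Cfsg.Agent.ZN.ChoiceSit
import Cfsg.Agent.ZN.Facts
import Cfsg.Agent.Mrg.Omega.CoTwoK.Normal
import Cfsg.Agent.Mrg.Omega.ML.Ex.TwoOdd_m3
import Cfsg.Agent.Co2Type.CardCo2
import Cfsg.Agent.Mrg.Omega.ML.InOf
import Cfsg.Agent.Mrg.Omega.FFBr.Final
import Cfsg.Agent.Mrg.Omega.ML.ExLow.NumX_m3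
import Cfsg.Agent.Mrg.Omega.ML.Ex.KnownDone
import Cfsg.Agent.Mrg.Omega.TwoF.RowMcL_m3
import Cfsg.Agent.ConwayFacts.AutCo1
import Cfsg.Agent.KFacts.CoTwo.Main
import Cfsg.Agent.CoOneType.Identify
import Cfsg.Agent.Mrg.Omega.ML.Ex.RowTitsX_m3
import Cfsg.Agent.Mrg.Omega.TwoF.LargeRk_m3
import Cfsg.Agent.Mrg.Omega.TwoF.RowTh_m3
import Cfsg.Agent.Mrg.Omega.ML.UFour.Perm
import Cfsg.Agent.S0254
import Cfsg.Agent.Mrg.Omega.TwoF.Tits
import Cfsg.Agent.Lib.ListFast
import Cfsg.Agent.Mrg.Omega.ML.Ex.RedDef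
import Cfsg.Agent.Mrg.Omega.ML.Ex.Two_m3
import Cfsg.Agent.FixBN.SplitRGD
import Cfsg.Agent.Mrg.ParSys.Fam.TwoFFour
import Cfsg.Agent.Mrg.Omega.Lie.End.KSideMain
import Cfsg.Agent.MinSimple.VModule
import Cfsg.Agent.FixBN.Disp
import Cfsg.Agent.Mrg.Omega.ML.LieRow.Bld
import Cfsg.Agent.KFacts.CoTwo.QuotInst
import Cfsg.Agent.KFacts.CoTwo.Sheets
import Cfsg.Agent.Co2Type.Setup
import Cfsg.Agent.Mrg.Omega.ML.Ex.RowL33X_mg
import Cfsg.Agent.FastGrp
import Cfsg.Agent.Prune
set_option linter.all false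

section
prune_inst 0x7ffceefbabf82ddeffff7e7ffffddffdfdfcffffefdff9fbffe0ebffbfbf6b02cfe5fb8fefeb50fe0ef6e21c10f87b13f9ffc23fe36bdc7ffffd5ff45fffff9fedffbd2d71f7bc3e1ffc6ffffbf0f78e7f3fffffffffffffffffffffffffffbeffffffffffff

-- part: Mrg/Omega/CR/EndLie
section
prune_inst 0x10000405800000000180000000020000000010200600000d1000404000e53010043010148801f0000180e4000080000000000800018000020000200000000000028208000000000200000009006000000000000000000000000000000041000000000000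
set_option linter.all false
open scoped Cfsg.Agent.FastGrp

-- merged: Cfsg.Agent.Mrg.Omega.CR.BlK
section

/-!
# The theorem of Curtis and Richen for all split (B,N)-pairs of characteristic two, group form (helper818)

* `cr_split` : `K` with a split (B,N)-pair of characteristic two (`²F₄(q)` and `Sz(q)` included), `S` a Sylow
  2-subgroup, `M` an irreducible `F₂K`-module: `C_M(S)` is an irreducible module for `N_K(S)`;
* **`cr_lie`** : the same for `K ⊴ H`, `K` simple of Lie type in characteristic two, `T` a Sylow 2-subgroup of `H`.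
-/

set_option autoImplicit false
set_option linter.unusedSectionVars false

namespace Cfsg.Agent.Omega.CR.Bl

open Subgroup Cfsg
open Cfsg.Agent.Tits.Core Cfsg.Agent.Tits.OfBN Cfsg.Agent.Schreier.BNSch Cfsg.Agent.FixBN

universe u v

section rep

variable {K : Type u} [Group K] {M : Type v} [CommGroup M] [MulDistribMulAction K M] [Module (ZMod 2) (Additive M)]

/-- the representation over `F₂` -/
def repM (K : Type u) [Group K] (M : Type v) [CommGroup M] [MulDistribMulAction K M] [Module (ZMod 2) (Additive M)] :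
    K →* Module.End (ZMod 2) (Additive M) where
  toFun g := (MonoidHom.toAdditive (MulDistribMulAction.toMonoidHom M g)).toZModLinearMap 2
  map_one' := by
    refine LinearMap.ext fun v => ?_
    change Additive.ofMul ((1 : K) • v.toMul) = v
    rw [one_smul]
    rfl
  map_mul' a b := by
    refine LinearMap.ext fun v => ?_
    change Additive.ofMul ((a * b) • v.toMul) = Additive.ofMul (a • b • v.toMul)
    rw [mul_smul]

theorem repM_apply (g : K) (v : Additive M) : repM K M g v = Additive.ofMul (g • v.toMul) := rfl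

/-- the subspace of a subgroup -/
def subM (W : Subgroup M) : Submodule (ZMod 2) (Additive M) := AddSubgroup.toZModSubmodule 2 (Subgroup.toAddSubgroup W)

/-- the subgroup of a subspace -/
def grpM (L : Submodule (ZMod 2) (Additive M)) : Subgroup M := AddSubgroup.toSubgroup' L.toAddSubgroup

theorem mem_grpM {L : Submodule (ZMod 2) (Additive M)} {m : M} : m ∈ grpM L ↔ Additive.ofMul m ∈ L := Iff.rfl

end rep

/-- **Curtis–Richen for split (B,N)-pairs of characteristic two.** -/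
theorem cr_split {K : Type u} [Group K] [Finite K] (h : HasSplit 2 K) {S : Subgroup K} (hS : IsPGroup 2 S)
    (hSi : ¬ 2 ∣ S.index) {M : Type v} [Group M] [Finite M] [MulDistribMulAction K M] (sq : ∀ m : M, m * m = 1)
    (irr : ∀ W : Subgroup M, (∀ k : K, ∀ w ∈ W, k • w ∈ W) → W = ⊥ ∨ W = ⊤) {W : Subgroup M}
    (hW : ∀ w ∈ W, ∀ s ∈ S, s • w = w) (hN : ∀ n ∈ normalizer (S : Set K), ∀ w ∈ W, n • w ∈ W) (hne : W ≠ ⊥) :
    ∀ m : M, (∀ s ∈ S, s • m = m) → m ∈ W := by
  classical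
  have : Fact (Nat.Prime 2) := ⟨Nat.prime_two⟩
  obtain ⟨P, U, hPne, h⟩ := h
  have hN' : ((P.B ⊓ P.N).subgroupOf P.N).Normal := normal_subgroupOf P
  obtain ⟨M', cs, hcs⟩ := S0320.result P
  have hI : Finite P.S := OfBN.finite_I (Equiv.refl P.S)
  have hIn : Nonempty P.S := hPne.to_subtype
  have Sy := OfBN.sys (Equiv.refl P.S) cs hcs h
  have hth := thick P (Equiv.refl P.S) cs hcs
  -- the chamber
  obtain ⟨c, hc⟩ := Sy.exists_fix _ hS
  have h1 : S ≤ Sy.U c := Sy.max c _ hS hc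
  have hUc : Sy.U c = S := (hS.toSylow hSi : Sylow 2 K).is_maximal' (Sy.isP c) h1
  -- the module
  have hinv : ∀ z : M, z⁻¹ = z := fun z => inv_eq_of_mul_eq_one_right (sq z)
  have hcomm : ∀ x y : M, x * y = y * x := fun x y => by
    calc x * y = (x * y)⁻¹ := (hinv _).symm
      _ = y⁻¹ * x⁻¹ := mul_inv_rev _ _
      _ = y * x := by rw [hinv, hinv]
  let _ : CommGroup M := { (inferInstance : Group M) with mul_comm := hcomm }
  let _ : Module (ZMod 2) (Additive M) := AddCommGroup.zmodModule (n := 2) (fun v => by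
    change Additive.ofMul (v.toMul ^ 2) = 0
    rw [pow_two, sq]; rfl)
  have _ : Finite (Additive M) := inferInstanceAs (Finite M)
  have _ : FiniteDimensional (ZMod 2) (Additive M) := Module.Finite.of_finite
  have _ : Finite (K ⧸ P.B) := inferInstance
  let _ : Fintype (K ⧸ P.B) := Fintype.ofFinite _
  have key := simple_Vx (S := Sy) (ρ := repM K M) (k := ZMod 2) hth (by
    intro L hL
    rcases irr (grpM L) (fun k w hw => by
      rw [mem_grpM] at hw ⊢
      exact hL k trivial _ hw) with h2 | h2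
    · left
      rw [eq_bot_iff]
      intro v hv
      have h3 : v.toMul ∈ grpM L := hv
      rw [h2, mem_bot] at h3
      rw [Submodule.mem_bot]
      exact h3
    · right
      rw [eq_top_iff]
      intro v _
      have h3 : v.toMul ∈ grpM L := by rw [h2]; trivial
      exact h3) c (L := subM W) (by
    intro v hv u hu
    rw [hUc] at hu
    rw [repM_apply]
    exact congrArg Additive.ofMul (hW v.toMul hv u hu)) (by
    intro g hg v hv
    rw [repM_apply]
    refine hN g ?_ _ hv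
    rw [← hUc, mem_normalizer_iff]
    intro x
    have h2 : g * x * g⁻¹ ∈ Sy.U (g • c) ↔ x ∈ Sy.U c := Sy.conj_mem_U_iff
    rw [hg] at h2
    exact h2.symm)
  rcases key with h2 | h2
  · exfalso
    apply hne
    rw [eq_bot_iff]
    intro w hw
    have h3 : (Additive.ofMul w) ∈ subM W := hw
    rw [h2, Submodule.mem_bot] at h3
    rw [mem_bot]
    exact h3
  · intro m hm
    have h3 : (Additive.ofMul m) ∈ Vx Sy (repM K M) c := by
      intro u hu
      rw [hUc] at hu
      rw [repM_apply]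
      exact congrArg Additive.ofMul (hm u hu)
    rw [← h2] at h3
    exact h3

/-- **Curtis–Richen for a normal simple subgroup of Lie type in characteristic two.** -/
theorem cr_lie {H : Type u} [Group H] [Finite H] {M : Type v} [Group M] [Finite M] [MulDistribMulAction H M]
    {K T : Subgroup H} (hK : K.Normal) (hs : IsSimpleGroup K) (hl : IsLieTypeChar 2 K) (hT : IsPGroup 2 T)
    (hTi : ¬ 2 ∣ T.index) (sq : ∀ m : M, m * m = 1)
    (irr : ∀ W : Subgroup M, (∀ k ∈ K, ∀ w ∈ W, k • w ∈ W) → W = ⊥ ∨ W = ⊤) {W : Subgroup M}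
    (hW : ∀ w ∈ W, ∀ s ∈ T ⊓ K, s • w = w)
    (hN : ∀ n ∈ normalizer ((T ⊓ K : Subgroup H) : Set H), n ∈ K → ∀ w ∈ W, n • w ∈ W) (hne : W ≠ ⊥) :
    ∀ m : M, (∀ s ∈ T ⊓ K, s • m = m) → m ∈ W := by
  have : Fact (Nat.Prime 2) := ⟨Nat.prime_two⟩
  have hV : IsPGroup 2 (T.subgroupOf K) := hT.comap_of_injective _ K.subtype_injective
  have h2 : ¬ 2 ∣ (T.subgroupOf K).index := Lib.SylowNormalInf.not_dvd_relIndex (hT.toSylow hTi) K
  intro m hm
  refine cr_split (ML.LieRow.hasSplit_of_lie hl) hV h2 sq (fun W hW => irr W fun k hk w hw => hW ⟨k, hk⟩ w hw)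
    (W := W) ?_ ?_ hne m ?_
  · rintro w hw ⟨s, hs'⟩ hsT
    exact hW w hw s ⟨hsT, hs'⟩
  · rintro ⟨n, hn⟩ hnN w hw
    refine hN n ?_ hn w hw
    rw [mem_normalizer_iff] at hnN ⊢
    intro x
    constructor
    · rintro ⟨hx, hxK⟩
      exact ⟨(hnN ⟨x, hxK⟩).1 hx, hK.conj_mem x hxK n⟩
    · rintro ⟨hx, hxK⟩
      have hxK' : x ∈ K := by
        have := hK.conj_mem _ hxK n⁻¹
        have e : n⁻¹ * (n * x * n⁻¹) * n⁻¹⁻¹ = x := by group
        rwa [e] at this
      exact ⟨(hnN ⟨x, hxK'⟩).2 hx, hxK'⟩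
  · rintro ⟨s, hs'⟩ hsT
    exact hm s ⟨hsT, hs'⟩

end Cfsg.Agent.Omega.CR.Bl

end

-- merged: Cfsg.Agent.Mrg.Omega.ML.Ex.IrrK
section

/-!
# THEOREM IRR (helper410, #22122 (A)): in `InX H M K T A` the restriction `M|_K` is irreducible (helper554)

`H = KT` on the irreducible module `M`, `K ⊴ H` simple, `C_H(K) = 1`.

* `Smp K W` : `W` is an irreducible `K`-submodule;  `exists_compl` : complements;
* `no_inv` (P-ARGUMENT) : no involution of `Aut(M)` centralises `K` [`T` normalises a Sylow 2-subgroup `P` of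
  `C_{Aut M}(K)`, `C_M(P)` is a submodule];
* `indep` : different irreducible `K`-submodules are independent;
* `no_dec` (LEMMA B) : no proper decomposition `M = W ⊕ V` into `K`-submodules is normalised by `A`, from (ML);
* **`InX.irr_K`** : every `K`-submodule of `M` is `⊥` or `⊤`.
`A` need not be an atom.
-/

set_option autoImplicit false

namespace Cfsg.Agent.Omega.ML.Ex.IrrK

open Subgroup Cfsg Cfsg.Agent.Omega.NOThree.NoOver Cfsg.Agent.Omega.ML.CD
open Cfsg.Agent.ZN hiding o2_le le_o2 le_normalizer_o2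
open Cfsg.Agent.ClassTwoFusion.Quad Cfsg.Agent.Omega.ML.MinFrame
open Cfsg.Agent.MinSimple.VModule (o2_isPGroup o2_le le_o2 le_normalizer_o2)
open Cfsg.Agent.Omega.ML.Final (MLK sec_KG)

universe u v

/-! ### subgroups of a commutative group -/

section comm

variable {M : Type v} [Group M]

theorem mem_sup_c (hc : ∀ x y : M, x * y = y * x) {W V : Subgroup M} {x : M} (hx : x ∈ W ⊔ V) :
    ∃ w ∈ W, ∃ v ∈ V, w * v = x := by
  have hN : V.Normal := ⟨fun n hn g => by rwa [hc g n, mul_assoc, mul_inv_cancel, mul_one]⟩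
  have h1 : x ∈ ((W ⊔ V : Subgroup M) : Set M) := hx
  rw [Subgroup.mul_normal] at h1
  obtain ⟨w, hw, v, hv, e⟩ := h1
  exact ⟨w, hw, v, hv, e⟩

theorem uniq {W V : Subgroup M} (h : W ⊓ V = ⊥) {w w' v v' : M} (hw : w ∈ W) (hw' : w' ∈ W)
    (hv : v ∈ V) (hv' : v' ∈ V) (e : w * v = w' * v') : w = w' ∧ v = v' := by
  have h1 : w'⁻¹ * w = v' * v⁻¹ := by
    calc w'⁻¹ * w = w'⁻¹ * (w * v) * v⁻¹ := by group
      _ = w'⁻¹ * (w' * v') * v⁻¹ := by rw [e]
      _ = v' * v⁻¹ := by group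
  have h2 : w'⁻¹ * w ∈ W ⊓ V :=
    mem_inf.2 ⟨W.mul_mem (W.inv_mem hw') hw, by rw [h1]; exact V.mul_mem hv' (V.inv_mem hv)⟩
  rw [h, mem_bot] at h2
  have h3 : w = w' := (inv_mul_eq_one.1 h2).symm
  refine ⟨h3, ?_⟩
  rw [h3] at e
  exact mul_left_cancel e

/-- the projection of `A ⊕ B` to `A` -/
theorem exists_proj {A B : Subgroup M} (h : A ⊓ B = ⊥) : ∃ f : M → M, ∀ a ∈ A, ∀ b ∈ B, f (a * b) = a := by
  classical
  refine ⟨fun x => if hx : ∃ a, a ∈ A ∧ ∃ b, b ∈ B ∧ a * b = x then hx.choose else 1, fun a ha b hb => ?_⟩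
  have hx : ∃ a', a' ∈ A ∧ ∃ b', b' ∈ B ∧ a' * b' = a * b := ⟨a, ha, b, hb, rfl⟩
  change (if hx : ∃ a', a' ∈ A ∧ ∃ b', b' ∈ B ∧ a' * b' = a * b then hx.choose else 1) = a
  rw [dif_pos hx]
  obtain ⟨h1, b', hb', e⟩ := hx.choose_spec
  exact (uniq h h1 ha hb' hb e).1

end comm

/-! ### `K`-submodules -/

variable {H : Type u} [Group H] {M : Type v} [Group M] [MulDistribMulAction H M]

/-- `W` is `K`-invariant -/
def Kin (K : Subgroup H) (W : Subgroup M) : Prop := ∀ k ∈ K, ∀ w ∈ W, k • w ∈ W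

theorem Kin.sup {K : Subgroup H} {W V : Subgroup M} (hW : Kin K W) (hV : Kin K V) : Kin K (W ⊔ V) := by
  intro k hk
  have h1 : W ⊔ V ≤ (W ⊔ V).comap (MulDistribMulAction.toMonoidHom M k) :=
    sup_le (fun w hw => (le_sup_left : W ≤ W ⊔ V) (hW k hk w hw)) fun w hw =>
      (le_sup_right : V ≤ W ⊔ V) (hV k hk w hw)
  exact fun w hw => h1 hw

theorem Kin.inf {K : Subgroup H} {W V : Subgroup M} (hW : Kin K W) (hV : Kin K V) : Kin K (W ⊓ V) :=
  fun k hk w hw => ⟨hW k hk w hw.1, hV k hk w hw.2⟩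

theorem Kin.bot {K : Subgroup H} : Kin K (⊥ : Subgroup M) := by
  intro k _ w hw
  rw [mem_bot.1 hw, smul_one]
  exact mem_bot.2 rfl

theorem kin_sSup {K : Subgroup H} {S : Set (Subgroup M)} (hS : ∀ W ∈ S, Kin K W) : Kin K (sSup S) := by
  intro k hk
  have h1 : sSup S ≤ (sSup S).comap (MulDistribMulAction.toMonoidHom M k) :=
    sSup_le fun W hW w hw => (le_sSup hW) (hS W hW k hk w hw)
  exact fun w hw => h1 hw

/-- irreducible `K`-submodules -/
structure Smp (K : Subgroup H) (W : Subgroup M) : Prop where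
  inv : Kin K W
  ne : W ≠ ⊥
  min : ∀ V ≤ W, Kin K V → V = ⊥ ∨ V = W

theorem Smp.le_or {K : Subgroup H} {W V : Subgroup M} (h : Smp K W) (hV : Kin K V) : W ≤ V ∨ W ⊓ V = ⊥ := by
  rcases h.min (W ⊓ V) inf_le_left (h.inv.inf hV) with h1 | h1
  · exact Or.inr h1
  · exact Or.inl (inf_eq_left.1 h1)

theorem Smp.disj {K : Subgroup H} {W V : Subgroup M} (h : Smp K W) (h' : Smp K V) (hne : W ≠ V) : W ⊓ V = ⊥ := by
  rcases h.le_or h'.inv with h1 | h1
  · rcases h'.min W h1 h.inv with h2 | h2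
    · exact absurd h2 h.ne
    · exact absurd h2 hne
  · exact h1

theorem exists_smp [Finite M] {K : Subgroup H} {V : Subgroup M} (hV : Kin K V) (hne : V ≠ ⊥) :
    ∃ W ≤ V, Smp K W := by
  obtain ⟨W, hWm, hmin⟩ := (Set.toFinite {W : Subgroup M | W ≤ V ∧ Kin K W ∧ W ≠ ⊥}).exists_minimal
    ⟨V, le_rfl, hV, hne⟩
  refine ⟨W, hWm.1, hWm.2.1, hWm.2.2, fun U hU hUK => ?_⟩
  by_cases h0 : U = ⊥
  · exact Or.inl h0
  · exact Or.inr (le_antisymm hU (hmin ⟨hU.trans hWm.1, hUK, h0⟩ hU))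

/-- `g W` -/
def gm (g : H) (W : Subgroup M) : Subgroup M := W.map (MulDistribMulAction.toMonoidHom M g)

theorem mem_gm {g : H} {W : Subgroup M} {x : M} : x ∈ gm g W ↔ g⁻¹ • x ∈ W := by
  constructor
  · rintro ⟨w, hw, rfl⟩
    change g⁻¹ • g • w ∈ W
    rwa [inv_smul_smul]
  · intro h
    exact ⟨_, h, smul_inv_smul g x⟩

theorem smul_mem_gm {g : H} {W : Subgroup M} {x : M} (hx : x ∈ W) : g • x ∈ gm g W := ⟨x, hx, rfl⟩

theorem gm_gm (g k : H) (W : Subgroup M) : gm g (gm k W) = gm (g * k) W := by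
  ext x
  rw [mem_gm, mem_gm, mem_gm, mul_inv_rev, mul_smul]

theorem gm_one (W : Subgroup M) : gm (1 : H) W = W := by
  ext x
  rw [mem_gm, inv_one, one_smul]

theorem gm_mono (g : H) {W V : Subgroup M} (h : W ≤ V) : gm g W ≤ gm g V := map_mono h

theorem Kin.gm {K : Subgroup H} (hK : K.Normal) {W : Subgroup M} (hW : Kin K W) (g : H) : Kin K (gm g W) := by
  intro k hk w hw
  rw [mem_gm] at hw ⊢
  have h1 := hW _ (hK.conj_mem k hk g⁻¹) _ hw
  rwa [inv_inv, ← mul_smul, mul_assoc, mul_assoc, mul_inv_cancel, mul_one, mul_smul] at h1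

theorem Smp.gm {K : Subgroup H} (hK : K.Normal) {W : Subgroup M} (hW : Smp K W) (g : H) : Smp K (gm g W) where
  inv := hW.inv.gm hK g
  ne := by
    intro h
    apply hW.ne
    rw [eq_bot_iff]
    intro w hw
    have h1 := smul_mem_gm (g := g) hw
    rw [h, mem_bot] at h1
    rw [mem_bot, ← inv_smul_smul g w, h1, smul_one]
  min := by
    intro V hV hVK
    have h1 : IrrK.gm g⁻¹ V ≤ W := by
      have := gm_mono g⁻¹ hV
      rwa [gm_gm, inv_mul_cancel, gm_one] at this
    rcases hW.min _ h1 (hVK.gm hK g⁻¹) with h2 | h2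
    · left
      have h3 := congrArg (IrrK.gm g) h2
      rw [gm_gm, mul_inv_cancel, gm_one] at h3
      rw [h3]
      exact Subgroup.map_bot _
    · right
      have h3 := congrArg (IrrK.gm g) h2
      rwa [gm_gm, mul_inv_cancel, gm_one] at h3

/-- the stabiliser of `W` -/
def nst (W : Subgroup M) : Subgroup H where
  carrier := {h | ∀ w : M, h • w ∈ W ↔ w ∈ W}
  one_mem' := fun w => by rw [one_smul]
  mul_mem' := fun {a b} ha hb w => by rw [mul_smul, ha, hb]
  inv_mem' := fun {a} ha w => by rw [← ha (a⁻¹ • w), smul_inv_smul]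

theorem Kin.le_nst {K : Subgroup H} {W : Subgroup M} (hW : Kin K W) : K ≤ nst W := by
  intro k hk w
  refine ⟨fun h => ?_, hW k hk w⟩
  have h1 := hW k⁻¹ (inv_mem hk) _ h
  rwa [inv_smul_smul] at h1

theorem mem_nst_of_gm {W : Subgroup M} {h : H} (e : gm h W = W) : h ∈ nst W := by
  intro w
  constructor
  · intro h1
    rw [← e, mem_gm, inv_smul_smul] at h1
    exact h1
  · intro h1
    rw [← e]
    exact smul_mem_gm h1

/-! ### the situation -/

/-- `M` is irreducible for `H = KT`. -/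
structure Sit (H : Type u) [Group H] (M : Type v) [Group M] [MulDistribMulAction H M] (K T : Subgroup H) :
    Prop where
  sq : ∀ m : M, m * m = 1
  comm : ∀ x y : M, x * y = y * x
  faith : ∀ h : H, (∀ m : M, h • m = m) → h = 1
  irr : ∀ W : Subgroup M, (∀ h : H, ∀ w ∈ W, h • w ∈ W) → W = ⊥ ∨ W = ⊤
  norm : K.Normal
  simple : IsSimpleGroup K
  cen : centralizer (K : Set H) = ⊥
  gen : K ⊔ T = ⊤
  two : IsPGroup 2 T
  syl : ¬ 2 ∣ T.index

theorem _root_.Cfsg.Agent.Omega.ML.Ex.InX.sit {K T A : Subgroup H} (h : InX H M K T A) : Sit H M K T where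
  sq := h.sq
  comm := h.comm
  faith := h.faith
  irr := h.irr
  norm := h.norm
  simple := h.simple
  cen := h.cen
  gen := h.gen
  two := h.two
  syl := h.syl

namespace Sit

variable {K T : Subgroup H} (s : Sit H M K T)
include s

/-- `C_M(K) = 1` -/
theorem cv_K : cv M (K : Set H) = ⊥ := by
  have hK := s.norm
  rcases s.irr (cv M (K : Set H)) (by
    intro g w hw k hk
    have h1 := hw (g⁻¹ * k * g) (by
      have := hK.conj_mem k hk g⁻¹
      rwa [inv_inv] at this)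
    rw [mul_smul, mul_smul, inv_smul_eq_iff] at h1
    exact h1) with h1 | h1
  · exact h1
  · exfalso
    have hs := s.simple
    obtain ⟨x, hx⟩ := exists_ne (1 : K)
    exact hx (Subtype.ext (s.faith x fun m => (h1 ▸ mem_top m : m ∈ cv M (K : Set H)) x x.2))

/-- `N_H(W) ∩ C_H(W) = 1` for a `K`-submodule `W ≠ 1` -/
theorem fix_bot {W : Subgroup M} (hW : Kin K W) (hne : W ≠ ⊥) {x : H}
    (hf : ∀ w ∈ W, x • w = w) : x = 1 := by
  have hs := s.simple
  have hK := s.norm
  -- `C_K(W) = 1`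
  have h1 : ∀ k ∈ K, (∀ w ∈ W, k • w = w) → k = 1 := by
    have hN : ((fxr H W).subgroupOf K).Normal := by
      refine ⟨fun n hn g => ?_⟩
      exact conj_mem_fxr (R := K) hW g.2 hn
    rcases hN.eq_bot_or_eq_top with h | h
    · intro k hk hkW
      have h2 : (⟨k, hk⟩ : K) ∈ (fxr H W).subgroupOf K := hkW
      rw [h, mem_bot] at h2
      exact congrArg Subtype.val h2
    · exfalso
      apply hne
      rw [eq_bot_iff, ← s.cv_K]
      intro w hw k hk
      have h2 : (⟨k, hk⟩ : K) ∈ (fxr H W).subgroupOf K := h ▸ mem_top _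
      exact h2 w hw
  have h2 : x ∈ centralizer (K : Set H) := by
    refine mem_centralizer_iff.2 fun k hk => ?_
    have h3 : x⁻¹ * k * x * k⁻¹ ∈ K := by
      refine mul_mem ?_ (inv_mem hk)
      have := hK.conj_mem k hk x⁻¹
      rwa [inv_inv] at this
    have h4 : x⁻¹ * k * x * k⁻¹ = 1 := by
      refine h1 _ h3 fun w hw => ?_
      have hkw : k⁻¹ • w ∈ W := hW _ (inv_mem hk) w hw
      rw [mul_smul, mul_smul, mul_smul, hf _ hkw, smul_inv_smul, inv_smul_eq_iff, hf w hw]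
    have h5 : x⁻¹ * k * x = k := by rwa [mul_inv_eq_one] at h4
    calc k * x = x * (x⁻¹ * k * x) := by group
      _ = x * k := by rw [h5]
  rw [s.cen, mem_bot] at h2
  exact h2

/-- every `K`-submodule containing all conjugates of `W ≠ 1` is `M` -/
theorem top_of_conj {W V : Subgroup M} (hne : W ≠ ⊥) (h : ∀ g : H, gm g W ≤ V) : V = ⊤ := by
  have h1 : (⨆ g : H, gm g W) = ⊤ := by
    rcases s.irr (⨆ g : H, gm g W) (by
      intro x
      have h2 : (⨆ g : H, gm g W) ≤ (⨆ g : H, gm g W).comap (MulDistribMulAction.toMonoidHom M x) := by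
        refine iSup_le fun g w hw => ?_
        change x • w ∈ ⨆ g : H, gm g W
        refine (le_iSup (fun g : H => gm g W) (x * g)) ?_
        rw [← gm_gm]
        exact smul_mem_gm hw
      exact fun w hw => h2 hw) with h3 | h3
    · exfalso
      apply hne
      rw [eq_bot_iff, ← h3]
      have := le_iSup (fun g : H => gm g W) 1
      rwa [gm_one] at this
    · exact h3
  rw [eq_top_iff, ← h1]
  exact iSup_le h

/-- **complements** -/
theorem exists_compl [Finite M] {N W : Subgroup M} (hN : Kin K N) (hW : Kin K W) (h : N ⊓ W = ⊥) (hW0 : W ≠ ⊥) :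
    ∃ C : Subgroup M, Kin K C ∧ N ≤ C ∧ W ⊓ C = ⊥ ∧ W ⊔ C = ⊤ := by
  obtain ⟨C, ⟨hCK, hNC, hCW⟩, hmax⟩ := (Set.toFinite {C : Subgroup M | Kin K C ∧ N ≤ C ∧ C ⊓ W = ⊥}).exists_maximal
    ⟨N, hN, le_rfl, h⟩
  obtain ⟨Y, -, hY⟩ := exists_smp hW hW0
  refine ⟨C, hCK, hNC, by rwa [inf_comm], ?_⟩
  refine s.top_of_conj hY.ne fun g => ?_
  have hYg := hY.gm s.norm g
  rcases hYg.le_or (hW.sup hCK) with h1 | h1
  · exact h1
  exfalso
  have h2 : gm g Y ⊓ W = ⊥ := by
    rw [eq_bot_iff, ← h1]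
    exact inf_le_inf le_rfl le_sup_left
  have h3 : (C ⊔ gm g Y) ⊓ W = ⊥ := by
    rw [eq_bot_iff]
    rintro w ⟨hw, hwW⟩
    obtain ⟨c, hc, y, hy, rfl⟩ := mem_sup_c s.comm hw
    have h4 : y ∈ gm g Y ⊓ (W ⊔ C) := by
      refine ⟨hy, ?_⟩
      have e : y = c⁻¹ * (c * y) := by group
      rw [e]
      exact mul_mem ((le_sup_right : C ≤ W ⊔ C) (inv_mem hc)) ((le_sup_left : W ≤ W ⊔ C) hwW)
    rw [h1, mem_bot] at h4
    rw [h4, mul_one] at hwW ⊢
    have h5 : c ∈ C ⊓ W := ⟨hc, hwW⟩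
    rwa [hCW] at h5
  have h4 := hmax ⟨hCK.sup hYg.inv, hNC.trans le_sup_left, h3⟩ le_sup_left
  have h5 : gm g Y ≤ W ⊔ C := (le_sup_right.trans h4).trans le_sup_right
  rw [inf_eq_left.2 h5] at h1
  exact hYg.ne h1

/-- **the P-argument**: no involution of `Aut(M)` centralises `K` -/
theorem no_inv [Finite M] (φ : MulAut M) (hφ : ∀ k ∈ K, ∀ m : M, φ (k • m) = k • φ m) (h2 : φ * φ = 1) :
    φ = 1 := by
  by_contra hne
  have hK := s.norm
  have hM0 : (⊤ : Subgroup M) ≠ ⊥ := by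
    intro h0
    apply hne
    refine MulEquiv.ext fun m => ?_
    have h1 : ∀ x : M, x = 1 := fun x => by
      have : x ∈ (⊤ : Subgroup M) := mem_top x
      rwa [h0, mem_bot] at this
    rw [h1 (φ m), h1 ((1 : MulAut M) m)]
  have hfinA : Finite (MulAut M) := inferInstance
  let ρ : H →* MulAut M := MulDistribMulAction.toMulAut H M
  have hρ : ∀ (h : H) (m : M), ρ h m = h • m := fun _ _ => rfl
  set C : Subgroup (MulAut M) := centralizer ((K.map ρ : Subgroup (MulAut M)) : Set (MulAut M)) with hC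
  have hφC : φ ∈ C := by
    refine mem_centralizer_iff.2 ?_
    rintro _ ⟨k, hk, rfl⟩
    refine MulEquiv.ext fun m => ?_
    change k • φ m = φ (k • m)
    exact (hφ k hk m).symm
  set T' : Subgroup (MulAut M) := T.map ρ with hT'
  have hTC : T' ≤ normalizer (C : Set (MulAut M)) := by
    rintro _ ⟨t, ht, rfl⟩
    have key : ∀ g : H, ∀ c ∈ C, ρ g * c * (ρ g)⁻¹ ∈ C := by
      intro g c hc
      refine mem_centralizer_iff.2 ?_
      rintro _ ⟨k, hk, rfl⟩
      have h3 : g⁻¹ * k * g ∈ K := by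
        have := hK.conj_mem k hk g⁻¹
        rwa [inv_inv] at this
      have h4 : ρ (g⁻¹ * k * g) * c = c * ρ (g⁻¹ * k * g) := mem_centralizer_iff.1 hc _ ⟨_, h3, rfl⟩
      have h5 : ρ k = ρ g * ρ (g⁻¹ * k * g) * (ρ g)⁻¹ := by
        rw [map_mul, map_mul, map_inv]; group
      rw [h5]
      calc ρ g * ρ (g⁻¹ * k * g) * (ρ g)⁻¹ * (ρ g * c * (ρ g)⁻¹) = ρ g * (ρ (g⁻¹ * k * g) * c) * (ρ g)⁻¹ := by group
        _ = ρ g * (c * ρ (g⁻¹ * k * g)) * (ρ g)⁻¹ := by rw [h4]
        _ = _ := by group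
    rw [mem_normalizer_iff]
    refine fun c => ⟨key t c, fun hc => ?_⟩
    have h6 := key t⁻¹ _ hc
    rw [map_inv, inv_inv] at h6
    have e : (ρ t)⁻¹ * (ρ t * c * (ρ t)⁻¹) * ρ t = c := by group
    rwa [e] at h6
  obtain ⟨S', hS', hTS'⟩ := ChoiceSit.exists_syl (T := T') (X := C ⊔ T') (s.two.map ρ) le_sup_right
  -- `P = S' ∩ C` is a Sylow subgroup of `C`
  have hodd : ¬ 2 ∣ (S' ⊓ C).relIndex C := by
    have hSC : S' ≤ normalizer (C : Set (MulAut M)) := hS'.1.trans (sup_le le_normalizer hTC)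
    intro h3
    apply ChoiceSit.syl_not_dvd hS'
    have hKS : C ⊔ T' = C ⊔ S' := le_antisymm (sup_le le_sup_left (hTS'.trans le_sup_right)) (sup_le le_sup_left hS'.1)
    rw [hKS]
    have h4 : (C.subgroupOf (C ⊔ S')).Normal :=
      normal_subgroupOf_of_le_normalizer (sup_le le_normalizer hSC)
    have e1 : Nat.card S' * S'.relIndex (C ⊔ S') = Nat.card (C ⊔ S' : Subgroup (MulAut M)) := by
      have := relIndex_mul_relIndex ⊥ S' (C ⊔ S') bot_le le_sup_right
      rwa [relIndex_bot_left, relIndex_bot_left] at this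
    have e2 : Nat.card C * C.relIndex (C ⊔ S') = Nat.card (C ⊔ S' : Subgroup (MulAut M)) := by
      have := relIndex_mul_relIndex ⊥ C (C ⊔ S') bot_le le_sup_left
      rwa [relIndex_bot_left, relIndex_bot_left] at this
    have e3 : Nat.card (S' ⊓ C : Subgroup (MulAut M)) * (S' ⊓ C).relIndex C = Nat.card C := by
      have := relIndex_mul_relIndex ⊥ (S' ⊓ C) C bot_le inf_le_right
      rwa [relIndex_bot_left, relIndex_bot_left] at this
    have e4 : Nat.card (S' ⊓ C : Subgroup (MulAut M)) * (S' ⊓ C).relIndex S' = Nat.card S' := by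
      have := relIndex_mul_relIndex ⊥ (S' ⊓ C) S' bot_le inf_le_left
      rwa [relIndex_bot_left, relIndex_bot_left] at this
    have e5 : C.relIndex (C ⊔ S') = (S' ⊓ C).relIndex S' := by
      have h5 := relIndex_sup_left (S'.subgroupOf (C ⊔ S')) (C.subgroupOf (C ⊔ S'))
      rw [← Subgroup.subgroupOf_sup le_sup_left le_sup_right, Subgroup.subgroupOf_self,
        Subgroup.relIndex_subgroupOf le_sup_right, relIndex_top_right] at h5
      rw [inf_relIndex_left, ← h5]
      rfl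
    have h6 : S'.relIndex (C ⊔ S') = (S' ⊓ C).relIndex C := by
      have h7 : 0 < Nat.card S' := Nat.card_pos
      apply Nat.eq_of_mul_eq_mul_left h7
      rw [e1, ← e2, e5, ← e3]
      calc _ = Nat.card (S' ⊓ C : Subgroup (MulAut M)) * (S' ⊓ C).relIndex S' * (S' ⊓ C).relIndex C := by ring
        _ = _ := by rw [e4]
    rwa [h6]
  have hPne : S' ⊓ C ≠ ⊥ := by
    intro h3
    rw [h3, relIndex_bot_left] at hodd
    apply hodd
    have h4 : orderOf (⟨φ, hφC⟩ : C) = 2 := by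
      refine orderOf_eq_prime ?_ fun h5 => hne (congrArg Subtype.val h5)
      rw [pow_two]
      exact Subtype.ext h2
    rw [← h4]
    exact orderOf_dvd_natCard _
  have hP2 : IsPGroup 2 (S' ⊓ C : Subgroup (MulAut M)) := hS'.2.1.to_le inf_le_left
  obtain ⟨w, -, hw1, hw⟩ := MinFrame.exists_fixed (H := MulAut M) s.sq hP2 (W := (⊤ : Subgroup M)) hM0
    fun _ _ _ _ => mem_top _
  -- `C_M(P)` is invariant
  let F : Subgroup M := cv M ((S' ⊓ C : Subgroup (MulAut M)) : Set (MulAut M))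
  have hFK : ∀ k ∈ K, ∀ m ∈ F, k • m ∈ F := by
    intro k hk m hm p hp
    have h3 : ρ k * p = p * ρ k := mem_centralizer_iff.1 hp.2 _ ⟨k, hk, rfl⟩
    change p (ρ k m) = ρ k m
    rw [← MulAut.mul_apply, ← h3, MulAut.mul_apply]
    exact congrArg (ρ k) (hm p hp)
  have hFT : ∀ t ∈ T, ∀ m ∈ F, t • m ∈ F := by
    intro t ht m hm p hp
    have h3 : (ρ t)⁻¹ * p * ρ t ∈ S' ⊓ C := by
      refine ⟨S'.mul_mem (S'.mul_mem (S'.inv_mem (hTS' ⟨t, ht, rfl⟩)) hp.1) (hTS' ⟨t, ht, rfl⟩), ?_⟩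
      exact (mem_normalizer_iff''.1 (hTC ⟨t, ht, rfl⟩) p).1 hp.2
    change p (ρ t m) = ρ t m
    have h4 : p (ρ t m) = ρ t (((ρ t)⁻¹ * p * ρ t) m) := by
      rw [← MulAut.mul_apply, ← MulAut.mul_apply]
      congr 1
      group
    rw [h4]
    exact congrArg (ρ t) (hm _ h3)
  have hFH : ∀ h : H, ∀ m ∈ F, h • m ∈ F := by
    have h3 : K ⊔ T ≤ nst F := by
      refine sup_le (Kin.le_nst hFK) (Kin.le_nst hFT)
    intro h m hm
    rw [s.gen] at h3
    exact (h3 (mem_top h) m).2 hm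
  rcases s.irr F hFH with h3 | h3
  · exact hw1 (by
      have h4 : w ∈ F := fun p hp => hw p hp
      rwa [h3, mem_bot] at h4)
  · apply hPne
    rw [eq_bot_iff]
    intro p hp
    rw [mem_bot]
    refine MulEquiv.ext fun m => ?_
    have h4 : m ∈ F := by rw [h3]; exact mem_top m
    exact h4 p hp

/-- **no twisted diagonal** -/
theorem no_tw [Finite M] {N W V : Subgroup M} (hN : Kin K N) (hW : Smp K W) (hV : Smp K V) (hWV : W ≠ V)
    (hNW : N ⊓ W = ⊥) (hNV : N ⊓ V = ⊥) (hle : W ≤ N ⊔ V) : False := by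
  obtain ⟨C, hC, hNC, hWC, hWC'⟩ := s.exists_compl hN hW.inv hNW hW.ne
  obtain ⟨f, hf⟩ := exists_proj hWC
  obtain ⟨g, hg⟩ := exists_proj hNV
  -- decomposition
  have dec : ∀ x : M, ∃ w ∈ W, ∃ c ∈ C, w * c = x := fun x => mem_sup_c s.comm (hWC'.ge (mem_top x))
  have dec' : ∀ x ∈ W, ∃ n ∈ N, ∃ v ∈ V, n * v = x := fun x hx => mem_sup_c s.comm (hle hx)
  have hinv : ∀ x : M, x⁻¹ = x := fun x => inv_eq_of_mul_eq_one_right (s.sq x)
  have fm : ∀ x y : M, f (x * y) = f x * f y := by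
    intro x y
    obtain ⟨w, hw, c, hc, rfl⟩ := dec x
    obtain ⟨w', hw', c', hc', rfl⟩ := dec y
    have e : w * c * (w' * c') = w * w' * (c * c') := by
      calc w * c * (w' * c') = w * (c * w') * c' := by group
        _ = w * (w' * c) * c' := by rw [s.comm c w']
        _ = _ := by group
    rw [e, hf _ (W.mul_mem hw hw') _ (C.mul_mem hc hc'), hf w hw c hc, hf w' hw' c' hc']
  have fW : ∀ x : M, f x ∈ W := by
    intro x
    obtain ⟨w, hw, c, hc, rfl⟩ := dec x
    rwa [hf w hw c hc]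
  have gm : ∀ x ∈ W, ∀ y ∈ W, g (x * y) = g x * g y := by
    intro x hx y hy
    obtain ⟨w, hw, c, hc, rfl⟩ := dec' x hx
    obtain ⟨w', hw', c', hc', rfl⟩ := dec' y hy
    have e : w * c * (w' * c') = w * w' * (c * c') := by
      calc w * c * (w' * c') = w * (c * w') * c' := by group
        _ = w * (w' * c) * c' := by rw [s.comm c w']
        _ = _ := by group
    rw [e, hg _ (N.mul_mem hw hw') _ (V.mul_mem hc hc'), hg w hw c hc, hg w' hw' c' hc']
  have gN : ∀ x ∈ W, g x ∈ N := by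
    intro x hx
    obtain ⟨w, hw, c, hc, rfl⟩ := dec' x hx
    rwa [hg w hw c hc]
  have fk : ∀ k ∈ K, ∀ x : M, f (k • x) = k • f x := by
    intro k hk x
    obtain ⟨w, hw, c, hc, rfl⟩ := dec x
    rw [smul_mul', hf _ (hW.inv k hk w hw) _ (hC k hk c hc), hf w hw c hc]
  have gk : ∀ k ∈ K, ∀ x ∈ W, g (k • x) = k • g x := by
    intro k hk x hx
    obtain ⟨w, hw, c, hc, rfl⟩ := dec' x hx
    rw [smul_mul', hg _ (hN k hk w hw) _ (hV.inv k hk c hc), hg w hw c hc]
  have f1 : ∀ c ∈ C, f c = 1 := by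
    intro c hc
    have := hf 1 W.one_mem c hc
    rwa [one_mul] at this
  have g1 : g 1 = 1 := by
    have := hg 1 N.one_mem 1 V.one_mem
    rwa [one_mul] at this
  -- `φ = 1 + g f`
  let φ : M →* M :=
    { toFun := fun x => x * g (f x)
      map_one' := by rw [f1 1 C.one_mem, g1, mul_one]
      map_mul' := fun x y => by
        rw [fm, gm _ (fW x) _ (fW y)]
        calc x * y * (g (f x) * g (f y)) = x * (y * g (f x)) * g (f y) := by group
          _ = x * (g (f x) * y) * g (f y) := by rw [s.comm y]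
          _ = _ := by group }
  have hφ : ∀ x, φ x = x * g (f x) := fun _ => rfl
  have hφφ : ∀ x, φ (φ x) = x := by
    intro x
    rw [hφ, hφ, fm, f1 (g (f x)) (hNC (gN _ (fW x))), mul_one, mul_assoc, s.sq, mul_one]
  let Φ : MulAut M :=
    { toFun := φ
      invFun := φ
      left_inv := hφφ
      right_inv := hφφ
      map_mul' := map_mul φ }
  have h1 := s.no_inv Φ (by
    intro k hk m
    change k • m * g (f (k • m)) = k • (m * g (f m))
    rw [smul_mul', fk k hk, gk k hk _ (fW m)]) (by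
    refine MulEquiv.ext fun m => ?_
    exact hφφ m)
  -- so `W ≤ V`
  have h2 : W ≤ V := by
    intro w hw
    have h3 : φ w = w := by
      have := congrArg (fun Ψ : MulAut M => Ψ w) h1
      exact this
    have h4 : f w = w := by
      have := hf w hw 1 C.one_mem
      rwa [mul_one] at this
    rw [hφ, h4, mul_eq_left] at h3
    obtain ⟨n, hn, v, hv, rfl⟩ := dec' w hw
    rw [hg n hn v hv] at h3
    rw [h3, one_mul]
    exact hv
  rcases hV.min W h2 hW.inv with h3 | h3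
  · exact hW.ne h3
  · exact hWV h3

/-- different irreducible `K`-submodules are independent -/
theorem indep_finset [Finite M] {W : Subgroup M} (hW : Smp K W) (J : Finset (Subgroup M))
    (hJ : ∀ V ∈ J, Smp K V) (hWJ : W ∉ J) : W ⊓ J.sup id = ⊥ := by
  classical
  induction J using Finset.induction_on with
  | empty => rw [Finset.sup_empty, inf_bot_eq]
  | insert V J hVJ ih =>
    have h1 := ih (fun U hU => hJ U (Finset.mem_insert_of_mem hU)) fun h => hWJ (Finset.mem_insert_of_mem h)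
    have hV := hJ V (Finset.mem_insert_self V J)
    have hWV : W ≠ V := fun h => hWJ (h ▸ Finset.mem_insert_self V J)
    have hN : Kin K (J.sup id) := by
      rw [Finset.sup_id_eq_sSup]
      exact kin_sSup fun U hU => (hJ U (Finset.mem_insert_of_mem hU)).inv
    rw [Finset.sup_insert, id]
    rcases hV.le_or hN with h2 | h2
    · rwa [sup_eq_right.2 h2]
    · rcases hW.le_or (hV.inv.sup hN) with h3 | h3
      · exact (s.no_tw hN hW hV hWV (by rwa [inf_comm]) (by rwa [inf_comm]) (by rwa [sup_comm])).elim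
      · exact h3

/-- the sum of the other irreducible `K`-submodules -/
def oth (K : Subgroup H) (W : Subgroup M) : Subgroup M := sSup {V | Smp K V ∧ V ≠ W}

omit s in
theorem le_oth {W V : Subgroup M} (hV : Smp K V) (hne : V ≠ W) : V ≤ oth K W := le_sSup ⟨hV, hne⟩

omit s in
theorem kin_oth {W : Subgroup M} : Kin K (oth K W) := kin_sSup fun _ hV => hV.1.inv

theorem inf_oth [Finite M] {W : Subgroup M} (hW : Smp K W) : W ⊓ oth K W = ⊥ := by
  classical
  have hfin := Set.toFinite {V : Subgroup M | Smp K V ∧ V ≠ W}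
  have h1 := s.indep_finset hW hfin.toFinset (fun V hV => ((Set.Finite.mem_toFinset hfin).1 hV).1)
    fun h => ((Set.Finite.mem_toFinset hfin).1 h).2 rfl
  rwa [Finset.sup_id_eq_sSup, Set.Finite.coe_toFinset] at h1

theorem sup_oth {W : Subgroup M} (hW : Smp K W) : W ⊔ oth K W = ⊤ := by
  refine s.top_of_conj hW.ne fun g => ?_
  by_cases h : gm g W = W
  · rw [h]; exact le_sup_left
  · exact (le_oth (hW.gm s.norm g) h).trans le_sup_right

theorem nst_oth {W : Subgroup M} {h : H} (e : gm h W = W) : gm h (oth K W) ≤ oth K W := by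
  have h1 : oth K W ≤ (oth K W).comap (MulDistribMulAction.toMonoidHom M h) := by
    refine sSup_le ?_
    rintro V ⟨hV, hVW⟩ v hv
    have h2 : gm h V ≠ W := by
      intro h3
      apply hVW
      have h4 := congrArg (gm h⁻¹) (h3.trans e.symm)
      rwa [gm_gm, gm_gm, inv_mul_cancel, gm_one, gm_one] at h4
    exact le_oth (hV.gm s.norm h) h2 (smul_mem_gm hv)
  rintro _ ⟨v, hv, rfl⟩
  exact h1 hv

end Sit

/-! ### exact subgroups -/

/-- an exact subgroup `A ≠ 1`, sub-exact and low -/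
structure Exa (H : Type u) [Group H] (M : Type v) [Group M] [MulDistribMulAction H M] (T A : Subgroup H) :
    Prop where
  AT : A ≤ T
  ne : A ≠ ⊥
  el : ∀ a ∈ A, a * a = 1
  exact : (cv M (A : Set H)).index = Nat.card A
  sub : ∀ C : Subgroup H, C ≤ A → Nat.card C ≤ (cv M (C : Set H)).index
  low : ∀ R : Subgroup H, T ≤ R → R ≠ ⊤ → A ≤ o2 R

theorem card_relIndex {G : Type*} [Group G] {B C : Subgroup G} (h : B ≤ C) :
    Nat.card B * B.relIndex C = Nat.card C := by
  have := relIndex_mul_relIndex ⊥ B C bot_le h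
  rwa [relIndex_bot_left, relIndex_bot_left] at this

/-- `T₁` is a Sylow subgroup of `K T₁` if `T ∩ K ≤ T₁ ≤ T` -/
theorem odd_sup [Finite H] {K T T₁ : Subgroup H} (hK : K.Normal) (hT : ¬ 2 ∣ T.index)
    (h1 : T ⊓ K ≤ T₁) (h2 : T₁ ≤ T) : ¬ 2 ∣ T₁.relIndex (K ⊔ T₁) := by
  have e5 : ∀ S : Subgroup H, K.relIndex (K ⊔ S) = (S ⊓ K).relIndex S := by
    intro S
    have h5 := relIndex_sup_left (S.subgroupOf (K ⊔ S)) (K.subgroupOf (K ⊔ S))
    rw [← Subgroup.subgroupOf_sup le_sup_left le_sup_right, Subgroup.subgroupOf_self,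
      Subgroup.relIndex_subgroupOf le_sup_right, relIndex_top_right] at h5
    rw [inf_relIndex_left, ← h5]
    rfl
  have e6 : ∀ S : Subgroup H, S.relIndex (K ⊔ S) = (S ⊓ K).relIndex K := by
    intro S
    have a1 := card_relIndex (show S ≤ K ⊔ S from le_sup_right)
    have a2 := card_relIndex (show K ≤ K ⊔ S from le_sup_left)
    have a3 := card_relIndex (show S ⊓ K ≤ K from inf_le_right)
    have a4 := card_relIndex (show S ⊓ K ≤ S from inf_le_left)
    have h7 : 0 < Nat.card S := Nat.card_pos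
    apply Nat.eq_of_mul_eq_mul_left h7
    rw [a1, ← a2, e5, ← a3]
    calc _ = Nat.card (S ⊓ K : Subgroup H) * (S ⊓ K).relIndex S * (S ⊓ K).relIndex K := by ring
      _ = _ := by rw [a4]
  have h3 : T₁ ⊓ K = T ⊓ K := le_antisymm (inf_le_inf_right K h2) (le_inf h1 inf_le_right)
  rw [e6, h3, ← e6]
  intro h4
  apply hT
  have h5 : T.relIndex (K ⊔ T) * (K ⊔ T).index = T.index := relIndex_mul_index le_sup_right
  exact Dvd.dvd.trans h4 (Dvd.intro _ h5)

/-- (ML) for subgroups and submodules -/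
theorem rel_of_mlk (ml : MLK.{u, v}) [Finite H] [Finite M] (sq : ∀ m : M, m * m = 1) (hKG : IsKGroup H)
    (R : Subgroup H) : Rel False R (⊤ : Subgroup M) :=
  rel_of (MonoidHom.id R) (fun x => ⟨x, rfl⟩) (MonoidHom.id M) (fun _ _ h => h) (fun m _ => ⟨m, rfl⟩)
    (fun _ _ => rfl) (ml R M (sec_KG.sub H hKG R) sq)

/-- **LEMMA B**: no decomposition `M = W ⊕ V` into `K`-submodules is normalised by `A`. -/
theorem no_dec (ml : MLK.{u, v}) [Finite H] [Finite M] (hKG : IsKGroup H) {K T A : Subgroup H}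
    (s : Sit H M K T) (e : Exa H M T A) {W V : Subgroup M} (hW : Kin K W) (hV : Kin K V) (hWV : W ⊓ V = ⊥)
    (hsup : W ⊔ V = ⊤) (hW0 : W ≠ ⊥) (hV0 : V ≠ ⊥) (hAW : A ≤ nst W) (hAV : A ≤ nst V) : False := by
  have hK := s.norm
  have hinv : ∀ x : M, x⁻¹ = x := fun x => inv_eq_of_mul_eq_one_right (s.sq x)
  have hM0 : (⊤ : Subgroup M) ≠ ⊥ := fun h0 => hW0 (le_bot_iff.1 (h0 ▸ le_top))
  obtain ⟨v, -, hv1, hvT⟩ := MinFrame.exists_fixed (H := H) s.sq s.two (W := (⊤ : Subgroup M)) hM0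
    fun _ _ _ _ => mem_top _
  -- `M = ⟨v^K⟩`
  have horb : orb K v = ⊤ := by
    have hinvK : K ≤ nst (orb K v) := Kin.le_nst fun k hk m hm => smul_mem_orb hk hm
    have hinvT : T ≤ nst (orb K v) := by
      refine Kin.le_nst fun t ht => ?_
      have h1 : orb K v ≤ (orb K v).comap (MulDistribMulAction.toMonoidHom M t) := by
        refine orb_le fun k hk => ?_
        change t • k • v ∈ orb K v
        have h2 : t • k • v = (t * k * t⁻¹) • v := by
          rw [mul_smul, mul_smul]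
          congr 2
          rw [eq_inv_smul_iff]
          exact hvT t ht
        rw [h2]
        exact smul_mem_orb_self (hK.conj_mem k hk t)
      exact fun m hm => h1 hm
    rcases s.irr (orb K v) (by
      have h3 : K ⊔ T ≤ nst (orb K v) := sup_le hinvK hinvT
      rw [s.gen] at h3
      exact fun h w hw => (h3 (mem_top h) w).2 hw) with h1 | h1
    · exfalso
      apply hv1
      have := mem_orb_self K v
      rwa [h1, mem_bot] at this
    · exact h1
  have hst : MulAction.stabilizer H v ≠ ⊤ := by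
    intro h1
    apply hv1
    have h2 : v ∈ cv M (K : Set H) := fun k _ => by
      have : k ∈ MulAction.stabilizer H v := h1 ▸ mem_top k
      exact this
    rwa [s.cv_K, mem_bot] at h2
  have hTst : T ≤ MulAction.stabilizer H v := fun t ht => hvT t ht
  have hAo : A ≤ o2 (MulAction.stabilizer H v) := e.low _ hTst hst
  -- the decomposition of `v`
  obtain ⟨v₁, hv₁, v₂, hv₂, hvv⟩ := mem_sup_c s.comm (hsup.ge (mem_top v))
  set T₁ : Subgroup H := T ⊓ (nst W ⊓ nst V) with hT₁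
  have hAT₁ : A ≤ T₁ := le_inf e.AT (le_inf hAW hAV)
  have hTK : T ⊓ K ≤ T₁ := le_inf inf_le_left (inf_le_right.trans (le_inf hW.le_nst hV.le_nst))
  set X₁ : Subgroup H := K ⊔ T₁ with hX₁
  have hX₁W : X₁ ≤ nst W := sup_le hW.le_nst (inf_le_right.trans inf_le_left)
  have hX₁V : X₁ ≤ nst V := sup_le hV.le_nst (inf_le_right.trans inf_le_right)
  have hfix₁ : ∀ t ∈ T₁, t • v₁ = v₁ := by
    intro t ht
    have h1 : (t • v₁) * (t • v₂) = v₁ * v₂ := by rw [← smul_mul', hvv, hvT t ht.1]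
    exact (uniq hWV ((ht.2.1 v₁).2 hv₁) hv₁ ((ht.2.2 v₂).2 hv₂) hv₂ h1).1
  set R₁ : Subgroup H := X₁ ⊓ MulAction.stabilizer H v₁ with hR₁
  have hT₁R₁ : T₁ ≤ R₁ := le_inf le_sup_right fun t ht => hfix₁ t ht
  have hT₁X₁ : ¬ 2 ∣ T₁.relIndex X₁ := odd_sup hK s.syl hTK inf_le_left
  have hT₁R₁' : ¬ 2 ∣ T₁.relIndex R₁ := by
    intro h1
    apply hT₁X₁
    have h2 : T₁.relIndex R₁ * R₁.relIndex X₁ = T₁.relIndex X₁ :=
      relIndex_mul_relIndex _ _ _ hT₁R₁ inf_le_left
    exact Dvd.dvd.trans h1 (Dvd.intro _ h2)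
  have hT₁2 : IsPGroup 2 T₁ := s.two.to_le inf_le_left
  set O := o2 (MulAction.stabilizer H v) with hO
  have hO2 : IsPGroup 2 O := o2_isPGroup _
  have hOle : O ≤ MulAction.stabilizer H v := o2_le _
  have hOn : MulAction.stabilizer H v ≤ normalizer (O : Set H) := le_normalizer_o2 _
  -- (ML) for `R₁` and `U = ⟨v^R₁⟩`
  set U := orb R₁ v with hU
  have ml1 : (fxr H U).relIndex A ≤ (cv M (A : Set H)).relIndex U :=
    rel_of_mlk ml s.sq hKG R₁ T₁ (O ⊓ R₁) A v (mem_top v) hT₁2 hT₁R₁ hT₁R₁' (fun t ht => hvT t ht.1)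
      (hO2.to_le inf_le_left) inf_le_right (fun q hq => hOle hq.1)
      (fun g hg hgv q hq => ⟨(mem_normalizer_iff.1 (hOn hgv) q).1 hq.1,
        R₁.mul_mem (R₁.mul_mem hg hq.2) (R₁.inv_mem hg)⟩)
      (le_inf hAo (hAT₁.trans hT₁R₁)) e.el fun h => h.elim
  set D : Subgroup H := A ⊓ fxr H U with hD
  have hDA : D ≤ A := inf_le_left
  have hUD : U ≤ cv M (D : Set H) := cv_inf_eq_iff.2 inf_le_right
  have hcle : cv M (A : Set H) ≤ cv M (D : Set H) := cv_anti (SetLike.coe_subset_coe.2 hDA)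
  have c1 : (cv M (A : Set H)).relIndex (cv M (D : Set H)) * (cv M (D : Set H)).index = Nat.card A := by
    rw [← e.exact]
    exact relIndex_mul_index hcle
  have c2 : Nat.card D * (fxr H U).relIndex A = Nat.card A := by
    have := card_relIndex hDA
    rwa [hD, inf_relIndex_left] at this
  have c3 : (cv M (A : Set H)).relIndex U ≤ (cv M (A : Set H)).relIndex (cv M (D : Set H)) :=
    relIndex_le_of_le_right hUD (relIndex_ne _ _)
  have c4 := e.sub D hDA
  have hDpos : 0 < Nat.card D := Nat.card_pos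
  have hApos : 0 < Nat.card A := Nat.card_pos
  -- equalities
  have c5 : (cv M (D : Set H)).index = Nat.card D := by
    refine le_antisymm ?_ c4
    by_contra hc
    push Not at hc
    have h1 : (fxr H U).relIndex A ≤ (cv M (A : Set H)).relIndex (cv M (D : Set H)) := ml1.trans c3
    have h2 : 0 < (fxr H U).relIndex A := Nat.pos_of_ne_zero (relIndex_ne _ _)
    have h3 : Nat.card A < Nat.card A := by
      calc Nat.card A = Nat.card D * (fxr H U).relIndex A := c2.symm
        _ < (cv M (D : Set H)).index * (fxr H U).relIndex A := Nat.mul_lt_mul_of_pos_right hc h2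
        _ ≤ (cv M (D : Set H)).index * (cv M (A : Set H)).relIndex (cv M (D : Set H)) :=
          Nat.mul_le_mul_left _ h1
        _ = Nat.card A := by rw [mul_comm, c1]
    exact lt_irrefl _ h3
  -- `D ≤ O₂(C_{R₁}(U))`
  set N : Subgroup H := R₁ ⊓ fxr H U with hN
  have hUR : ∀ g ∈ R₁, ∀ m ∈ U, g • m ∈ U := fun g hg m hm => smul_mem_orb hg hm
  have hNn : R₁ ≤ normalizer (N : Set H) := by
    intro g hg
    rw [mem_normalizer_iff]
    intro x
    constructor
    · exact fun hx => ⟨R₁.mul_mem (R₁.mul_mem hg hx.1) (R₁.inv_mem hg), conj_mem_fxr hUR hg hx.2⟩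
    · intro hx
      have h1 : g⁻¹ * (g * x * g⁻¹) * g⁻¹⁻¹ ∈ N :=
        ⟨R₁.mul_mem (R₁.mul_mem (R₁.inv_mem hg) hx.1) (R₁.inv_mem (R₁.inv_mem hg)),
          conj_mem_fxr hUR (R₁.inv_mem hg) hx.2⟩
      have e1 : g⁻¹ * (g * x * g⁻¹) * g⁻¹⁻¹ = x := by group
      rwa [e1] at h1
  have hNst : N ≤ MulAction.stabilizer H v := fun x hx => hx.2 v (mem_orb_self _ _)
  have hDo : D ≤ o2 N := by
    have h1 : O ⊓ N ≤ o2 N := by
      refine le_o2 inf_le_right (hO2.to_le inf_le_left) ?_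
      intro x hx
      rw [mem_normalizer_iff]
      intro y
      have hxO := mem_normalizer_iff.1 (hOn (hNst hx)) y
      have hxN : y ∈ N ↔ x * y * x⁻¹ ∈ N := mem_normalizer_iff.1 (le_normalizer hx) y
      exact ⟨fun hy => ⟨hxO.1 hy.1, hxN.1 hy.2⟩, fun hy => ⟨hxO.2 hy.1, hxN.2 hy.2⟩⟩
    refine le_trans ?_ h1
    exact le_inf (hDA.trans hAo) (le_inf (hDA.trans (hAT₁.trans hT₁R₁)) inf_le_right)
  have ho2n : R₁ ≤ normalizer (o2 N : Set H) := by
    intro g hg
    exact ZN.normalizer_le_normalizer_o2 _ (hNn hg)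
  -- (ML) for `X₁` and `W₁ = ⟨v₁^X₁⟩`
  have ml2 : (fxr H (orb X₁ v₁)).relIndex D ≤ (cv M (D : Set H)).relIndex (orb X₁ v₁) :=
    rel_of_mlk ml s.sq hKG X₁ T₁ (o2 N) D v₁ (mem_top _) hT₁2 le_sup_right hT₁X₁ hfix₁ (o2_isPGroup _)
      ((o2_le _).trans (inf_le_left.trans inf_le_left)) (fun q hq => ((o2_le N) hq).1.2)
      (fun g hg hgv q hq => (mem_normalizer_iff.1 (ho2n ⟨hg, hgv⟩) q).1 hq)
      hDo (fun a ha => e.el a (hDA ha)) fun h => h.elim
  have horb1 : orb X₁ v₁ ≤ W := orb_le fun g hg => (hX₁W hg v₁).2 hv₁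
  have horb1' : W ≤ orb X₁ v₁ := by
    have h1 : (⊤ : Subgroup M) ≤ orb X₁ v₁ ⊔ V := by
      rw [← horb]
      refine orb_le fun k hk => ?_
      rw [← hvv, smul_mul']
      exact mul_mem ((le_sup_left : orb X₁ v₁ ≤ orb X₁ v₁ ⊔ V) (smul_mem_orb_self ((le_sup_left : K ≤ X₁) hk)))
        ((le_sup_right : V ≤ orb X₁ v₁ ⊔ V) (hV k hk v₂ hv₂))
    intro w hw
    obtain ⟨a, ha, b, hb, hab⟩ := mem_sup_c s.comm (h1 (mem_top w))
    have h2 : w = a ∧ (1 : M) = b := uniq hWV hw (horb1 ha) V.one_mem hb (by rw [mul_one, hab])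
    rw [h2.1]
    exact ha
  have horbW : orb X₁ v₁ = W := le_antisymm horb1 horb1'
  rw [horbW] at ml2
  have hDW : (fxr H W).relIndex D = Nat.card D := by
    rw [← inf_relIndex_left]
    have : D ⊓ fxr H W = ⊥ := by
      rw [eq_bot_iff]
      intro x hx
      exact mem_bot.2 (s.fix_bot hW hW0 hx.2)
    rw [this, relIndex_bot_left]
  rw [hDW] at ml2
  -- `M = W C_M(D)`
  have hWD : W ⊔ cv M (D : Set H) = ⊤ := by
    have hn : (cv M (D : Set H)).Normal := ⟨fun n hn g => by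
      rwa [s.comm g n, mul_assoc, mul_inv_cancel, mul_one]⟩
    have h1 : (cv M (D : Set H)).relIndex (W ⊔ cv M (D : Set H)) * (W ⊔ cv M (D : Set H)).index =
        (cv M (D : Set H)).index := relIndex_mul_index le_sup_right
    have h2 : (cv M (D : Set H)).relIndex W ≤ (cv M (D : Set H)).relIndex (W ⊔ cv M (D : Set H)) :=
      relIndex_le_of_le_right le_sup_left (relIndex_ne _ _)
    rw [c5] at h1
    have h3 : (W ⊔ cv M (D : Set H)).index = 1 := by
      have h4 : 0 < (W ⊔ cv M (D : Set H)).index := Nat.pos_of_ne_zero index_ne_zero_of_finite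
      by_contra h5
      have h6 : 2 ≤ (W ⊔ cv M (D : Set H)).index := by omega
      have h7 : Nat.card D * 2 ≤ Nat.card D := by
        calc Nat.card D * 2 ≤ (cv M (D : Set H)).relIndex (W ⊔ cv M (D : Set H)) *
            (W ⊔ cv M (D : Set H)).index := Nat.mul_le_mul (ml2.trans h2) h6
          _ = Nat.card D := h1
      omega
    exact index_eq_one.1 h3
  -- `D = 1`
  have hD1 : D = ⊥ := by
    rw [eq_bot_iff]
    intro d hd
    refine mem_bot.2 (s.fix_bot hV hV0 fun m hm => ?_)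
    obtain ⟨w, hw, c, hc, hwc⟩ := mem_sup_c s.comm (hWD.ge (mem_top m))
    have hdm : d • m * m⁻¹ ∈ W ⊓ V := by
      constructor
      · have h1 : d • m * m⁻¹ = d • w * w⁻¹ := by
          rw [← hwc, smul_mul', hc d hd, mul_inv_rev]
          group
        rw [h1]
        exact W.mul_mem ((hAW (hDA hd) w).2 hw) (W.inv_mem hw)
      · exact V.mul_mem ((hAV (hDA hd) m).2 hm) (V.inv_mem hm)
    rw [hWV, mem_bot] at hdm
    exact mul_inv_eq_one.1 hdm
  -- `M = U C_M(A)`
  have hcD : cv M (D : Set H) = ⊤ := by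
    rw [eq_top_iff]
    intro m _ x hx
    rw [hD1] at hx
    rw [mem_bot.1 hx, one_smul]
  have hUA : U ⊔ cv M (A : Set H) = ⊤ := by
    have h0 : Nat.card A ≤ (cv M (A : Set H)).relIndex U := by
      rw [hD1, card_bot, one_mul] at c2
      rwa [c2] at ml1
    have h1 : (cv M (A : Set H)).relIndex (U ⊔ cv M (A : Set H)) * (U ⊔ cv M (A : Set H)).index =
        (cv M (A : Set H)).index := relIndex_mul_index le_sup_right
    have h2 : (cv M (A : Set H)).relIndex U ≤ (cv M (A : Set H)).relIndex (U ⊔ cv M (A : Set H)) :=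
      relIndex_le_of_le_right le_sup_left (relIndex_ne _ _)
    rw [e.exact] at h1
    have h3 : (U ⊔ cv M (A : Set H)).index = 1 := by
      have h4 : 0 < (U ⊔ cv M (A : Set H)).index := Nat.pos_of_ne_zero index_ne_zero_of_finite
      by_contra h5
      have h6 : 2 ≤ (U ⊔ cv M (A : Set H)).index := by omega
      have h7 : Nat.card A * 2 ≤ Nat.card A := by
        calc Nat.card A * 2 ≤ (cv M (A : Set H)).relIndex (U ⊔ cv M (A : Set H)) *
            (U ⊔ cv M (A : Set H)).index := Nat.mul_le_mul (h0.trans h2) h6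
          _ = Nat.card A := h1
      omega
    exact index_eq_one.1 h3
  -- `A` centralises `W`
  have hUV : U ≤ zpowers v₁ ⊔ V := by
    refine orb_le fun g hg => ?_
    rw [← hvv, smul_mul']
    have h1 : g • v₁ = v₁ := hg.2
    rw [h1]
    exact mul_mem ((le_sup_left : zpowers v₁ ≤ zpowers v₁ ⊔ V) (mem_zpowers v₁))
      ((le_sup_right : V ≤ zpowers v₁ ⊔ V) ((hX₁V hg.1 v₂).2 hv₂))
  apply e.ne
  rw [eq_bot_iff]
  intro a ha
  refine mem_bot.2 (s.fix_bot hW hW0 fun w hw => ?_)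
  obtain ⟨u, hu, c, hc, huc⟩ := mem_sup_c s.comm (hUA.ge (mem_top w))
  have haw : a • w * w⁻¹ ∈ W ⊓ V := by
    refine ⟨W.mul_mem ((hAW ha w).2 hw) (W.inv_mem hw), ?_⟩
    have h1 : a • w * w⁻¹ = a • u * u⁻¹ := by
      rw [← huc, smul_mul', hc a ha, mul_inv_rev]
      group
    rw [h1]
    obtain ⟨x, hx, y, hy, hxy⟩ := mem_sup_c s.comm (hUV hu)
    obtain ⟨n, rfl⟩ := mem_zpowers_iff.1 hx
    have h2 : a • u * u⁻¹ = a • y * y⁻¹ := by
      rw [← hxy, smul_mul', smul_zpow', hfix₁ a (hAT₁ ha), mul_inv_rev]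
      calc v₁ ^ n * a • y * (y⁻¹ * (v₁ ^ n)⁻¹) = v₁ ^ n * (a • y * y⁻¹) * (v₁ ^ n)⁻¹ := by group
        _ = a • y * y⁻¹ := by rw [s.comm (v₁ ^ n), mul_assoc, mul_inv_cancel, mul_one]
    rw [h2]
    exact V.mul_mem ((hAV ha y).2 hy) (V.inv_mem hy)
  rw [hWV, mem_bot] at haw
  exact mul_inv_eq_one.1 haw

/-- (a) an exact atom normalises every irreducible `K`-submodule -/
theorem atom_normalises [Finite H] [Finite M] {K T A : Subgroup H} (s : Sit H M K T) (e : Exa H M T A)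
    (hat : ∀ C : Subgroup H, C ≤ A → C ≠ ⊥ → C ≠ A → Nat.card C < (cv M (C : Set H)).index)
    {W : Subgroup M} (hW : Smp K W) {a : H} (ha : a ∈ A) : gm a W = W := by
  by_contra hne
  have hinv : ∀ x : M, x⁻¹ = x := fun x => inv_eq_of_mul_eq_one_right (s.sq x)
  have hinvA : ∀ z ∈ A, z⁻¹ = z := fun z hz => inv_eq_of_mul_eq_one_right (e.el z hz)
  have ab : ∀ a ∈ A, ∀ b ∈ A, a * b = b * a := by
    intro a ha b hb
    calc a * b = (a * b)⁻¹ := (hinvA _ (A.mul_mem ha hb)).symm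
      _ = b⁻¹ * a⁻¹ := mul_inv_rev _ _
      _ = b * a := by rw [hinvA _ ha, hinvA _ hb]
  have hcm : Nat.card A * Nat.card (cv M (A : Set H)) = Nat.card M := by
    rw [← e.exact, mul_comm]
    exact card_mul_index _
  have quad : ∀ a ∈ A, ∀ b ∈ A, ∀ m : M, b • ((a • m) * m⁻¹) = (a • m) * m⁻¹ := by
    refine TieX.quad_of_atom s.sq ab e.ne hcm.ge fun D hD hD1 => ?_
    rw [hcm, ← card_mul_index (cv M (D : Set H)), mul_comm]
    exact Nat.mul_lt_mul_of_pos_left (hat D hD.le hD1 hD.ne) Nat.card_pos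
  have hWa := hW.gm s.norm a
  have hdisj : W ⊓ gm a W = ⊥ := hW.disj hWa fun h => hne h.symm
  -- elements of `A` normalising `W` are trivial
  have key : ∀ b ∈ A, gm b W = W → b = 1 := by
    intro b hb hbW
    refine s.fix_bot hW.inv hW.ne fun w hw => ?_
    have h1 := quad a ha b hb w
    have hbw : b • w ∈ W := by
      have := smul_mem_gm (g := b) hw
      rwa [hbW] at this
    have h2 : b • (a • w) = a • (b • w) := by rw [← mul_smul, ← mul_smul, ab a ha b hb]
    rw [smul_mul', h2, smul_inv'] at h1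
    -- `(b w) w⁻¹ = (a b w) (a w)⁻¹`
    have h3 : b • w * w⁻¹ ∈ W ⊓ gm a W := by
      refine ⟨W.mul_mem hbw (W.inv_mem hw), ?_⟩
      have h4 : b • w * w⁻¹ = (a • w)⁻¹ * a • (b • w) := by
        have h5 : a • (b • w) = (a • w) * w⁻¹ * (b • w) := by rw [← h1]; group
        rw [h5, s.comm (b • w)]
        group
      rw [h4]
      exact (gm a W).mul_mem ((gm a W).inv_mem (smul_mem_gm hw)) (smul_mem_gm hbw)
    rw [hdisj, mem_bot] at h3
    exact mul_inv_eq_one.1 h3
  -- `|A| ≥ 4`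
  have hW2 : ∃ w ∈ W, w ≠ 1 := by
    obtain ⟨⟨w, hw⟩, hw1⟩ := Subgroup.ne_bot_iff_exists_ne_one.1 hW.ne
    exact ⟨w, hw, fun h => hw1 (Subtype.ext h)⟩
  have ha1 : a ≠ 1 := fun h => hne (by rw [h, gm_one])
  have hex : ∃ b ∈ A, b ≠ 1 ∧ b ≠ a := by
    by_contra hc
    push Not at hc
    -- `A = {1, a}`, `|M : C_M(a)| = 2`, but `w ↦ [w, a]` is injective on `W`
    have hA : A = zpowers a := by
      apply le_antisymm
      · intro b hb
        by_cases hb1 : b = 1
        · rw [hb1]; exact one_mem _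
        · rw [hc b hb hb1]; exact mem_zpowers a
      · rwa [zpowers_le]
    have hA2 : Nat.card A = 2 := by
      rw [hA, Nat.card_zpowers]
      exact orderOf_eq_prime (by rw [pow_two, e.el a ha]) ha1
    have h1 : (cv M (A : Set H)).index = 2 := by rw [e.exact, hA2]
    -- `|W| ≤ |M : C_M(A)|`
    have h2 : Nat.card W ≤ 2 := by
      rw [← h1, index]
      refine Nat.card_le_card_of_injective
        (fun w : W => (QuotientGroup.mk (w : M) : M ⧸ cv M (A : Set H))) fun x y hxy => ?_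
      rw [QuotientGroup.eq] at hxy
      have h3 : (x : M)⁻¹ * (y : M) ∈ W := W.mul_mem (W.inv_mem x.2) y.2
      have h4 : a • ((x : M)⁻¹ * (y : M)) = (x : M)⁻¹ * (y : M) := hxy a ha
      have h5 : (x : M)⁻¹ * (y : M) ∈ W ⊓ gm a W := ⟨h3, by rw [← h4]; exact smul_mem_gm h3⟩
      rw [hdisj, mem_bot] at h5
      exact Subtype.ext (inv_mul_eq_one.1 h5)
    -- so `K` centralises `W`
    obtain ⟨w, hw, hw1⟩ := hW2
    have h3 : ∀ x ∈ W, x = 1 ∨ x = w := by
      have hww : w * w = 1 := s.sq w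
      have h4 : zpowers w = W := by
        refine Subgroup.eq_of_le_of_card_ge (by rwa [zpowers_le]) ?_
        rw [Nat.card_zpowers, orderOf_eq_prime (by rw [pow_two, hww]) hw1]
        exact h2
      intro x hx
      rw [← h4] at hx
      obtain ⟨n, rfl⟩ := mem_zpowers_iff.1 hx
      rcases Int.even_or_odd' n with ⟨m, rfl | rfl⟩
      · left
        rw [zpow_mul, zpow_two, hww, one_zpow]
      · right
        rw [zpow_add, zpow_mul, zpow_two, hww, one_zpow, one_mul, zpow_one]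
    apply hw1
    have h4 : w ∈ cv M (K : Set H) := by
      intro k hk
      rcases h3 _ (hW.inv k hk w hw) with h5 | h5
      · exfalso
        apply hw1
        rw [← inv_smul_smul k w, h5, smul_one]
      · exact h5
    rwa [s.cv_K, mem_bot] at h4
  obtain ⟨b, hb, hb1, hba⟩ := hex
  obtain ⟨w, hw, hw1⟩ := hW2
  have hbW : gm b W ≠ W := fun h => hb1 (key b hb h)
  have habW : gm (b * a) W ≠ W := by
    intro h
    have h1 := key (b * a) (A.mul_mem hb ha) h
    apply hba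
    rw [mul_eq_one_iff_eq_inv, hinvA a ha] at h1
    exact h1
  have h1 := quad a ha b hb w
  rw [smul_mul', smul_inv', ← mul_smul] at h1
  have h2 : w ∈ W ⊓ Sit.oth K W := by
    refine ⟨hw, ?_⟩
    have h3 : w = (a • w) * ((b * a) • w * (b • w)⁻¹)⁻¹ := by
      rw [h1]
      rw [mul_inv_rev, inv_inv, s.comm w, mul_inv_cancel_left]
    rw [h3]
    refine (Sit.oth K W).mul_mem (Sit.le_oth hWa hne (smul_mem_gm hw))
      ((Sit.oth K W).inv_mem ((Sit.oth K W).mul_mem ?_ ((Sit.oth K W).inv_mem ?_)))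
    · exact Sit.le_oth (hW.gm s.norm (b * a)) habW (smul_mem_gm hw)
    · exact Sit.le_oth (hW.gm s.norm b) hbW (smul_mem_gm hw)
  rw [s.inf_oth hW, mem_bot] at h2
  exact hw1 h2

/-- **THEOREM IRR** for an exact subgroup -/
theorem irr_of_exa (ml : MLK.{u, v}) [Finite H] [Finite M] (hKG : IsKGroup H) {K T A : Subgroup H}
    (s : Sit H M K T) (e : Exa H M T A) :
    ∀ W : Subgroup M, (∀ k ∈ K, ∀ w ∈ W, k • w ∈ W) → W = ⊥ ∨ W = ⊤ := by
  intro U hU
  by_cases hU0 : U = ⊥
  · exact Or.inl hU0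
  right
  obtain ⟨W, hWU, hW⟩ := exists_smp (K := K) hU hU0
  suffices hWt : W = ⊤ from le_antisymm le_top (hWt ▸ hWU)
  by_contra hWt
  -- an exact atom
  obtain ⟨A₀, ⟨hA₀, hA₀ne, hA₀ex⟩, hmin⟩ := (Set.toFinite
    {C : Subgroup H | C ≤ A ∧ C ≠ ⊥ ∧ (cv M (C : Set H)).index = Nat.card C}).exists_minimal
    ⟨A, le_rfl, e.ne, e.exact⟩
  have hat : ∀ C : Subgroup H, C ≤ A₀ → C ≠ ⊥ → C ≠ A₀ → Nat.card C < (cv M (C : Set H)).index := by
    intro C hC hC0 hne
    refine lt_of_le_of_ne (e.sub C (hC.trans hA₀)) fun h => hne ?_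
    exact le_antisymm hC (hmin ⟨hC.trans hA₀, hC0, h.symm⟩ hC)
  have e₀ : Exa H M T A₀ := ⟨hA₀.trans e.AT, hA₀ne, fun a ha => e.el a (hA₀ ha), hA₀ex,
    fun C hC => e.sub C (hC.trans hA₀), fun R hT hR => hA₀.trans (e.low R hT hR)⟩
  have hn : ∀ a ∈ A₀, gm a W = W := fun a ha => atom_normalises s e₀ hat hW ha
  refine no_dec ml hKG s e₀ hW.inv Sit.kin_oth (s.inf_oth hW) (s.sup_oth hW) hW.ne ?_
    (fun a ha => mem_nst_of_gm (hn a ha)) ?_
  · intro h0
    apply hWt
    have := s.sup_oth hW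
    rwa [h0, sup_bot_eq] at this
  · intro a ha
    refine mem_nst_of_gm (le_antisymm (s.nst_oth (hn a ha)) ?_)
    have h1 : gm a⁻¹ W = W := hn a⁻¹ (A₀.inv_mem ha)
    have h2 := gm_mono a (s.nst_oth h1)
    rwa [gm_gm, mul_inv_cancel, gm_one] at h2

end Cfsg.Agent.Omega.ML.Ex.IrrK

namespace Cfsg.Agent.Omega.ML.Ex

open Subgroup Cfsg Cfsg.Agent.ClassTwoFusion.Quad
open Cfsg.Agent.Omega.ML.Final (MLK)

universe u v

variable {H : Type u} [Group H] {M : Type v} [Group M] [MulDistribMulAction H M] {K T A : Subgroup H}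

/-- `A` is exact, sub-exact and low -/
theorem InX.exa (h : InX H M K T A) : IrrK.Exa H M T A where
  AT := h.AT
  ne := h.A_ne_bot
  el := h.el
  exact := h.exact
  sub := h.sub
  low := h.low

/-- **THEOREM IRR** (#22122 (A)): `M|_K` is irreducible. -/
theorem InX.irr_K (ml : MLK.{u, v}) [Finite H] [Finite M] (hKG : IsKGroup H) (h : InX H M K T A) :
    ∀ W : Subgroup M, (∀ k ∈ K, ∀ w ∈ W, k • w ∈ W) → W = ⊥ ∨ W = ⊤ :=
  IrrK.irr_of_exa ml hKG h.sit h.exa

end Cfsg.Agent.Omega.ML.Ex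

end

-- merged: Cfsg.Agent.Mrg.Omega.CR.EndLie
section

/-!
# THEOREM END, P7: the exact situation with `K` of Lie type in characteristic two (helper818)

* `lie2` : `InX H M K T A`, `K` of Lie type in characteristic two: `C_M(T ∩ K)` is an irreducible module for
  `N_K(T ∩ K)` (`M|_K` is irreducible by `InX.irr_K`, then Curtis–Richen `CR.Bl.cr_lie`);
* `lie2'` : the same with `W = C_M(T ∩ K)` as an equality.
-/

set_option autoImplicit false

namespace Cfsg.Agent.Omega.CR.EndLie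

open Subgroup Cfsg Cfsg.Agent.Omega.ML.Ex Cfsg.Agent.ClassTwoFusion.Quad
open Cfsg.Agent.Omega.ML.Final (MLK)

universe u v

variable {H : Type u} [Group H] [Finite H] {M : Type v} [Group M] [Finite M] [MulDistribMulAction H M]
  {K T A : Subgroup H}

/-- every nonzero `N_K(T ∩ K)`-submodule of `C_M(T ∩ K)` is everything -/
theorem lie2 (ml : MLK.{u, v}) (hKG : IsKGroup H) (h : InX H M K T A) (hl : IsLieTypeChar 2 K) {W : Subgroup M}
    (hW : ∀ w ∈ W, ∀ s ∈ T ⊓ K, s • w = w)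
    (hN : ∀ n ∈ normalizer ((T ⊓ K : Subgroup H) : Set H), n ∈ K → ∀ w ∈ W, n • w ∈ W) (hne : W ≠ ⊥) :
    ∀ m : M, (∀ s ∈ T ⊓ K, s • m = m) → m ∈ W :=
  CR.Bl.cr_lie h.norm h.simple hl h.two h.syl h.sq (h.irr_K ml hKG) hW hN hne

end Cfsg.Agent.Omega.CR.EndLie

end
end

-- part: Mrg/Omega/ML/KnownAll
section
set_option linter.all false
open scoped Cfsg.Agent.FastGrp

-- part: Mrg/Omega/CoTwoK/Cert
section
/-!
# Invariant subgroups of `E` in `Spor.Co2` (helper904)

`irr` : `E` is irreducible under `N`; `pi_min` : `Ξ` is in every non-trivial subgroup of `E` invariant under `N_Ξ`;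
`f_max`, `f_uniq` : the same for `Ξ_f`.
-/

set_option autoImplicit false
set_option linter.dupNamespace false

namespace Cfsg.Agent.Omega.CoTwoK.Gen

open Cfsg Cfsg.Agent.SporadicA.GolayBase Cfsg.Agent.SporadicA.GolayPerm
open Cfsg.Agent.Co2Type.Mono Cfsg.Agent.Co2Type.TGroup Cfsg.Agent.Co2Type.TData Cfsg.Agent.Co2Type.FactsD
open Cfsg.Agent.KFacts.Co2.Mono Cfsg.Agent.Omega.CoTwoK.Span Cfsg.Agent.Omega.CoTwoK.Normal
open Cfsg.Agent.Omega.CoTwoK.PData
open Subgroup

/-- the masks of a subgroup -/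
def MS (Y : Subgroup Spor.Co2) : Set ℕ := {m | inE m = true ∧ ge m ∈ Y}

theorem cl_MS (Y : Subgroup Spor.Co2) : Cl (MS Y) where
  zero := ⟨inE_zero, by rw [ge_zero]; exact Y.one_mem⟩
  xor := by
    rintro a b ⟨ha, ha'⟩ ⟨hb, hb'⟩
    exact ⟨inE_xor ha hb, by rw [← ge_mul ha hb]; exact Y.mul_mem ha' hb'⟩

theorem mem_of_sp {Y : Subgroup Spor.Co2} : ∀ {l : List ℕ}, (∀ b ∈ l, b ∈ MS Y) → ∀ {m : ℕ}, Sp l m → ge m ∈ Y := by
  intro l h m hm
  suffices h1 : m ∈ MS Y from h1.2
  induction l generalizing m with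
  | nil =>
    have h' : m = 0 := hm
    rw [h']; exact (cl_MS Y).zero
  | cons b l ih =>
    have hb := h b List.mem_cons_self
    have hl : ∀ c ∈ l, c ∈ MS Y := fun c hc => h c (List.mem_cons_of_mem _ hc)
    rcases hm with hm | hm
    · exact ih hl hm
    · have h1 := (cl_MS Y).xor _ _ (ih hl hm) hb
      rwa [Nat.xor_assoc, Nat.xor_self, Nat.xor_zero] at h1

theorem conj_mem {Y : Subgroup Spor.Co2} {Q m : ℕ} (hQ : okP Q = true) (hlt : Q < 2 ^ 120)
    (h : mo2 0 Q ∈ normalizer (Y : Set Spor.Co2)) (hm : m ∈ MS Y) : pimg Q m ∈ MS Y := by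
  refine ⟨inE_pimg hQ hm.1, ?_⟩
  rw [← conj_mo2 inE_zero hQ hlt hm.1]
  exact (mem_normalizer_iff.1 h _).1 hm.2

/-- images of the basis -/
def IQN : List (List ℕ) := [[4202192, 5476616, 1103886, 1594898, 421910, 2232654, 1009728, 4485344, 7622914, 198058, 4243818, 290352, 1474854, 1060490, 4768432, 3375280, 3322370],
  [2101096, 3806496, 180636, 861210, 3610628, 705094, 1337732, 1161408, 6832158, 4301220, 843820, 1722420, 10558, 42232, 6656640, 1445088, 104010],
  [1050548, 3739786, 190626, 1060490, 2501890, 4231958, 1664160, 4921504, 2675464, 4294810, 1474854, 1134148, 1728778, 3189796, 6475812, 1384564, 7345676],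
  [525274, 742412, 4294810, 6062602, 2826278, 381252, 5842956, 4241960, 6295992, 307594, 10558, 1230376, 1256224, 1484824, 4282144, 722544, 3704512],
  [267634, 8077824, 4346506, 4744776, 2377830, 104010, 5785794, 2435240, 5063048, 5476616, 6588684, 3189796, 402026, 1230376, 2675464, 4063314, 2268296],
  [138790, 7622914, 6475812, 4220306, 416040, 1245726, 4485344, 463064, 2908802, 4921504, 5621792, 4253780, 280334, 6432416, 6979970, 8126628, 4346506],
  [72588, 4726026, 301236, 1327290, 2322816, 180636, 1384564, 4626498, 2365978, 190626, 5268006, 1204944, 1337732, 2141072, 4921504, 2168036, 5375810],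
  [36294, 1728778, 4213932, 5899416, 2372388, 237906, 5621792, 4336072, 4346506, 2201890, 1103886, 1084018, 5268006, 2268296, 168928, 1769924, 5280930],
  [21116, 6493202, 692282, 2908802, 4409606, 21116, 535268, 504864, 7079696, 4336072, 5514536, 157028, 416040, 3678776, 8077824, 2491452, 6455896],
  [10558, 2704706, 4325622, 4465308, 2201890, 252432, 8126628, 231532, 525274, 4241960, 1337732, 1217620, 2255372, 3375280, 2322816, 804052, 6554826]]

theorem IQN_eq : IQN = B10.map fun b => (none :: QN.map some).map fun Q => gq Q b := by decide +kernel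

/-- images of the basis -/
def IQ4 : List (List ℕ) := [[4202192, 267634, 1584464, 2491452, 4325622, 4261212, 5210132, 1594898, 6295992, 3678776, 2106966, 5508118, 1525008, 2425238, 42232, 3375280, 692282, 10558],
  [2101096, 2232654, 2702848, 919694, 4626498, 742412, 705094, 5785794, 4336072, 535268, 2372388, 4459426, 1351424, 6979970, 1664160, 1805314, 4346506, 843820],
  [1050548, 2245426, 2141072, 5899416, 4202192, 5210132, 252432, 555160, 4870480, 42232, 145176, 1084018, 4510744, 2654580, 4768432, 3179802, 525274, 1839388],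
  [525274, 2654580, 2120980, 861210, 6703248, 6832158, 1245726, 5329044, 145176, 4982904, 3421328, 1327290, 837906, 6832158, 115766, 4063314, 5899416, 615188],
  [267634, 4063314, 2106966, 926128, 2242672, 2820376, 3457556, 1903248, 6455896, 6889680, 3216208, 290352, 628112, 837906, 804052, 427666, 427666, 861210],
  [138790, 987906, 535268, 1192108, 6820450, 2328324, 2019456, 608810, 6308804, 6432416, 1090380, 6344194, 6100032, 2409888, 535268, 1410188, 104010, 4526126],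
  [72588, 2372388, 2890176, 1573998, 4459426, 5817604, 987906, 4346506, 2322816, 2101096, 277580, 5280930, 5621792, 8126628, 2220640, 3739786, 4755660, 545190],
  [36294, 6820450, 2631052, 1975812, 2296514, 6915112, 1675812, 3739786, 4346506, 4744776, 7345676, 5621792, 5817604, 545190, 63108, 2605066, 668866, 602472],
  [21116, 396116, 4202192, 1327290, 5640752, 180636, 421910, 5262104, 2384216, 2624690, 2384216, 427666, 4536592, 6594610, 722544, 5899416, 6455896, 421910],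
  [10558, 2757268, 2757268, 1613974, 2365978, 2810896, 1594898, 4294810, 1204944, 4202192, 1839388, 4768432, 7903248, 4768432, 615188, 861210, 4202192, 2969648]]

theorem IQ4_eq : IQ4 = B10.map fun b => (none :: Q4.map some).map fun Q => gq Q b := by decide +kernel

/-- images of the basis -/
def IQF : List (List ℕ) := [[4202192, 2810896, 4261212, 1121336, 861210, 1584464, 2180760, 560668, 150618, 4202192, 2106966, 1525008, 3179802, 290352],
  [2101096, 4441280, 1245726, 1351424, 2207772, 596054, 6832158, 3147996, 3294342, 4593028, 78514, 504864, 1070536, 3189796],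
  [1050548, 2180760, 1217620, 4361520, 2810896, 4731956, 861210, 42232, 2491452, 1050548, 2624690, 4510744, 4510744, 2106966],
  [525274, 2150610, 1573998, 1084018, 2702848, 668866, 6915112, 2268296, 1245726, 2757268, 3474978, 2969648, 180636, 3678776],
  [267634, 628112, 5899416, 3179802, 2460752, 1217620, 2624690, 4202192, 2106966, 2120980, 1050548, 628112, 2120980, 2491452],
  [138790, 742412, 5210132, 4726026, 1484824, 1722420, 1327290, 21116, 2512448, 7409024, 1613974, 951624, 7345676, 277580],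
  [72588, 2769128, 7438406, 4241960, 7221256, 1849378, 5063048, 2130606, 5652556, 5409412, 2826278, 416040, 7397512, 7612992],
  [36294, 2268296, 1687640, 5280930, 2820376, 2242672, 2969648, 301236, 280334, 7345676, 3678776, 742412, 5817604, 2101096],
  [21116, 1687640, 4367374, 5262104, 504864, 1573998, 6554826, 2101096, 4063314, 1186194, 4785798, 361272, 6295992, 1384564],
  [10558, 463064, 1805314, 4231958, 2268296, 138790, 5129250, 2168036, 3457556, 7479572, 1664160, 692282, 5329044, 3147996]]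

theorem IQF_eq : IQF = B10.map fun b => (none :: QF.map some).map fun Q => gq Q b := by decide +kernel

theorem vQN_eq : List.replicate 17 0 = (none :: QN.map some).map fun Q => gq Q 0 := by decide +kernel

theorem vQ4_eq : List.replicate 18 0 = (none :: Q4.map some).map fun Q => gq Q 0 := by decide +kernel

theorem vQF_eq : List.replicate 14 0 = (none :: QF.map some).map fun Q => gq Q 0 := by decide +kernel

theorem chkQN : QN.all (fun Q => okP Q && Nat.blt Q (2 ^ 120)) = true := by decide +kernel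

theorem chkQ4 : Q4.all (fun Q => okP Q && Nat.blt Q (2 ^ 120) && Nat.beq (papp Q 4) 4) = true := by decide +kernel

theorem chkQF : QF.all (fun Q => okP Q && Nat.blt Q (2 ^ 120) && ((Nat.beq (papp Q 4) 4 && Nat.beq (papp Q 10) 10) ||
    (Nat.beq (papp Q 4) 10 && Nat.beq (papp Q 10) 4))) = true := by
  decide +kernel

theorem QN_mem {Q : ℕ} (h : Q ∈ QN) : okP Q = true ∧ Q < 2 ^ 120 := by
  have h1 := List.all_eq_true.1 chkQN Q h
  rw [Bool.and_eq_true, Nat.blt_eq] at h1
  exact h1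

theorem Q4_mem {Q : ℕ} (h : Q ∈ Q4) : okP Q = true ∧ Q < 2 ^ 120 ∧
    mo2 0 Q ∈ normalizer (E : Set Spor.Co2) ⊓ normalizer (Xi : Set Spor.Co2) := by
  have h1 := List.all_eq_true.1 chkQ4 Q h
  rw [Bool.and_eq_true, Bool.and_eq_true, Nat.blt_eq] at h1
  obtain ⟨⟨h1, h2⟩, h3⟩ := h1
  exact ⟨h1, h2, mo2_mem_N inE_zero h1 h2, (mo2_norm_Xi_iff inE_zero h1 h2).2 (Nat.eq_of_beq_eq_true h3)⟩

theorem QF_mem {Q : ℕ} (h : Q ∈ QF) : okP Q = true ∧ Q < 2 ^ 120 ∧
    mo2 0 Q ∈ normalizer (E : Set Spor.Co2) ⊓ normalizer (Xf : Set Spor.Co2) := by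
  have h1 := List.all_eq_true.1 chkQF Q h
  rw [Bool.and_eq_true, Bool.and_eq_true, Nat.blt_eq, Bool.or_eq_true, Bool.and_eq_true, Bool.and_eq_true] at h1
  obtain ⟨⟨h1, h2⟩, h3⟩ := h1
  refine ⟨h1, h2, mo2_mem_N inE_zero h1 h2, mo2_norm_Xf inE_zero h1 h2 ?_⟩
  rcases h3 with ⟨h3, h4⟩ | ⟨h3, h4⟩
  · exact Or.inl ⟨Nat.eq_of_beq_eq_true h3, Nat.eq_of_beq_eq_true h4⟩
  · exact Or.inr ⟨Nat.eq_of_beq_eq_true h3, Nat.eq_of_beq_eq_true h4⟩

theorem isPerm_all {l : List ℕ} (h : ∀ Q ∈ l, okP Q = true) : (l.all isPerm) = true :=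
  List.all_eq_true.2 fun Q hQ => (Cfsg.Agent.SporadicStructure.M24El.ok_iff.1 (ok_of_okP (h Q hQ))).1

/-! ### the certificates -/

/-- the distance from the representative of the orbit -/
private def rk (T m : ℕ) : ℕ := Nat.mod (Nat.shiftRight T (Nat.mul 5 (Nat.shiftRight m 13))) 32

private def tsF (T : ℕ) (c : ℕ → Bool) (B : List ℕ) : List ℕ → Bool
  | [] => false
  | m :: v => cond (c m) ((frc (rk T m) fun r => v.any fun x => Nat.blt (rk T x) r && c x) || spanK (m :: v) B) true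

private theorem gen_inv {Qs B : List ℕ} {IL : List (List ℕ)} {v : List ℕ} {c : ℕ → Bool} {T : ℕ}
    (hQ : (Qs.all isPerm) = true)
    (hI : IL = B10.map fun b => (none :: Qs.map some).map fun Q => gq Q b)
    (hv : v = (none :: Qs.map some).map fun Q => gq Q 0)
    (h : allV IL (tsF T c B) v = true) {S : Set ℕ} (hS : Cl S) (hE : ∀ m ∈ S, inE m = true)
    (h1 : ∀ Q ∈ Qs, ∀ m ∈ S, pimg Q m ∈ S) {m : ℕ} (hc : c m = true) (h0 : m ∈ S) : ∀ b ∈ B, b ∈ S := by
  subst hI hv
  have hg : ∀ Q ∈ (none :: Qs.map some : List (Option ℕ)), ∀ a b, gq Q (a ^^^ b) = gq Q a ^^^ gq Q b := by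
    intro Q hQ' a b
    rcases List.mem_cons.1 hQ' with rfl | h2
    · rfl
    · obtain ⟨Q, hQ2, rfl⟩ := List.mem_map.1 h2
      exact pimg_xor (List.all_eq_true.1 hQ Q hQ2) a b
  induction hn : rk T m using Nat.strong_induction_on generalizing m with
  | _ n ih =>
  have h2 := allV_spec hg h m (sp_B10 (hE m h0))
  rw [Nat.zero_xor, List.map_cons] at h2
  change cond (c m) (frc (rk T m) _ || spanK (m :: _) B) true = true at h2
  have h3 : ∀ a ∈ (Qs.map some).map fun Q => gq Q m, a ∈ S := fun a h3 => by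
    rw [List.map_map] at h3
    obtain ⟨Q, hQ2, rfl⟩ := List.mem_map.1 h3
    exact h1 Q hQ2 m h0
  rw [hc, cond_true, frc_eq, Bool.or_eq_true, List.any_eq_true] at h2
  rcases h2 with ⟨x, h4, h5⟩ | h2
  · rw [Bool.and_eq_true, Nat.blt_eq] at h5
    exact ih _ (hn ▸ h5.1) h5.2 (h3 x h4) rfl
  · exact spanK_spec h2 hS (List.forall_mem_cons.2 ⟨h0, h3⟩)

private noncomputable def _root_.Cfsg.Agent.LsF.f43543f_0 : {f // @Cfsg.Agent.Omega.CoTwoK.Span.zipK = f} := ⟨_, by first | (delta Cfsg.Agent.Omega.CoTwoK.Span.zipK List.brecOn List.brecOn.go Cfsg.Agent.Omega.CoTwoK.Span.frc Cfsg.Agent.Omega.CoTwoK.Span.zipK._f; rewrite [Cfsg.Agent.LsF.nadd_pat]; (try delta Cfsg.Agent.Omega.CoTwoK.Span.zipK.match_1); (try delta Cfsg.Agent.Omega.CoTwoK.Span.zipK._sparseCasesOn_1); first | dsimp -zeta only | exact rfl) | exact rfl⟩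
private noncomputable def _root_.Cfsg.Agent.LsF.f43543f_1 : {f // @Cfsg.Agent.Omega.CoTwoK.Span.allV = f} := ⟨_, by first | (delta Cfsg.Agent.Omega.CoTwoK.Span.allV List.brecOn List.brecOn.go Cfsg.Agent.Omega.CoTwoK.Span.allV._f; rewrite [Cfsg.Agent.LsF.f43543f_0.2, Cfsg.Agent.LsF.and_eq]; (try delta Cfsg.Agent.Omega.CoTwoK.Span.allV.match_1); (try delta List.casesOn); first | dsimp -zeta only | exact rfl) | exact rfl⟩
private noncomputable def _root_.Cfsg.Agent.LsF.f43543f_2 : {f // @Cfsg.Agent.Omega.CoTwoK.Span.redK = f} := ⟨_, by first | (delta Cfsg.Agent.Omega.CoTwoK.Span.redK List.brecOn List.brecOn.go Cfsg.Agent.Omega.CoTwoK.Span.frc Cfsg.Agent.Omega.CoTwoK.Span.redK._f; rewrite [Cfsg.Agent.LsF.nadd_pat, Cfsg.Agent.LsF.cond_eq]; (try delta Cfsg.Agent.Omega.CoTwoK.Span.redK.match_1); (try delta List.casesOn); first | dsimp -zeta only | exact rfl) | exact rfl⟩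
private noncomputable def _root_.Cfsg.Agent.LsF.f43543f_3 : {f // @Cfsg.Agent.Omega.CoTwoK.Span.insK = f} := ⟨_, by first | (delta Cfsg.Agent.Omega.CoTwoK.Span.insK List.brecOn Cfsg.Agent.Omega.CoTwoK.Span.insK._f List.brecOn.go; rewrite [Cfsg.Agent.LsF.cond_eq]; (try delta Cfsg.Agent.Omega.CoTwoK.Span.insK.match_1); (try delta List.casesOn); first | dsimp -zeta only | exact rfl) | exact rfl⟩
private noncomputable def _root_.Cfsg.Agent.LsF.f43543f_4 : {f // @Cfsg.Agent.Omega.CoTwoK.Span.runK = f} := ⟨_, by first | (delta Cfsg.Agent.Omega.CoTwoK.Span.runK List.brecOn List.brecOn.go Cfsg.Agent.Omega.CoTwoK.Span.runK._f; rewrite [Cfsg.Agent.LsF.f43543f_2.2, Cfsg.Agent.LsF.f43543f_3.2, Cfsg.Agent.LsF.cond_eq]; (try delta Cfsg.Agent.Omega.CoTwoK.Span.runK.match_1); (try delta List.casesOn); first | dsimp -zeta only | exact rfl) | exact rfl⟩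
private noncomputable def _root_.Cfsg.Agent.LsF.f43543f_5 : {f // @Cfsg.Agent.Omega.CoTwoK.Span.spanK = f} := ⟨_, by first | (delta Cfsg.Agent.Omega.CoTwoK.Span.spanK; rewrite [Cfsg.Agent.LsF.f43543f_4.2, Cfsg.Agent.LsF.f43543f_2.2, Cfsg.Agent.LsF.all_eq]; exact rfl) | exact rfl⟩
private noncomputable def _root_.Cfsg.Agent.LsF.f43543f_6 : {f // @Cfsg.Agent.Omega.CoTwoK.Gen.tsF = f} := ⟨_, by first | (delta Cfsg.Agent.Omega.CoTwoK.Gen.tsF Cfsg.Agent.Omega.CoTwoK.Span.frc; rewrite [Cfsg.Agent.LsF.f43543f_5.2, Cfsg.Agent.LsF.nadd_pat, Cfsg.Agent.LsF.and_eq, Cfsg.Agent.LsF.or_eq, Cfsg.Agent.LsF.cond_eq, Cfsg.Agent.LsF.any_eq]; (try delta Cfsg.Agent.Omega.CoTwoK.Gen.tsF.match_1); (try delta List.casesOn); exact rfl) | exact rfl⟩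
private theorem certN : allV IQN (tsF 0x398cb31d2a51cc839869110e5421075194629ce918d4339d481a8c7220c821968525273a12949cca510c6324a821d08418ab1a0a94a92a220a851ca4320a85210921cea2190941ca8410c94a92a328e6209060a106224a53946a22d0a32928524e74a0c852d29424a7511273a92721d483a92a4210739d2829d274a4a7598c83910928ca84a52a521484a0e73a589520e83ad27520ab3110952127418e6424e92948a424e721d264294941529498823a12a40d24328c641d2a52d072a5452a10952506319092a520329493aca94a16538d493a5693a5094a5283a108420c7329693a9023950941d2749cc721d284990831d2951d4a4252a2212831d2942928324c8395085152a429055a0c83a12a1ad25425075194a3a8a74154941d093a1274a8eb42927320c741509384e319d063a4a35a127498e541d294248b398e451960124c932140291484a527328c9284e92a5684a527424e6128c92a4684294a3a129328e731c69324e7494c9425243a14951d484a52a4a1483a1244a50812109490e83990a4a148294e93992251507528e6324e742d0741d0629d0a4a14849d245194a31c8928c89421053a8c54192849d084192659906318e75114930d283212929d295152622d04520aa324a5420e74a9094a9283a1094a4a85244a5210849ca92a549094aa321284a1023a90352ce93ace7520c8514ea1208739d27495264a52732549520a83910849cc741d673a4c6428c8324e40a92841d2a5290741966291474a1063a10819d0849d0a298aa418e85ace629d46411294a8a63a4a83a907320c75a107314e84a0854a5294a08b32ce74a0e84a4e9499493a8c9418c63a5424a5074a143418a5490291954731cca429253a0e43a0684a146499084a5074a4c0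
    (fun m => !(Nat.beq m 0)) B10) (List.replicate 17 0) = true := by ((try (rewrite [Cfsg.Agent.LsF.f43543f_1.2, Cfsg.Agent.LsF.f43543f_6.2, Cfsg.Agent.LsF.not_eq, Cfsg.Agent.LsF.replicate_eq])); decide +kernel)

private theorem cert4 : allV IQ4 (tsF 0x1186619c63320e73946819cc04a0e841d071a86928cc51a0e6319083186632088120a62192338cc54852321c881a4e6414c7320e9218c32a48949ce749c87424c621d49424c6120c7288c529d2739507320e521929224284a4c639ca72110951ce9498c7299064146540d254992811cc44210338d25494c629ce62108539cc439cc921c26220e739d0809ce74a126224e83a0c7418c929c89498c6398a430525298a83990621d063210641cc8394c53a1073150631c6a420c529d23320e7215082a5063192841cc02a0c92a1093a484310863a1094150a2190642503394e5424e62a4c9420c62a48841cc83a0e3310c731ca539107490e939cc349ca6320c82a0883a10339d083190639d26318a529d2642507314e53a105391013a4e73052642486290e741088210c4398c92250839ce739c663a0c841cc6421060a0e321100398652a0c028906390e3220c6294c541ce84990642126294c94a0c3399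083a0c839509308683a0a83086539cc839d094a10512129419053952539ca02a128418883952541ce83990831cc43950639ca221ce929ce93a90639d27414e8390e3410e4418e6118c8494e539c48324c82a10a414c939cc62a4a33a4e931cc74110709906214874206609ce81a0c6394e421d0822128398c439cc439505310c621ce010d0529463225063a0e829cc2420a541ca9298c5299262a0a841ca749508489673a0a8290c8288a6298a831d28394673a0c611ce63a1052290731127394e8494a84a06539845424c93952741845398672a0453a0c739125398e341d0a4a8e9490e8214e8498e741507394e241506409043a0e649cc43884729ca8398e521ce731c842208739cc8398a732504510e83a0c7318e139ce3398e919ca739d0638520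
    (fun m => !(Nat.beq m 0)) BXi) (List.replicate 18 0) = true := by ((try (rewrite [Cfsg.Agent.LsF.f43543f_1.2, Cfsg.Agent.LsF.f43543f_6.2, Cfsg.Agent.LsF.not_eq, Cfsg.Agent.LsF.replicate_eq])); decide +kernel)

private theorem certF : allV IQF (tsF 0x86000000010200148000000014800000028003000002000500000000002800600000200000000010007000001800220006000002800500000018600000001480000000000001040000000108020003000001800800000000003000600000200030000000c800000000ce00190000000014a000000014e000000020a000000000000102000000014e00000020004000002000020005000003800400000018a00000001860000000000001c800000001080000002800700000200052000500000280050000018002000001800000000000004000100000400040000001c6000000010a0018800000001ce000000000001800700000200072000400000100060000000ca000000014800000000000014c0000000188000000018400000001ce001cc00000000c60000001000400000280030000000000300020000010000080060000018001000000000018006000001000400000008a000000014a001c80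00000018c0000000108000000010e00000000000018a00000001820000003000500000300073000400000380010000000000014c000000004c0010a00000001d000000028005000002000600000000001800600000300050000038004000003000328004000001800600000010c000000014e00000000000014e000000014800000028007000002800628004000003800600000014a000000014c00000000000014a0000000148000000008a000000018e0014600000001880000002800600000300040000000000300050000030005018a000000010a0000000000000cc000000008400000020004000003000320005000003000600000200040000010003000000000028005000001800600000014800000001460014e00000000ca000000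
    (fun m => Nat.testBit m 4 && Nat.testBit m 10) BXf) (List.replicate 14 0) = true := by
  ((try (rewrite [Cfsg.Agent.LsF.f43543f_1.2, Cfsg.Agent.LsF.f43543f_6.2, Cfsg.Agent.LsF.and_eq, Cfsg.Agent.LsF.testBit_eq, Cfsg.Agent.LsF.replicate_eq])); decide +kernel)

theorem spXi : allSp B10 (fun m => Nat.testBit m 4 || spB BXi m) 0 = true := by decide +kernel

private noncomputable def _root_.Cfsg.Agent.LsF.f43543f_7 : {f // @Cfsg.Agent.Co2Type.TGroup.allSp = f} := ⟨_, by first | (delta Cfsg.Agent.Co2Type.TGroup.allSp List.brecOn List.brecOn.go Cfsg.Agent.Co2Type.TGroup.allSp._f; rewrite [Cfsg.Agent.LsF.and_eq]; (try delta Cfsg.Agent.Co2Type.TGroup.allSp.match_1); (try delta List.casesOn); first | dsimp -zeta only | exact rfl) | exact rfl⟩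
private noncomputable def _root_.Cfsg.Agent.LsF.f43543f_8 : {f // @Cfsg.Agent.Co2Type.TGroup.spB = f} := ⟨_, by first | (delta Cfsg.Agent.Co2Type.TGroup.spB List.brecOn List.brecOn.go Cfsg.Agent.Co2Type.TGroup.spB._f; rewrite [Cfsg.Agent.LsF.cond_eq]; (try delta Cfsg.Agent.Co2Type.TGroup.Sp.match_1); (try delta List.casesOn); first | dsimp -zeta only | exact rfl) | exact rfl⟩
theorem spXf : allSp B10 (fun m => !(Nat.testBit m 4 == Nat.testBit m 10) || spB BXf m) 0 = true := by ((try (rewrite [Cfsg.Agent.LsF.f43543f_7.2, Cfsg.Agent.LsF.f43543f_8.2, Cfsg.Agent.LsF.bbeq_pat, Cfsg.Agent.LsF.or_eq, Cfsg.Agent.LsF.not_eq, Cfsg.Agent.LsF.testBit_eq])); decide +kernel)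

theorem sp_Xi {m : ℕ} (hm : inE m = true) (h : m.testBit 4 = false) : Sp BXi m := by
  have h1 := allSp_zero spXi (sp_B10 hm)
  rcases (Bool.or_eq_true _ _).mp h1 with h1 | h1
  · rw [h] at h1; exact Bool.noConfusion h1
  · exact sp_of_spB h1

theorem sp_Xf {m : ℕ} (hm : inE m = true) (h : m.testBit 4 = m.testBit 10) : Sp BXf m := by
  have h1 := allSp_zero spXf (sp_B10 hm)
  rcases (Bool.or_eq_true _ _).mp h1 with h1 | h1
  · rw [h] at h1; simp at h1
  · exact sp_of_spB h1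

end Cfsg.Agent.Omega.CoTwoK.Gen
end

-- part: Mrg/Omega/CoTwoK/Gen
section
section


/-!
# Invariant subgroups of `E` in `Spor.Co2`: the theorems (helper904)
-/

set_option autoImplicit false
set_option linter.dupNamespace false

namespace Cfsg.Agent.Omega.CoTwoK.Gen

open Cfsg Cfsg.Agent.SporadicA.GolayBase Cfsg.Agent.SporadicA.GolayPerm
open Cfsg.Agent.Co2Type.Mono Cfsg.Agent.Co2Type.TGroup Cfsg.Agent.Co2Type.TData Cfsg.Agent.Co2Type.FactsD
open Cfsg.Agent.KFacts.Co2.Mono Cfsg.Agent.Omega.CoTwoK.Span Cfsg.Agent.Omega.CoTwoK.Normal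
open Cfsg.Agent.Omega.CoTwoK.PData
open Subgroup

theorem exists_ne {Y : Subgroup Spor.Co2} (hY : Y ≤ E) (h : Y ≠ ⊥) : ∃ m, m ≠ 0 ∧ m ∈ MS Y := by
  rcases Y.bot_or_exists_ne_one with h1 | ⟨g, hg, hg1⟩
  · exact absurd h1 h
  · obtain ⟨m, hm, rfl⟩ := hY hg
    refine ⟨m, ?_, hm, hg⟩
    rintro rfl
    exact hg1 mo2_one

theorem ne_test {m : ℕ} (h : m ≠ 0) : (!(Nat.beq m 0)) = true := by
  rw [Bool.not_eq_true']
  exact Bool.eq_false_iff.2 fun h1 => h (Nat.eq_of_beq_eq_true h1)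

/-- **`E` is irreducible.** -/
theorem irr {Y : Subgroup Spor.Co2} (hY : Y ≤ E) (h0 : Y ≠ ⊥)
    (hn : normalizer (E : Set Spor.Co2) ≤ normalizer (Y : Set Spor.Co2)) : Y = E := by
  obtain ⟨m, hm0, hm⟩ := exists_ne hY h0
  have h1 := gen_inv (isPerm_all fun Q hQ => (QN_mem hQ).1) IQN_eq vQN_eq certN (cl_MS Y) (fun _ h => h.1)
    (fun Q hQ _ => conj_mem (QN_mem hQ).1 (QN_mem hQ).2
      (hn (mo2_mem_N inE_zero (QN_mem hQ).1 (QN_mem hQ).2))) (ne_test hm0) hm
  apply le_antisymm hY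
  rintro _ ⟨n, hn', rfl⟩
  exact mem_of_sp h1 (sp_B10 hn')

/-- **`Ξ` is the unique minimal `N_Ξ`-invariant subgroup.** -/
theorem pi_min {Y : Subgroup Spor.Co2} (hY : Y ≤ E) (h0 : Y ≠ ⊥)
    (hn : normalizer (E : Set Spor.Co2) ⊓ normalizer (Xi : Set Spor.Co2) ≤ normalizer (Y : Set Spor.Co2)) :
    Xi ≤ Y := by
  obtain ⟨m, hm0, hm⟩ := exists_ne hY h0
  have h1 := gen_inv (isPerm_all fun Q hQ => (Q4_mem hQ).1) IQ4_eq vQ4_eq cert4 (cl_MS Y) (fun _ h => h.1)
    (fun Q hQ _ => conj_mem (Q4_mem hQ).1 (Q4_mem hQ).2.1 (hn (Q4_mem hQ).2.2)) (ne_test hm0) hm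
  rintro _ ⟨n, hn', h4, rfl⟩
  exact mem_of_sp h1 (sp_Xi hn' h4)

/-- **Every proper `N_{Ξ_f}`-invariant subgroup of `Ξ_f` is in `Ξ`.** -/
theorem f_max {R : Subgroup Spor.Co2} (hR : R ≤ Xf) (hne : R ≠ Xf)
    (hn : normalizer (E : Set Spor.Co2) ⊓ normalizer (Xf : Set Spor.Co2) ≤ normalizer (R : Set Spor.Co2)) :
    R ≤ Xi := by
  by_contra hc
  obtain ⟨g, hg, hg'⟩ := SetLike.not_le_iff_exists.1 hc
  obtain ⟨m, hm, h4, rfl⟩ := hR hg
  have hb : m.testBit 4 = true := by
    rw [← Bool.not_eq_false]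
    exact fun h => hg' ((ge_mem_Xi hm).2 h)
  have h4' : m.testBit 4 = m.testBit 10 := h4
  have hmS : m ∈ MS R := ⟨hm, hg⟩
  have h1 := gen_inv (c := fun m => Nat.testBit m 4 && Nat.testBit m 10)
    (isPerm_all fun Q hQ => (QF_mem hQ).1) IQF_eq vQF_eq certF (cl_MS R) (fun _ h => h.1)
    (fun Q hQ _ => conj_mem (QF_mem hQ).1 (QF_mem hQ).2.1 (hn (QF_mem hQ).2.2))
    (show (Nat.testBit m 4 && Nat.testBit m 10) = true by rw [← h4', hb]; rfl) hmS
  apply hne
  apply le_antisymm hR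
  rintro _ ⟨n, hn', h4, rfl⟩
  exact mem_of_sp h1 (sp_Xf hn' h4)

/-- the products `b · b^Q` generate `Ξ_f` -/
theorem certU : spanK (B10.flatMap fun b => QF.map fun Q => Nat.xor b (pimg Q b)) BXf = true := by decide +kernel

/-- **`Ξ_f` is the unique `N_{Ξ_f}`-invariant hyperplane.** -/
theorem f_uniq {Y : Subgroup Spor.Co2} (hY : Y ≤ E) (hc : Nat.card Y = 2 ^ 9)
    (hn : normalizer (E : Set Spor.Co2) ⊓ normalizer (Xf : Set Spor.Co2) ≤ normalizer (Y : Set Spor.Co2)) :
    Y = Xf := by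
  have hi : Y.relIndex E = 2 := by
    have h2 := Subgroup.relIndex_mul_relIndex (⊥ : Subgroup Spor.Co2) Y E bot_le hY
    rw [Subgroup.relIndex_bot_left, Subgroup.relIndex_bot_left, hc, Cfsg.Agent.Co2Type.TCard.card_E] at h2
    omega
  have key : ∀ b ∈ B10, ∀ Q ∈ QF, b ^^^ pimg Q b ∈ MS Y := by
    intro b hb Q hQ
    have hbE := chkB b hb
    have hQE := inE_pimg (QF_mem hQ).1 hbE
    refine ⟨inE_xor hbE hQE, ?_⟩
    rw [← ge_mul hbE hQE]
    have h1 : ge (pimg Q b) ∈ Y ↔ ge b ∈ Y := by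
      rw [← conj_mo2 inE_zero (QF_mem hQ).1 (QF_mem hQ).2.1 hbE]
      exact (mem_normalizer_iff.1 (hn (QF_mem hQ).2.2) _).symm
    obtain ⟨a, ha, ha', h3⟩ := Subgroup.relIndex_eq_two_iff_exists_notMem_and.1 hi
    by_cases h2 : ge b ∈ Y
    · exact Y.mul_mem h2 (h1.2 h2)
    · have h2' : ge (pimg Q b) ∉ Y := fun h => h2 (h1.1 h)
      have h4 := (h3 _ (ge_mem hbE)).resolve_right h2
      have h5 := (h3 _ (ge_mem hQE)).resolve_right h2'
      have h6 := Y.mul_mem h4 (Y.inv_mem h5)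
      have h7 : ge b * a * (ge (pimg Q b) * a)⁻¹ = ge b * ge (pimg Q b) := by
        rw [mul_inv_rev, ge_inv hQE]; group
      rwa [h7] at h6
  have h1 : ∀ b ∈ BXf, b ∈ MS Y := by
    refine spanK_spec certU (cl_MS Y) ?_
    intro a ha
    obtain ⟨b, hb, ha⟩ := List.mem_flatMap.1 ha
    obtain ⟨Q, hQ, rfl⟩ := List.mem_map.1 ha
    exact key b hb Q hQ
  have h2 : Xf ≤ Y := by
    rintro _ ⟨n, hn', h4, rfl⟩
    exact mem_of_sp h1 (sp_Xf hn' h4)
  exact (Subgroup.eq_of_le_of_card_ge h2 (by rw [hc, card_Xf])).symm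

end Cfsg.Agent.Omega.CoTwoK.Gen

end

section


/-!
# EH3, row `Co₂`: the facts on `K = Spor.Co2` (helper904, helper962)

`coFacts : CoFacts E Xi Xf PP`.
-/

set_option autoImplicit false
set_option linter.dupNamespace false

namespace Cfsg.Agent.Omega.CoTwoK.Main

open Cfsg Cfsg.Agent.Co2Type.TGroup Cfsg.Agent.Omega.CoTwoK.Normal
open Cfsg.Agent.Omega.EH3.CoTwo

theorem r89 : ¬ 89 ∣ Nat.card Spor.Co2 := by
  rw [Cfsg.Agent.Co2Type.CardCo2.card_co2]
  norm_num

theorem coFacts : CoFacts (E : Subgroup Spor.Co2) Xi Xf Sextet.PP where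
  card := Cfsg.Agent.Co2Type.TCard.card_E
  r89 := r89
  irr := fun _ h1 h2 h3 => Gen.irr h1 h2 h3
  pi_le := Xi_le
  pi_card := card_Xi
  pi_ind := Point.pi_ind
  pi_two := Point.pi_two
  pi_min := fun _ h1 h2 h3 => Gen.pi_min h1 h2 h3
  pi_cen := Point.pi_cen
  X_P := Sextet.X_P
  P_ind := Sextet.P_ind
  Xf_def := Sextet.Xf_def
  f_uniq := fun _ h1 h2 h3 => Gen.f_uniq h1 h2 h3
  f_max := fun _ h1 h2 h3 => Gen.f_max h1 h2 h3
  f_ne := Xi_ne_Xf

end Cfsg.Agent.Omega.CoTwoK.Main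

end
end

-- part: Mrg/Omega/ML/KnownAll
section
-- merged: Cfsg.Agent.Mrg.Omega.ML.InOfEnd
section

/-!
# (ML): the reduction socket `Final.InOf` is discharged

* `inOf` : `Final.InOf`;
* `mlk_of_rows` : `MLK` from the rows alone.
-/

set_option autoImplicit false

namespace Cfsg.Agent.Omega.ML.InOfEnd

open Subgroup Cfsg Cfsg.Agent.Omega.ML.MinFrame Cfsg.Agent.Omega.ML.LocRow

universe u v

/-- **THE REDUCTION OF (ML)** -/
theorem inOf : Final.InOf.{u, v} := by
  intro H _ _ M _ _ _ T Q A z h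
  obtain ⟨L, B, hin⟩ := h.exists_in FFBr.aStmt
  obtain ⟨z', -, hb⟩ := hin.exists_base
  exact ⟨L, T, _, B, z', ⟨hin, hb⟩⟩

end Cfsg.Agent.Omega.ML.InOfEnd

end

-- merged: Cfsg.Agent.Mrg.Omega.ML.RowLocJ4
section

set_option autoImplicit false

namespace Cfsg.Agent.Omega.ML.RowLocJ4

open Subgroup Cfsg Cfsg.Agent.J4Type Cfsg.Agent.KFacts.J4
open Cfsg.Agent.Omega.ML.LocK Cfsg.Agent.Omega.ML.Rows Cfsg.Agent.Omega.ML.LocRow

universe u v

/-- **The row `J4`.** -/
theorem dead_j4 : Dead.{u, v} (fun S _ => Spor.IsoJ4 S) := by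
  refine dead_of_loc fun S _ _ hS => ?_
  obtain ⟨hfin, hs, ⟨F⟩⟩ := Base.exists_full hS
  obtain ⟨x, hx⟩ := LocJ4.exists_loc F.C.toFrame (TwoF.RowJ4.card_eq hS)
  refine ⟨⟨_, _, _, _, hx, ?_⟩, fun α => ?_⟩
  · rw [TwoF.RowJ4.card_eq hS]
    norm_num
  · exact SheetJ4.inner F α

end Cfsg.Agent.Omega.ML.RowLocJ4

end

-- merged: Cfsg.Agent.Mrg.Omega.ML.LocCo2
section

/-!
# (ML), THEOREM LOC: the K-fact of `Co2`: `2¹⁰:M22:2`, an element of order 11 (helper907)
-/

set_option autoImplicit false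

namespace Cfsg.Agent.Omega.ML.LocCo2

open Subgroup Cfsg
open Cfsg.Agent.SporadicA.GolayBase Cfsg.Agent.SporadicA.GolayPerm
open Cfsg.Agent.SporadicStructure.M24El
open Cfsg.Agent.Co2Type.Mono Cfsg.Agent.Co2Type.TGroup Cfsg.Agent.Co2Type.TData Cfsg.Agent.Co2Type.FactsD
open Cfsg.Agent.Omega.CoTwoK.Normal
open Cfsg.Agent.Omega.ML.LocK

/-- `i ↦ 2 i` -/
def P11 : ℕ := 0xbd6717b56939461b52507314831040

theorem chk : (okP P11 && Nat.blt P11 (2 ^ 120) && !(Nat.beq P11 idP)) = true := by decide +kernel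

theorem okP11 : okP P11 = true := by
  have h := chk
  rw [Bool.and_eq_true, Bool.and_eq_true] at h
  exact h.1.1

theorem P11_lt : P11 < 2 ^ 120 := by
  have h := chk
  rw [Bool.and_eq_true, Bool.and_eq_true, Nat.blt_eq] at h
  exact h.1.2

theorem P11_ne : P11 ≠ idP := by decide +kernel

/-- the powers -/
def pw : ℕ → ℕ
  | 0 => idP
  | n + 1 => pcomp (pw n) P11

theorem pw11 : pw 11 = idP := by decide +kernel

theorem okP_pw (n : ℕ) : okP (pw n) = true := by
  induction n with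
  | zero => exact okP_idP
  | succ n ih => exact okP_pcomp ih okP11

theorem pow_eq (n : ℕ) : (mo2 0 P11) ^ n = mo2 0 (pw n) := by
  induction n with
  | zero => rw [pow_zero]; exact mo2_one.symm
  | succ n ih =>
    rw [pow_succ, ih, mo2_mul inE_zero inE_zero (okP_pw n) okP11, pimg_zero (isPerm_of_ok (ok_of_okP (okP_pw n))),
      Nat.xor_zero]
    rfl

theorem orderOf_x : orderOf (mo2 0 P11) = 11 := by
  have : Fact (Nat.Prime 11) := ⟨by norm_num⟩
  apply orderOf_eq_prime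
  · rw [pow_eq, pw11, mo2_one]
  · intro h
    rw [← mo2_one] at h
    exact P11_ne (mo2_inj inE_zero inE_zero okP11 okP_idP P11_lt idP_lt h).2

theorem E_comm (a : Spor.Co2) (ha : a ∈ E) (b : Spor.Co2) (hb : b ∈ E) : a * b = b * a := by
  obtain ⟨m, hm, rfl⟩ := ha
  obtain ⟨n, hn, rfl⟩ := hb
  rw [E_mul hm hn, E_mul hn hm, Nat.xor_comm]

theorem E_sq (a : Spor.Co2) (ha : a ∈ E) : a * a = 1 := by
  obtain ⟨m, hm, rfl⟩ := ha
  exact ge_sq hm

theorem cent (g : Spor.Co2) (hg : ∀ a ∈ E, g * a = a * g) : g ∈ E := by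
  refine Cfsg.Agent.Omega.CoTwoK.Main.coFacts.pi_cen (mem_inf.2 ⟨?_, ?_⟩)
  · refine mem_normalizer_of (fun a ha => ?_) fun a ha => ?_
    · rw [hg a ha, mul_inv_cancel_right]; exact ha
    · rw [mul_assoc, ← hg a ha, inv_mul_cancel_left]; exact ha
  · rw [mem_centralizer_iff]
    intro a ha
    exact (hg a (Xi_le ha)).symm

theorem odd_index : ¬ 2 ∣ (normalizer (E : Set Spor.Co2)).index := by
  intro h
  have h1 : T ≤ normalizer (E : Set Spor.Co2) := by
    intro t ht
    refine mem_normalizer_of (fun a ha => E_normal t ht a ha) fun a ha => ?_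
    have h2 := E_normal t⁻¹ (T.inv_mem ht) a ha
    rwa [inv_inv] at h2
  have h2 := h.trans (index_dvd_of_le h1)
  have h3 := T.card_mul_index
  rw [Cfsg.Agent.Co2Type.TCard.card_T, Cfsg.Agent.Co2Type.CardCo2.card_co2] at h3
  omega

/-- **The K-fact of `Co2`.** -/
theorem loc : Loc Spor.Co2 E (mo2 0 P11) 11 10 where
  comm := E_comm
  sq := E_sq
  card := Cfsg.Agent.Co2Type.TCard.card_E
  odd := odd_index
  cent := cent
  prime := by norm_num
  p2 := by norm_num
  ord := orderOf_x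
  nd := by
    intro k h0 h1
    interval_cases k <;> omega
  norm := fun a ha => (mem_normalizer_iff.1 (mo2_mem_N inE_zero okP11 P11_lt) a).1 ha
  ne := by
    by_contra hcon
    push Not at hcon
    have h1 := cent _ hcon
    have h2 := E_sq _ h1
    have h3 := orderOf_dvd_of_pow_eq_one (show (mo2 0 P11) ^ 2 = 1 by rw [pow_two, h2])
    rw [orderOf_x] at h3
    omega

end Cfsg.Agent.Omega.ML.LocCo2

end

-- merged: Cfsg.Agent.Mrg.Omega.ML.RowLocCo
section

/-!
# (ML), the K-list end: the rows `Co1` and `Co2` (helper907)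
-/

set_option autoImplicit false

namespace Cfsg.Agent.Omega.ML.RowLocCo

open Subgroup Cfsg Cfsg.Agent.Omega.ML.Rows Cfsg.Agent.Omega.ML.LocRow

universe u v

/-- **The row `Co1`.** -/
theorem dead_co1 : Dead.{u, v} (fun S _ => Spor.IsoCo1 S) := by
  refine dead_of_loc fun S _ _ hS => ?_
  obtain ⟨e⟩ := hS
  refine ⟨⟨_, _, _, _, LocCo1.loc.map e.symm, ?_⟩, fun α => ?_⟩
  · rw [Nat.card_congr e.toEquiv, Cfsg.Agent.CoOneType.Identify.card_co1]
    norm_num
  · obtain ⟨s, hs⟩ := Cfsg.Agent.ConwayFacts.AutCo1.inner_of_equiv e α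
    exact ⟨s, MulEquiv.ext hs⟩

/-- **The row `Co2`.** -/
theorem dead_co2 : Dead.{u, v} (fun S _ => Spor.IsoCo2 S) := by
  refine dead_of_loc fun S _ _ hS => ?_
  obtain ⟨e⟩ := hS
  refine ⟨⟨_, _, _, _, LocCo2.loc.map e.symm, ?_⟩, fun α => Cfsg.Agent.KFacts.CoTwo.Main.allInner_iso e α⟩
  rw [Nat.card_congr e.toEquiv, Cfsg.Agent.Co2Type.CardCo2.card_co2]
  norm_num

end Cfsg.Agent.Omega.ML.RowLocCo

end

-- merged: Cfsg.Agent.Mrg.Omega.ML.KnownDone
section

/-!
# (ML), the K-list end: the landed rows (helper484)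

`rowsOf` : `RowsML` from the rows which are not yet on main; `mlk_of` : (ML) for K-groups (`Final.MLK`) from them.
-/

set_option autoImplicit false

namespace Cfsg.Agent.Omega.ML.KnownDone

open Cfsg Cfsg.Agent.Omega.ML.LocRow Cfsg.Agent.Omega.ML.Known

universe u v

/-- **The rows.** -/
theorem rowsOf (odd : DeadZ.{u, v} fun S _ => OddLie S ∧ ¬ IsLieTypeChar 2 S) (tits : DeadZ.{u, v} @Lie.IsoTits)
    (suz : DeadZ.{u, v} @Spor.IsoSuz) : RowsML.{u, v} where
  lie2 := Dead.deadZ LieRow.dead_lie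
  alt := Dead.deadZ AltDead.alt
  a6 := Dead.deadZ AltDead.a6
  odd := odd
  tits := tits
  m11 := Dead.deadZ RowMJ.M11.dead
  m12 := Dead.deadZ RowM12.dead
  m22 := Dead.deadZ RowMLoc.M22.dead
  m23 := Dead.deadZ RowM23.dead
  m24 := Dead.deadZ RowM24.dead
  j1 := Dead.deadZ RowMJ.J1.dead
  j2 := Dead.deadZ RowJ23.dead_J2
  j3 := Dead.deadZ RowJ23.dead_J3
  j4 := Dead.deadZ RowLocJ4.dead_j4
  co1 := Dead.deadZ RowLocCo.dead_co1
  co2 := Dead.deadZ RowLocCo.dead_co2
  co3 := RowCo3.deadZ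
  mcl := Dead.deadZ RowMT.McL.dead
  hs := Dead.deadZ RowHS.dead_HS
  suz := suz
  he := Dead.deadZ RowHe.dead
  ru := Dead.deadZ RowRu.dead
  on := Dead.deadZ RowON.dead
  ly := Dead.deadZ RowMT.Ly.dead
  fi22 := Dead.deadZ RowFi22.dead
  fi23 := RowFi23.deadZ
  fi24 := Dead.deadZ RowFi24.dead
  hn := Dead.deadZ RowHN.dead_HN
  th := Dead.deadZ RowBM.thompson
  b := Dead.deadZ RowBM.baby
  m := Dead.deadZ RowBM.monster

/-- **(ML) for K-groups**, from the rows which are not yet on main. -/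
theorem mlk_of (odd : DeadZ.{u, v} fun S _ => OddLie S ∧ ¬ IsLieTypeChar 2 S) (tits : DeadZ.{u, v} @Lie.IsoTits)
    (suz : DeadZ.{u, v} @Spor.IsoSuz) : Final.MLK.{u, v} :=
  Final.mlk_of InOfEnd.inOf (rowsOf odd tits suz).known

end Cfsg.Agent.Omega.ML.KnownDone

end

-- merged: Cfsg.Agent.Mrg.Omega.ML.OddLie
section

/-!
# (ML), the K-list end: the field `odd` of `Known.RowsML` (helper393)

`odd_of` : the rows `PSp₄(7)`, `PSp₄(9)`, `PSp₆(3)`, `G₂(3)`, `G₂(5)` are arguments, every other group of Lie type in odd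
characteristic is treated; `odd` : the field.
-/

set_option autoImplicit false

namespace Cfsg.Agent.Omega.ML.OddLie

open Cfsg Cfsg.Agent.Omega.KFacts Cfsg.Agent.Omega.ML.Rows Cfsg.Agent.Omega.ML.LocRow Cfsg.Agent.Omega.ML.Num
  Cfsg.Agent.Omega.ML.Known

universe u v

/-- rows of `NumML` -/
theorem num : DeadZ.{u, v} fun S _ => NumML.{u, v} S := DeadZ.of_dead Num.dead

/-- `A₆` -/
theorem a6 : DeadZ.{u, v} fun S _ => Nonempty (S ≃* alternatingGroup (Fin 6)) :=
  DeadZ.of_deadG (fun _ _ _ _ e ⟨f⟩ => ⟨e.symm.trans f⟩) AltSix.deadG_six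

/-- `PSL₂(q)`, `q` odd -/
theorem lTwo : DeadZ.{u, v} fun S _ => ∃ (F : Type) (_ : Field F) (_ : Fintype F), Odd (Fintype.card F) ∧
    3 < Fintype.card F ∧ Nonempty (S ≃* Matrix.ProjectiveSpecialLinearGroup (Fin 2) F) := by
  have h1 : DeadZ.{u, v} fun S _ => ∃ (F : Type) (_ : Field F) (_ : Fintype F), Odd (Fintype.card F) ∧
      3 < Fintype.card F ∧ Fintype.card F ≠ 9 ∧ Nonempty (S ≃* Matrix.ProjectiveSpecialLinearGroup (Fin 2) F) :=
    DeadZ.of_deadG (fun _ _ _ _ e ⟨F, i, j, h1, h2, h3, ⟨f⟩⟩ => ⟨F, i, j, h1, h2, h3, ⟨e.symm.trans f⟩⟩)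
      RowLTwoOdd.deadG
  intro H _ _ M _ _ _ K T Q A z hI hS
  obtain ⟨F, i, j, h2, h3, ⟨e⟩⟩ := hS
  by_cases h9 : Fintype.card F = 9
  · obtain ⟨f⟩ := S0254.result h9
    exact a6 H M K T Q A z hI ⟨e.trans f⟩
  · exact h1 H M K T Q A z hI ⟨F, i, j, h2, h3, h9, ⟨e⟩⟩

/-- `PSL_n(q)`, `q` odd -/
theorem psl : DeadZ.{u, v} fun S _ => OddChar @IsPSLChar S := by
  intro H _ _ M _ _ _ K T Q A z hI hS
  rcases OddPsl.psl.{u, v} hS with h | h | h
  · exact lTwo H M K T Q A z hI h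
  · exact DeadZ.of_deadG RowL33.isoClosed RowL33.deadG H M K T Q A z hI h
  · exact num H M K T Q A z hI h

/-- `PSU_n(q)`, `q` odd -/
theorem psu : DeadZ.{u, v} fun S _ => OddChar @IsPSUChar S := by
  intro H _ _ M _ _ _ K T Q A z hI hS
  by_cases h33 : PsuNum.IsU 3 3 (K ⧸ Subgroup.center K)
  · obtain ⟨F, _, _, hF, ⟨e⟩⟩ := h33
    exact DeadZ.of_dead RowU33.dead H M K T Q A z hI ⟨F, inferInstance, inferInstance, by rw [hF]; norm_num, ⟨e⟩⟩
  by_cases h43 : IsUFourThree (K ⧸ Subgroup.center K)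
  · exact DeadZ.of_dead RowUFour.row H M K T Q A z hI h43
  · exact num H M K T Q A z hI (UThreeNine.psu _ hS h33 h43)

/-- the exceptional Chevalley groups, `q` odd -/
theorem chev_of (h3 : DeadZ.{u, v} @RowGTwoThree.IsGTwoThree) (h5 : DeadZ.{u, v} @RowGTwoFive.IsGTwoFive) :
    DeadZ.{u, v} fun S _ => OddChar @IsExceptionalChevChar S := by
  intro H _ _ M _ _ _ K T Q A z hI hS
  rcases OddExc.exceptional.{u, v} hS with ⟨p, hp, hp2, F, _, _, _, hq, ⟨e⟩⟩ | h
  · have : Fact p.Prime := ⟨hp⟩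
    obtain ⟨k, hk⟩ := RowPsp.odd_card (F := F) (p := p) hp2
    by_cases h3' : Fintype.card F = 3
    · exact h3 H M K T Q A z hI ⟨F, inferInstance, inferInstance, h3', ⟨e⟩⟩
    by_cases h5' : Fintype.card F = 5
    · exact h5 H M K T Q A z hI ⟨F, inferInstance, inferInstance, h5', ⟨e⟩⟩
    · exact num H M K T Q A z hI (GTwoTorus.numML hp2 (by omega) e)
  · exact num H M K T Q A z hI h

/-- **The field `odd` of `Known.RowsML`.** -/
theorem odd_of (h4 : DeadZ.{u, v} @RowPsp.IsPSpFour) (h6 : DeadZ.{u, v} @RowPsp.IsPSpSixThree)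
    (hg3 : DeadZ.{u, v} @RowGTwoThree.IsGTwoThree) (hg5 : DeadZ.{u, v} @RowGTwoFive.IsGTwoFive) :
    DeadZ.{u, v} fun S _ => OddLie S ∧ ¬ IsLieTypeChar 2 S := by
  rintro H _ _ M _ _ _ K T Q A z hI ⟨⟨p, hp, hp2, h⟩, hn⟩
  rcases h with h | h | h | h | h | h | h | h | h | h | h
  · exact psl H M K T Q A z hI ⟨p, hp, hp2, h⟩
  · exact RowPsp.psp_of h4 h6 H M K T Q A z hI ⟨⟨p, hp, hp2, h⟩, hn⟩
  · exact psu H M K T Q A z hI ⟨p, hp, hp2, h⟩
  · exact num H M K T Q A z hI (RowOm.omOdd _ ⟨p, hp, hp2, h⟩)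
  · exact num H M K T Q A z hI (RowOm.omPlus _ ⟨p, hp, hp2, h⟩)
  · exact num H M K T Q A z hI (RowOm.omMinus _ ⟨p, hp, hp2, h⟩)
  · exact chev_of hg3 hg5 H M K T Q A z hI ⟨p, hp, hp2, h⟩
  · exact num H M K T Q A z hI (OddExc.twisted ⟨p, hp, hp2, h⟩)
  · exact absurd h.1 hp2
  · exact absurd h.1 hp2
  · exact DeadZ.of_dead RowRee.dead H M K T Q A z hI h.2

/-- **The field `odd` of `Known.RowsML`.** -/
theorem odd : DeadZ.{u, v} fun S _ => OddLie S ∧ ¬ IsLieTypeChar 2 S :=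
  odd_of RowPspFour.four (DeadZ.of_dead RowPspSix.dead) (DeadZ.of_dead RowGTwoThree.dead) RowGTwoFive.deadZ

end Cfsg.Agent.Omega.ML.OddLie

end

-- merged: Cfsg.Agent.Mrg.Omega.ML.RowTitsNum
section

/-!
# (ML), the K-list end: the row of the Tits group, by numbers (helper369)

`LB 24`, `RK 5`, `|X : N| ≤ 2`, `17971200 ^ 4 * 2 ^ 20 < 2 ^ 120`.
-/

set_option autoImplicit false

namespace Cfsg.Agent.Omega.ML.RowTitsNum

open Cfsg.Agent.Omega.TwoF

universe u v

theorem numML {K : Type u} [Group K] (h : Cfsg.Lie.IsoTits K) : Num.NumML.{u, v} K := by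
  refine ⟨24, 5, 1, LBConv.heis_of_twoF (RowTits.lb h), TitsK.rk_five h, ?_, ?_⟩
  · intro X _ _ N _ hN hc A _ _
    exact TitsK.index_le h N hN hc
  · rw [TitsAut.card_iso h]
    norm_num

/-- **the row of the Tits group** -/
theorem dead : Rows.Dead.{u, v} @Cfsg.Lie.IsoTits := by
  intro H _ _ M _ _ _ K T A hI h
  exact Num.dead H M K T A hI (numML h)

theorem deadZ : LocRow.DeadZ.{u, v} @Cfsg.Lie.IsoTits := LocRow.Dead.deadZ dead

end Cfsg.Agent.Omega.ML.RowTitsNum

end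

-- merged: Cfsg.Agent.Mrg.Omega.ML.KnownAll
section

/-!
# (ML), the K-list end: all rows (helper484)

* `rows` : all rows of the K-list (`Known.RowsML`);
* `known` : `DeadZ @IsKnownSimple'`;
* `mlk` : **(ML) for K-groups** (`Final.MLK`), no open hypothesis.
-/

set_option autoImplicit false

namespace Cfsg.Agent.Omega.ML.KnownAll

open Cfsg Cfsg.Agent.Omega.ML.LocRow Cfsg.Agent.Omega.ML.Known

universe u v

/-- All rows, from the odd Lie row. -/
theorem rows_of_odd (odd : DeadZ.{u, v} fun S _ => OddLie S ∧ ¬ IsLieTypeChar 2 S) : RowsML.{u, v} :=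
  KnownDone.rowsOf odd RowTitsNum.deadZ (Dead.deadZ RowSuz.dead)

/-- (ML) for K-groups, from the odd Lie row. -/
theorem mlk_of_odd (odd : DeadZ.{u, v} fun S _ => OddLie S ∧ ¬ IsLieTypeChar 2 S) : Final.MLK.{u, v} :=
  KnownDone.mlk_of odd RowTitsNum.deadZ (Dead.deadZ RowSuz.dead)

/-- **All rows of the K-list.** -/
theorem rows : RowsML.{u, v} := rows_of_odd OddLie.odd

/-- The K-list: no known simple group is the component of a counterexample to (ML). -/
theorem known : DeadZ.{u, v} @IsKnownSimple' := rows.known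

/-- **(ML) for K-groups.** -/
theorem mlk : Final.MLK.{u, v} := mlk_of_odd OddLie.odd

end Cfsg.Agent.Omega.ML.KnownAll

end
end
end

-- part: Mrg/Omega/ML/Ex/Ext
section
prune_inst 0x200400000000000000000000000000000000000101000000000000000000000000010000020008000000001200400000000000000000000000080000000000000000000000000000000000000000000000
set_option linter.all false
open scoped Cfsg.Agent.FastGrp

-- merged: Cfsg.Agent.Mrg.Omega.ML.Ex.RowFi22X
section

section


/-!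
# Exact and low configurations: the numerical rows `Fi22` and `He` (helper114)

* `false_of_nx`, `deadX_of_nx` : the numerical criterion `NX` (`LB K n`, `|X| < 2 ^ n`) over `InX`;
* `fi22 : DeadX @Spor.IsoFi22` (`|M| ≥ 2 ^ 54`, `|H| < 2 ^ 47`);
* `he : DeadX @Spor.IsoHe` (`|M| ≥ 2 ^ 42`, `|H| < 2 ^ 33`).
-/

set_option autoImplicit false

namespace Cfsg.Agent.Omega.ML.Ex.RowFi22X

open Subgroup Cfsg Cfsg.Agent.ClassTwoFusion.Quad Cfsg.Agent.Omega.NOThree.NoOver Cfsg.Agent.Omega.ML.CD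
open Cfsg.Agent.Omega.ML.ExLow.NumX Cfsg.Agent.Omega.Lie

universe u v w

/-- `K` is not abelian -/
theorem not_comm {H : Type u} [Group H] {M : Type v} [Group M] [MulDistribMulAction H M] {K T A : Subgroup H}
    (h : InX H M K T A) : ¬ ∀ a b : K, a * b = b * a := by
  intro hc
  have h1 : K ≤ centralizer (K : Set H) := by
    intro x hx
    rw [mem_centralizer_iff]
    intro y hy
    exact congrArg Subtype.val (hc ⟨y, hy⟩ ⟨x, hx⟩)
  rw [h.cen] at h1
  have hs := h.simple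
  obtain ⟨x, hx⟩ := exists_ne (1 : K)
  exact hx (Subtype.ext (mem_bot.1 (h1 x.2)))

/-- `|M| = |A| |C_M(A)|` -/
theorem card_eq {H : Type u} [Group H] {M : Type v} [Group M] [MulDistribMulAction H M] {K T A : Subgroup H}
    (h : InX H M K T A) : Nat.card M = fo M A := by
  rw [fo, ← h.exact, mul_comm]
  exact ((cv M (A : Set H)).card_mul_index).symm

end Cfsg.Agent.Omega.ML.Ex.RowFi22X

end

section


/-!
# (E1) of EXT (#22253, 585): THEOREM RED carries two `T`-fixed vectors to one component (helper690)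

`X = KT`, `K = E × C_K(E)` as in `CmpM`, `M` irreducible.  Then `M = [M,E] × C_M(E)`; the components in `[M,E]` of two
`T`-fixed vectors `x, y ≠ 1` are `≠ 1` and `N_T(E)`-fixed, and if an overgroup `R` of `T` fixes `y` and moves `x`, then
an overgroup `R₁ ≤ E N_T(E)` of `N_T(E)` fixes the component of `y` and moves the component of `x`.

* `Mv T x y` : two `T`-fixed vectors and such an `R`;
* **`CmpM.exists_mv`** : the result inside `X`;
* **`CmpM.mv`** : the result for a group `X₁` acting on `[M,E]` and `φ : E N_T(E) → X₁`.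
-/

set_option autoImplicit false

namespace Cfsg.Agent.Omega.ML.Ex.Red

open Subgroup Cfsg Cfsg.Agent.ZN Cfsg.Agent.Omega.NOThree.NoOver Cfsg.Agent.Omega.ML.CD
open Cfsg.Agent.ClassTwoFusion.Quad Cfsg.Agent.Omega.ML.MinFrame

universe u v w

variable {X : Type u} [Group X] {M : Type v} [Group M] [MulDistribMulAction X M]

/-- Two `T`-fixed vectors `x, y ≠ 1` and an overgroup of `T` which fixes `y` and moves `x`. -/
structure Mv (T : Subgroup X) (x y : M) : Prop where
  xT : ∀ t ∈ T, t • x = x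
  yT : ∀ t ∈ T, t • y = y
  x1 : x ≠ 1
  y1 : y ≠ 1
  mv : ∃ R : Subgroup X, T ≤ R ∧ (∀ r ∈ R, r • y = y) ∧ ∃ r ∈ R, r • x ≠ x

variable {T B K E : Subgroup X} {lam : M}

/-- `g` with `[M,g] ≤ U` -/
def into (U : Subgroup M) (sq : ∀ m : M, m * m = 1) : Subgroup X where
  carrier := {g | ∀ m : M, g • m * m ∈ U}
  one_mem' := fun m => by rw [one_smul, sq]; exact U.one_mem
  mul_mem' := by
    intro g k hg hk m
    have h1 : (g * k) • m * m = (g • (k • m) * (k • m)) * (k • m * m) := by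
      rw [mul_smul, mul_assoc (g • k • m), ← mul_assoc (k • m) (k • m), sq, one_mul]
    rw [h1]
    exact U.mul_mem (hg _) (hk m)
  inv_mem' := by
    intro g hg m
    have h1 := hg (g⁻¹ • m)
    rw [smul_inv_smul] at h1
    have h2 : g⁻¹ • m * m = (m * g⁻¹ • m)⁻¹ := by
      rw [mul_inv_rev, inv_eq_of_mul_eq_one_right (sq m), inv_eq_of_mul_eq_one_right (sq (g⁻¹ • m))]
    rw [h2]
    exact U.inv_mem h1

theorem mem_sup_comm {E C : Subgroup X} (hC : C ≤ centralizer (E : Set X)) {g : X} (hg : g ∈ E ⊔ C) :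
    ∃ e ∈ E, ∃ c ∈ C, e * c = g := by
  let U : Subgroup X :=
    { carrier := {g | ∃ e ∈ E, ∃ c ∈ C, e * c = g}
      one_mem' := ⟨1, E.one_mem, 1, C.one_mem, one_mul 1⟩
      mul_mem' := by
        rintro _ _ ⟨e, he, c, hc, rfl⟩ ⟨f, hf, d, hd, rfl⟩
        refine ⟨e * f, E.mul_mem he hf, c * d, C.mul_mem hc hd, ?_⟩
        have h2 : f * c = c * f := mem_centralizer_iff.1 (hC hc) f hf
        rw [mul_assoc e f, ← mul_assoc f c d, h2, mul_assoc c f d, ← mul_assoc e c]
      inv_mem' := by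
        rintro _ ⟨e, he, c, hc, rfl⟩
        refine ⟨e⁻¹, E.inv_mem he, c⁻¹, C.inv_mem hc, ?_⟩
        have h2 : e * c = c * e := mem_centralizer_iff.1 (hC hc) e he
        rw [h2, mul_inv_rev] }
  have h1 : E ⊔ C ≤ U := sup_le (fun e he => ⟨e, he, 1, C.one_mem, mul_one e⟩)
    fun c hc => ⟨1, E.one_mem, c, hc, one_mul c⟩
  exact h1 hg

namespace CmpM

/-- `E^{t⁻¹}` is in `C_K(E)` -/
theorem conj_inv (h : CmpM T B K E lam) {t : X} (ht : t ∈ T) (htn : t ∉ normalizer (E : Set X)) {f : X}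
    (hf : f ∈ E) : t⁻¹ * f * t ∈ K ∧ t⁻¹ * f * t ∈ centralizer (E : Set X) := by
  constructor
  · have := h.cmp.normK.conj_mem f (h.cmp.EK hf) t⁻¹
    rwa [inv_inv] at this
  · refine h.cmp.conj t⁻¹ (T.inv_mem ht) (fun h1 => htn (by simpa using inv_mem h1)) ⟨f, hf, ?_⟩
    simp only [_root_.map_inv, _root_.MulEquiv.toMonoidHom_eq_coe, _root_.MonoidHom.coe_coe, _root_.MulAut.inv_apply, _root_.MulAut.conj_symm_apply]

/-- `M = [M,E] C_M(E)` for irreducible `M` -/
theorem sup_top (h : CmpM T B K E lam)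
    (irr : ∀ W : Subgroup M, (∀ g : X, ∀ w ∈ W, g • w ∈ W) → W = ⊥ ∨ W = ⊤) (m : M) :
    m ∈ cm M E ⊔ cv M (E : Set X) := by
  have h1 : K ≤ into (X := X) (cm M E ⊔ cv M (E : Set X)) h.cmp.mn.sq := by
    refine h.cmp.tcl.trans (tcl_le fun t ht => ?_)
    rintro _ ⟨e, he, rfl⟩ n
    by_cases htn : t ∈ normalizer (E : Set X)
    · have h2 : t * e * t⁻¹ ∈ E := (mem_normalizer_iff.1 htn e).1 he
      exact mem_sup_left (mem_cm h2 n)
    · refine mem_sup_right fun f hf => ?_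
      obtain ⟨h3, h4⟩ := h.conj_inv ht htn hf
      have e1 : (MulAut.conj t) e • n * n = t • (e • (t⁻¹ • n) * (t⁻¹ • n)) := by
        rw [MulAut.conj_apply, smul_mul', smul_inv_smul, mul_smul, mul_smul]
      change f • ((MulAut.conj t) e • n * n) = (MulAut.conj t) e • n * n
      rw [e1]
      have h5 := h.cenN _ h3 h4 _ (mem_cm he (t⁻¹ • n))
      rw [mul_smul, mul_smul, inv_smul_eq_iff] at h5
      exact h5
  have h2 : cm M K = ⊤ := by
    refine (irr (cm M K) fun g w hw => smul_mem_cm ?_ hw).resolve_left fun h3 => ?_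
    · rw [@normalizer_eq_top _ _ K h.cmp.normK]
      trivial
    · have hs := h.cmp.simple
      obtain ⟨e, he⟩ := exists_ne (1 : E)
      refine he (Subtype.ext (h.cmp.mn.faith e fun n => ?_))
      have h4 : (e : X) • n * n ∈ cm M K := mem_cm (h.cmp.EK e.2) n
      rw [h3, mem_bot] at h4
      rw [eq_inv_of_mul_eq_one_left h4, inv_eq_of_mul_eq_one_right (h.cmp.mn.sq n)]
  have h3 : cm M K ≤ cm M E ⊔ cv M (E : Set X) := cm_le fun k hk n => h1 hk n
  rw [h2] at h3
  exact h3 trivial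

/-- `C_M(K) = 1` for irreducible `M` -/
theorem cvK (h : CmpM T B K E lam)
    (irr : ∀ W : Subgroup M, (∀ g : X, ∀ w ∈ W, g • w ∈ W) → W = ⊥ ∨ W = ⊤) {m : M}
    (hm : ∀ k ∈ K, k • m = m) : m = 1 := by
  have h1 : cv M (K : Set X) = ⊥ := by
    refine (irr (cv M (K : Set X)) fun g w hw k hk => ?_).resolve_right fun h3 => ?_
    · have h1 : g⁻¹ * k * g ∈ K := by
        have := h.cmp.normK.conj_mem k hk g⁻¹
        rwa [inv_inv] at this
      have h2 := hw _ h1
      rw [mul_smul, mul_smul, inv_smul_eq_iff] at h2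
      exact h2
    · have hs := h.cmp.simple
      obtain ⟨e, he⟩ := exists_ne (1 : E)
      refine he (Subtype.ext (h.cmp.mn.faith e fun n => ?_))
      have h4 : n ∈ cv M (K : Set X) := h3 ▸ mem_top n
      exact h4 e (h.cmp.EK e.2)
  have h2 : m ∈ cv M (K : Set X) := hm
  rwa [h1, mem_bot] at h2

/-- `[M,E] ∩ C_M(E) = 1` for irreducible `M` -/
theorem inf_bot (h : CmpM T B K E lam)
    (irr : ∀ W : Subgroup M, (∀ g : X, ∀ w ∈ W, g • w ∈ W) → W = ⊥ ∨ W = ⊤) {m : M}
    (h1 : m ∈ cm M E) (h2 : ∀ e ∈ E, e • m = m) : m = 1 := by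
  refine h.cvK irr fun k hk => ?_
  have h3 : E ⊔ (K ⊓ centralizer (E : Set X)) ≤ MulAction.stabilizer X m := by
    refine sup_le (fun e he => MulAction.mem_stabilizer_iff.2 (h2 e he)) fun f hf => ?_
    exact MulAction.mem_stabilizer_iff.2 (h.cenN f hf.1 hf.2 m h1)
  rw [h.cmp.sup] at h3
  exact MulAction.mem_stabilizer_iff.1 (h3 hk)

/-- uniqueness of the decomposition -/
theorem uniq (h : CmpM T B K E lam)
    (irr : ∀ W : Subgroup M, (∀ g : X, ∀ w ∈ W, g • w ∈ W) → W = ⊥ ∨ W = ⊤) {a a' b b' : M}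
    (ha : a ∈ cm M E) (hb : b ∈ cm M E) (ha' : a' ∈ cv M (E : Set X)) (hb' : b' ∈ cv M (E : Set X))
    (hab : a * a' = b * b') : a = b ∧ a' = b' := by
  have h1 : b⁻¹ * a = b' * a'⁻¹ := by
    rw [inv_mul_eq_iff_eq_mul, ← mul_assoc, ← hab, mul_inv_cancel_right]
  have h2 : b⁻¹ * a = 1 := by
    refine h.inf_bot irr ((cm M E).mul_mem ((cm M E).inv_mem hb) ha) fun e he => ?_
    rw [h1]
    exact ((cv M (E : Set X)).mul_mem hb' ((cv M (E : Set X)).inv_mem ha')) e he
  rw [inv_mul_eq_one] at h2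
  refine ⟨h2.symm, ?_⟩
  rw [h2] at hab
  exact mul_left_cancel hab

/-- a `T`-fixed vector which is fixed by `E` is `1` -/
theorem eq_one_of_fix (h : CmpM T B K E lam)
    (irr : ∀ W : Subgroup M, (∀ g : X, ∀ w ∈ W, g • w ∈ W) → W = ⊥ ∨ W = ⊤) {x : M}
    (h2 : ∀ t ∈ T, ∀ e ∈ E, (t * e * t⁻¹) • x = x) : x = 1 := by
  refine h.cvK irr fun k hk => ?_
  have h3 : tcl T E ≤ MulAction.stabilizer X x := by
    refine tcl_le fun t ht => ?_
    rintro _ ⟨e, he, rfl⟩
    exact MulAction.mem_stabilizer_iff.2 (h2 t ht e he)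
  exact MulAction.mem_stabilizer_iff.1 (h3 (h.cmp.tcl hk))

/-- `N(E)` acts on `C_M(E)` -/
theorem smul_mem_cv {g : X} (hg : g ∈ normalizer (E : Set X)) {m : M} (hm : m ∈ cv M (E : Set X)) :
    g • m ∈ cv M (E : Set X) := by
  intro e he
  have h1 : g⁻¹ * e * g ∈ E := by
    have := (mem_normalizer_iff.1 (inv_mem hg) e).1 he
    rwa [inv_inv] at this
  have h2 := hm _ h1
  rw [mul_smul, mul_smul, inv_smul_eq_iff] at h2
  exact h2

/-- **The component of a `T`-fixed vector.** -/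
theorem exists_part (h : CmpM T B K E lam)
    (irr : ∀ W : Subgroup M, (∀ g : X, ∀ w ∈ W, g • w ∈ W) → W = ⊥ ∨ W = ⊤) {x : M}
    (hx : ∀ t ∈ T, t • x = x) (hx1 : x ≠ 1) :
    ∃ a ∈ cm M E, ∃ a' ∈ cv M (E : Set X), x = a * a' ∧ a ≠ 1 ∧
      ∀ t ∈ T, t ∈ normalizer (E : Set X) → t • a = a := by
  have hN : (cv M (E : Set X)).Normal := ⟨fun x hx g => by
    rw [comm_of_sq' h.cmp.mn.sq g x, mul_inv_cancel_right]; exact hx⟩
  obtain ⟨a, ha, a', ha', hxa⟩ := mem_sup_of_normal_right.1 (h.sup_top irr x)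
  refine ⟨a, ha, a', ha', hxa.symm, ?_, ?_⟩
  · rintro rfl
    rw [one_mul] at hxa
    subst hxa
    refine hx1 (h.eq_one_of_fix irr fun t ht e he => ?_)
    have h1 : t⁻¹ • a' = a' := hx _ (T.inv_mem ht)
    rw [mul_smul, mul_smul, h1, ha' e he, hx t ht]
  · intro t ht htn
    refine (h.uniq irr (smul_mem_cm htn ha) ha (smul_mem_cv htn ha') ha' ?_).1
    rw [← smul_mul', hxa, hx t ht]

/-- **(E1), inside `X`.** -/
theorem exists_mv (h : CmpM T B K E lam)
    (irr : ∀ W : Subgroup M, (∀ g : X, ∀ w ∈ W, g • w ∈ W) → W = ⊥ ∨ W = ⊤) {x y : M} (hm : Mv T x y) :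
    ∃ a ∈ cm M E, ∃ b ∈ cm M E, a ≠ 1 ∧ b ≠ 1 ∧ (∀ t ∈ T, t ∈ normalizer (E : Set X) → t • a = a) ∧
      (∀ t ∈ T, t ∈ normalizer (E : Set X) → t • b = b) ∧
      ∃ R : Subgroup X, T ⊓ normalizer (E : Set X) ≤ R ∧ R ≤ E ⊔ (T ⊓ normalizer (E : Set X)) ∧
        (∀ r ∈ R, r • b = b) ∧ ∃ r ∈ R, r ∈ E ∧ r • a ≠ a := by
  obtain ⟨R, hTR, hy, r, hr, hrx⟩ := hm.mv
  obtain ⟨a, ha, a', ha', hxa, ha1, hat⟩ := h.exists_part irr hm.xT hm.x1
  obtain ⟨b, hb, b', hb', hyb, hb1, hbt⟩ := h.exists_part irr hm.yT hm.y1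
  have hnc : ∀ c ∈ centralizer (E : Set X), c ∈ normalizer (E : Set X) := fun c hc =>
    (centralizer_le_normalizer (E : Set X)) hc
  -- the projection of `R ∩ K` to `E`
  let RE : Subgroup X :=
    { carrier := {e | e ∈ E ∧ ∃ c ∈ K, c ∈ centralizer (E : Set X) ∧ e * c ∈ R}
      one_mem' := ⟨E.one_mem, 1, K.one_mem, Subgroup.one_mem _, by rw [one_mul]; exact R.one_mem⟩
      mul_mem' := by
        rintro e f ⟨he, c, hcK, hcc, hec⟩ ⟨hf, d, hdK, hdc, hfd⟩
        refine ⟨E.mul_mem he hf, c * d, K.mul_mem hcK hdK, Subgroup.mul_mem _ hcc hdc, ?_⟩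
        have h1 : e * f * (c * d) = (e * c) * (f * d) := by
          have h2 : f * c = c * f := mem_centralizer_iff.1 hcc f hf
          rw [mul_assoc e f, ← mul_assoc f c d, h2, mul_assoc c f d, ← mul_assoc e c]
        rw [h1]
        exact R.mul_mem hec hfd
      inv_mem' := by
        rintro e ⟨he, c, hcK, hcc, hec⟩
        refine ⟨E.inv_mem he, c⁻¹, K.inv_mem hcK, Subgroup.inv_mem _ hcc, ?_⟩
        have h1 : e⁻¹ * c⁻¹ = (e * c)⁻¹ := by
          have h2 : e * c = c * e := mem_centralizer_iff.1 hcc e he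
          rw [h2, mul_inv_rev]
        rw [h1]
        exact R.inv_mem hec }
  have hREb : ∀ e ∈ RE, e • b = b := by
    rintro e ⟨he, c, hcK, hcc, hec⟩
    have h1 := hy _ hec
    rw [hyb, smul_mul', mul_smul, mul_smul, h.cenN c hcK hcc b hb] at h1
    have h2 : c • b' ∈ cv M (E : Set X) := smul_mem_cv (hnc c hcc) hb'
    rw [h2 e he] at h1
    exact (h.uniq irr (smul_mem_cm (le_normalizer he) hb) hb h2 hb' h1).1
  refine ⟨a, ha, b, hb, ha1, hb1, hat, hbt, RE ⊔ (T ⊓ normalizer (E : Set X)), le_sup_right,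
    sup_le_sup_right (fun e he => he.1) _, ?_, ?_⟩
  · have h1 : RE ⊔ (T ⊓ normalizer (E : Set X)) ≤ MulAction.stabilizer X b :=
      sup_le (fun e he => MulAction.mem_stabilizer_iff.2 (hREb e he))
        fun t ht => MulAction.mem_stabilizer_iff.2 (hbt t ht.1 ht.2)
    exact fun r hr => MulAction.mem_stabilizer_iff.1 (h1 hr)
  · by_contra hcon
    push Not at hcon
    have hREa : ∀ e ∈ RE, e • a = a := fun e he => hcon e (mem_sup_left he) he.1
    -- `g x x ∈ C_M(E)` for `g ∈ R ∩ K`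
    have h1 : ∀ g ∈ R, g ∈ K → g • x * x ∈ cv M (E : Set X) := by
      intro g hgR hgK
      have h2 : g ∈ E ⊔ (K ⊓ centralizer (E : Set X)) := by rw [h.cmp.sup]; exact hgK
      have h3 : ∃ e ∈ E, ∃ c ∈ K ⊓ centralizer (E : Set X), e * c = g := by
        exact mem_sup_comm inf_le_right h2
      obtain ⟨e, he, c, ⟨hcK, hcc⟩, rfl⟩ := h3
      have h4 : e • a = a := hREa e ⟨he, c, hcK, hcc, hgR⟩
      have h5 : (e * c) • x * x = (c • a') * a' := by
        have h6 : c • a' ∈ cv M (E : Set X) := smul_mem_cv (hnc c hcc) ha'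
        rw [hxa, smul_mul', mul_smul, mul_smul, h.cenN c hcK hcc a ha, h4, h6 e he,
          comm_of_sq' h.cmp.mn.sq a (c • a'), mul_assoc, ← mul_assoc a, h.cmp.mn.sq, one_mul]
      rw [h5]
      exact Subgroup.mul_mem _ (smul_mem_cv (hnc c hcc) ha') ha'
    -- so `R ∩ K` fixes `x`
    have h2 : ∀ g ∈ R, g ∈ K → g • x = x := by
      intro g hgR hgK
      have h3 : g • x * x = 1 := by
        refine h.eq_one_of_fix irr fun t ht e he => ?_
        have h4 : t⁻¹ * g * t ∈ R := R.mul_mem (R.mul_mem (R.inv_mem (hTR ht)) hgR) (hTR ht)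
        have h5 : t⁻¹ * g * t ∈ K := by
          have := h.cmp.normK.conj_mem g hgK t⁻¹
          rwa [inv_inv] at this
        have h6 := h1 _ h4 h5 e he
        have h7 : (t⁻¹ * g * t) • x * x = t⁻¹ • (g • x * x) := by
          rw [smul_mul', hm.xT _ (T.inv_mem ht), mul_smul, mul_smul, hm.xT t ht]
        rw [h7] at h6
        rw [mul_smul, mul_smul, h6, smul_inv_smul]
      rw [eq_inv_of_mul_eq_one_left h3, inv_eq_of_mul_eq_one_right (h.cmp.mn.sq x)]
    apply hrx
    have h3 : r ∈ K ⊔ T := by rw [h.cmp.gen]; trivial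
    have hK := h.cmp.normK
    obtain ⟨k, hk, t, ht, rfl⟩ := mem_sup_of_normal_left.1 h3
    have h4 : k ∈ R := by
      have := R.mul_mem hr (R.inv_mem (hTR ht))
      rwa [mul_inv_cancel_right] at this
    rw [mul_smul, hm.xT t ht, h2 k h4 hk]

/-- **(E1).** `X₁` acts on `[M,E]`, `φ : E N_T(E) → X₁` is compatible with the actions. -/
theorem mv (h : CmpM T B K E lam)
    (irr : ∀ W : Subgroup M, (∀ g : X, ∀ w ∈ W, g • w ∈ W) → W = ⊥ ∨ W = ⊤) {x y : M} (hm : Mv T x y)
    {X₁ : Type w} [Group X₁] [MulDistribMulAction X₁ (cm M E)]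
    (φ : ((E ⊔ (T ⊓ normalizer (E : Set X)) : Subgroup X)) →* X₁)
    (hφ : ∀ (g : (E ⊔ (T ⊓ normalizer (E : Set X)) : Subgroup X)) (n : cm M E), ((φ g • n : cm M E) : M) = (g : X) • (n : M))
    (T₁ : Subgroup X₁) (hT₁ : T₁ = (T.subgroupOf (E ⊔ (T ⊓ normalizer (E : Set X)))).map φ) :
    ∃ x₁ y₁ : cm M E, Mv T₁ x₁ y₁ := by
  obtain ⟨a, ha, b, hb, ha1, hb1, hat, hbt, R, hTR, hRY, hRb, r, hr, hrE, hra⟩ := h.exists_mv irr hm
  have hY : E ⊔ (T ⊓ normalizer (E : Set X)) ≤ normalizer (E : Set X) := sup_le le_normalizer inf_le_right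
  refine ⟨⟨a, ha⟩, ⟨b, hb⟩, ?_, ?_, fun h1 => ha1 (congrArg Subtype.val h1), fun h1 => hb1 (congrArg Subtype.val h1),
    (R.subgroupOf (E ⊔ (T ⊓ normalizer (E : Set X)))).map φ, ?_, ?_, φ ⟨r, hRY hr⟩, ⟨⟨r, hRY hr⟩, hr, rfl⟩, ?_⟩
  · rw [hT₁]
    rintro _ ⟨t, ht, rfl⟩
    exact Subtype.ext ((hφ _ _).trans (hat t ht (hY t.2)))
  · rw [hT₁]
    rintro _ ⟨t, ht, rfl⟩
    exact Subtype.ext ((hφ _ _).trans (hbt t ht (hY t.2)))
  · rw [hT₁]
    exact map_mono fun t ht => hTR ⟨ht, hY t.2⟩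
  · rintro _ ⟨g, hg, rfl⟩
    exact Subtype.ext ((hφ _ _).trans (hRb g hg))
  · intro h1
    exact hra ((hφ _ _).symm.trans (congrArg Subtype.val h1))

end CmpM

end Cfsg.Agent.Omega.ML.Ex.Red

end

section


/-!
# (E1) of EXT: `RedT` (helper690)

* `mn_of_sysT` : `SysT H M T A x y → Mn T A x`;
* `Sc.inX`, `Sc.atm` : the section of one component of an irreducible module: `InX X₁ N K₁ T₁ B₁` and `Atm N B₁`;
* `Sc.known` : `K₁` is a known simple group;
* **`redT_of (ml : MLK) : RedT`**.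
-/

set_option autoImplicit false
set_option linter.style.haveILetI false

namespace Cfsg.Agent.Omega.ML.Ex.Red

open Subgroup Cfsg Cfsg.Agent.ZN Cfsg.Agent.Omega.NOThree.NoOver Cfsg.Agent.Omega.ML.CD
open Cfsg.Agent.ClassTwoFusion.Quad Cfsg.Agent.Omega.ML.MinFrame Cfsg.Agent.Omega.ML.Ex.SecLow

universe u v w

/-- a non-abelian simple subgroup of a K-group is known -/
theorem known_of_le {X : Type u} [Group X] [Finite X] (hX : IsKGroup X) (B : Subgroup X) (hs : IsSimpleGroup B)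
    (hna : ¬ IsMulCommutative B) : IsKnownSimple' B := by
  have h2 : IsKGroup B := Final.sec_KG.sub X hX B
  let e0 : ↥(⊤ : Subgroup B) ⧸ (⊥ : Subgroup ↥(⊤ : Subgroup B)) ≃* B :=
    (QuotientGroup.quotientBot).trans Subgroup.topEquiv
  have h4 := h2 ⊤ ⊥ (Final.simple_congr e0.symm hs) (Final.not_comm_congr e0.symm hna)
  exact OddHalf.Known.isKnownSimple'_congr e0 (Final.not_comm_congr e0.symm hna) h4

section

variable {X : Type u} [Group X] {M : Type v} [Group M] [MulDistribMulAction X M] {T B K E : Subgroup X} {lam : M}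

/-- the input of RED -/
theorem mn_of_sysT {x y : M} (h : Two.SysT X M T B x y) : Mn T B x where
  sq := h.sq
  faith := h.faith
  gen := by
    rcases h.irr (orb (⊤ : Subgroup X) x) (fun g w hw => smul_mem_orb (mem_top g) hw) with h1 | h1
    · have h2 := mem_orb_self (⊤ : Subgroup X) x
      rw [h1, mem_bot] at h2
      exact absurd h2 h.x1
    · exact h1
  fixT := h.tx
  odd := h.odd
  two := h.two
  syl := h.syl
  el := h.el
  four := h.four
  exact := h.exact
  atom := h.atom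
  low := h.low
  nmax := h.nmax

namespace Sc

variable {X₁ : Type w} [Group X₁] [MulDistribMulAction X₁ (cm M E)] {a : YY T E →* X₁}

/-- the atom of the section -/
theorem atm (h : Sc T B K E lam a) [Finite X] : Atm (cm M E) (im a B) := h.inN0.atom

/-- **the section of an irreducible module** -/
theorem inX (h : Sc T B K E lam a) [Finite X]
    (irr : ∀ W : Subgroup M, (∀ g : X, ∀ w ∈ W, g • w ∈ W) → W = ⊥ ∨ W = ⊤) :
    InX X₁ (cm M E) (im a E) (im a (T1 T E)) (im a B) := by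
  have h0 := h.inN0
  exact
    { sq := h0.sq
      faith := h0.faith
      irr := by
        intro W hW
        rcases h0.irrK W hW with h1 | h1
        · exact Or.inr h1
        · left
          rw [eq_bot_iff]
          intro w hw
          rw [mem_bot]
          apply Subtype.ext
          refine h.cmpM.inf_bot irr w.2 fun e he => ?_
          have h2 := h1 (a ⟨e, E_le_YY he⟩) (apply_mem_im (y := ⟨e, E_le_YY he⟩) he) w hw
          have h3 := congrArg Subtype.val h2
          rw [h.act] at h3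
          exact h3
      norm := h0.norm
      simple := h0.simple
      cen := h0.cen
      gen := h0.gen
      two := h0.two
      syl := h0.syl
      AT := h0.AT
      el := h0.el
      four := h0.four
      exact := h0.exact
      sub := by
        intro C hC
        by_cases h1 : C = ⊥
        · subst h1
          have h2 : cv (cm M E) ((⊥ : Subgroup X₁) : Set X₁) = ⊤ := by
            rw [eq_top_iff]
            intro m _ c hc
            rw [SetLike.mem_coe, mem_bot] at hc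
            rw [hc, one_smul]
          rw [h2, index_top, card_bot]
        · by_cases h2 : C = im a B
          · rw [h2, h0.exact]
          · exact (h0.atom C hC h1 h2).le
      low := h0.low
      nmax := h0.nmax }

omit [MulDistribMulAction X₁ (cm M E)] in
theorem T₁_eq : im a (T1 T E) = (T.subgroupOf (E ⊔ (T ⊓ normalizer (E : Set X)))).map a := by
  have hY : YY T E ≤ normalizer (E : Set X) := sup_le le_normalizer inf_le_right
  have h1 : (T1 T E).subgroupOf (YY T E) = T.subgroupOf (YY T E) := by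
    ext t
    exact ⟨fun ht => ht.1, fun ht => ⟨ht, hY t.2⟩⟩
  change ((T1 T E).subgroupOf (YY T E)).map a = (T.subgroupOf (YY T E)).map a
  rw [h1]

end Sc

/-- `K₁` is known -/
theorem Sc.known {X₁ : Type u} [Group X₁] [MulDistribMulAction X₁ (cm M E)] {a : YY T E →* X₁}
    (h : Sc T B K E lam a) [Finite X] (hX : IsKGroup X) : IsKnownSimple' (im a E) := by
  have hfin : Finite X₁ := Finite.of_surjective a h.surj
  have hs : IsSimpleGroup (im a E) := h.inN0.simple
  refine known_of_le (Final.kgroup_of_surj hX (YY T E) a h.surj) _ hs fun hc => ?_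
  have h1 : im a E ≤ centralizer (im a E : Set X₁) := by
    intro x hx
    rw [mem_centralizer_iff]
    intro y hy
    exact congrArg Subtype.val (hc.is_comm.comm (⟨y, hy⟩ : im a E) ⟨x, hx⟩)
  rw [h.cen, le_bot_iff] at h1
  obtain ⟨x, hx⟩ := exists_ne (1 : im a E)
  exact hx (Subtype.ext (mem_bot.1 (h1 ▸ x.2)))

end

/-- **(E1)** -/
theorem redT_of (ml : Final.MLK.{u, v}) : Two.RedT.{u, v} := by
  intro H _ _ M _ _ _ T A x y h
  obtain ⟨K, E, hC⟩ := (mn_of_sysT h).exists_cmpM ml h.KH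
  letI := hC.qact
  have hs := hC.sc
  have hI := hs.inX h.irr
  have hm : Mv T x y := ⟨h.tx, h.ty, h.x1, h.y1, h.mv⟩
  obtain ⟨x₁, y₁, h1⟩ := hC.mv h.irr hm (QuotientGroup.mk' hC.rep.ker) hs.act (im (QuotientGroup.mk' hC.rep.ker) (T1 T E))
    Sc.T₁_eq
  refine ⟨hC.Xq, inferInstance, inferInstance, cm M E, inferInstance, inferInstance, hC.qact, _, _, _, x₁, y₁, hI,
    hs.atm, ⟨h1.x1, h1.y1, h1.xT, h1.yT, h1.mv⟩, ?_⟩
  exact hs.known h.KH

end Cfsg.Agent.Omega.ML.Ex.Red

end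

section


/-!
# The K-list for EXACT subgroups: THEOREM EX for exact atoms (helper10)

`Dat H M G E Q n` is the situation of `ExRow.lean` (`|Q| = 2^(2n+1)`, `Q` not abelian, `E ≤ G` acts irreducibly on `Q`
modulo its subgroup of order 2 and trivially on the `G`-modules of order at most `2^n`).

* `core_triv` : `Q` acts trivially on the `G`-modules of order at most `2^(2n)`;
* **`Dat.falseX`** : `n ≥ 2`: there is no exact atom `A ≤ Q`, `|A| ≥ 4` (a strict one is excluded by `Dat.false`).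
-/

set_option autoImplicit false

namespace Cfsg.Agent.Omega.ML.Ex.ExX

open Subgroup Cfsg Cfsg.Agent.ClassTwoFusion.Quad Cfsg.Agent.Omega.NOThree.NoOver Cfsg.Agent.Omega.ML.CD
open Cfsg.Agent.Omega.ML.ExCore Cfsg.Agent.Omega.ML.ExRow

universe u v

/-- if the product of two elements outside `I` lies in `I` then `|B : I| ≤ 2` -/
theorem index_le_two {B : Type*} [Group B] (I : Subgroup B) (h : ∀ a b : B, a ∉ I → b ∉ I → a * b ∈ I) :
    I.index ≤ 2 := by
  by_cases h1 : I = ⊤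
  · rw [h1, index_top]
    norm_num
  · obtain ⟨x, hx⟩ : ∃ x, x ∉ I := by
      by_contra hc
      push Not at hc
      exact h1 (by rw [eq_top_iff]; exact fun x _ => hc x)
    refine (index_eq_two_iff.2 ⟨x, fun b => ?_⟩).le
    by_cases hb : b ∈ I
    · right
      refine ⟨hb, fun hbx => hx ?_⟩
      have h2 := I.mul_mem (I.inv_mem hb) hbx
      rwa [inv_mul_cancel_left] at h2
    · left
      exact ⟨h b x hb hx, hb⟩

section

variable {H : Type u} [Group H] [Finite H] {G E Q : Subgroup H} {n : ℕ}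

/-- the center of `Q`: an involution `z`, `G` centralises it, all commutators of `Q` are in `⟨z⟩` -/
theorem exists_z (D : Dat.{u, v} H G E Q n) : ∃ z ∈ Q, z ≠ 1 ∧ z * z = 1 ∧ (∀ q ∈ Q, q * z = z * q) ∧
    (∀ g ∈ G, g * z = z * g) ∧ (∀ x ∈ Q, (∀ q ∈ Q, q * x = x * q) → x = 1 ∨ x = z) ∧
    ∀ x ∈ Q, ∀ y ∈ Q, x * y * x⁻¹ * y⁻¹ = 1 ∨ x * y * x⁻¹ * y⁻¹ = z := by
  have hp : Fact (Nat.Prime 2) := ⟨Nat.prime_two⟩
  have hEQ : ∀ e ∈ E, ∀ q ∈ Q, e * q * e⁻¹ ∈ Q := fun e he => D.nQ e (D.EG he)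
  -- conjugation by elements of `G`
  have hcen : ∀ g ∈ G, ∀ x ∈ Q, (∀ q ∈ Q, q * x = x * q) → ∀ q ∈ Q, q * (g * x * g⁻¹) = (g * x * g⁻¹) * q := by
    intro g hg x hx hc q hq
    have h1 := hc (g⁻¹ * q * g) (by
      have h2 := D.nQ g⁻¹ (G.inv_mem hg) q hq
      rwa [inv_inv] at h2)
    calc q * (g * x * g⁻¹) = g * ((g⁻¹ * q * g) * x) * g⁻¹ := by group
      _ = g * (x * (g⁻¹ * q * g)) * g⁻¹ := by rw [h1]
      _ = _ := by group
  let Zs : Subgroup H := Q ⊓ centralizer (Q : Set H)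
  have hmem : ∀ {x : H}, x ∈ Zs ↔ x ∈ Q ∧ ∀ q ∈ Q, q * x = x * q := by
    intro x
    rw [mem_inf, mem_centralizer_iff]
    rfl
  have hZ2 : Nat.card Zs ≤ 2 := by
    refine (D.irr Zs inf_le_left fun e he x hx => ?_).resolve_right fun h1 => ?_
    · rw [hmem] at hx ⊢
      exact ⟨hEQ e he x hx.1, hcen e (D.EG he) x hx.1 hx.2⟩
    · obtain ⟨a, ha, b, hb, hab⟩ := D.nab
      have h2 : b ∈ Zs := h1 ▸ hb
      exact hab ((hmem.1 h2).2 a ha)
  -- `Z(Q) ≠ 1`
  have hQne : Nontrivial Q := by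
    obtain ⟨a, ha, b, hb, hab⟩ := D.nab
    refine ⟨⟨a, ha⟩, 1, fun h1 => hab ?_⟩
    have h2 : a = 1 := congrArg Subtype.val h1
    rw [h2, one_mul, mul_one]
  have hcn := D.two.center_nontrivial
  obtain ⟨⟨⟨z, hzQ⟩, hzc⟩, hz1⟩ := exists_ne (1 : center Q)
  have hz1' : z ≠ 1 := by
    intro h1
    apply hz1
    apply Subtype.ext
    apply Subtype.ext
    exact h1
  have hzc' : ∀ q ∈ Q, q * z = z * q := by
    intro q hq
    exact congrArg Subtype.val (mem_center_iff.1 hzc ⟨q, hq⟩)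
  have hzZ : z ∈ Zs := hmem.2 ⟨hzQ, hzc'⟩
  -- elements of a group of order at most two
  have two : ∀ (B : Subgroup H), Nat.card B ≤ 2 → ∀ x ∈ B, ∀ y ∈ B, x = 1 ∨ y = 1 ∨ x = y := by
    intro B hB x hx y hy
    by_contra hc
    push Not at hc
    obtain ⟨h1, h2, h3⟩ := hc
    have h4 : ({(1 : H), x, y} : Set H) ⊆ (B : Set H) := by
      rintro w (rfl | rfl | rfl)
      · exact B.one_mem
      · exact hx
      · exact hy
    have h5 := Set.ncard_le_ncard h4 (Set.toFinite _)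
    have h6 : ({(1 : H), x, y} : Set H).ncard = 3 := by
      rw [Set.ncard_eq_three]
      exact ⟨1, x, y, fun h => h1 h.symm, fun h => h2 h.symm, h3, rfl⟩
    rw [h6] at h5
    have h7 : (B : Set H).ncard = Nat.card B := rfl
    omega
  have huniq : ∀ x ∈ Q, (∀ q ∈ Q, q * x = x * q) → x = 1 ∨ x = z := by
    intro x hx hc
    rcases two Zs hZ2 x (hmem.2 ⟨hx, hc⟩) z hzZ with h1 | h1 | h1
    · exact Or.inl h1
    · exact absurd h1 hz1'
    · exact Or.inr h1
  refine ⟨z, hzQ, hz1', ?_, hzc', ?_, huniq, ?_⟩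
  · rcases two Zs hZ2 (z * z) (Zs.mul_mem hzZ hzZ) z hzZ with h1 | h1 | h1
    · exact h1
    · exact absurd h1 hz1'
    · exact absurd (mul_eq_left.1 h1) hz1'
  · intro g hg
    have h1 := huniq _ (D.nQ g hg z hzQ) (hcen g hg z hzQ hzc')
    rcases h1 with h1 | h1
    · exfalso
      apply hz1'
      have h2 : z = g⁻¹ * (g * z * g⁻¹) * g := by group
      rw [h2, h1]; group
    · rw [mul_inv_eq_iff_eq_mul] at h1
      exact h1
  · -- the derived group
    let C : Subgroup H := ⁅Q, Q⁆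
    have hCQ : C ≤ Q := commutator_le_self Q
    have hC2 : Nat.card C ≤ 2 := by
      refine (D.irr C hCQ fun e he x hx => ?_).resolve_right fun h1 => ?_
      · have h2 : C.map (MulAut.conj e).toMonoidHom = C := by
          have h3 : Q.map (MulAut.conj e).toMonoidHom = Q := by
            apply le_antisymm
            · rintro _ ⟨q, hq, rfl⟩
              exact hEQ e he q hq
            · intro q hq
              refine ⟨e⁻¹ * q * e, ?_, ?_⟩
              · have h4 := hEQ e⁻¹ (E.inv_mem he) q hq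
                rwa [inv_inv] at h4
              · show e * (e⁻¹ * q * e) * e⁻¹ = q
                group
          show (⁅Q, Q⁆).map (MulAut.conj e).toMonoidHom = ⁅Q, Q⁆
          rw [map_commutator, h3]
        have h3 : e * x * e⁻¹ ∈ C.map (MulAut.conj e).toMonoidHom := ⟨x, hx, rfl⟩
        rwa [h2] at h3
      · -- `Q` is nilpotent
        have hnil : Group.IsNilpotent Q := D.two.isNilpotent
        have hsol : Group.IsSolvable Q := inferInstance
        have h2 : _root_.commutator Q < ⊤ := Group.IsSolvable.commutator_lt_top_of_nontrivial Q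
        apply h2.ne
        rw [eq_top_iff]
        intro x _
        have h3 : (x : H) ∈ C := by
          rw [h1]
          exact x.2
        have h4 : (_root_.commutator Q).map Q.subtype = C := by
          rw [_root_.commutator_def, map_commutator, ← MonoidHom.range_eq_map, range_subtype]
        rw [← h4] at h3
        obtain ⟨y, hy, hyx⟩ := h3
        rwa [← Subtype.ext hyx]
    intro x hx y hy
    have h1 : x * y * x⁻¹ * y⁻¹ ∈ C := commutator_mem_commutator hx hy
    by_cases h2 : x * y * x⁻¹ * y⁻¹ = 1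
    · exact Or.inl h2
    · refine huniq _ (hCQ h1) fun q hq => ?_
      have h3 : q * (x * y * x⁻¹ * y⁻¹) * q⁻¹ ∈ C := by
        have h4 : q * (x * y * x⁻¹ * y⁻¹) * q⁻¹ * (x * y * x⁻¹ * y⁻¹)⁻¹ ∈ C :=
          commutator_mem_commutator hq (hCQ h1)
        have h5 := C.mul_mem h4 h1
        rwa [inv_mul_cancel_right] at h5
      rcases two C hC2 _ h3 _ h1 with h4 | h4 | h4
      · exfalso
        apply h2
        have h5 : x * y * x⁻¹ * y⁻¹ = q⁻¹ * (q * (x * y * x⁻¹ * y⁻¹) * q⁻¹) * q := by group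
        rw [h5, h4]; group
      · exact absurd h4 h2
      · rw [mul_inv_eq_iff_eq_mul] at h4
        exact h4

end

section

variable {H : Type u} [Group H] [Finite H] {M : Type v} [Group M] [Finite M] [MulDistribMulAction H M]
  {G E Q A : Subgroup H} {n : ℕ}

end

end Cfsg.Agent.Omega.ML.Ex.ExX

end

section


/-!
# The K-list for EXACT subgroups: the rows with a sheet, by THEOREM EX (helper10)

* `dat_of_rec` : the record `Rec C P R n` in the normal subgroup `K` of `H` gives the situation `Dat` in `H`;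
* `le_conj` : in the situation `ASx S T A`, `SheetX z P R` : `A ≤ R^g` for some `g`;
* **`deadN_of_sheet`** : a class of groups with `SheetX z P R`, `|R| = 2^(2n+1)`, `n ≥ 2`, `TrivC .. n` is dead.
-/

set_option autoImplicit false

namespace Cfsg.Agent.Omega.ML.Ex.Sheet

open Subgroup Cfsg Cfsg.Agent.ClassTwoFusion.Quad Cfsg.Agent.Omega.NOThree.NoOver Cfsg.Agent.Omega.ML.CD
open Cfsg.Agent.ZN (o2)
open Cfsg.Agent.Omega.ML.ExCore Cfsg.Agent.Omega.ML.ExRec Cfsg.Agent.Omega.ML.ExRow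
open Cfsg.Agent.OddHalf.D8.Sheet Cfsg.Agent.OddHalf.D8.JTwo.Sheet
open Cfsg.Agent.MinSimple.VModule (o2_isPGroup o2_le le_o2 le_normalizer_o2)

universe u v w

/-! ### Conjugates of exact atoms -/

section cjs

variable {H : Type u} [Group H] {M : Type v} [Group M] [Finite M] [MulDistribMulAction H M]

omit [Finite M] in
theorem card_cj (g : H) (B : Subgroup H) : Nat.card (cj g B) = Nat.card B :=
  (Nat.card_congr (B.equivMapOfInjective _ (MulAut.conj g).injective).toEquiv).symm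

end cjs

/-! ### The record in a normal subgroup -/

/-! ### The group-theoretic part (`ShE.lean` with `H = KT`) -/

section group

variable {X : Type u} [Group X] {S T A : Subgroup X}

end group

/-! ### The rows -/

end Cfsg.Agent.Omega.ML.Ex.Sheet

end

end

-- merged: Cfsg.Agent.Mrg.Omega.ML.LieRow.CRB.AbB
section

section


/-!
# Split (B,N)-pairs of characteristic 2 with `B / U` abelian

**`hasSplitAb_of_lie`** : every simple group of Lie type in characteristic two has one.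
-/

set_option autoImplicit false
set_option linter.unusedSectionVars false

namespace Cfsg.Agent.Omega.ML.LieRow.CRB

open Subgroup CoxeterSystem Cfsg.Agent.ChevalleyStructure.CoxeterGeom Cfsg.Agent.Tits.Roots Cfsg.Agent.Tits.Core
  Cfsg.Agent.Tits.RootComb Cfsg.Agent.Nodes.Comb Cfsg.Agent.Nodes.Reps Cfsg.Agent.Nodes.BNOf
open Cfsg.Agent.FixBN Cfsg.Agent.FixBN.SplitRGD Cfsg.Agent.Omega.Lie.End

/-- A split (B,N)-pair of characteristic `p`, of positive rank, with `B / U` abelian. -/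
def HasSplitAb (p : ℕ) (K : Type*) [Group K] : Prop :=
  ∃ (P : Cfsg.BNPair K) (U : Subgroup K), P.S.Nonempty ∧ Split P p U ∧
    ∀ x ∈ P.B, ∀ y ∈ P.B, x * y * x⁻¹ * y⁻¹ ∈ U

theorem HasSplitAb.congr {p : ℕ} {K L : Type*} [Group K] [Group L] (e : K ≃* L) (h : HasSplitAb p K) :
    HasSplitAb p L := by
  obtain ⟨P, U, hne, hs, hc⟩ := h
  refine ⟨Transport.mapBN e P, U.map e.toMonoidHom, hne.image _, Transport.split e P hs, ?_⟩
  rintro _ ⟨x, hx, rfl⟩ _ ⟨y, hy, rfl⟩
  exact ⟨_, hc x hx y hy, by simp only [_root_.MulEquiv.toMonoidHom_eq_coe, _root_.MonoidHom.coe_coe, _root_.map_mul, _root_.map_inv]⟩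

theorem comm_of_dec {G : Type*} [Group G] {B U : Subgroup G} {D : Set G} (hn : ∀ b ∈ B, ∀ u ∈ U, b * u * b⁻¹ ∈ U)
    (hDB : ∀ t ∈ D, t ∈ B) (hd : ∀ b ∈ B, ∃ u ∈ U, ∃ t ∈ D, b = u * t) (hab : ∀ s ∈ D, ∀ t ∈ D, s * t = t * s) :
    ∀ x ∈ B, ∀ y ∈ B, x * y * x⁻¹ * y⁻¹ ∈ U := by
  intro x hx y hy
  obtain ⟨u, hu, t, ht, rfl⟩ := hd x hx
  obtain ⟨v, hv, s, hs, rfl⟩ := hd y hy
  have h1 := hn t (hDB t ht) v hv
  have h2 := hn s (hDB s hs) u⁻¹ (inv_mem hu)
  have e : u * t * (v * s) * (u * t)⁻¹ * (v * s)⁻¹ = u * (t * v * t⁻¹) * (s * u⁻¹ * s⁻¹) * v⁻¹ := by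
    have h3 := hab t ht s hs
    have h4 : t * s * t⁻¹ = s := by rw [h3]; group
    calc u * t * (v * s) * (u * t)⁻¹ * (v * s)⁻¹ = u * (t * v * t⁻¹) * ((t * s * t⁻¹) * u⁻¹ * s⁻¹) * v⁻¹ := by group
      _ = _ := by rw [h4]
  rw [e]
  exact mul_mem (mul_mem (mul_mem hu h1) h2) (inv_mem hv)

section rgd

variable {I W Y : Type*} [Fintype I] [DecidableEq I] [Group W] [Group Y] {M : CoxeterMatrix I}
  {cs : CoxeterSystem M W} {A : I → I → ℤ} {h : IsCartan M A} {p : ℕ} {T : Subgroup Y} {n : I → Y}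
  {X : (I → ℤ) → Subgroup Y}

theorem hasSplitAb_of_rgd [Finite W] [Nonempty I] [IsSimpleGroup Y] (hp : p.Prime) (R : RGD cs h p T n X)
    (hgen : RGD.Sup X {x | IsRoot cs h x} = ⊤) (ab : ∀ s ∈ T, ∀ t ∈ T, s * t = t * s) : HasSplitAb p Y := by
  obtain ⟨i⟩ := (inferInstance : Nonempty I)
  have hg := NodeRGD.gen_of_top R hgen
  have hne : (R.bnPair hg).S.Nonempty := ⟨n i, i, rfl⟩
  have hs := split_of_rgd hp R hg (Cfsg.Agent.Tits.OfBN.normalCore_eq_bot (R.bnPair hg) hne)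
  refine ⟨R.bnPair hg, _, hne, hs, ?_⟩
  refine comm_of_dec (D := (T : Set Y)) hs.norm (fun t ht => ?_) (fun b hb => ?_) ab
  · exact (le_sup_left : T ≤ RGD.B cs h T X) ht
  · obtain ⟨u, hu, hT⟩ := NodeRGD.cover R (show b ∈ RGD.B cs h T X from hb)
    exact ⟨u, hu, u⁻¹ * b, hT, by group⟩

end rgd

universe u

theorem hasSplitAb_of_row {Y : Type*} [Group Y] [IsSimpleGroup Y] (h : HasRow Y) : HasSplitAb 2 Y := by
  obtain ⟨l, M, A, h, T, n, X, hW, R, hX, hr⟩ := h
  obtain ⟨i, -⟩ := hr.two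
  have : Nonempty (Fin l) := ⟨i⟩
  exact hasSplitAb_of_rgd Nat.prime_two R hX hr.ab

theorem hasSplitAb_of_two {Y : Type*} [Group Y] [IsSimpleGroup Y] (h : IsLTwo Y) : HasSplitAb 2 Y := by
  obtain ⟨F, _, _, _, -, ⟨e⟩⟩ := h
  obtain ⟨A, h, T, n, X, hW, R, hX, hab⟩ := CR.psl_rgd e.symm
  exact hasSplitAb_of_rgd Nat.prime_two R hX hab

section U3

open Cfsg.Agent.Nodes.TypeC Cfsg.Agent.Nodes.WittRoot Cfsg.Agent.Nodes Cfsg.Agent.Nodes.WittAll Cfsg.Agent.Nodes.WittU
open Cfsg.Agent.TitsThree Cfsg.Agent.TitsThree.Siegel Cfsg.Agent.TitsThree.SiegelGen Cfsg.Agent.TitsThree.WittFrame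
open Cfsg.Agent.Omega.Lie.End.KWittRow Cfsg.Agent.Omega.Lie.End.KWittFour Cfsg.Agent.Omega.Lie.End.RowWitt
open Cfsg.Agent.TitsThree.KSideU Cfsg.Agent.TitsThree.KSideUDesc Cfsg.Agent.TitsThree.WBridge

theorem hasSplitAb_of_three {Y : Type*} [Group Y] [IsSimpleGroup Y] (h : IsUThree Y) : HasSplitAb 2 Y := by
  obtain ⟨F, _, _, _, q, hF, hq, ⟨e⟩⟩ := h
  have hs : IsSimpleGroup (Cfsg.PSU 3 F q) := e.symm.isSimpleGroup
  refine HasSplitAb.congr e.symm ?_
  have : Fact (Nat.Prime 2) := ⟨Nat.prime_two⟩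
  have hm : 3 = 2 * 1 ∨ 3 = 2 * 1 + 1 := Or.inr rfl
  obtain ⟨W, -⟩ := exists_wframe hF hm
  obtain ⟨p0, hp0, -⟩ := exists_adm hF W
  have hA : AmbT (toFrame W) 2 (KInstU.model hF (by omega : 3 ≤ 3) W).I := AmbT.of_amb (amb_U hF W) 2
  have hdim := finrank_V0 (Fr := toFrame W)
  rw [Module.finrank_fintype_fun_eq_card, Fintype.card_fin] at hdim
  have hfin : Finite (CoxeterMatrix.B 1).Group := finite_W (CoxeterMatrix.B 1).toCoxeterSystem
  have R := rgdC_model (KInstU.model hF (by omega : 3 ≤ 3) W) hA hp0 (CoxeterMatrix.B 1).toCoxeterSystem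
  have hG := WittModel.G1_eq_top (KInstU.model hF (by omega : 3 ≤ 3) W) (by omega : 0 < 1)
    (CoxeterMatrix.B 1).toCoxeterSystem
  refine hasSplitAb_of_rgd Nat.prime_two R hG (ab_model hA ?_)
  have h1 : Module.finrank F ↥(toFrame W).V0 ≤ 1 := by omega
  obtain ⟨v, hv⟩ := finrank_le_one_iff.1 h1
  refine ⟨v.1, fun w hw => ?_⟩
  obtain ⟨c, hc⟩ := hv ⟨w, hw⟩
  exact ⟨c, (congrArg Subtype.val hc).symm⟩

end U3

theorem hasSplitAb_of_sz {G : Type*} [Group G] (h : Cfsg.Lie.IsoSuzuki G) : HasSplitAb 2 G := by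
  obtain ⟨K, i1, i2, m, hm, hK, ⟨e⟩⟩ := h
  have H := LieRecognition.SzMatrix.good hK
  have hs : IsSimpleGroup ↥(Cfsg.Lie.Sz K (2 ^ (m + 1))) := Cfsg.Agent.S1162.result hm hK
  refine HasSplitAb.congr e.symm ⟨SzSplit.bnPair H, H.unip, ⟨H.w, rfl⟩, SzSplit.split hm hK H hs, ?_⟩
  refine comm_of_dec (D := {g | ∃ a, g = H.d a}) (SzSplit.split hm hK H hs).norm ?_ ?_ ?_
  · rintro _ ⟨a, rfl⟩
    exact H.d_mem_borel a
  · intro b hb
    obtain ⟨a, c, k, rfl⟩ := (H.mem_borel_iff' b).1 hb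
    exact ⟨H.u a c, H.u_mem_unip a c, _, ⟨k, rfl⟩, rfl⟩
  · rintro _ ⟨a, rfl⟩ _ ⟨b, rfl⟩
    rw [H.d_mul, H.d_mul, mul_comm]

theorem hasSplitAb_of_twF4 {G : Type*} [Group G] (h : Cfsg.Lie.Iso2F4 G) : HasSplitAb 2 G := by
  obtain ⟨K, i1, i2, m, hm, hK, ⟨e⟩⟩ := h
  obtain ⟨Q, UE, s, t, hp, -⟩ := ParSys.Fam.TwoFFour.exists_all hm hK
  refine HasSplitAb.congr e.symm ⟨Q, UE, ⟨s, ?_⟩, hp.split, hp.comm⟩
  rw [hp.S]
  exact Set.mem_insert _ _

/-- **The simple groups of Lie type in characteristic two.** -/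
theorem hasSplitAb_of_lie {Y : Type u} [Group Y] [Finite Y] (hs : IsSimpleGroup Y) (hY : IsLieTypeChar 2 Y) :
    HasSplitAb 2 Y := by
  rcases kTable Y hs hY with h | h | h | h | h
  · exact hasSplitAb_of_row h
  · exact hasSplitAb_of_two h
  · exact hasSplitAb_of_three h
  · exact hasSplitAb_of_sz h
  · exact hasSplitAb_of_twF4 h

end Cfsg.Agent.Omega.ML.LieRow.CRB

end

section


/-!
# Lie type in characteristic two: subgroups of the module normalised by the small overgroups of `T` (helper264)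

`K ⊴ H`, `H = KT`, `T` a Sylow 2-subgroup, `M` an elementary abelian 2-group, `C_M(T ∩ K)` a simple `N_K(T ∩ K)`-module,
`N_K(T ∩ K) / (T ∩ K)` abelian.

* **`sub_ab`** : `Y ≠ 1` a subgroup of `M` normalised by `N_H(T)`, such that every minimal parabolic
  `P ≤ N_H(T ∩ K)` over `T` normalises `Y` or fixes a vector `≠ 1`: then `C_M(T ∩ K) ≤ Y`;
* `comm_split` : `N_K(S) / S` is abelian for the Sylow 2-subgroups `S` of the groups with `HasSplitAb 2`;
* **`sub_lie2`** : the case `K` simple of Lie type in characteristic two, `M|_K` irreducible.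
-/

set_option autoImplicit false
set_option linter.unusedSectionVars false

namespace Cfsg.Agent.Omega.CR.SubY

open Subgroup Cfsg Cfsg.Agent.ClassTwoFusion.Quad Cfsg.Agent.FixBN Cfsg.Agent.Omega.ML.LieRow.CRB
open Cfsg.Agent.MinSimple.MinParabolic (IsMinPar le_of_forall)

universe u v

section

variable {H : Type u} [Group H] {M : Type v} [Group M] [MulDistribMulAction H M]

/-- the stabiliser of a subgroup of `M` -/
def st (H : Type u) [Group H] {M : Type v} [Group M] [MulDistribMulAction H M] (Z : Subgroup M) : Subgroup H where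
  carrier := {h | ∀ m : M, h • m ∈ Z ↔ m ∈ Z}
  one_mem' := fun m => by rw [one_smul]
  mul_mem' := fun {a b} ha hb m => by rw [mul_smul, ha, hb]
  inv_mem' := fun {a} ha m => by rw [← ha (a⁻¹ • m), smul_inv_smul]

variable {K T : Subgroup H}

end

/-! ### `N_K(S) / S` is abelian -/

end Cfsg.Agent.Omega.CR.SubY

end

section


/-!
# Subgroups of the module normalised by the small overgroups of `T`, in the situation `InX` (helper264)

**`sub_inX`** : `InX H M K T A`, `K` of Lie type in characteristic two, `Y ≠ 1` normalised by `N_H(T)`, every minimal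
parabolic `P ≤ N_H(T ∩ K)` over `T` normalises `Y` or fixes a vector `≠ 1`: then `C_M(T ∩ K) ≤ Y`;
`sub_inX_fix` : so all `T`-fixed vectors are in `Y`.
-/

set_option autoImplicit false

namespace Cfsg.Agent.Omega.CR.SubY

open Subgroup Cfsg Cfsg.Agent.ClassTwoFusion.Quad Cfsg.Agent.Omega.ML.Ex
open Cfsg.Agent.Omega.ML.Final (MLK)
open Cfsg.Agent.MinSimple.MinParabolic (IsMinPar)

universe u v

variable {H : Type u} [Group H] [Finite H] {M : Type v} [Group M] [Finite M] [MulDistribMulAction H M]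
  {K T A : Subgroup H}

end Cfsg.Agent.Omega.CR.SubY

end

section


/-!
# The theorem of Curtis and Richen in building form, part 1: the operators `T_w`

`G` acts on the finite building `Δ` with a system `S` of Sylow `p`-subgroups `U c` (a split (B,N)-pair of
characteristic `p`), `V` is a `G`-module.

* `Fam S N` : an equivariant family `N c ≤ C_V(U c)`;
* `Coh S N c w φ` : the function `φ` on the chambers at distance `w` from `c` is coherent under `U c`;
* `TT S N w` : the family of the sums of the coherent functions; `fam_TT`;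
* `mem_TT_mul`, `mem_TT_of_mul` : `T_i T_w = T_{s_i w}` if the length grows; `TT_sq` : `T_i T_i ≤ T_i` if `p V = 0`.
-/

set_option autoImplicit false
set_option linter.unusedSectionVars false

namespace Cfsg.Agent.Omega.ML.LieRow.CRB

open Cfsg.Agent.Tits.Core Cfsg.Agent.Tits.Core.Bldg Cfsg.Agent.Tits.Exchange Cfsg.Agent.Tits
open Cfsg.Agent.FixBN Cfsg.Agent.FixBN.Cox

variable {I : Type*} {M : CoxeterMatrix I} {W : Type*} [Group W] {cs : CoxeterSystem M W} {C : Type*}
  {Δ : Bldg cs C} {G : Type*} [Group G] [MulAction G C] {p : ℕ} (S : Sys Δ G p)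
  {V : Type*} [AddCommGroup V] [DistribMulAction G V]

local prefix:100 "ℓ" => cs.length

/-- an equivariant family of subgroups of fixed vectors -/
structure Fam (N : C → AddSubgroup V) : Prop where
  smul : ∀ (g : G) (c : C), ∀ v ∈ N c, g • v ∈ N (g • c)
  fix : ∀ c, ∀ u ∈ S.U c, ∀ v ∈ N c, u • v = v

/-- a coherent function on the chambers at distance `w` from `c` -/
structure Coh (N : C → AddSubgroup V) (c : C) (w : W) (φ : C → V) : Prop where
  mem : ∀ d, Δ.δ c d = w → φ d ∈ N d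
  eq : ∀ u ∈ S.U c, ∀ d, Δ.δ c d = w → φ (u • d) = u • φ d

variable (Δ) [Fintype C]

open Classical in
/-- the chambers at distance `w` -/
noncomputable def sph (c : C) (w : W) : Finset C := Finset.univ.filter fun d => Δ.δ c d = w

theorem mem_sph {c d : C} {w : W} : d ∈ sph Δ c w ↔ Δ.δ c d = w := by
  simp only [sph, _root_.Cfsg.Agent.Omega.ML.LieRow.CRB.sph, _root_.Finset.mem_filter, _root_.Finset.mem_univ, _root_.true_and]

variable {Δ}

include S in
theorem smul_mem_sph {g : G} {c d : C} {w : W} : g • d ∈ sph Δ (g • c) w ↔ d ∈ sph Δ c w := by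
  rw [mem_sph, mem_sph, S.iso]

include S in
/-- reindexing -/
theorem sum_smul (g : G) (c : C) (w : W) (ψ : C → V) :
    ∑ d ∈ sph Δ (g • c) w, ψ d = ∑ d ∈ sph Δ c w, ψ (g • d) := by
  refine (Finset.sum_bij (fun d _ => g • d) (fun d hd => (smul_mem_sph S).2 hd)
    (fun a _ b _ h => smul_left_cancel g h) (fun b hb => ⟨g⁻¹ • b, ?_, smul_inv_smul g b⟩) fun d _ => rfl).symm
  rwa [← smul_mem_sph S (g := g), smul_inv_smul]

include S in
theorem sum_fix {u : G} {c : C} (hu : u • c = c) (w : W) (ψ : C → V) :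
    ∑ d ∈ sph Δ c w, ψ (u • d) = ∑ d ∈ sph Δ c w, ψ d := by
  rw [← sum_smul S, hu]

/-- the family of the sums of the coherent functions -/
noncomputable def TT (N : C → AddSubgroup V) (w : W) (c : C) : AddSubgroup V where
  carrier := {v | ∃ φ, Coh S N c w φ ∧ v = ∑ d ∈ sph Δ c w, φ d}
  zero_mem' := ⟨fun _ => 0, ⟨fun d _ => zero_mem _, fun u _ d _ => (smul_zero u).symm⟩, by simp⟩
  add_mem' := by
    rintro _ _ ⟨φ, hφ, rfl⟩ ⟨ψ, hψ, rfl⟩
    refine ⟨fun d => φ d + ψ d, ⟨fun d hd => add_mem (hφ.mem d hd) (hψ.mem d hd), fun u hu d hd => ?_⟩,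
      (Finset.sum_add_distrib).symm⟩
    rw [hφ.eq u hu d hd, hψ.eq u hu d hd, smul_add]
  neg_mem' := by
    rintro _ ⟨φ, hφ, rfl⟩
    refine ⟨fun d => -φ d, ⟨fun d hd => neg_mem (hφ.mem d hd), fun u hu d hd => ?_⟩,
      (Finset.sum_neg_distrib _).symm⟩
    rw [hφ.eq u hu d hd, smul_neg]

variable {S} {N : C → AddSubgroup V}

theorem mem_TT {w : W} {c : C} {v : V} : v ∈ TT S N w c ↔ ∃ φ, Coh S N c w φ ∧ v = ∑ d ∈ sph Δ c w, φ d := Iff.rfl

omit [Fintype C] in
theorem Coh.smul (hN : Fam S N) {c : C} {w : W} {φ : C → V} (h : Coh S N c w φ) (g : G) :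
    Coh S N (g • c) w fun d => g • φ (g⁻¹ • d) := by
  constructor
  · intro d hd
    have h1 : Δ.δ c (g⁻¹ • d) = w := by rw [← S.iso g, smul_inv_smul, hd]
    have h2 := hN.smul g _ _ (h.mem _ h1)
    rwa [smul_inv_smul] at h2
  · intro u hu d hd
    have h1 : Δ.δ c (g⁻¹ • d) = w := by rw [← S.iso g, smul_inv_smul, hd]
    have h2 : g⁻¹ * u * g ∈ S.U c := by
      have h3 : g * (g⁻¹ * u * g) * g⁻¹ ∈ S.U (g • c) := by
        have : g * (g⁻¹ * u * g) * g⁻¹ = u := by group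
        rwa [this]
      exact S.conj_mem_U_iff.1 h3
    have h3 := h.eq _ h2 _ h1
    have e : (g⁻¹ * u * g) • g⁻¹ • d = g⁻¹ • u • d := by
      rw [smul_smul, smul_smul]; congr 1; group
    rw [e] at h3
    show g • φ (g⁻¹ • u • d) = u • g • φ (g⁻¹ • d)
    rw [h3, smul_smul, smul_smul]
    congr 1
    group

variable (S) in
include S in
theorem sum_conj (g : G) (c : C) (w : W) (φ : C → V) :
    ∑ d ∈ sph Δ (g • c) w, g • φ (g⁻¹ • d) = g • ∑ d ∈ sph Δ c w, φ d := by
  rw [sum_smul S g c w fun d => g • φ (g⁻¹ • d), Finset.smul_sum]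
  exact Finset.sum_congr rfl fun d _ => by rw [inv_smul_smul]

theorem fam_TT (hN : Fam S N) (w : W) : Fam S (TT S N w) := by
  constructor
  · rintro g c _ ⟨φ, hφ, rfl⟩
    exact ⟨_, hφ.smul hN g, (sum_conj S g c w φ).symm⟩
  · rintro c u hu _ ⟨φ, hφ, rfl⟩
    rw [Finset.smul_sum]
    rw [← sum_fix S (S.fix c u hu) w φ]
    exact Finset.sum_congr rfl fun d hd => (hφ.eq u hu d ((mem_sph Δ).1 hd)).symm

theorem TT_one (hN : Fam S N) (c : C) : TT S N 1 c = N c := by
  have h0 : sph Δ c 1 = {c} := by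
    ext d
    rw [mem_sph, Finset.mem_singleton, Δ.eq_one]
    exact eq_comm
  apply le_antisymm
  · rintro _ ⟨φ, hφ, rfl⟩
    rw [h0, Finset.sum_singleton]
    exact hφ.mem c (Δ.δ_self c)
  · intro v hv
    refine ⟨fun _ => v, ⟨fun d hd => ?_, fun u hu d hd => ?_⟩, ?_⟩
    · rwa [← (Δ.eq_one c d).1 hd]
    · exact (hN.fix c u hu v hv).symm
    · rw [h0, Finset.sum_singleton]

variable [F : OppRes.Cox cs]

/-- a coherent function is determined by one value -/
theorem Coh.ext {c : C} {w : W} {φ ψ : C → V} (h : Coh S N c w φ) (h' : Coh S N c w ψ) {d₀ : C}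
    (hd₀ : Δ.δ c d₀ = w) (he : φ d₀ = ψ d₀) : ∀ d, Δ.δ c d = w → φ d = ψ d := by
  intro d hd
  obtain ⟨u, hu, rfl⟩ := S.exists_move (hd₀.trans hd.symm)
  rw [h.eq u hu d₀ hd₀, h'.eq u hu d₀ hd₀, he]

/-- a coherent function with a given value -/
theorem exists_coh (hN : Fam S N) {c d₀ : C} {w : W} (hd₀ : Δ.δ c d₀ = w) {v : V} (hv : v ∈ N d₀) :
    ∃ φ, Coh S N c w φ ∧ φ d₀ = v := by
  classical
  have hch : ∀ d, Δ.δ c d = w → ∃ u ∈ S.U c, u • d₀ = d := fun d hd => S.exists_move (hd₀.trans hd.symm)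
  choose! t ht htd using hch
  have key : ∀ u ∈ S.U c, u • d₀ = d₀ → u • v = v := fun u hu hud => hN.fix d₀ u (S.mem_U_of_fix hu hud) v hv
  have key' : ∀ u ∈ S.U c, ∀ u' ∈ S.U c, u • d₀ = u' • d₀ → u • v = u' • v := by
    intro u hu u' hu' h
    have h1 := key (u'⁻¹ * u) (mul_mem (inv_mem hu') hu) (by rw [mul_smul, h, inv_smul_smul])
    rw [mul_smul, inv_smul_eq_iff] at h1
    exact h1
  refine ⟨fun d => t d • v, ⟨fun d hd => ?_, fun u hu d hd => ?_⟩, ?_⟩
  · have := hN.smul (t d) d₀ v hv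
    rwa [htd d hd] at this
  · have hud : Δ.δ c (u • d) = w := by
      rw [← hd, ← S.iso u c d, S.fix c u hu]
    show t (u • d) • v = u • t d • v
    rw [← mul_smul]
    refine key' _ (ht _ hud) _ (mul_mem hu (ht _ hd)) ?_
    rw [htd _ hud, mul_smul, htd _ hd]
  · exact (key' _ (ht _ hd₀) 1 (one_mem _) (by rw [htd _ hd₀, one_smul])).trans (one_smul _ _)

/-- **lifting** a coherent function with values in `T_w N` -/
theorem exists_lift (hN : Fam S N) {c : C} {v w : W} {ψ : C → V} (hψ : Coh S (TT S N w) c v ψ) :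
    ∃ Φ : C → C → V, (∀ a, Δ.δ c a = v → Coh S N a w (Φ a) ∧ ψ a = ∑ d ∈ sph Δ a w, Φ a d) ∧
      ∀ a, Δ.δ c a = v → ∀ u ∈ S.U c, ∀ d, Δ.δ a d = w → Φ (u • a) (u • d) = u • Φ a d := by
  classical
  obtain ⟨a₀, ha₀⟩ := Δ.exists_δ c v
  obtain ⟨φ₀, hφ₀, hψ₀⟩ := mem_TT.1 (hψ.mem a₀ ha₀)
  have hch : ∀ a, Δ.δ c a = v → ∃ u ∈ S.U c, u • a₀ = a := fun a ha => S.exists_move (ha₀.trans ha.symm)
  choose! t ht hta using hch
  have hcoh : ∀ a, Δ.δ c a = v → ∀ u ∈ S.U c, ∀ d, Δ.δ a d = w →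
      t (u • a) • φ₀ ((t (u • a))⁻¹ • u • d) = u • t a • φ₀ ((t a)⁻¹ • d) := by
    intro a ha u hu d hd
    have hua : Δ.δ c (u • a) = v := by rw [← ha, ← S.iso u c a, S.fix c u hu]
    have h1 : (t (u • a))⁻¹ * u * t a ∈ S.U c := mul_mem (mul_mem (inv_mem (ht _ hua)) hu) (ht _ ha)
    have h2 : ((t (u • a))⁻¹ * u * t a) • a₀ = a₀ := by
      rw [mul_smul, mul_smul, hta _ ha, inv_smul_eq_iff, hta _ hua]
    have h3 := S.mem_U_of_fix h1 h2
    have h4 : Δ.δ a₀ ((t a)⁻¹ • d) = w := by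
      rw [← hd, ← S.iso (t a) a₀, smul_inv_smul, hta _ ha]
    have h5 := hφ₀.eq _ h3 _ h4
    have e : ((t (u • a))⁻¹ * u * t a) • (t a)⁻¹ • d = (t (u • a))⁻¹ • u • d := by
      rw [smul_smul, smul_smul]; congr 1; group
    rw [e] at h5
    rw [h5, smul_smul, smul_smul]
    congr 1
    group
  refine ⟨fun a d => t a • φ₀ ((t a)⁻¹ • d), fun a ha => ⟨?_, ?_⟩, hcoh⟩
  · have h1 := hφ₀.smul hN (t a)
    rwa [hta _ ha] at h1
  · have h1 := sum_conj S (t a) a₀ w φ₀
    rw [hta _ ha] at h1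
    rw [h1, ← hψ₀]
    have h2 := hψ.eq (t a) (ht _ ha) a₀ ha₀
    rwa [hta _ ha] at h2

/-- `T_i T_w ≤ T_{s_i w}` if the length grows -/
theorem TT_TT_le (hN : Fam S N) {w : W} {i : I} (hl : ℓ w < ℓ (cs.simple i * w)) (c : C) :
    TT S (TT S N w) (cs.simple i) c ≤ TT S N (cs.simple i * w) c := by
  classical
  rintro _ ⟨ψ, hψ, rfl⟩
  obtain ⟨Φ, h1, h2⟩ := exists_lift hN hψ
  -- the first chamber
  have hl' : ℓ (cs.simple i * w) = ℓ (cs.simple i) + ℓ w := by
    have h4 := cs.length_simple_mul w i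
    rw [cs.length_simple]
    omega
  have hfst : ∀ d, Δ.δ c d = cs.simple i * w → ∃ a, Δ.δ c a = cs.simple i ∧ Δ.δ a d = w := by
    intro d hd
    obtain ⟨a, ha, ha'⟩ := exists_first Δ (x := c) (y := d) (i := i) (by
      rw [hd, ← mul_assoc, cs.simple_mul_simple_self, one_mul]; exact hl)
    refine ⟨a, ha, ?_⟩
    rw [ha', hd, ← mul_assoc, cs.simple_mul_simple_self, one_mul]
  choose! f hf1 hf2 using hfst
  have huniq : ∀ d a, Δ.δ c a = cs.simple i → Δ.δ a d = w → f d = a := by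
    intro d a ha ha'
    have hd := Δ.δ_mul_of ha ha' hl'
    exact Δ.between_unique hl' (hf1 d hd) (hf2 d hd) ha ha'
  refine ⟨fun d => Φ (f d) d, ⟨fun d hd => (h1 _ (hf1 d hd)).1.mem d (hf2 d hd), fun u hu d hd => ?_⟩, ?_⟩
  · have h3 : f (u • d) = u • f d := by
      apply huniq
      · rw [← hf1 d hd, ← S.iso u c (f d), S.fix c u hu]
      · rw [S.iso, hf2 d hd]
    show Φ (f (u • d)) (u • d) = u • Φ (f d) d
    rw [h3, h2 _ (hf1 d hd) u hu d (hf2 d hd)]
  · have h3 : ∑ a ∈ sph Δ c (cs.simple i), ψ a =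
        ∑ a ∈ sph Δ c (cs.simple i), ∑ d ∈ sph Δ a w, Φ a d :=
      Finset.sum_congr rfl fun a ha => (h1 a ((mem_sph Δ).1 ha)).2
    rw [h3, Finset.sum_sigma']
    refine Finset.sum_bij (fun x _ => x.2) ?_ ?_ ?_ ?_
    · rintro ⟨a, d⟩ hx
      rw [Finset.mem_sigma] at hx
      obtain ⟨ha, hd⟩ := hx
      rw [mem_sph] at ha hd ⊢
      exact Δ.δ_mul_of ha hd hl'
    · rintro ⟨a, d⟩ hx ⟨a', d'⟩ hx' h
      rw [Finset.mem_sigma] at hx hx'
      obtain ⟨ha, hd⟩ := hx
      obtain ⟨ha', hd'⟩ := hx'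
      rw [mem_sph] at ha hd ha' hd'
      dsimp only at ha hd ha' hd' h
      subst h
      rw [← huniq d a ha hd, ← huniq d a' ha' hd']
    · intro d hd
      rw [mem_sph] at hd
      refine ⟨⟨f d, d⟩, ?_, rfl⟩
      rw [Finset.mem_sigma]
      exact ⟨(mem_sph Δ).2 (hf1 d hd), (mem_sph Δ).2 (hf2 d hd)⟩
    · rintro ⟨a, d⟩ hx
      rw [Finset.mem_sigma] at hx
      obtain ⟨ha, hd⟩ := hx
      rw [mem_sph] at ha hd
      dsimp only at ha hd ⊢
      rw [huniq d a ha hd]

/-- `T_{s_i w} ≤ T_i T_w` if the length grows -/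
theorem le_TT_TT (hN : Fam S N) {w : W} {i : I} (hl : ℓ w < ℓ (cs.simple i * w)) (c : C) :
    TT S N (cs.simple i * w) c ≤ TT S (TT S N w) (cs.simple i) c := by
  classical
  rintro _ ⟨φ, hφ, rfl⟩
  have hl' : ℓ (cs.simple i * w) = ℓ (cs.simple i) + ℓ w := by
    have h4 := cs.length_simple_mul w i
    rw [cs.length_simple]
    omega
  have hfst : ∀ d, Δ.δ c d = cs.simple i * w → ∃ a, Δ.δ c a = cs.simple i ∧ Δ.δ a d = w := by
    intro d hd
    obtain ⟨a, ha, ha'⟩ := exists_first Δ (x := c) (y := d) (i := i) (by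
      rw [hd, ← mul_assoc, cs.simple_mul_simple_self, one_mul]; exact hl)
    refine ⟨a, ha, ?_⟩
    rw [ha', hd, ← mul_assoc, cs.simple_mul_simple_self, one_mul]
  choose! f hf1 hf2 using hfst
  have huniq : ∀ d a, Δ.δ c a = cs.simple i → Δ.δ a d = w → f d = a := by
    intro d a ha ha'
    have hd := Δ.δ_mul_of ha ha' hl'
    exact Δ.between_unique hl' (hf1 d hd) (hf2 d hd) ha ha'
  refine ⟨fun a => ∑ d ∈ sph Δ a w, φ d, ⟨fun a ha => ⟨φ, ⟨fun d hd => hφ.mem d (Δ.δ_mul_of ha hd hl'), ?_⟩, rfl⟩,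
    fun u hu a ha => ?_⟩, ?_⟩
  · -- coherence under `U a`
    intro u hu d hd
    have hd1 := Δ.δ_mul_of ha hd hl'
    have hud : Δ.δ a (u • d) = w := by rw [← hd, ← S.iso u a d, S.fix a u hu]
    have hud1 := Δ.δ_mul_of ha hud hl'
    obtain ⟨u', hu', hu'd⟩ := S.exists_move (hd1.trans hud1.symm)
    have h3 : u' • a = a := by
      have h4 : f (u • d) = a := huniq _ _ ha hud
      rw [← h4, ← hu'd]
      symm
      apply huniq
      · rw [hu'd, h4, ← ha, ← S.iso u' c a, S.fix c u' hu']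
      · rw [hu'd, h4, ← hu'd, S.iso, hd]
    have h5 : u' ∈ S.U a := S.mem_U_of_fix hu' h3
    have h6 : u'⁻¹ * u ∈ S.U d := by
      refine S.mem_U_of_fix (mul_mem (inv_mem h5) hu) ?_
      rw [mul_smul, inv_smul_eq_iff, hu'd]
    have h7 := hN.fix d _ h6 _ (hφ.mem d hd1)
    rw [mul_smul, inv_smul_eq_iff] at h7
    rw [h7, ← hu'd, hφ.eq u' hu' d hd1]
  · show ∑ d ∈ sph Δ (u • a) w, φ d = u • ∑ d ∈ sph Δ a w, φ d
    rw [sum_smul S, Finset.smul_sum]
    exact Finset.sum_congr rfl fun d hd => hφ.eq u hu d (Δ.δ_mul_of ha ((mem_sph Δ).1 hd) hl')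
  · rw [Finset.sum_sigma']
    symm
    refine Finset.sum_bij (fun x _ => x.2) ?_ ?_ ?_ fun _ _ => rfl
    · rintro ⟨a, d⟩ hx
      rw [Finset.mem_sigma] at hx
      obtain ⟨ha, hd⟩ := hx
      rw [mem_sph] at ha hd ⊢
      exact Δ.δ_mul_of ha hd hl'
    · rintro ⟨a, d⟩ hx ⟨a', d'⟩ hx' h
      rw [Finset.mem_sigma] at hx hx'
      obtain ⟨ha, hd⟩ := hx
      obtain ⟨ha', hd'⟩ := hx'
      rw [mem_sph] at ha hd ha' hd'
      dsimp only at ha hd ha' hd' h
      subst h
      rw [← huniq d a ha hd, ← huniq d a' ha' hd']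
    · intro d hd
      rw [mem_sph] at hd
      refine ⟨⟨f d, d⟩, ?_, rfl⟩
      rw [Finset.mem_sigma]
      exact ⟨(mem_sph Δ).2 (hf1 d hd), (mem_sph Δ).2 (hf2 d hd)⟩

theorem TT_mul (hN : Fam S N) {w : W} {i : I} (hl : ℓ w < ℓ (cs.simple i * w)) (c : C) :
    TT S (TT S N w) (cs.simple i) c = TT S N (cs.simple i * w) c :=
  le_antisymm (TT_TT_le hN hl c) (le_TT_TT hN hl c)

variable (S) in
include S in
/-- the number of the other chambers of a panel is divisible by `p` -/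
theorem dvd_card_sph (hth : Δ.Thick) [Fact p.Prime] [Finite G] (c : C) (i : I) : p ∣ (sph Δ c (cs.simple i)).card := by
  classical
  obtain ⟨a, b, hab, ha, hb⟩ := hth c i
  have h1 : (sph Δ c (cs.simple i) : Set C) = MulAction.orbit (S.U c) a := by
    ext d
    rw [Finset.mem_coe, mem_sph]
    constructor
    · intro hd
      obtain ⟨u, hu, hud⟩ := S.exists_move (ha.trans hd.symm)
      exact ⟨⟨u, hu⟩, hud⟩
    · rintro ⟨⟨u, hu⟩, rfl⟩
      show Δ.δ c (u • a) = _
      rw [← ha, ← S.iso u c a, S.fix c u hu]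
  have h2 : Nat.card (MulAction.orbit (S.U c) a) = (sph Δ c (cs.simple i)).card := by
    rw [← h1, Nat.card_coe_set_eq, Set.ncard_coe_finset]
  obtain ⟨n, hn⟩ := (S.isP c).card_orbit a
  rw [h2] at hn
  rw [hn]
  cases n with
  | zero =>
    exfalso
    rw [pow_zero, Finset.card_eq_one] at hn
    obtain ⟨x, hx⟩ := hn
    have h3 : a ∈ sph Δ c (cs.simple i) := (mem_sph Δ).2 ha
    have h4 : b ∈ sph Δ c (cs.simple i) := (mem_sph Δ).2 hb
    rw [hx, Finset.mem_singleton] at h3 h4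
    exact hab (h3.trans h4.symm)
  | succ n => exact dvd_pow_self p (Nat.succ_ne_zero n)

/-- **`T_i T_i ≤ T_i`** in characteristic `p` -/
theorem TT_sq (hth : Δ.Thick) [Fact p.Prime] [Finite G] (hp : ∀ v : V, p • v = 0) (hN : Fam S N) (i : I) (c : C) :
    TT S (TT S N (cs.simple i)) (cs.simple i) c ≤ TT S N (cs.simple i) c := by
  classical
  rintro _ ⟨ψ, hψ, rfl⟩
  obtain ⟨Φ, h1, h2⟩ := exists_lift hN hψ
  have hadj : ∀ {a d : C}, Δ.δ c a = cs.simple i → Δ.δ c d = cs.simple i → a ≠ d → Δ.δ a d = cs.simple i :=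
    fun ha hd h => Δ.δ_eq_of_mem_Pan (Or.inr ha) (Or.inr hd) h
  have hpan : ∀ {a d : C}, Δ.δ c a = cs.simple i → (Δ.δ a d = cs.simple i ↔ (d = c ∨ (Δ.δ c d = cs.simple i ∧ a ≠ d))) := by
    intro a d ha
    constructor
    · intro hd
      by_cases h : d = c
      · exact Or.inl h
      · right
        refine ⟨Δ.δ_eq_of_mem_Pan (x := a) (Or.inr (Δ.δ_symm_simple ha)) (Or.inr hd) (fun h' => h h'.symm), ?_⟩
        exact Δ.ne_of_δ_simple hd
    · rintro (rfl | ⟨h3, h4⟩)
      · exact Δ.δ_symm_simple ha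
      · exact hadj ha h3 h4
  -- the two parts
  set P := sph Δ c (cs.simple i) with hP
  have hsum : ∀ a ∈ P, ψ a = Φ a c + ∑ d ∈ P, if a = d then 0 else Φ a d := by
    intro a ha
    have ha' := (mem_sph Δ).1 ha
    rw [(h1 a ha').2]
    have h3 : sph Δ a (cs.simple i) = insert c (P.filter fun d => a ≠ d) := by
      ext d
      rw [mem_sph, hpan ha', Finset.mem_insert, Finset.mem_filter, mem_sph]
    have h4 : c ∉ P.filter fun d => a ≠ d := by
      rw [Finset.mem_filter, mem_sph]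
      rintro ⟨h5, -⟩
      exact Δ.ne_of_δ_simple h5 rfl
    rw [h3, Finset.sum_insert h4, Finset.sum_filter]
    congr 1
    refine Finset.sum_congr rfl fun d _ => ?_
    by_cases h : a = d <;> simp [h]
  rw [Finset.sum_congr rfl hsum, Finset.sum_add_distrib]
  -- the first part is zero
  obtain ⟨a₀, ha₀⟩ := Δ.exists_δ c (cs.simple i)
  have hz : ∑ a ∈ P, Φ a c = 0 := by
    have h3 : ∀ a ∈ P, Φ a c = Φ a₀ c := by
      intro a ha
      have ha' := (mem_sph Δ).1 ha
      obtain ⟨u, hu, rfl⟩ := S.exists_move (ha₀.trans ha'.symm)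
      have h4 := h2 a₀ ha₀ u hu c (Δ.δ_symm_simple ha₀)
      rw [S.fix c u hu] at h4
      rw [h4]
      exact hN.fix c u hu _ ((h1 a₀ ha₀).1.mem c (Δ.δ_symm_simple ha₀))
    rw [Finset.sum_congr rfl h3, Finset.sum_const]
    obtain ⟨m, hm⟩ := dvd_card_sph S hth c i
    rw [hm, mul_smul, smul_comm, hp, smul_zero]
  rw [hz, zero_add, Finset.sum_comm]
  refine ⟨fun d => ∑ a ∈ P, if a = d then 0 else Φ a d, ⟨fun d hd => ?_, fun u hu d hd => ?_⟩, rfl⟩
  · refine AddSubgroup.sum_mem _ fun a ha => ?_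
    by_cases h : a = d
    · rw [if_pos h]; exact zero_mem _
    · rw [if_neg h]
      have ha' := (mem_sph Δ).1 ha
      exact (h1 a ha').1.mem d (hadj ha' hd h)
  · show (∑ a ∈ P, if a = u • d then 0 else Φ a (u • d)) = u • ∑ a ∈ P, if a = d then 0 else Φ a d
    rw [hP, ← sum_fix S (S.fix c u hu) (cs.simple i) (fun a => if a = u • d then 0 else Φ a (u • d)), Finset.smul_sum]
    refine Finset.sum_congr rfl fun a ha => ?_
    have ha' := (mem_sph Δ).1 ha
    by_cases h : a = d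
    · rw [if_pos h, if_pos (by rw [h]), smul_zero]
    · rw [if_neg h, if_neg (fun h' => h (smul_left_cancel u h')), h2 a ha' u hu d (hadj ha' hd h)]

end Cfsg.Agent.Omega.ML.LieRow.CRB

end

section


/-!
# The theorem of Curtis and Richen in building form, part 2

`V` a finite irreducible `G`-module with `p V = 0`, `S : Sys Δ G p`, `Δ` thick.

* `gal` : induction on galleries: a panel condition and the truth at the opposite chambers imply the truth everywhere;
* `inf_comm` : `C_V(U c) ∩ [V, U d] = 0` for opposite `c`, `d`;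
* `exists_stable` : a simple family invariant under all `T_i`;
* **`simple_Fx`** : `C_V(U c)` is a simple module of the stabiliser of `c`.
-/

set_option autoImplicit false
set_option linter.unusedSectionVars false

namespace Cfsg.Agent.Omega.ML.LieRow.CRB

open Cfsg.Agent.Tits.Core Cfsg.Agent.Tits.Core.Bldg Cfsg.Agent.Tits.Exchange Cfsg.Agent.Tits
open Cfsg.Agent.FixBN Cfsg.Agent.FixBN.Cox

/-! ### `p`-groups on `p`-groups -/

section pgrp

variable {P : Type*} [Group P] {V : Type*} [AddCommGroup V] [DistribMulAction P V] {p : ℕ} [Fact p.Prime]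

theorem dvd_card [Finite V] [Nontrivial V] (hp : ∀ v : V, p • v = 0) : p ∣ Nat.card V := by
  obtain ⟨v, hv⟩ := exists_ne (0 : V)
  rw [← addOrderOf_eq_prime (hp v) hv]
  exact addOrderOf_dvd_natCard v

theorem exists_fixed [Finite V] [Nontrivial V] (hP : IsPGroup p P) (hp : ∀ v : V, p • v = 0) :
    ∃ v : V, v ≠ 0 ∧ ∀ g : P, g • v = v := by
  obtain ⟨b, hb, h⟩ := hP.exists_fixed_point_of_prime_dvd_card_of_fixed_point V (dvd_card hp) (a := 0)
    (fun g => smul_zero g)
  exact ⟨b, fun h' => h h'.symm, fun g => hb g⟩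

/-- the quotient module -/
@[reducible] def quoAct {G : Type*} [Group G] [DistribMulAction G V] (L : AddSubgroup V) (hL : ∀ g : G, ∀ v ∈ L, g • v ∈ L) :
    DistribMulAction G (V ⧸ L) where
  smul g := QuotientAddGroup.map L L (DistribSMul.toAddMonoidHom V g) fun v hv => hL g v hv
  one_smul := by
    intro x
    induction x using QuotientAddGroup.induction_on with
    | H v => exact congrArg _ (one_smul G v)
  mul_smul := by
    intro g h x
    induction x using QuotientAddGroup.induction_on with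
    | H v => exact congrArg _ (mul_smul g h v)
  smul_zero := fun g => map_zero _
  smul_add := fun g x y => map_add _ x y

theorem quo_smul {G : Type*} [Group G] [DistribMulAction G V] (L : AddSubgroup V) (hL : ∀ g : G, ∀ v ∈ L, g • v ∈ L) (g : G) (v : V) :
    letI := quoAct L hL
    g • (QuotientAddGroup.mk v : V ⧸ L) = QuotientAddGroup.mk (g • v) := rfl

/-- the commutator `[V, P]` is proper -/
theorem exists_proper [Finite V] [Nontrivial V] (hP : IsPGroup p P) (hp : ∀ v : V, p • v = 0) :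
    ∃ L : AddSubgroup V, L ≠ ⊤ ∧ ∀ g : P, ∀ v, g • v - v ∈ L := by
  have hfin : (Set.univ : Set (AddSubgroup V)).Finite := Set.toFinite _
  have hne : {L : AddSubgroup V | L ≠ ⊤ ∧ ∀ g : P, ∀ v ∈ L, g • v ∈ L}.Nonempty :=
    ⟨⊥, bot_ne_top, fun g v hv => by rw [AddSubgroup.mem_bot] at hv ⊢; rw [hv, smul_zero]⟩
  obtain ⟨L, hL⟩ := (Set.toFinite {L : AddSubgroup V | L ≠ ⊤ ∧ ∀ g : P, ∀ v ∈ L, g • v ∈ L}).exists_maximal hne
  obtain ⟨hL1, hL2⟩ := hL.prop
  refine ⟨L, hL1, ?_⟩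
  -- fixed points of the quotient
  let _ := quoAct L hL2
  have hnt : Nontrivial (V ⧸ L) := by
    rw [← not_subsingleton_iff_nontrivial]
    intro h
    apply hL1
    rw [eq_top_iff]
    intro v _
    exact (QuotientAddGroup.eq_zero_iff v).1 (Subsingleton.elim _ _)
  have hp' : ∀ v : V ⧸ L, p • v = 0 := by
    intro x
    induction x using QuotientAddGroup.induction_on with
    | H v =>
      rw [← QuotientAddGroup.mk_nsmul, hp]
      rfl
  obtain ⟨x, hx, hfx⟩ := exists_fixed hP hp'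
  let L₁ : AddSubgroup V :=
    { carrier := {v | ∀ g : P, g • v - v ∈ L}
      zero_mem' := fun g => by rw [smul_zero, sub_zero]; exact zero_mem _
      add_mem' := fun {a b} ha hb g => by
        have : g • (a + b) - (a + b) = (g • a - a) + (g • b - b) := by rw [smul_add]; abel
        rw [this]
        exact add_mem (ha g) (hb g)
      neg_mem' := fun {a} ha g => by
        have : g • (-a) - (-a) = -(g • a - a) := by rw [smul_neg]; abel
        rw [this]
        exact neg_mem (ha g) }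
  have hm : ∀ v, v ∈ L₁ ↔ ∀ g : P, g • v - v ∈ L := fun v => Iff.rfl
  have hLL : L ≤ L₁ := fun v hv g => sub_mem (hL2 g v hv) hv
  have hinv : ∀ g : P, ∀ v ∈ L₁, g • v ∈ L₁ := by
    intro g v hv h
    have h1 := hv (h * g)
    have h2 := hv g
    have : h • g • v - g • v = ((h * g) • v - v) - (g • v - v) := by rw [mul_smul]; abel
    rw [this]
    exact sub_mem h1 h2
  have h1 : L₁ = ⊤ := by
    by_contra hne'
    have h2 : L₁ ≤ L := hL.le_of_ge ⟨hne', hinv⟩ hLL
    induction x using QuotientAddGroup.induction_on with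
    | H v =>
      apply hx
      rw [QuotientAddGroup.eq_zero_iff]
      apply h2
      intro g
      have h3 := hfx g
      rw [quo_smul] at h3
      have h4 := (QuotientAddGroup.eq_iff_sub_mem).1 h3
      exact h4
  intro g v
  have : v ∈ L₁ := by rw [h1]; trivial
  exact this g

end pgrp

variable {I : Type*} {M : CoxeterMatrix I} {W : Type*} [Group W] {cs : CoxeterSystem M W} {C : Type*}
  {Δ : Bldg cs C} {G : Type*} [Group G] [MulAction G C] {p : ℕ} (S : Sys Δ G p)
  {V : Type*} [AddCommGroup V] [DistribMulAction G V]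

local prefix:100 "ℓ" => cs.length

/-! ### galleries -/

/-- **induction on galleries** -/
theorem gal [F : OppRes.Cox cs] {Pr : C → Prop} (h : ∀ c i, (∀ d, Δ.δ c d = cs.simple i → Pr d) → Pr c) {c₀ : C}
    (h₀ : ∀ d, Δ.Opp c₀ d → Pr d) (c : C) : Pr c := by
  have key : ∀ n : ℕ, ∀ c, ℓ (w0 cs) - ℓ (Δ.δ c₀ c) = n → Pr c := by
    intro n
    induction n using Nat.strong_induction_on with
    | _ n ih =>
      intro c hn
      by_cases h1 : ∀ i, ℓ (Δ.δ c₀ c * cs.simple i) < ℓ (Δ.δ c₀ c)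
      · apply h₀
        exact F.eq_wJ_of_descents (J := Set.univ) (by rw [OppRes.WJ_univ]; trivial) fun j _ => h1 j
      · push Not at h1
        obtain ⟨i, hi⟩ := h1
        have hi' : ℓ (Δ.δ c₀ c) < ℓ (Δ.δ c₀ c * cs.simple i) := by
          rcases cs.length_mul_simple (Δ.δ c₀ c) i with h2 | h2 <;> omega
        apply h c i
        intro d hd
        have h3 := Δ.step_lt c₀ c d i hd hi'
        refine ih _ ?_ d rfl
        rw [h3]
        have h4 := F.len_mul_w0 (Δ.δ c₀ c * cs.simple i)⁻¹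
        rw [cs.length_inv] at h4
        omega
  exact key _ c rfl

/-! ### The two families -/

/-- `C_V(U c)` -/
def Fx (c : C) : AddSubgroup V where
  carrier := {v | ∀ u ∈ S.U c, u • v = v}
  zero_mem' := fun u _ => smul_zero u
  add_mem' := fun {a b} ha hb u hu => by rw [smul_add, ha u hu, hb u hu]
  neg_mem' := fun {a} ha u hu => by rw [smul_neg, ha u hu]

theorem mem_Fx {c : C} {v : V} : v ∈ Fx S c ↔ ∀ u ∈ S.U c, u • v = v := Iff.rfl

theorem fam_Fx : Fam S (Fx (V := V) S) := by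
  refine ⟨fun g c v hv u hu => ?_, fun c u hu v hv => hv u hu⟩
  have h2 : g⁻¹ * u * g ∈ S.U c := by
    have h3 : g * (g⁻¹ * u * g) * g⁻¹ ∈ S.U (g • c) := by
      have : g * (g⁻¹ * u * g) * g⁻¹ = u := by group
      rwa [this]
    exact S.conj_mem_U_iff.1 h3
  have h3 := hv _ h2
  rw [mul_smul, mul_smul, inv_smul_eq_iff] at h3
  exact h3

theorem le_Fx {N : C → AddSubgroup V} (hN : Fam S N) (c : C) : N c ≤ Fx S c := fun v hv u hu => hN.fix c u hu v hv

/-- `[V, U c]` -/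
def Cm (c : C) : AddSubgroup V := AddSubgroup.closure {x | ∃ u ∈ S.U c, ∃ v : V, x = u • v - v}

theorem mem_Cm {c : C} {u : G} (hu : u ∈ S.U c) (v : V) : u • v - v ∈ Cm S c :=
  AddSubgroup.subset_closure ⟨u, hu, v, rfl⟩

theorem smul_mem_Cm {c : C} (g : G) {v : V} (hv : v ∈ Cm S c) : g • v ∈ Cm S (g • c) := by
  induction hv using AddSubgroup.closure_induction with
  | mem x hx =>
    obtain ⟨u, hu, v, rfl⟩ := hx
    have h1 := mem_Cm S (S.conj_mem_U hu g) (g • v)
    have e : (g * u * g⁻¹) • g • v - g • v = g • (u • v - v) := by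
      rw [smul_sub, smul_smul, smul_smul]
      congr 2
      group
    rwa [e] at h1
  | zero => rw [smul_zero]; exact zero_mem _
  | add x y _ _ hx hy => rw [smul_add]; exact add_mem hx hy
  | neg x _ hx => rw [smul_neg]; exact neg_mem hx

variable [Fintype C] [F : OppRes.Cox cs] {S}

/-- the panel condition for families invariant under `T_i` -/
theorem le_of_panel {N : C → AddSubgroup V} (hN : Fam S N) (hst : ∀ i c, TT S N (cs.simple i) c ≤ N c)
    {L : AddSubgroup V} {c : C} {i : I} (h : ∀ d, Δ.δ c d = cs.simple i → N d ≤ L) : N c ≤ L := by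
  classical
  intro v hv
  obtain ⟨a, ha⟩ := Δ.exists_δ c (cs.simple i)
  have ha' := Δ.δ_symm_simple ha
  obtain ⟨φ, hφ, rfl⟩ := exists_coh hN ha' hv
  have h1 : ∑ d ∈ sph Δ a (cs.simple i), φ d ∈ L := h a ha (hst i a ⟨φ, hφ, rfl⟩)
  have h2 : c ∈ sph Δ a (cs.simple i) := (mem_sph Δ).2 ha'
  rw [← Finset.add_sum_erase _ _ h2] at h1
  have h3 : ∑ d ∈ (sph Δ a (cs.simple i)).erase c, φ d ∈ L := by
    refine AddSubgroup.sum_mem _ fun d hd => ?_
    rw [Finset.mem_erase, mem_sph] at hd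
    refine h d ?_ (hφ.mem d hd.2)
    exact Δ.δ_eq_of_mem_Pan (x := a) (Or.inr ha') (Or.inr hd.2) (fun h' => hd.1 h'.symm)
  have h4 := sub_mem h1 h3
  rwa [add_sub_cancel_right] at h4

/-- the dual panel condition -/
theorem mem_Cm_of_panel {c : C} {i : I} {v : V} (h : ∀ d, Δ.δ c d = cs.simple i → v ∈ Cm S d) : v ∈ Cm S c := by
  classical
  obtain ⟨a, ha⟩ := Δ.exists_δ c (cs.simple i)
  have ha' := Δ.δ_symm_simple ha
  have hch : ∀ e, Δ.δ a e = cs.simple i → ∃ t ∈ S.U a, t • c = e := fun e he => S.exists_move (ha'.trans he.symm)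
  choose! t ht hte using hch
  -- claim 1
  have key : ∀ x ∈ Cm (V := V) S a, ∑ e ∈ sph Δ a (cs.simple i), (t e)⁻¹ • x ∈ Cm S c := by
    intro x hx
    induction hx using AddSubgroup.closure_induction with
    | mem x hx =>
      obtain ⟨u, hu, x, rfl⟩ := hx
      have h1 : ∑ e ∈ sph Δ a (cs.simple i), (t e)⁻¹ • (u • x - x) =
          ∑ e ∈ sph Δ a (cs.simple i), ((t (u • e))⁻¹ • u • x - (t e)⁻¹ • x) := by
        rw [Finset.sum_sub_distrib, sum_fix S (S.fix a u hu) (cs.simple i) fun e => (t e)⁻¹ • u • x,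
          ← Finset.sum_sub_distrib]
        exact Finset.sum_congr rfl fun e _ => smul_sub _ _ _
      rw [h1]
      refine AddSubgroup.sum_mem _ fun e he => ?_
      have he' := (mem_sph Δ).1 he
      have hue : Δ.δ a (u • e) = cs.simple i := by rw [← he', ← S.iso u a e, S.fix a u hu]
      have h2 : (t (u • e))⁻¹ * u * t e ∈ S.U a := mul_mem (mul_mem (inv_mem (ht _ hue)) hu) (ht _ he')
      have h3 : ((t (u • e))⁻¹ * u * t e) • c = c := by
        rw [mul_smul, mul_smul, hte _ he', inv_smul_eq_iff, hte _ hue]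
      have h4 := mem_Cm S (S.mem_U_of_fix h2 h3) ((t e)⁻¹ • x)
      have e1 : ((t (u • e))⁻¹ * u * t e) • (t e)⁻¹ • x = (t (u • e))⁻¹ • u • x := by
        rw [smul_smul, smul_smul]
        congr 1
        group
      rwa [e1] at h4
    | zero => simp only [smul_zero, Finset.sum_const_zero]; exact zero_mem _
    | add x y _ _ hx hy =>
      simp only [smul_add, Finset.sum_add_distrib]
      exact add_mem hx hy
    | neg x _ hx =>
      simp only [smul_neg, Finset.sum_neg_distrib]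
      exact neg_mem hx
  have h1 := key v (h a ha)
  have h2 : c ∈ sph Δ a (cs.simple i) := (mem_sph Δ).2 ha'
  rw [← Finset.add_sum_erase _ _ h2] at h1
  have h3 : ∑ e ∈ (sph Δ a (cs.simple i)).erase c, (t e)⁻¹ • v ∈ Cm S c := by
    refine AddSubgroup.sum_mem _ fun e he => ?_
    rw [Finset.mem_erase, mem_sph] at he
    have h4 := h e (Δ.δ_eq_of_mem_Pan (x := a) (Or.inr ha') (Or.inr he.2) (fun h' => he.1 h'.symm))
    have h5 := smul_mem_Cm S (t e)⁻¹ h4
    rwa [inv_smul_eq_iff.2 (hte e he.2).symm] at h5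
  have h4 := sub_mem h1 h3
  rw [add_sub_cancel_right] at h4
  have h5 : (t c)⁻¹ • v - v ∈ Cm S c := mem_Cm S (inv_mem (S.mem_U_of_fix (ht c ha') (hte c ha'))) v
  have h6 := sub_mem h4 h5
  rwa [sub_sub_cancel] at h6

/-! ### irreducible modules -/

/-- no invariant subgroups -/
def Irr (G : Type*) [Group G] (V : Type*) [AddCommGroup V] [DistribMulAction G V] : Prop :=
  ∀ L : AddSubgroup V, (∀ g : G, ∀ v ∈ L, g • v ∈ L) → L = ⊥ ∨ L = ⊤

/-- simple under the stabilisers -/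
def Simp (G : Type*) [Group G] [MulAction G C] {V : Type*} [AddCommGroup V] [DistribMulAction G V]
    (N : C → AddSubgroup V) : Prop :=
  ∀ c, ∀ L ≤ N c, (∀ g : G, g • c = c → ∀ v ∈ L, g • v ∈ L) → L = ⊥ ∨ L = N c

/-- **opposite chambers** -/
theorem inf_comm [Finite V] [Nontrivial V] [Fact p.Prime] (hp : ∀ v : V, p • v = 0) (hirr : Irr G V) {c d : C}
    (hcd : Δ.Opp c d) {v : V} (hv : v ∈ Fx S c) (hv' : v ∈ Cm S d) : v = 0 := by
  have h1 : ∀ e, v ∈ Cm S e := by
    refine gal (Δ := Δ) (fun a i h => mem_Cm_of_panel h) (c₀ := c) ?_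
    intro d' hd'
    obtain ⟨u, hu, rfl⟩ := S.trans c d d' hcd hd'
    have h2 := smul_mem_Cm S u hv'
    rwa [hv u hu] at h2
  -- the intersection of all
  have h2 : (⨅ e, Cm (V := V) S e) = ⊥ ∨ (⨅ e, Cm (V := V) S e) = ⊤ := by
    apply hirr
    intro g x hx
    rw [AddSubgroup.mem_iInf] at hx ⊢
    intro e
    have h3 := smul_mem_Cm S g (hx (g⁻¹ • e))
    rwa [smul_inv_smul] at h3
  rcases h2 with h2 | h2
  · have h3 : v ∈ (⨅ e, Cm (V := V) S e) := AddSubgroup.mem_iInf.2 h1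
    rwa [h2, AddSubgroup.mem_bot] at h3
  · exfalso
    obtain ⟨L, hL, hL'⟩ := exists_proper (P := S.U c) (S.isP c) hp
    apply hL
    rw [eq_top_iff, ← h2]
    refine (iInf_le _ c).trans ((AddSubgroup.closure_le _).2 ?_)
    rintro _ ⟨u, hu, x, rfl⟩
    exact hL' ⟨u, hu⟩ x

/-- `T_w` of a simple family is simple -/
theorem simp_TT {N : C → AddSubgroup V} (hN : Fam S N) (hs : Simp G N) (w : W) : Simp G (TT S N w) := by
  classical
  intro c L hL hinv
  obtain ⟨d₀, hd₀⟩ := Δ.exists_δ c w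
  let L' : AddSubgroup V :=
    { carrier := {v | ∃ φ, Coh S N c w φ ∧ φ d₀ = v ∧ ∑ d ∈ sph Δ c w, φ d ∈ L}
      zero_mem' := ⟨fun _ => 0, ⟨fun d _ => zero_mem _, fun u _ d _ => (smul_zero u).symm⟩, rfl, by
        rw [Finset.sum_const_zero]; exact zero_mem _⟩
      add_mem' := by
        rintro _ _ ⟨φ, hφ, rfl, h1⟩ ⟨ψ, hψ, rfl, h2⟩
        refine ⟨fun d => φ d + ψ d, ⟨fun d hd => add_mem (hφ.mem d hd) (hψ.mem d hd), fun u hu d hd => ?_⟩, rfl, ?_⟩
        · rw [hφ.eq u hu d hd, hψ.eq u hu d hd, smul_add]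
        · rw [Finset.sum_add_distrib]; exact add_mem h1 h2
      neg_mem' := by
        rintro _ ⟨φ, hφ, rfl, h1⟩
        refine ⟨fun d => -φ d, ⟨fun d hd => neg_mem (hφ.mem d hd), fun u hu d hd => ?_⟩, rfl, ?_⟩
        · rw [hφ.eq u hu d hd, smul_neg]
        · rw [Finset.sum_neg_distrib]; exact neg_mem h1 }
  have hm : ∀ v, v ∈ L' ↔ ∃ φ, Coh S N c w φ ∧ φ d₀ = v ∧ ∑ d ∈ sph Δ c w, φ d ∈ L := fun v => Iff.rfl
  have hL'le : L' ≤ N d₀ := by
    rintro _ ⟨φ, hφ, rfl, -⟩
    exact hφ.mem d₀ hd₀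
  have hL'inv : ∀ g : G, g • d₀ = d₀ → ∀ v ∈ L', g • v ∈ L' := by
    rintro g hg _ ⟨φ, hφ, rfl, h1⟩
    obtain ⟨u, hu, huc⟩ := S.exists_move (x := d₀) (z := c) (z' := g • c) (by
      conv_rhs => rw [← hg, S.iso])
    have h2 : (u⁻¹ * g) • c = c := by rw [mul_smul, inv_smul_eq_iff, huc]
    have h3 : (u⁻¹ * g) • d₀ = d₀ := by rw [mul_smul, hg, inv_smul_eq_iff, S.fix d₀ u hu]
    have h4 := hφ.smul hN (u⁻¹ * g)
    rw [h2] at h4
    have h5 : (u⁻¹ * g)⁻¹ • d₀ = d₀ := by rw [inv_smul_eq_iff, h3]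
    have h6 : (u⁻¹ * g) • φ d₀ ∈ L' := by
      refine ⟨_, h4, ?_, ?_⟩
      · show (u⁻¹ * g) • φ ((u⁻¹ * g)⁻¹ • d₀) = _
        rw [h5]
      · have h7 := sum_conj S (u⁻¹ * g) c w φ
        rw [h2] at h7
        rw [h7]
        exact hinv _ h2 _ h1
    have h7 := hN.fix d₀ u hu _ (hL'le h6)
    rw [mul_smul, smul_inv_smul] at h7
    rw [h7, ← mul_smul]
    exact h6
  rcases hs d₀ L' hL'le hL'inv with h1 | h1
  · left
    rw [eq_bot_iff]
    intro v hv
    obtain ⟨φ, hφ, rfl⟩ := hL hv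
    have h2 : φ d₀ ∈ L' := ⟨φ, hφ, rfl, hv⟩
    rw [h1, AddSubgroup.mem_bot] at h2
    have h3 := hφ.ext (ψ := fun _ => 0) ⟨fun d _ => zero_mem _, fun u _ d _ => (smul_zero u).symm⟩ hd₀ h2
    rw [AddSubgroup.mem_bot]
    exact Finset.sum_eq_zero fun d hd => h3 d ((mem_sph Δ).1 hd)
  · right
    refine le_antisymm hL ?_
    rintro _ ⟨ψ, hψ, rfl⟩
    have h2 : ψ d₀ ∈ L' := by rw [h1]; exact hψ.mem d₀ hd₀
    obtain ⟨φ, hφ, h3, h4⟩ := h2
    have h5 := hφ.ext hψ hd₀ h3
    rwa [Finset.sum_congr rfl fun d hd => h5 d ((mem_sph Δ).1 hd)] at h4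

theorem bot_of_bot (hth : Δ.Thick) {N : C → AddSubgroup V} (hN : Fam S N) {c : C} (h : N c = ⊥) (d : C) : N d = ⊥ := by
  obtain ⟨g, rfl⟩ := exists_smul_top S hth c d
  rw [eq_bot_iff]
  intro v hv
  have h1 := hN.smul g⁻¹ _ v hv
  rw [inv_smul_smul, h, AddSubgroup.mem_bot, inv_smul_eq_iff, smul_zero] at h1
  rw [AddSubgroup.mem_bot, h1]

/-- **a simple family invariant under all `T_i`** -/
theorem exists_stable (hth : Δ.Thick) [Fact p.Prime] [Finite G] (hp : ∀ v : V, p • v = 0) {N : C → AddSubgroup V}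
    (hN : Fam S N) (hs : Simp G N) {c : C} (hc : N c ≠ ⊥) :
    ∃ N' : C → AddSubgroup V, Fam S N' ∧ Simp G N' ∧ N' c ≠ ⊥ ∧ ∀ i c, TT S N' (cs.simple i) c ≤ N' c := by
  have key : ∀ n : ℕ, ∀ w, ℓ (w0 cs) - ℓ w = n → TT S N w c ≠ ⊥ →
      ∃ w', TT S N w' c ≠ ⊥ ∧ ∀ i, ℓ w' < ℓ (cs.simple i * w') → TT S N (cs.simple i * w') c = ⊥ := by
    intro n
    induction n using Nat.strong_induction_on with
    | _ n ih =>
      intro w hn hw
      by_cases h1 : ∀ i, ℓ w < ℓ (cs.simple i * w) → TT S N (cs.simple i * w) c = ⊥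
      · exact ⟨w, hw, h1⟩
      · push Not at h1
        obtain ⟨i, hi, hi'⟩ := h1
        refine ih _ ?_ (cs.simple i * w) rfl hi'
        have h4 := F.len_mul_w0 (cs.simple i * w)
        omega
  obtain ⟨w, hw, hmax⟩ := key _ 1 rfl (by rwa [TT_one hN])
  refine ⟨TT S N w, fam_TT hN w, simp_TT hN hs w, hw, ?_⟩
  intro i a
  rcases cs.length_simple_mul w i with h1 | h1
  · rw [TT_mul hN (by omega), bot_of_bot hth (fam_TT hN _) (hmax i (by omega)) a]
    exact bot_le
  · have h2 : ℓ (cs.simple i * w) < ℓ (cs.simple i * (cs.simple i * w)) := by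
      rw [← mul_assoc, cs.simple_mul_simple_self, one_mul]
      omega
    have h3 : TT S (TT S N (cs.simple i * w)) (cs.simple i) = TT S N w := by
      funext b
      rw [TT_mul hN h2, ← mul_assoc, cs.simple_mul_simple_self, one_mul]
    have h4 := TT_sq hth hp (fam_TT hN (cs.simple i * w)) i a
    rwa [h3] at h4

/-- the family generated by an invariant subgroup -/
theorem exists_fam (hth : Δ.Thick) (c₀ : C) {L : AddSubgroup V} (hL : L ≤ Fx S c₀)
    (hinv : ∀ g : G, g • c₀ = c₀ → ∀ v ∈ L, g • v ∈ L)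
    (hs : ∀ L' ≤ L, (∀ g : G, g • c₀ = c₀ → ∀ v ∈ L', g • v ∈ L') → L' = ⊥ ∨ L' = L) :
    ∃ N : C → AddSubgroup V, Fam S N ∧ Simp G N ∧ N c₀ = L := by
  let N : C → AddSubgroup V := fun c =>
    { carrier := {v | ∀ g : G, g • c₀ = c → g⁻¹ • v ∈ L}
      zero_mem' := fun g _ => by rw [smul_zero]; exact zero_mem _
      add_mem' := fun {a b} ha hb g hg => by rw [smul_add]; exact add_mem (ha g hg) (hb g hg)
      neg_mem' := fun {a} ha g hg => by rw [smul_neg]; exact neg_mem (ha g hg) }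
  have hm : ∀ c v, v ∈ N c ↔ ∀ g : G, g • c₀ = c → g⁻¹ • v ∈ L := fun c v => Iff.rfl
  have hm' : ∀ (g : G) v, v ∈ N (g • c₀) ↔ g⁻¹ • v ∈ L := by
    intro g v
    refine ⟨fun h => h g rfl, fun h g' hg' => ?_⟩
    have h1 := hinv (g'⁻¹ * g) (by rw [mul_smul, ← hg', inv_smul_smul]) _ h
    rwa [mul_smul, smul_inv_smul] at h1
  have h0 : N c₀ = L := by
    ext v
    have := hm' 1 v
    rwa [one_smul, inv_one, one_smul] at this
  have hsm : ∀ (g : G) (c : C), ∀ v ∈ N c, g • v ∈ N (g • c) := by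
    intro g c v hv
    obtain ⟨k, rfl⟩ := exists_smul_top S hth c₀ c
    rw [← mul_smul, hm']
    rw [hm'] at hv
    rwa [mul_inv_rev, mul_smul, inv_smul_smul]
  refine ⟨N, ⟨hsm, ?_⟩, ?_, h0⟩
  · intro c u hu v hv
    obtain ⟨k, rfl⟩ := exists_smul_top S hth c₀ c
    rw [hm'] at hv
    have h2 : k⁻¹ * u * k ∈ S.U c₀ := by
      have h3 : k * (k⁻¹ * u * k) * k⁻¹ ∈ S.U (k • c₀) := by
        have : k * (k⁻¹ * u * k) * k⁻¹ = u := by group
        rwa [this]
      exact S.conj_mem_U_iff.1 h3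
    have h3 := hL hv _ h2
    rw [mul_smul, mul_smul, smul_inv_smul, inv_smul_eq_iff, smul_inv_smul] at h3
    exact h3
  · intro c L' hL' hinv'
    obtain ⟨k, rfl⟩ := exists_smul_top S hth c₀ c
    let L'' : AddSubgroup V := L'.comap (DistribSMul.toAddMonoidHom V k)
    have hmm : ∀ v, v ∈ L'' ↔ k • v ∈ L' := fun v => Iff.rfl
    rcases hs L'' (fun v hv => by
        have h1 := hL' hv
        rw [hm'] at h1
        have h2 : k⁻¹ • (DistribSMul.toAddMonoidHom V k) v = v := inv_smul_smul k v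
        rwa [h2] at h1) (by
        intro g hg v hv
        rw [hmm] at hv ⊢
        have h1 := hinv' (k * g * k⁻¹) (by rw [mul_smul, mul_smul, inv_smul_smul, hg]) _ hv
        rwa [mul_smul, mul_smul, inv_smul_smul] at h1) with h1 | h1
    · left
      rw [eq_bot_iff]
      intro v hv
      have h2 : k⁻¹ • v ∈ L'' := by rw [hmm, smul_inv_smul]; exact hv
      rw [h1, AddSubgroup.mem_bot, inv_smul_eq_iff, smul_zero] at h2
      rw [AddSubgroup.mem_bot, h2]
    · right
      refine le_antisymm hL' fun v hv => ?_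
      rw [hm', ← h1, hmm, smul_inv_smul] at hv
      exact hv

/-- **The theorem of Curtis and Richen**: `C_V(U c)` is a simple module of the stabiliser of `c`. -/
theorem simple_Fx (hth : Δ.Thick) [Fact p.Prime] [Finite G] [Finite V] [Nontrivial V] (hp : ∀ v : V, p • v = 0)
    (hirr : Irr G V) : Simp G (Fx (V := V) S) := by
  intro c
  -- a minimal invariant subgroup of `C_V(U c)`
  have hne : {L : AddSubgroup V | L ≠ ⊥ ∧ L ≤ Fx S c ∧ ∀ g : G, g • c = c → ∀ v ∈ L, g • v ∈ L}.Nonempty := by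
    refine ⟨Fx S c, ?_, le_rfl, ?_⟩
    · intro h
      obtain ⟨v, hv, hfv⟩ := exists_fixed (P := S.U c) (V := V) (S.isP c) hp
      have h1 : v ∈ Fx S c := fun u hu => hfv ⟨u, hu⟩
      rw [h, AddSubgroup.mem_bot] at h1
      exact hv h1
    · intro g hg v hv
      have := (fam_Fx S).smul g c v hv
      rwa [hg] at this
  obtain ⟨L, hL⟩ := (Set.toFinite _).exists_minimal hne
  obtain ⟨hL1, hL2, hL3⟩ := hL.prop
  obtain ⟨N, hN, hNs, hNc⟩ := exists_fam (S := S) hth c hL2 hL3 (by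
    intro L' hL' hinv
    by_cases h : L' = ⊥
    · exact Or.inl h
    · exact Or.inr (le_antisymm hL' (hL.le_of_le ⟨h, hL'.trans hL2, hinv⟩ hL')))
  obtain ⟨N', hN', hs', hne', hst⟩ := exists_stable hth hp hN hNs (c := c) (by rwa [hNc])
  -- an opposite chamber
  have hall : ∀ c, N' c = Fx S c := by
    intro c
    obtain ⟨d, hd⟩ := Δ.exists_δ c (w0 cs)
    have hcd : Δ.Opp c d := hd
    have hdc : Δ.Opp d c := by
      show Δ.δ d c = w0 cs
      rw [Δ.symm c d, hd, F.w0_inv]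
    refine le_antisymm (le_Fx S hN' c) ?_
    -- `V = N' c + [V, U d]`
    have h1 : ∀ e, N' e ≤ N' c ⊔ Cm S d := by
      refine gal (Δ := Δ) (fun a i h => le_of_panel hN' hst h) (c₀ := d) ?_
      intro c' hc'
      obtain ⟨u, hu, rfl⟩ := S.trans d c c' hdc hc'
      intro v hv
      have h2 := hN'.smul u⁻¹ _ v hv
      rw [inv_smul_smul] at h2
      have h3 : v = u⁻¹ • v - (u⁻¹ • v - v) := by abel
      rw [h3]
      exact sub_mem (AddSubgroup.mem_sup_left h2) (AddSubgroup.mem_sup_right (mem_Cm S (inv_mem hu) v))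
    have h2 : (⨆ e, N' e) = ⊤ := by
      refine (hirr (⨆ e, N' e) ?_).resolve_left ?_
      · intro g v hv
        have h3 : (⨆ e, N' e) ≤ (⨆ e, N' e).comap (DistribSMul.toAddMonoidHom V g) :=
          iSup_le fun e x hx => AddSubgroup.mem_iSup_of_mem (g • e) (hN'.smul g e x hx)
        exact h3 hv
      · intro h3
        apply hne'
        rw [eq_bot_iff, ← h3]
        exact le_iSup N' _
    intro v hv
    have h3 : v ∈ N' c ⊔ Cm S d := (iSup_le h1) (by rw [h2]; trivial)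
    obtain ⟨n, hn, m, hm, rfl⟩ := AddSubgroup.mem_sup.1 h3
    have h4 : m ∈ Fx S c := by
      have := sub_mem hv (le_Fx S hN' c hn)
      rwa [add_sub_cancel_left] at this
    rw [inf_comm hp hirr hcd h4 hm, add_zero]
    exact hn
  have h1 : N' = Fx S := funext hall
  rw [h1] at hs'
  exact hs' c

end Cfsg.Agent.Omega.ML.LieRow.CRB

end

section


/-!
# Overgroups of `U c` fixing a vector

* `fix_all` : `U c ≤ R ≤ G`, `R` fixes a vector `≠ 0` of the irreducible module `V`, `B/U` abelian: `R` centralises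
  `C_V(U c)`;
* `fix_all_kt` : the same for `H = KT`, `M` irreducible for `H`, `T ≤ R ≤ H` fixes the `T`-fixed vector `y ≠ 0`:
  `R` centralises all `T`-fixed vectors.
-/

set_option autoImplicit false
set_option linter.unusedSectionVars false

namespace Cfsg.Agent.Omega.ML.LieRow.CRB

open Cfsg.Agent.Tits.Core Cfsg.Agent.Tits.Core.Bldg Cfsg.Agent.Tits.Exchange Cfsg.Agent.Tits
open Cfsg.Agent.FixBN Cfsg.Agent.FixBN.Cox Cfsg.Agent.UGT.U2.FOne

variable {I : Type*} {M : CoxeterMatrix I} {W : Type*} [Group W] {cs : CoxeterSystem M W} {C : Type*}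
  {Δ : Bldg cs C}

local prefix:100 "ℓ" => cs.length

/-- **overgroups of `U c`** -/
theorem fix_all {G : Type*} [Group G] [MulAction G C] {p : ℕ} (S : Sys Δ G p) [F : OppRes.Cox cs] [Finite C]
    {V : Type*} [AddCommGroup V] [DistribMulAction G V] (hth : Δ.Thick) [Fact p.Prime] [Finite G] [Finite V]
    (hp : ∀ v : V, p • v = 0) (hirr : Irr G V) {c : C}
    (hab : ∀ a b : G, a • c = c → b • c = c → a * b * a⁻¹ * b⁻¹ ∈ S.U c) {R : Subgroup G} (hR : S.U c ≤ R)
    {y : V} (hy : y ≠ 0) (hyR : ∀ r ∈ R, r • y = y) : ∀ r ∈ R, ∀ v ∈ Fx (V := V) S c, r • v = v := by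
  classical
  have : Fintype C := Fintype.ofFinite C
  have : Nontrivial V := ⟨y, 0, hy⟩
  have hs := simple_Fx (S := S) hth hp hirr c
  -- the normal closure of `U c` in the parabolic
  let D : Subgroup G := ⨆ r : R, S.U ((r : G) • c)
  have hUD : ∀ r ∈ R, S.U (r • c) ≤ D := fun r hr => le_iSup (fun r : R => S.U ((r : G) • c)) ⟨r, hr⟩
  have hcD : S.U c ≤ D := by
    have := hUD 1 (one_mem _)
    rwa [one_smul] at this
  have hDR : D ≤ R := by
    refine iSup_le ?_
    rintro ⟨r, hr⟩ u hu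
    have h3 : r * (r⁻¹ * u * r) * r⁻¹ ∈ S.U (r • c) := by
      have : r * (r⁻¹ * u * r) * r⁻¹ = u := by group
      rwa [this]
    have h4 := hR (S.conj_mem_U_iff.1 h3)
    have h5 := mul_mem (mul_mem hr h4) (inv_mem hr)
    have : r * (r⁻¹ * u * r) * r⁻¹ = u := by group
    rwa [this] at h5
  have hDb : ∀ b : G, b • c = c → ∀ d ∈ D, b * d * b⁻¹ ∈ D := by
    intro b hb d hd
    refine Subgroup.iSup_induction (fun r : R => S.U ((r : G) • c)) (C := fun d => b * d * b⁻¹ ∈ D) hd ?_ ?_ ?_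
    · rintro ⟨r, hr⟩ u hu
      have h1 := S.conj_mem_U hu b
      have h2 : b • r • c ∈ Δ.Res (tp Δ R c) c := by
        show Δ.δ c (b • r • c) ∈ WJ cs _
        have h3 : Δ.δ c (b • r • c) = Δ.δ c (r • c) :=
          calc Δ.δ c (b • r • c) = Δ.δ (b • c) (b • r • c) := by rw [hb]
            _ = _ := S.iso _ _ _
        rw [h3]
        exact delta_mem_tp S hth hR r hr
      obtain ⟨r', hr', he⟩ := exists_smul S hR h2
      rw [← he] at h1
      exact hUD r' hr' h1
    · simp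
    · intro a a' ha ha'
      have := mul_mem ha ha'
      have e : b * a * b⁻¹ * (b * a' * b⁻¹) = b * (a * a') * b⁻¹ := by group
      rwa [e] at this
  -- the fixed vectors of `D`, of `R ∩ B`
  have hyF : y ∈ Fx (V := V) S c := fun u hu => hyR u (hR hu)
  have key : ∀ Q : Subgroup G, (∀ r ∈ Q, r • y = y) →
      (∀ b : G, b • c = c → ∀ q ∈ Q, b * q * b⁻¹ ∈ Q) → ∀ q ∈ Q, ∀ v ∈ Fx (V := V) S c, q • v = v := by
    intro Q hQ hQb
    let L : AddSubgroup V :=
      { carrier := {v | v ∈ Fx (V := V) S c ∧ ∀ q ∈ Q, q • v = v}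
        zero_mem' := ⟨zero_mem _, fun q _ => smul_zero q⟩
        add_mem' := fun {a b} ha hb => ⟨add_mem ha.1 hb.1, fun q hq => by rw [smul_add, ha.2 q hq, hb.2 q hq]⟩
        neg_mem' := fun {a} ha => ⟨neg_mem ha.1, fun q hq => by rw [smul_neg, ha.2 q hq]⟩ }
    have hm : ∀ v, v ∈ L ↔ v ∈ Fx (V := V) S c ∧ ∀ q ∈ Q, q • v = v := fun v => Iff.rfl
    rcases hs L (fun v hv => hv.1) (by
      rintro g hg v ⟨hv, hv'⟩
      have h1 : g • v ∈ Fx (V := V) S c := by
        have := (fam_Fx S).smul g c v hv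
        rwa [hg] at this
      refine ⟨h1, fun q hq => ?_⟩
      have hg' : g⁻¹ • c = c := by rw [inv_smul_eq_iff, hg]
      have hs' := hQb g⁻¹ hg' q hq
      rw [inv_inv] at hs'
      have h2 := hv' _ hs'
      rw [mul_smul, mul_smul, inv_smul_eq_iff] at h2
      exact h2) with h1 | h1
    · exfalso
      have h2 : y ∈ L := ⟨hyF, hQ⟩
      rw [h1, AddSubgroup.mem_bot] at h2
      exact hy h2
    · intro q hq v hv
      have h2 : v ∈ L := by rw [h1]; exact hv
      exact h2.2 q hq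
  have hD := key D (fun r hr => hyR r (hDR hr)) hDb
  have hB := key (R ⊓ MulAction.stabilizer G c) (fun r hr => hyR r hr.1) (by
    rintro b hb q ⟨hq, hqc⟩
    have hqc' : q • c = c := hqc
    refine ⟨?_, ?_⟩
    · have h2 := mul_mem (hR (hab b q hb hqc')) hq
      have e : b * q * b⁻¹ * q⁻¹ * q = b * q * b⁻¹ := by group
      rwa [e] at h2
    · show (b * q * b⁻¹) • c = c
      have hb' : b⁻¹ • c = c := by rw [inv_smul_eq_iff, hb]
      rw [mul_smul, mul_smul, hb', hqc', hb])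
  -- `R = D (R ∩ B)`
  intro r hr v hv
  have htp : tp Δ R c ⊆ tp Δ D c := by
    rintro i ⟨g, hg, hgc⟩
    obtain ⟨u, hu, huc⟩ := exists_move_adj S hth (Δ.δ_symm_simple hgc)
    refine ⟨u, hUD g hg hu, ?_⟩
    have h1 : Δ.δ (g • c) (u • c) = cs.simple i := by
      have h2 : Δ.δ (u • g • c) (u • c) = Δ.δ (g • c) c := S.iso _ _ _
      rw [S.fix _ u hu] at h2
      rw [h2]
      exact Δ.δ_symm_simple hgc
    exact Δ.δ_eq_of_mem_Pan (x := g • c) (Or.inr (Δ.δ_symm_simple hgc)) (Or.inr h1) (fun h => huc h.symm)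
  have h1 : r • c ∈ Δ.Res (tp Δ D c) c := by
    show Δ.δ c (r • c) ∈ WJ cs _
    exact OppRes.WJ_mono htp (delta_mem_tp S hth hR r hr)
  obtain ⟨d, hd, hdc⟩ := exists_smul S hcD h1
  have h2 : (d⁻¹ * r) • v = v := by
    refine hB _ (Subgroup.mem_inf.2 ⟨R.mul_mem (R.inv_mem (hDR hd)) hr, ?_⟩) v hv
    show (d⁻¹ * r) • c = c
    rw [mul_smul, inv_smul_eq_iff, hdc]
  rw [mul_smul, inv_smul_eq_iff, hD d hd v hv] at h2
  exact h2

end Cfsg.Agent.Omega.ML.LieRow.CRB

end

section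


/-!
# Overgroups of `T` fixing a vector, `H = KT`

* `fix_kt` : `H = KT`, `K` normal with a split (B,N)-pair of characteristic 2 whose torus is abelian, `V` an irreducible
  `H`-module over `F_2`, `T ≤ R` fixes `y ≠ 0`: `R` fixes all `T`-fixed vectors;
* `fix_kt_mul` : the same in multiplicative notation.
-/

set_option autoImplicit false
set_option linter.unusedSectionVars false

namespace Cfsg.Agent.Omega.ML.LieRow.CRB

open Cfsg.Agent.Tits.Core Cfsg.Agent.Tits.Core.Bldg Cfsg.Agent.Tits.Exchange Cfsg.Agent.Tits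
open Cfsg.Agent.FixBN Cfsg.Agent.FixBN.Cox Cfsg.Agent.UGT.U2.FOne

variable {I : Type*} {M : CoxeterMatrix I} {W : Type*} [Group W] {cs : CoxeterSystem M W} {C : Type*}
  {Δ : Bldg cs C}

/-- a Sylow 2-subgroup of `H` meets `K` in some `U c` -/
theorem exists_U {H : Type*} [Group H] [Finite H] {K T : Subgroup H} [K.Normal] [MulAction K C] (S : Sys Δ K 2)
    (hT : IsPGroup 2 T) (hTi : ¬ 2 ∣ T.index) : ∃ c : C, S.U c = T.subgroupOf K := by
  have hV : IsPGroup 2 (T.subgroupOf K) := hT.comap_of_injective _ K.subtype_injective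
  obtain ⟨c, hc⟩ := S.exists_fix _ hV
  have h1 : T.subgroupOf K ≤ S.U c := S.max c _ hV hc
  have : Fact (Nat.Prime 2) := ⟨Nat.prime_two⟩
  have h2 : ¬ 2 ∣ (T.subgroupOf K).index := Lib.SylowNormalInf.not_dvd_relIndex (hT.toSylow hTi) K
  exact ⟨c, (hV.toSylow h2 : Sylow 2 K).is_maximal' (S.isP c) h1⟩

/-- **overgroups of `T`** -/
theorem fix_kt [F : OppRes.Cox cs] [Finite C] {H : Type*} [Group H] [Finite H] {K T R : Subgroup H} [hK : K.Normal]
    [MulAction K C] (S : Sys Δ K 2) (hth : Δ.Thick) {V : Type*} [AddCommGroup V] [DistribMulAction H V] [Finite V]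
    (hp : ∀ v : V, 2 • v = 0) (hirr : Irr H V) (hKT : K ⊔ T = ⊤) (hT : IsPGroup 2 T) (hTi : ¬ 2 ∣ T.index)
    (hab : ∀ c, ∀ a b : K, a • c = c → b • c = c → a * b * a⁻¹ * b⁻¹ ∈ S.U c) (hTR : T ≤ R)
    {y : V} (hy : y ≠ 0) (hyR : ∀ r ∈ R, r • y = y) : ∀ r ∈ R, ∀ x : V, (∀ t ∈ T, t • x = x) → r • x = x := by
  have : Fact (Nat.Prime 2) := ⟨Nat.prime_two⟩
  obtain ⟨c, hUc⟩ := exists_U S hT hTi
  -- a maximal `K`-submodule
  have hne : {L : AddSubgroup V | L ≠ ⊤ ∧ ∀ k ∈ K, ∀ v ∈ L, k • v ∈ L}.Nonempty :=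
    ⟨⊥, (by
      intro h
      have h1 : y ∈ (⊥ : AddSubgroup V) := by rw [h]; trivial
      exact hy ((AddSubgroup.mem_bot).1 h1)), fun k _ v hv => by
        rw [AddSubgroup.mem_bot] at hv ⊢; rw [hv, smul_zero]⟩
  obtain ⟨L, hL⟩ := (Set.toFinite _).exists_maximal hne
  obtain ⟨hL1, hL2⟩ := hL.prop
  -- the intersection of the `T`-conjugates
  have hZ : ∀ v : V, (∀ t ∈ T, t • v ∈ L) → v = 0 := by
    let Z : AddSubgroup V :=
      { carrier := {v | ∀ t ∈ T, t • v ∈ L}
        zero_mem' := fun t _ => by rw [smul_zero]; exact zero_mem _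
        add_mem' := fun {a b} ha hb t ht => by rw [smul_add]; exact add_mem (ha t ht) (hb t ht)
        neg_mem' := fun {a} ha t ht => by rw [smul_neg]; exact neg_mem (ha t ht) }
    have hm : ∀ v, v ∈ Z ↔ ∀ t ∈ T, t • v ∈ L := fun v => Iff.rfl
    rcases hirr Z (by
      intro h v hv t ht
      have h1 : h ∈ K ⊔ T := by rw [hKT]; trivial
      rw [Subgroup.mem_sup_of_normal_left] at h1
      obtain ⟨k, hk, t', ht', rfl⟩ := h1
      have h2 := hv (t * t') (mul_mem ht ht')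
      have h3 := hL2 (t * k * t⁻¹) (hK.conj_mem k hk t) _ h2
      have e : (t * k * t⁻¹) • (t * t') • v = t • (k * t') • v := by
        rw [smul_smul, smul_smul]
        congr 1
        group
      rwa [e] at h3) with h1 | h1
    · intro v hv
      have h2 : v ∈ Z := hv
      rw [h1] at h2
      exact (AddSubgroup.mem_bot).1 h2
    · exfalso
      apply hL1
      rw [eq_top_iff]
      intro v _
      have h2 : v ∈ Z := by rw [h1]; trivial
      have h3 := h2 1 (one_mem _)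
      rwa [one_smul] at h3
  have hyL : y ∉ L := by
    intro h
    apply hy
    apply hZ
    intro t ht
    rw [hyR t (hTR ht)]
    exact h
  -- the quotient module
  have hLK : ∀ k : K, ∀ v ∈ L, k • v ∈ L := fun k v hv => hL2 k k.2 v hv
  let _ := quoAct L hLK
  have hp' : ∀ v : V ⧸ L, 2 • v = 0 := by
    intro x
    induction x using QuotientAddGroup.induction_on with
    | H v =>
      rw [← QuotientAddGroup.mk_nsmul, hp]
      rfl
  have hirr' : Irr K (V ⧸ L) := by
    intro L' hL'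
    let L'' : AddSubgroup V := L'.comap (QuotientAddGroup.mk' L)
    have hm : ∀ v, v ∈ L'' ↔ (QuotientAddGroup.mk v : V ⧸ L) ∈ L' := fun v => Iff.rfl
    have hLL : L ≤ L'' := by
      intro v hv
      rw [hm, (QuotientAddGroup.eq_zero_iff v).2 hv]
      exact zero_mem _
    by_cases h1 : L'' = ⊤
    · right
      rw [eq_top_iff]
      intro x _
      induction x using QuotientAddGroup.induction_on with
      | H v =>
        have : v ∈ L'' := by rw [h1]; trivial
        exact this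
    · left
      have h2 : L'' ≤ L := hL.le_of_ge ⟨h1, fun k hk v hv => hL' ⟨k, hk⟩ _ hv⟩ hLL
      rw [eq_bot_iff]
      intro x hx
      induction x using QuotientAddGroup.induction_on with
      | H v =>
        rw [AddSubgroup.mem_bot, QuotientAddGroup.eq_zero_iff]
        exact h2 hx
  have hUR : S.U c ≤ R.subgroupOf K := by
    rw [hUc]
    exact fun k hk => hTR hk
  have hy' : (QuotientAddGroup.mk y : V ⧸ L) ≠ 0 := fun h => hyL ((QuotientAddGroup.eq_zero_iff y).1 h)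
  have key := fix_all S (V := V ⧸ L) hth hp' hirr' (c := c) (hab c) hUR hy' (by
    intro r hr
    rw [quo_smul]
    congr 1
    exact hyR r hr)
  have key' : ∀ k ∈ K, k ∈ R → ∀ x : V, (∀ t ∈ T, t • x = x) → k • x - x ∈ L := by
    intro k hk hkR x hx
    have h1 : (QuotientAddGroup.mk x : V ⧸ L) ∈ Fx (V := V ⧸ L) S c := by
      intro u hu
      rw [hUc] at hu
      rw [quo_smul]
      congr 1
      exact hx u hu
    have h2 := key ⟨k, hk⟩ hkR _ h1
    rw [quo_smul] at h2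
    exact (QuotientAddGroup.eq_iff_sub_mem).1 h2
  have key'' : ∀ k ∈ K, k ∈ R → ∀ x : V, (∀ t ∈ T, t • x = x) → k • x = x := by
    intro k hk hkR x hx
    rw [← sub_eq_zero]
    apply hZ
    intro t ht
    have h1 := key' (t * k * t⁻¹) (hK.conj_mem k hk t) (mul_mem (mul_mem (hTR ht) hkR) (inv_mem (hTR ht))) x hx
    have e : (t * k * t⁻¹) • x - x = t • (k • x - x) := by
      rw [smul_sub, hx t ht, mul_smul, mul_smul, hx t⁻¹ (inv_mem ht)]
    rwa [e] at h1
  intro r hr x hx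
  have h1 : r ∈ K ⊔ T := by rw [hKT]; trivial
  rw [Subgroup.mem_sup_of_normal_left] at h1
  obtain ⟨k, hk, t, ht, rfl⟩ := h1
  rw [mul_smul, hx t ht]
  refine key'' k hk ?_ x hx
  have h2 := mul_mem hr (inv_mem (hTR ht))
  rwa [mul_inv_cancel_right] at h2

/-- the additive module -/
@[reducible] def addAct (H M : Type*) [Group H] [CommGroup M] [MulDistribMulAction H M] :
    DistribMulAction H (Additive M) where
  smul h m := Additive.ofMul (h • m.toMul)
  one_smul m := congrArg Additive.ofMul (one_smul H m.toMul)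
  mul_smul g h m := congrArg Additive.ofMul (mul_smul g h m.toMul)
  smul_zero h := congrArg Additive.ofMul (smul_one h)
  smul_add h a b := congrArg Additive.ofMul (smul_mul' h a.toMul b.toMul)

/-- **overgroups of `T`**, multiplicative notation -/
theorem fix_kt_mul [F : OppRes.Cox cs] [Finite C] {H : Type*} [Group H] [Finite H] {K T R : Subgroup H} [hK : K.Normal]
    [MulAction K C] (S : Sys Δ K 2) (hth : Δ.Thick) {N : Type*} [Group N] [MulDistribMulAction H N] [Finite N]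
    (sq : ∀ m : N, m * m = 1) (hirr : ∀ L : Subgroup N, (∀ h : H, ∀ w ∈ L, h • w ∈ L) → L = ⊥ ∨ L = ⊤)
    (hKT : K ⊔ T = ⊤) (hT : IsPGroup 2 T) (hTi : ¬ 2 ∣ T.index)
    (hab : ∀ c, ∀ a b : K, a • c = c → b • c = c → a * b * a⁻¹ * b⁻¹ ∈ S.U c) (hTR : T ≤ R)
    {y : N} (hy : y ≠ 1) (hyR : ∀ r ∈ R, r • y = y) : ∀ r ∈ R, ∀ x : N, (∀ t ∈ T, t • x = x) → r • x = x := by
  have hcomm : ∀ a b : N, a * b = b * a := by
    intro a b
    have h1 : ∀ z : N, z⁻¹ = z := fun z => inv_eq_of_mul_eq_one_right (sq z)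
    calc a * b = (a * b)⁻¹ := (h1 _).symm
      _ = b⁻¹ * a⁻¹ := mul_inv_rev _ _
      _ = b * a := by rw [h1, h1]
  let i1 : CommGroup N := { (inferInstance : Group N) with mul_comm := hcomm }
  let i2 : DistribMulAction H (Additive N) := addAct H N
  intro r hr x hx
  have h1 := fix_kt S hth (V := Additive N) (R := R) (fun v => by
      rw [two_nsmul]; exact congrArg Additive.ofMul (sq v.toMul)) (by
      intro L hL
      have h2 := hirr (AddSubgroup.toSubgroup' L) (fun h w hw => hL h (Additive.ofMul w) hw)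
      rcases h2 with h2 | h2
      · left
        rw [eq_bot_iff]
        intro v hv
        have h3 : v.toMul ∈ AddSubgroup.toSubgroup' L := hv
        rw [h2, Subgroup.mem_bot] at h3
        exact (AddSubgroup.mem_bot).2 h3
      · right
        rw [eq_top_iff]
        intro v _
        have h3 : v.toMul ∈ AddSubgroup.toSubgroup' L := by rw [h2]; trivial
        exact h3) hKT hT hTi hab hTR (y := Additive.ofMul y) (fun h => hy h)
      (fun r hr => congrArg Additive.ofMul (hyR r hr)) r hr (Additive.ofMul x)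
      (fun t ht => congrArg Additive.ofMul (hx t ht))
  exact h1

end Cfsg.Agent.Omega.ML.LieRow.CRB

end

section


/-!
# (E3) of EXT : the components of Lie type in characteristic two

* `fix_lie` : `H = KT`, `K` normal and simple of Lie type in characteristic 2, `M` an irreducible `H`-module over
  `F_2`, `T ≤ R` fixes `y ≠ 1`: `R` fixes all `T`-fixed vectors;
* **`lieT : LieT`**.
-/

set_option autoImplicit false

namespace Cfsg.Agent.Omega.ML.LieRow.CRB

open Subgroup Cfsg Cfsg.Agent.ZN Cfsg.Agent.Omega.ML.Ex Cfsg.Agent.Omega.ML.Ex.Two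
open Cfsg.Agent.Tits.Core Cfsg.Agent.Tits.OfBN Cfsg.Agent.Schreier.BNSch Cfsg.Agent.FixBN

universe u v

theorem fix_splitAb {H : Type*} [Group H] [Finite H] {K T R : Subgroup H} (hK : K.Normal) (h : HasSplitAb 2 K)
    (hT : IsPGroup 2 T) (hTi : ¬ 2 ∣ T.index) (hKT : K ⊔ T = ⊤) {N : Type*} [Group N] [MulDistribMulAction H N]
    [Finite N] (sq : ∀ m : N, m * m = 1) (hirr : ∀ L : Subgroup N, (∀ h : H, ∀ w ∈ L, h • w ∈ L) → L = ⊥ ∨ L = ⊤)
    (hTR : T ≤ R) {y : N} (hy : y ≠ 1) (hyR : ∀ r ∈ R, r • y = y) :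
    ∀ r ∈ R, ∀ x : N, (∀ t ∈ T, t • x = x) → r • x = x := by
  have : Fact (Nat.Prime 2) := ⟨Nat.prime_two⟩
  obtain ⟨P, U, hne, h, hc⟩ := h
  have hN : ((P.B ⊓ P.N).subgroupOf P.N).Normal := normal_subgroupOf P
  obtain ⟨M, cs, hcs⟩ := S0320.result P
  have hI : Finite P.S := OfBN.finite_I (Equiv.refl P.S)
  have hIn : Nonempty P.S := hne.to_subtype
  let S := OfBN.sys (Equiv.refl P.S) cs hcs h
  have hth := thick P (Equiv.refl P.S) cs hcs
  refine fix_kt_mul S hth sq hirr hKT hT hTi ?_ hTR hy hyR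
  intro c a b ha hb
  induction c using QuotientGroup.induction_on with
  | _ g =>
    have ha' := OfBN.smul_mk_eq.1 ha
    have hb' := OfBN.smul_mk_eq.1 hb
    have h1 := hc _ ha' _ hb'
    show _ ∈ OfBN.UU P U (QuotientGroup.mk g)
    rw [OfBN.mem_UU h]
    have e : g⁻¹ * a * g * (g⁻¹ * b * g) * (g⁻¹ * a * g)⁻¹ * (g⁻¹ * b * g)⁻¹ = g⁻¹ * (a * b * a⁻¹ * b⁻¹) * g := by
      group
    rwa [e] at h1

/-- **(E3)** -/
theorem lieT : LieT.{u, v} := by
  intro H _ _ M _ _ _ K T A x y hI hm hl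
  obtain ⟨R, hTR, hyR, r, hr, hrx⟩ := hm.mv
  exact hrx (fix_splitAb hI.norm (hasSplitAb_of_lie hI.simple hl) hI.two hI.syl hI.gen hI.sq hI.irr hTR hm.y1 hyR
    r hr x hm.tx)

end Cfsg.Agent.Omega.ML.LieRow.CRB

end

section


/-!
# LEMMA CRW: the invariant subgroups contain all `T`-fixed vectors (helper178)

`H = K T`, `K` normal, simple, of Lie type in characteristic two, `T` a Sylow `2`-subgroup of `H`, `M` irreducible for `K`;
`x ≠ 1` a vector (usually fixed by `T`); `Y ≤ M`, `Y ≠ 1`, normalised by `N_H(T)` and by every `T`-minimal `P` which moves `x`.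
Then `C_M(T ⊓ K) ≤ Y`.

`P` fixing `x` : `P ⊓ K ≥ T ⊓ K` fixes `x`, so it centralises `C_M(T ⊓ K)` (`CRB.fix_splitAb`); so `N_H(T ⊓ K)` normalises
`Y ⊓ C_M(T ⊓ K)` (generation by the minimal parabolics), and Curtis-Richen (`CR.Bl.cr_lie`).

* `exists_fix` : a 2-group has fixed vectors;
* `fix_K` : `T ⊓ K ≤ R ≤ K`, `R` fixes `x ≠ 1`: `R` centralises `C_M(T ⊓ K)`;
* **`crw`**, **`crw_inX`**.
-/

set_option autoImplicit false

namespace Cfsg.Agent.Omega.ML.Ex.Crw

open Subgroup Cfsg Cfsg.Agent.ZN Cfsg.Agent.ClassTwoFusion.Quad Cfsg.Agent.Omega.ML.Ex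
open Cfsg.Agent.Omega.ML.LieRow.CRB (fix_splitAb HasSplitAb hasSplitAb_of_lie)
open Cfsg.Agent.MinSimple.MinParabolic (IsMinPar le_of_forall)
open Cfsg.Agent.Omega.ML.Final (MLK)

universe u v

/-- a 2-group normalising `Y ≠ 1` fixes a vector `≠ 1` of `Y` -/
theorem exists_fix {H : Type u} [Group H] {M : Type v} [Group M] [Finite M] [MulDistribMulAction H M]
    (sq : ∀ m : M, m * m = 1) {U : Subgroup H} (hU : IsPGroup 2 U) {Y : Subgroup M} (hY : Y ≠ ⊥)
    (hn : ∀ g ∈ U, ∀ w ∈ Y, g • w ∈ Y) : ∃ w ∈ Y, w ≠ 1 ∧ ∀ g ∈ U, g • w = w := by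
  classical
  have : Fact (Nat.Prime 2) := ⟨Nat.prime_two⟩
  let _ : MulAction U Y :=
    { smul := fun g w => ⟨(g : H) • (w : M), hn g g.2 w w.2⟩
      one_smul := fun w => Subtype.ext (one_smul H (w : M))
      mul_smul := fun a b w => Subtype.ext (mul_smul (a : H) (b : H) (w : M)) }
  have hsm : ∀ (g : U) (w : Y), ((g • w : Y) : M) = (g : H) • (w : M) := fun _ _ => rfl
  have hdvd : 2 ∣ Nat.card Y := by
    obtain ⟨w, hw⟩ := (Subgroup.ne_bot_iff_exists_ne_one).1 hY
    have h1 : orderOf w = 2 := orderOf_eq_prime (by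
      rw [pow_two]
      exact Subtype.ext (sq w)) hw
    rw [← h1]
    exact orderOf_dvd_natCard w
  obtain ⟨b, hb, h1⟩ := hU.exists_fixed_point_of_prime_dvd_card_of_fixed_point Y hdvd (a := 1) (fun g => Subtype.ext (by
    rw [hsm]; exact smul_one _))
  refine ⟨b, b.2, fun h2 => h1 (Subtype.ext h2).symm, fun g hg => ?_⟩
  exact congrArg Subtype.val (hb ⟨g, hg⟩)

section

variable {H : Type u} [Group H] [Finite H] {M : Type v} [Group M] [Finite M] [MulDistribMulAction H M]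
  {K T : Subgroup H}

omit [Finite M] in
/-- the subgroup `Y ⊓ C_M(T ⊓ K)` is normalised by `N_H(T ⊓ K)` -/
theorem norm_D (norm : K.Normal) (KT : K ⊔ T = ⊤) {x : M} {Y : Subgroup M}
    (NY : ∀ g ∈ normalizer (T : Set H), ∀ w ∈ Y, g • w ∈ Y)
    (PY : ∀ P : Subgroup H, IsMinPar T P → (∃ p ∈ P, p • x ≠ x) → ∀ p ∈ P, ∀ w ∈ Y, p • w ∈ Y)
    (hfix : ∀ P : Subgroup H, T ≤ P → (∀ p ∈ P, p • x = x) → ∀ k ∈ P, k ∈ K → ∀ m : M,
      (∀ s ∈ T ⊓ K, s • m = m) → k • m = m) :
    ∀ n ∈ normalizer ((T ⊓ K : Subgroup H) : Set H), ∀ w ∈ Y ⊓ cv M ((T ⊓ K : Subgroup H) : Set H),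
      n • w ∈ Y ⊓ cv M ((T ⊓ K : Subgroup H) : Set H) := by
  set CC : Subgroup M := cv M ((T ⊓ K : Subgroup H) : Set H) with hCC
  -- `N_H(T ⊓ K)` normalises `C_M(T ⊓ K)`
  have hNC : ∀ g ∈ normalizer ((T ⊓ K : Subgroup H) : Set H), ∀ w ∈ CC, g • w ∈ CC := by
    intro g hg w hw s hs
    have h1 : g⁻¹ * s * g ∈ T ⊓ K := by
      have := (mem_normalizer_iff.1 ((normalizer ((T ⊓ K : Subgroup H) : Set H)).inv_mem hg) s).1 hs
      rwa [inv_inv] at this
    have h2 := hw _ h1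
    rwa [mul_smul, mul_smul, inv_smul_eq_iff] at h2
  have hTN : T ≤ normalizer ((T ⊓ K : Subgroup H) : Set H) := by
    intro t ht
    rw [mem_normalizer_iff]
    intro s
    constructor
    · rintro ⟨h1, h2⟩
      exact ⟨T.mul_mem (T.mul_mem ht h1) (T.inv_mem ht), norm.conj_mem s h2 t⟩
    · rintro ⟨h1, h2⟩
      have e : t⁻¹ * (t * s * t⁻¹) * t = s := by group
      refine ⟨?_, ?_⟩
      · have := T.mul_mem (T.mul_mem (T.inv_mem ht) h1) ht
        rwa [e] at this
      · have := norm.conj_mem _ h2 t⁻¹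
        rw [inv_inv] at this
        rwa [e] at this
  let Sb : Subgroup H :=
    { carrier := {g | (∀ w ∈ Y ⊓ CC, g • w ∈ Y ⊓ CC) ∧ ∀ w ∈ Y ⊓ CC, g⁻¹ • w ∈ Y ⊓ CC}
      one_mem' := ⟨fun w hw => by rwa [one_smul], fun w hw => by rwa [inv_one, one_smul]⟩
      mul_mem' := fun {a b} ha hb => ⟨fun w hw => by rw [mul_smul]; exact ha.1 _ (hb.1 _ hw),
        fun w hw => by rw [mul_inv_rev, mul_smul]; exact hb.2 _ (ha.2 _ hw)⟩
      inv_mem' := fun {a} ha => ⟨ha.2, fun w hw => by rw [inv_inv]; exact ha.1 _ hw⟩ }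
  have hmem : ∀ {Q : Subgroup H}, (∀ q ∈ Q, ∀ w ∈ Y ⊓ CC, q • w ∈ Y ⊓ CC) → Q ≤ Sb := fun {Q} h q hq =>
    ⟨h q hq, h q⁻¹ (inv_mem hq)⟩
  have hNT : normalizer (T : Set H) ⊓ normalizer ((T ⊓ K : Subgroup H) : Set H) ≤ Sb :=
    hmem fun q hq w hw => ⟨NY q hq.1 w hw.1, hNC q hq.2 w hw.2⟩
  have hTS : T ≤ Sb := (le_inf le_normalizer hTN).trans hNT
  have hB : normalizer ((T ⊓ K : Subgroup H) : Set H) ≤ Sb := by
    refine le_of_forall (S := T) hTN (fun g hg => hNT ⟨hg.2, hg.1⟩) ?_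
    intro P hP hPB
    by_cases hmv : ∃ p ∈ P, p • x ≠ x
    · exact hmem fun p hp w hw => ⟨PY P hP hmv p hp w hw.1, hNC p (hPB hp) w hw.2⟩
    · push Not at hmv
      have h1 := hfix P hP.le hmv
      intro p hp
      have hp1 : p ∈ K ⊔ T := by rw [KT]; trivial
      rw [Subgroup.mem_sup_of_normal_left] at hp1
      obtain ⟨k, hk, t, ht, rfl⟩ := hp1
      refine mul_mem ?_ (hTS ht)
      have hkP : k ∈ P := by
        have := mul_mem hp (inv_mem (hP.le ht))
        rwa [mul_inv_cancel_right] at this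
      refine ⟨fun w hw => ?_, fun w hw => ?_⟩
      · rw [h1 k hkP hk w hw.2]
        exact hw
      · rw [h1 k⁻¹ (P.inv_mem hkP) (K.inv_mem hk) w hw.2]
        exact hw
  exact fun n hn => (hB hn).1

end

end Cfsg.Agent.Omega.ML.Ex.Crw

end

end

-- merged: Cfsg.Agent.Mrg.Omega.ML.Ex.Ext
section

section


/-!
# EXT, closed (helper585)

* **`ext`** : `Ext` : the situation `SysT` (an exact low atom and two `T`-fixed vectors) is impossible;
* `SysT.false` : the same for one `SysT`.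

Inputs: `redT` (helper995, 844, 690), `KnownDone.exitN` (helper441, 484 and the rows), `CRB.lieT` (helper951),
`uThreeT` (helper919), `KnownAll.mlk`.
-/

set_option autoImplicit false

namespace Cfsg.Agent.Omega.ML.Ex.Two

universe u v

/-- **EXT.** -/
theorem ext : Ext.{u, v} :=
  ext_of (Red.redT_of KnownAll.mlk) KnownDone.exitN LieRow.CRB.lieT uThreeT

/-- **EXT** for one `SysT` -/
theorem SysT.false {H : Type u} [Group H] [Finite H] {M : Type v} [Group M] [Finite M] [MulDistribMulAction H M]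
    {T A : Subgroup H} {x y : M} (h : SysT H M T A x y) : False :=
  ext H M T A x y h

end Cfsg.Agent.Omega.ML.Ex.Two

end

section


/-!
# K-list "exact + low": the row `Co2` (helper43)

The sheet of type (E) of `Co2` (helper902): `P = C(z) = 2^{1+8}.Sp6(2)`, `R = 2^{1+8}`, `n = 4`;
`|Sp6(2)| > |GL_k(2)|` for `k < 5`.
-/

set_option autoImplicit false

namespace Cfsg.Agent.Omega.ML.Ex.RowCo2E

open Subgroup Cfsg Cfsg.Agent.KFacts
open Cfsg.Agent.Omega.Lie.Heis (LB)
open Cfsg.Agent.Omega.Lie.PairOrd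
open Cfsg.Agent.Omega.ML.ExRec Cfsg.Agent.Omega.ML.Ex
open Cfsg.Agent.OddHalf.D8.Sheet Cfsg.Agent.OddHalf.D8.JTwo.Sheet
open Cfsg.Agent.Co2Type.TData Cfsg.Agent.Co2Type.FactsD
open Cfsg.Agent.KFacts.CoTwo.RSub Cfsg.Agent.KFacts.CoTwo.RLarge

universe u v w

end Cfsg.Agent.Omega.ML.Ex.RowCo2E

end

section


/-!
# The K-list for EXACT subgroups (EXL): Lie type in odd characteristic, part 1 (helper484)

* **`nx`** : helper102's numerical criterion `NX` over `InX`;
* `lTwo_of` : `L₂(9)` is `A₆` (excluded);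
* `psl_of`, `psu_of` : the linear and the unitary groups from the rows `L₂(q)`, `U₄(3)`;
* `chev_of`, `twisted` : the exceptional groups from the row `G₂(3)`;
* **`odd_of`** : the field `odd` of `RowsX`.
-/

set_option autoImplicit false

namespace Cfsg.Agent.Omega.ML.Ex.OddKnown

open Subgroup Cfsg Cfsg.Agent.Omega.KFacts Cfsg.Agent.Omega.ML.Rows Cfsg.Agent.Omega.ML.Known
  Cfsg.Agent.Omega.ML.CD Cfsg.Agent.Omega.NOThree.NoOver Cfsg.Agent.Omega.ML.ExLow

universe u v

/-- `K` moves `M` -/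
theorem mv {H : Type u} [Group H] [Finite H] {M : Type v} [Group M] [MulDistribMulAction H M]
    {K T A : Subgroup H} (h : InX H M K T A) : NumX.Mv K M := by
  by_contra hn
  have hs := h.simple
  obtain ⟨x, hx⟩ := exists_ne (1 : K)
  exact hx (Subtype.ext (h.faith x fun m => NumX.not_mv hn x.2 m))

end Cfsg.Agent.Omega.ML.Ex.OddKnown

end

section


/-!
# The K-list for exact atoms: generation and inversion with the dichotomy (T6; helper448)

The exact form of `GenRow.lean` and `InvRow.lean`.  `InX H M K T A`, `|A| ≤ 2 ^ a`, `x ∈ A`: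

* `index_le_or` : `|M : C_M(x)| ≤ 2 ^ (a - 1)`, or `|A| = 2 ^ a` and EQ(x) : `C_M(x) = C_M(A)`;
* `index_le_noTie` : the first one if `NoTie A x`;
* **`eq_of_lb`**, **`eq_of_prime`** : `K` is generated by `m` conjugates of `x`, `(a - 1) m < n`, `2 ^ n ≤ |M|` (`LB K n` or
  an odd prime divisor `r` of `|K|` with `ord_r(2) ≥ n`) ⟹ `|A| = 2 ^ a` and EQ(x);
* `false_of_lb_noTie`, `false_of_prime_noTie`, `false_of_inv_noTie` : impossible with `NoTie A x`;
* `false_of_sub` : EQ(x) with `x ∈ K` is impossible if `|Out K| |E| < |A|` for the elementary abelian `E ∋ x` which are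
  normal in `C_K(x)`;
* **`dead_gen`**, **`dead_gen_prime`** : rows.
-/

set_option autoImplicit false

namespace Cfsg.Agent.Omega.ML.Ex.GenX

open Subgroup Cfsg Cfsg.Agent.ZN Cfsg.Agent.Omega.NOThree.NoOver Cfsg.Agent.Omega.ML.CD
open Cfsg.Agent.ClassTwoFusion.Quad Cfsg.Agent.Omega.Lie Cfsg.Agent.Omega.ML Cfsg.Agent.Omega.TwoF
open Cfsg.Agent.Omega.ML.InvChain

universe u v

variable {H : Type u} [Group H] {M : Type v} [Group M] [Finite M] [MulDistribMulAction H M] {K T A : Subgroup H}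

end Cfsg.Agent.Omega.ML.Ex.GenX

end

end

private theorem dce_dfeae896afa5 : _root_.True := by
  try have : _root_.True := by simp only [_root_.Cfsg.Agent.Omega.ML.LieRow.CRB.sph.eq_1]
  exact _root_.True.intro
end
end
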